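import Groth.Agent.QCoh.Localize
import Groth.Agent.QCoh.Sections
import Mathlib.RingTheory.Localization.BaseChange

/-!
# Gluing a map of modules from linear maps on an affine cover
-/

set_option autoImplicit false
set_option linter.style.haveILetI false
set_option backward.isDefEq.respectTransparency false
set_option backward.isDefEq.respectTransparency.types false

universe w u

open CategoryTheory CategoryTheory.Limits AlgebraicGeometry TopologicalSpace Opposite

namespace Groth.Agent.RGLib.HomGlue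

open Groth.Agent.QCoh

variable {X : Scheme.{u}} {M P : X.Modules}

theorem isUnit_res {V W : X.Opens} (f : Γ(X, V)) (hle : W ≤ V) (hW : W ≤ X.basicOpen f) (n : ℕ) :
    IsUnit (X.presheaf.map (homOfLE hle).op f ^ n) := by
  refine IsUnit.pow n ?_
  rw [show X.presheaf.map (homOfLE hle).op f =
    X.presheaf.map (homOfLE hW).op (X.presheaf.map (homOfLE (X.basicOpen_le f)).op f) from
    (ringMap_map (homOfLE hW) (homOfLE (X.basicOpen_le f)) f).symm]
  exact (X.toRingedSpace.isUnit_res_basicOpen f).map (X.presheaf.map (homOfLE hW).op).hom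

/-- Two semilinear maps out of the sections over a basic open agreeing on restrictions are equal. -/
theorem ext_res (hM : Coh.IsQCoh M) {V : X.Opens} (hV : IsAffineOpen V) {f : Γ(X, V)} {W' : X.Opens}
    (hW' : W' ≤ X.basicOpen f) (φ₁ φ₂ : Γ(M, X.basicOpen f) → Γ(P, W'))
    (h₁ : ∀ r s, φ₁ (r • s) = X.presheaf.map (homOfLE hW').op r • φ₁ s)
    (h₂ : ∀ r s, φ₂ (r • s) = X.presheaf.map (homOfLE hW').op r • φ₂ s)
    (h : ∀ t : Γ(M, V), φ₁ (M.presheaf.map (homOfLE (X.basicOpen_le f)).op t) =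
      φ₂ (M.presheaf.map (homOfLE (X.basicOpen_le f)).op t)) (s : Γ(M, X.basicOpen f)) : φ₁ s = φ₂ s := by
  obtain ⟨n, t, ht⟩ := exists_pow_smul_eq_map hM hV f s
  have := h t
  rw [ht, h₁, h₂, map_pow] at this
  have hu := isUnit_res f (hW'.trans (X.basicOpen_le f)) hW' n
  rw [show X.presheaf.map (homOfLE (hW'.trans (X.basicOpen_le f))).op f =
    X.presheaf.map (homOfLE hW').op (X.presheaf.map (homOfLE (X.basicOpen_le f)).op f) from
    (ringMap_map (homOfLE hW') (homOfLE (X.basicOpen_le f)) f).symm] at hu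
  exact hu.smul_left_cancel.1 this

/-- A linear map on an affine extends to each of its basic opens. -/
theorem exists_ext (hM : Coh.IsQCoh M) {V : X.Opens} (hV : IsAffineOpen V)
    (l : Γ(M, V) →ₗ[Γ(X, V)] Γ(P, V)) {W : X.Opens} {f : Γ(X, V)} (hW : W = X.basicOpen f) :
    ∃ e : Γ(M, W) →ₗ[Γ(X, W)] Γ(P, W), ∀ t : Γ(M, V),
      e (M.presheaf.map (homOfLE (hW.trans_le (X.basicOpen_le f))).op t) =
        P.presheaf.map (homOfLE (hW.trans_le (X.basicOpen_le f))).op (l t) := by
  subst hW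
  let i : X.basicOpen f ⟶ V := homOfLE (X.basicOpen_le f)
  letI : Algebra Γ(X, V) Γ(X, X.basicOpen f) := (X.presheaf.map i.op).hom.toAlgebra
  letI : Module Γ(X, V) Γ(M, X.basicOpen f) := Module.compHom _ (X.presheaf.map i.op).hom
  letI : Module Γ(X, V) Γ(P, X.basicOpen f) := Module.compHom _ (X.presheaf.map i.op).hom
  haveI : IsScalarTower Γ(X, V) Γ(X, X.basicOpen f) Γ(M, X.basicOpen f) :=
    ⟨fun a b x => mul_smul ((X.presheaf.map i.op).hom a) b x⟩
  haveI : IsScalarTower Γ(X, V) Γ(X, X.basicOpen f) Γ(P, X.basicOpen f) :=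
    ⟨fun a b x => mul_smul ((X.presheaf.map i.op).hom a) b x⟩
  haveI : IsLocalization.Away f Γ(X, X.basicOpen f) := hV.isLocalization_basicOpen f
  let r : Γ(M, V) →ₗ[Γ(X, V)] Γ(M, X.basicOpen f) :=
    { toFun := fun t => M.presheaf.map i.op t
      map_add' := map_add _
      map_smul' := fun a t => map_smul' i a t }
  let r' : Γ(P, V) →ₗ[Γ(X, V)] Γ(P, X.basicOpen f) :=
    { toFun := fun t => P.presheaf.map i.op t
      map_add' := map_add _
      map_smul' := fun a t => map_smul' i a t }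
  haveI : IsLocalizedModule (Submonoid.powers f) r := by
    refine ⟨fun x => ?_, fun s => ?_, fun {a b} hab => ?_⟩
    · have h1 : IsUnit (algebraMap Γ(X, V) Γ(X, X.basicOpen f) x) := IsLocalization.map_units _ x
      refine (Module.End.isUnit_iff _).2 ⟨fun a b h => h1.smul_left_cancel.1 h, fun y => ?_⟩
      refine ⟨(↑h1.unit⁻¹ : Γ(X, X.basicOpen f)) • y, ?_⟩
      show algebraMap Γ(X, V) Γ(X, X.basicOpen f) x • (↑h1.unit⁻¹ : Γ(X, X.basicOpen f)) • y = y
      rw [smul_smul, IsUnit.mul_val_inv, one_smul]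
    · obtain ⟨n, t, ht⟩ := exists_pow_smul_eq_map hM hV f s
      refine ⟨(t, ⟨f ^ n, n, rfl⟩), ?_⟩
      show X.presheaf.map i.op (f ^ n) • s = M.presheaf.map i.op t
      rw [map_pow, ← ht]
    · have h0 : M.presheaf.map i.op (a - b) = 0 := by
        rw [map_sub]
        exact sub_eq_zero.2 hab
      obtain ⟨n, hn⟩ := exists_pow_smul_eq_zero hM hV f (a - b) h0
      exact ⟨⟨f ^ n, n, rfl⟩, sub_eq_zero.1 ((smul_sub _ _ _).symm.trans hn)⟩
  have hb : IsBaseChange Γ(X, X.basicOpen f) r := IsLocalizedModule.isBaseChange (Submonoid.powers f) _ r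
  exact ⟨hb.lift (r'.comp l), fun t => hb.lift_eq (r'.comp l) t⟩

variable {σ : Type w} (V : σ → X.Opens)

/-- The opens which are basic in some member of the family. -/
abbrev IsBasicIn (a : σ) (W : X.Opens) : Prop := ∃ f : Γ(X, V a), W = X.basicOpen f

theorem IsBasicIn.le {V : σ → X.Opens} {a : σ} {W : X.Opens} (h : IsBasicIn V a W) : W ≤ V a := by
  obtain ⟨f, rfl⟩ := h
  exact X.basicOpen_le f

theorem exists_common_basic (hV : ∀ a, IsAffineOpen (V a)) {a b : σ} {p : X} {O : X.Opens} (hp : p ∈ O)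
    (ha : p ∈ V a) (hb : p ∈ V b) : ∃ W, p ∈ W ∧ W ≤ O ∧ IsBasicIn V a W ∧ IsBasicIn V b W := by
  obtain ⟨f, hf, hpf⟩ := (hV a).exists_basicOpen_le (V := O ⊓ V b) ⟨p, hp, hb⟩ ha
  obtain ⟨f', g, e, hpf'⟩ := exists_basicOpen_le_affine_inter ((hV a).basicOpen f) (hV b) p ⟨hpf, hb⟩
  obtain ⟨f'', hf''⟩ := (hV a).basicOpen_basicOpen_is_basicOpen f f'
  exact ⟨X.basicOpen f', hpf', (X.basicOpen_le f').trans (hf.trans inf_le_left), ⟨f'', hf''.symm⟩, ⟨g, e⟩⟩

/-- Linear maps on an affine cover that agree locally on the overlaps glue to a map of modules. -/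
theorem exists_hom (hM : Coh.IsQCoh M) (hV : ∀ a, IsAffineOpen (V a)) (hcov : ∀ p, ∃ a, p ∈ V a)
    (l : ∀ a, Γ(M, V a) →ₗ[Γ(X, V a)] Γ(P, V a))
    (H : ∀ a b p, p ∈ V a → p ∈ V b → ∃ (g : Γ(X, V b)) (hle : X.basicOpen g ≤ V a)
      (e : Γ(M, X.basicOpen g) →ₗ[Γ(X, X.basicOpen g)] Γ(P, X.basicOpen g)), p ∈ X.basicOpen g ∧
        (∀ t : Γ(M, V b), e (M.presheaf.map (homOfLE (X.basicOpen_le g)).op t) =
          P.presheaf.map (homOfLE (X.basicOpen_le g)).op (l b t)) ∧
        ∀ x : Γ(M, V a), e (M.presheaf.map (homOfLE hle).op x) = P.presheaf.map (homOfLE hle).op (l a x)) :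
    ∃ u : M ⟶ P, ∀ a x, u.app (V a) x = l a x := by
  classical
  choose ext hext using fun a W (h : IsBasicIn V a W) => exists_ext hM (hV a) (l a) h.choose_spec
  have compat : ∀ a W W' (h : IsBasicIn V a W) (h' : IsBasicIn V a W') (hle : W' ≤ W) (s : Γ(M, W)),
      ext a W' h' (M.presheaf.map (homOfLE hle).op s) = P.presheaf.map (homOfLE hle).op (ext a W h s) := by
    intro a W W' h h' hle s
    obtain ⟨f, rfl⟩ := id h
    refine ext_res hM (hV a) hle (fun s => ext a W' h' (M.presheaf.map (homOfLE hle).op s))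
      (fun s => P.presheaf.map (homOfLE hle).op (ext a _ h s)) (fun r s => ?_) (fun r s => ?_) (fun t => ?_) s
    · dsimp only
      rw [map_smul', map_smul]
    · dsimp only
      rw [map_smul, map_smul']
    · dsimp only
      simp only [map_map, homOfLE_comp]
      rw [hext, hext]
      simp only [map_map, homOfLE_comp]
  have agree : ∀ a b W (h : IsBasicIn V a W) (h' : IsBasicIn V b W) (s : Γ(M, W)),
      ext a W h s = ext b W h' s := by
    intro a b W h h' s
    rw [← sub_eq_zero]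
    refine eq_zero_of_locally W _ fun p hp => ?_
    obtain ⟨g, hle, e, hpg, he₁, he₂⟩ := H a b p (h.le hp) (h'.le hp)
    obtain ⟨W', hpW', hW'O, ha', hb'⟩ := exists_common_basic V hV (O := W ⊓ X.basicOpen g) ⟨hp, hpg⟩ (h.le hp) (h'.le hp)
    have hW'W : W' ≤ W := hW'O.trans inf_le_left
    have hW'g : W' ≤ X.basicOpen g := hW'O.trans inf_le_right
    have he : ∀ z : Γ(M, X.basicOpen g), ext b W' hb' (M.presheaf.map (homOfLE hW'g).op z) =
        P.presheaf.map (homOfLE hW'g).op (e z) := by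
      intro z
      refine ext_res hM (hV b) hW'g (fun z => ext b W' hb' (M.presheaf.map (homOfLE hW'g).op z))
        (fun z => P.presheaf.map (homOfLE hW'g).op (e z)) (fun r s => ?_) (fun r s => ?_) (fun t => ?_) z
      · dsimp only
        rw [map_smul', map_smul]
      · dsimp only
        rw [map_smul, map_smul']
      · dsimp only
        simp only [map_map, homOfLE_comp]
        rw [hext, he₁]
        simp only [map_map, homOfLE_comp]
    have key : ∀ z : Γ(M, W'), ext a W' ha' z = ext b W' hb' z := by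
      intro z
      obtain ⟨f, rfl⟩ := id ha'
      refine ext_res hM (hV a) (le_refl (X.basicOpen f)) (ext a _ ha') (ext b _ hb') (fun r s => ?_)
        (fun r s => ?_) (fun t => ?_) z
      · rw [ringMap_id]
        exact map_smul _ r s
      · rw [ringMap_id]
        exact map_smul _ r s
      · rw [hext]
        have := (he (M.presheaf.map (homOfLE hle).op t)).symm
        rw [he₂, map_map, map_map] at this
        exact this
    refine ⟨W', homOfLE hW'W, hpW', ?_⟩
    rw [map_sub, ← compat a W W' h ha', ← compat b W W' h' hb', key, sub_self]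
  let B := {W : X.Opens // ∃ a, IsBasicIn V a W}
  let ι : B → X.Opens := Subtype.val
  have hι : Opens.IsBasis (Set.range ι) := by
    rw [Opens.isBasis_iff_nbhd]
    intro U p hp
    obtain ⟨a, ha⟩ := hcov p
    obtain ⟨f, hf, hpf⟩ := (hV a).exists_basicOpen_le (V := U) ⟨p, hp⟩ ha
    exact ⟨X.basicOpen f, ⟨⟨_, a, f, rfl⟩, rfl⟩, hpf, hf⟩
  let e₀ : ∀ W : B, Γ(M, W.1) →ₗ[Γ(X, W.1)] Γ(P, W.1) := fun W => ext W.2.choose W.1 W.2.choose_spec
  have nat : ∀ (W W' : B) (i : W'.1 ⟶ W.1) (s : Γ(M, W.1)),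
      e₀ W' (M.presheaf.map i.op s) = P.presheaf.map i.op (e₀ W s) := by
    intro W W' i s
    rw [← sub_eq_zero]
    refine eq_zero_of_locally W'.1 _ fun p hp => ?_
    obtain ⟨W'', hp'', hle, hA, hA'⟩ := exists_common_basic V hV (O := W'.1) hp
      (W.2.choose_spec.le (i.le hp)) (W'.2.choose_spec.le hp)
    refine ⟨W'', homOfLE hle, hp'', ?_⟩
    rw [map_sub, ← compat _ _ _ W'.2.choose_spec hA' hle, map_map, map_map,
      show (homOfLE hle ≫ i) = homOfLE (hle.trans i.le) from Subsingleton.elim _ _,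
      ← compat _ _ _ W.2.choose_spec hA (hle.trans i.le), agree _ _ _ hA' hA, sub_self]
  let α : (inducedFunctor ι).op ⋙ M.presheaf ⟶ (inducedFunctor ι).op ⋙ P.presheaf :=
    { app := fun W => AddCommGrpCat.ofHom (e₀ W.unop).toAddMonoidHom
      naturality := fun W W' i => AddCommGrpCat.ext fun s => nat W.unop W'.unop i.unop.hom s }
  let θ : M.presheaf ⟶ P.presheaf :=
    TopCat.Sheaf.restrictHomEquivHom M.presheaf (⟨P.presheaf, P.isSheaf⟩ : TopCat.Sheaf Ab X) hι α
  have hθ : ∀ (W : B) (s : Γ(M, W.1)), θ.app (op W.1) s = e₀ W s := fun W s =>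
    congrArg (fun q => q s) (TopCat.Sheaf.extend_hom_app M.presheaf
      (⟨P.presheaf, P.isSheaf⟩ : TopCat.Sheaf Ab X) hι α W)
  have hlin : ∀ (U : X.Opens) (r : Γ(X, U)) (s : Γ(M, U)),
      θ.app (op U) (r • s) = r • θ.app (op U) s := by
    intro U r s
    rw [← sub_eq_zero]
    refine eq_zero_of_locally U _ fun p hp => ?_
    obtain ⟨a, ha⟩ := hcov p
    obtain ⟨f, hf, hpf⟩ := (hV a).exists_basicOpen_le (V := U) ⟨p, hp⟩ ha
    refine ⟨X.basicOpen f, homOfLE hf, hpf, ?_⟩
    have n1 : ∀ z : Γ(M, U), θ.app (op (X.basicOpen f)) (M.presheaf.map (homOfLE hf).op z) =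
        P.presheaf.map (homOfLE hf).op (θ.app (op U) z) := fun z =>
      congrArg (fun q => q z) (θ.naturality (homOfLE hf).op)
    rw [map_sub, map_smul', ← n1, ← n1, map_smul', hθ ⟨_, a, f, rfl⟩, hθ ⟨_, a, f, rfl⟩, map_smul, sub_self]
  let u : M ⟶ P := ⟨PresheafOfModules.homMk θ fun U r s => hlin U.unop r s⟩
  refine ⟨u, fun a x => ?_⟩
  have ha : IsBasicIn V a (V a) := ⟨1, (X.basicOpen_of_isUnit isUnit_one).symm⟩
  show θ.app (op (V a)) x = l a x
  rw [hθ ⟨V a, a, ha⟩]
  refine (agree _ a _ _ ha x).trans ?_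
  have := hext a _ ha x
  rwa [map_id', map_id'] at this

end Groth.Agent.RGLib.HomGlue
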