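import Groth.Agent.RGLib.Lim8Zero
import Groth.Agent.HensSch7.Flat
import Groth.Agent.MorLib.LimFlat
import Mathlib.CategoryTheory.Abelian.Exact

/-!
# Exactness of pulled-back sequences at a stage of a limit
-/

set_option autoImplicit false
set_option linter.style.haveILetI false

universe u

open CategoryTheory CategoryTheory.Limits AlgebraicGeometry TopologicalSpace

namespace Groth.Agent.RGLib.Lim8

open Groth.Agent.QCoh

variable {X Y Z : Scheme.{u}}

theorem preservesFiniteLimits_pullback (f : Y ⟶ X) [Flat f] :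
    PreservesFiniteLimits (Scheme.Modules.pullback f) :=
  Groth.Agent.HensSch7.preservesFiniteLimits_pullMod f.toLRSHom (fun x => Flat.stalkMap f x)

theorem isFT_image_source {M N : X.Modules} (u : M ⟶ N) (hM : Coh.IsQCoh M) (hN : Coh.IsQCoh N) :
    Coh.IsQCoh (image u) :=
  (isQCoh_iff_iso (Abelian.imageIsoImage u)).1 (isQCoh_kernel hN (isQCoh_cokernel hM hN u) _)

/-- The pulled-back second map factors through the pulled-back first one, for surjections. -/
theorem exists_factor_iff (f : Y ⟶ X) {M N₁ N₂ : X.Modules} (p₁ : M ⟶ N₁) [Epi p₁] (p₂ : M ⟶ N₂) :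
    (∃ k : (Scheme.Modules.pullback f).obj N₁ ⟶ (Scheme.Modules.pullback f).obj N₂,
        (Scheme.Modules.pullback f).map p₁ ≫ k = (Scheme.Modules.pullback f).map p₂) ↔
      (Scheme.Modules.pullback f).map (kernel.ι p₁ ≫ p₂) = 0 := by
  haveI : (Scheme.Modules.pullback f).IsLeftAdjoint :=
    (Scheme.Modules.pullbackPushforwardAdjunction f).isLeftAdjoint
  have hcol : IsColimit (CokernelCofork.ofπ p₁ (kernel.condition p₁)) :=
    (ShortComplex.exact_kernel p₁).gIsCokernel
  have hcol' := isColimitCoforkMapOfIsColimit' (Scheme.Modules.pullback f) (kernel.condition p₁) hcol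
  refine ⟨fun ⟨k, hk⟩ => ?_, fun h => ?_⟩
  · rw [Functor.map_comp, ← hk, ← Category.assoc, ← Functor.map_comp, kernel.condition, Functor.map_zero,
      zero_comp]
  · rw [Functor.map_comp] at h
    exact ⟨(CokernelCofork.IsColimit.desc' hcol' _ h).1, (CokernelCofork.IsColimit.desc' hcol' _ h).2⟩

/-- The pulled-back sequence is exact at the middle. -/
def ExactAt (f : Y ⟶ X) {M N P : X.Modules} (u : M ⟶ N) (v : N ⟶ P) : Prop :=
  ∃ w : (Scheme.Modules.pullback f).map u ≫ (Scheme.Modules.pullback f).map v = 0,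
    (ShortComplex.mk _ _ w).Exact

theorem exactAt_map_map_iff {g : Z ⟶ Y} {f : Y ⟶ X} {h : Z ⟶ X} (hgf : g ≫ f = h) {M N P : X.Modules}
    (u : M ⟶ N) (v : N ⟶ P) :
    ExactAt g ((Scheme.Modules.pullback f).map u) ((Scheme.Modules.pullback f).map v) ↔ ExactAt h u v := by
  let e := Scheme.Modules.pullbackComp g f ≪≫ Scheme.Modules.pullbackCongr hgf
  have hw : (Scheme.Modules.pullback g).map ((Scheme.Modules.pullback f).map u) ≫
      (Scheme.Modules.pullback g).map ((Scheme.Modules.pullback f).map v) = 0 ↔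
      (Scheme.Modules.pullback h).map u ≫ (Scheme.Modules.pullback h).map v = 0 := by
    simp only [← Functor.map_comp]
    exact map_map_eq_zero_iff hgf (u ≫ v)
  refine ⟨fun ⟨w, hx⟩ => ⟨hw.1 w, (ShortComplex.exact_iff_of_iso (ShortComplex.isoMk (e.app M) (e.app N)
    (e.app P) (e.hom.naturality u).symm (e.hom.naturality v).symm)).1 hx⟩,
    fun ⟨w, hx⟩ => ⟨hw.2 w, (ShortComplex.exact_iff_of_iso (ShortComplex.isoMk (e.app M) (e.app N)
    (e.app P) (e.hom.naturality u).symm (e.hom.naturality v).symm)).2 hx⟩⟩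

/-- Exactness on the right after pullback is bijectivity of the map out of the cokernel. -/
theorem rightExact_iff_isIso (f : Y ⟶ X) {M N P : X.Modules} (u : M ⟶ N) (v : N ⟶ P) (huv : u ≫ v = 0) :
    (ExactAt f u v ∧ Epi ((Scheme.Modules.pullback f).map v)) ↔
      IsIso ((Scheme.Modules.pullback f).map (cokernel.desc u v huv)) := by
  haveI : (Scheme.Modules.pullback f).IsLeftAdjoint :=
    (Scheme.Modules.pullbackPushforwardAdjunction f).isLeftAdjoint
  let T := Scheme.Modules.pullback f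
  have hT : T.map u ≫ T.map (cokernel.π u) = 0 := by rw [← T.map_comp, cokernel.condition, T.map_zero]
  have hcol : IsColimit (CokernelCofork.ofπ (T.map (cokernel.π u)) hT) :=
    isColimitCoforkMapOfIsColimit' T (cokernel.condition u) (cokernelIsCokernel u)
  have hd : T.map (cokernel.π u) ≫ T.map (cokernel.desc u v huv) = T.map v := by
    rw [← T.map_comp, cokernel.π_desc]
  constructor
  · rintro ⟨⟨w, hx⟩, he⟩
    haveI : Epi (ShortComplex.mk _ _ w).g := he
    let i := IsColimit.coconePointUniqueUpToIso hcol hx.gIsCokernel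
    have : T.map (cokernel.desc u v huv) = i.hom := by
      refine Cofork.IsColimit.hom_ext hcol ?_
      exact hd.trans (IsColimit.comp_coconePointUniqueUpToIso_hom hcol hx.gIsCokernel
        WalkingParallelPair.one).symm
    exact this ▸ (inferInstance : IsIso i.hom)
  · intro
    haveI : Epi (T.map (cokernel.π u)) := inferInstance
    have w : T.map u ≫ T.map v = 0 := by rw [← T.map_comp, huv, T.map_zero]
    let e : ShortComplex.mk _ _ hT ≅ ShortComplex.mk _ _ w :=
      ShortComplex.isoMk (Iso.refl _) (Iso.refl _) (asIso (T.map (cokernel.desc u v huv))) (by simp)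
        ((Category.id_comp _).trans hd.symm)
    exact ⟨⟨w, (ShortComplex.exact_iff_of_iso e).1 (ShortComplex.exact_of_g_is_cokernel _ hcol)⟩,
      by rw [← hd]; infer_instance⟩

/-- The map out of the cokernel in an exact sequence ending with a surjection. -/
theorem isIso_cokernel_desc {A B C : X.Modules} {a : A ⟶ B} {b : B ⟶ C} (w : a ≫ b = 0) [Epi b]
    (hx : (ShortComplex.mk a b w).Exact) : IsIso (cokernel.desc a b w) := by
  haveI : Mono (cokernel.desc a b w) := hx.mono_cokernelDesc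
  haveI : Epi (cokernel.desc a b w) := epi_of_epi_fac (cokernel.π_desc a b w)
  exact isIso_of_mono_of_epi _

/-- A flat pullback of a map is injective exactly when that of its kernel inclusion vanishes. -/
theorem mono_pullback_iff (f : Y ⟶ X) [Flat f] {M N : X.Modules} (u : M ⟶ N) :
    Mono ((Scheme.Modules.pullback f).map u) ↔ (Scheme.Modules.pullback f).map (kernel.ι u) = 0 := by
  haveI := preservesFiniteLimits_pullback f
  haveI : (Scheme.Modules.pullback f).IsLeftAdjoint :=
    (Scheme.Modules.pullbackPushforwardAdjunction f).isLeftAdjoint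
  have hk : (PreservesKernel.iso (Scheme.Modules.pullback f) u).hom ≫
      kernel.ι ((Scheme.Modules.pullback f).map u) = (Scheme.Modules.pullback f).map (kernel.ι u) :=
    kernelComparison_comp_ι _ _
  rw [← hk, Preadditive.IsIso.comp_left_eq_zero]
  exact ⟨fun _ => kernel.ι_of_mono _, fun h => Preadditive.mono_of_kernel_zero h⟩

/-- Exactness after a flat pullback is surjectivity onto the kernel. -/
theorem exactAt_iff_epi (f : Y ⟶ X) [Flat f] {M N P : X.Modules} (u : M ⟶ N) (v : N ⟶ P) (huv : u ≫ v = 0) :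
    ExactAt f u v ↔ Epi ((Scheme.Modules.pullback f).map (kernel.lift v u huv)) := by
  haveI := preservesFiniteLimits_pullback f
  haveI : (Scheme.Modules.pullback f).IsLeftAdjoint :=
    (Scheme.Modules.pullbackPushforwardAdjunction f).isLeftAdjoint
  let T := Scheme.Modules.pullback f
  have w : T.map u ≫ T.map v = 0 := by rw [← T.map_comp, huv, T.map_zero]
  have hl : T.map (kernel.lift v u huv) ≫ (PreservesKernel.iso T v).hom =
      kernel.lift (T.map v) (T.map u) w := by
    refine equalizer.hom_ext ?_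
    rw [Category.assoc, kernel.lift_ι]
    show _ ≫ kernelComparison v T ≫ kernel.ι (T.map v) = _
    rw [kernelComparison_comp_ι, ← T.map_comp, kernel.lift_ι]
  have key : (ShortComplex.mk _ _ w).Exact ↔ Epi (T.map (kernel.lift v u huv)) := by
    rw [ShortComplex.exact_iff_epi_kernel_lift]
    show Epi (kernel.lift (T.map v) (T.map u) w) ↔ _
    rw [← hl, epi_comp_iff_of_isIso]
  exact ⟨fun ⟨_, hx⟩ => key.1 hx, fun h => ⟨w, key.2 h⟩⟩

section Limit

variable {I : Type u} [SmallCategory I] [IsCofiltered I] (D : I ⥤ Scheme.{u}) (c : Cone D)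
  (hc : IsLimit c) [∀ (i j : I) (f : i ⟶ j), IsAffineHom (D.map f)] {i₀ : I} [CompactSpace (D.obj i₀)]
  {F G H : (D.obj i₀).Modules}

include hc in
theorem factor_iff (hF : Coh.IsQCoh F) (hG : Coh.IsQCoh G) (hH : Coh.IsQCoh H) (hft : CohB1.IsFT F)
    (hfp : CohB1.IsFP G) (p₁ : F ⟶ G) (p₂ : F ⟶ H) [Epi p₁] :
    (∃ k : (Scheme.Modules.pullback (c.π.app i₀)).obj G ⟶ (Scheme.Modules.pullback (c.π.app i₀)).obj H,
        (Scheme.Modules.pullback (c.π.app i₀)).map p₁ ≫ k = (Scheme.Modules.pullback (c.π.app i₀)).map p₂) ↔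
      ∃ (j : I) (φ : j ⟶ i₀) (k : (Scheme.Modules.pullback (D.map φ)).obj G ⟶ (Scheme.Modules.pullback (D.map φ)).obj H),
        (Scheme.Modules.pullback (D.map φ)).map p₁ ≫ k = (Scheme.Modules.pullback (D.map φ)).map p₂ := by
  simp only [exists_factor_iff]
  exact map_eq_zero_iff D c hc (isQCoh_kernel hF hG p₁) (isFT_kernel_of_epi p₁ hF hG hft hfp) hH _

include hc in
theorem rightExact_iff (hF : Coh.IsQCoh F) (hG : Coh.IsQCoh G) (hH : Coh.IsQCoh H) (hFft : CohB1.IsFT F)
    (hGft : CohB1.IsFT G) (hfp : CohB1.IsFP H) (u : F ⟶ G) (v : G ⟶ H) :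
    (ExactAt (c.π.app i₀) u v ∧ Epi ((Scheme.Modules.pullback (c.π.app i₀)).map v)) ↔
      ∃ (j : I) (φ : j ⟶ i₀), ExactAt (D.map φ) u v ∧ Epi ((Scheme.Modules.pullback (D.map φ)).map v) := by
  constructor
  · rintro ⟨⟨w, hx⟩, he⟩
    obtain ⟨j, φ, h0⟩ := (map_eq_zero_iff D c hc hF hFft hH (u ≫ v)).1 (by rw [Functor.map_comp]; exact w)
    have := QuasiCompact.compactSpace_of_compactSpace (D.map φ)
    let T := Scheme.Modules.pullback (D.map φ)
    have hT : T.map u ≫ T.map v = 0 := by rw [← Functor.map_comp]; exact h0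
    have hFj := isQCoh_pullback (D.map φ) hF
    have hGj := isQCoh_pullback (D.map φ) hG
    have hHj := isQCoh_pullback (D.map φ) hH
    have hQ := isQCoh_cokernel hFj hGj (T.map u)
    have h1 := (rightExact_iff_isIso (c.π.app j) (T.map u) (T.map v) hT).1
      ⟨(exactAt_map_map_iff (π_eq D c φ) u v).2 ⟨w, hx⟩, (map_map_epi_iff (π_eq D c φ) v).2 he⟩
    obtain ⟨k, ψ, hk⟩ := (ev_isIso D c hc hQ (isFT_of_epi (cokernel.π (T.map u)) hGj hQ
      (FittX.isFT_pullback (D.map φ) hG hGft)) hHj (isFP_pullback (D.map φ) hH hfp) _ h1).exists_stage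
    obtain ⟨he', hv⟩ := (rightExact_iff_isIso (D.map ψ) (T.map u) (T.map v) hT).2 hk
    exact ⟨k, ψ ≫ φ, (exactAt_map_map_iff (D.map_comp ψ φ).symm u v).1 he',
      (map_map_epi_iff (D.map_comp ψ φ).symm v).1 hv⟩
  · rintro ⟨j, φ, ⟨w, hx⟩, he⟩
    have h0 : (Scheme.Modules.pullback (D.map φ)).map u ≫ (Scheme.Modules.pullback (D.map φ)).map v = 0 := w
    haveI : Epi ((Scheme.Modules.pullback (D.map φ)).map v) := he
    have hid : IsIso (cokernel.desc _ _ h0) := isIso_cokernel_desc h0 hx
    obtain ⟨he', hv⟩ := (rightExact_iff_isIso (c.π.app j) _ _ h0).2 (Functor.map_isIso _ _)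
    exact ⟨(exactAt_map_map_iff (π_eq D c φ) u v).1 he', (map_map_epi_iff (π_eq D c φ) v).1 hv⟩

include hc in
theorem mono_iff (hfl : ∀ (i j : I) (φ : i ⟶ j), Flat (D.map φ)) (hF : Coh.IsQCoh F) (hG : Coh.IsQCoh G)
    (u : F ⟶ G) (hker : CohB1.IsFT (kernel u)) :
    Mono ((Scheme.Modules.pullback (c.π.app i₀)).map u) ↔
      ∃ (j : I) (φ : j ⟶ i₀), Mono ((Scheme.Modules.pullback (D.map φ)).map u) := by
  have : ∀ {i j : I} (f : i ⟶ j), IsAffineHom (D.map f) := fun f => inferInstance
  have : Flat (c.π.app i₀) := MorLib.LimFlat.flat_π hc i₀ fun j φ => hfl j i₀ φ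
  have : ∀ (j : I) (φ : j ⟶ i₀), Flat (D.map φ) := fun j φ => hfl j i₀ φ
  rw [mono_pullback_iff (c.π.app i₀) u]
  simp only [fun j (φ : j ⟶ i₀) => mono_pullback_iff (D.map φ) u]
  exact map_eq_zero_iff D c hc (isQCoh_kernel hF hG u) hker hF _

include hc in
theorem exact_iff_of_flat (hfl : ∀ (i j : I) (φ : i ⟶ j), Flat (D.map φ)) (hF : Coh.IsQCoh F)
    (hG : Coh.IsQCoh G) (hH : Coh.IsQCoh H) (u : F ⟶ G) (v : G ⟶ H) (hIm : CohB1.IsFT (Limits.image u))
    (hKer : CohB1.IsFT (kernel v)) :
    ExactAt (c.π.app i₀) u v ↔ ∃ (j : I) (φ : j ⟶ i₀), ExactAt (D.map φ) u v := by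
  have : ∀ {i j : I} (f : i ⟶ j), IsAffineHom (D.map f) := fun f => inferInstance
  have hπ : ∀ j, Flat (c.π.app j) := fun j => MorLib.LimFlat.flat_π hc j fun k φ => hfl k j φ
  have : ∀ {i j : I} (φ : i ⟶ j), Flat (D.map φ) := fun φ => hfl _ _ φ
  constructor
  · rintro ⟨w, hx⟩
    haveI : (Scheme.Modules.pullback (c.π.app i₀)).IsLeftAdjoint :=
      (Scheme.Modules.pullbackPushforwardAdjunction _).isLeftAdjoint
    have hi : (Scheme.Modules.pullback (c.π.app i₀)).map (image.ι u ≫ v) = 0 := by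
      rw [← cancel_epi ((Scheme.Modules.pullback (c.π.app i₀)).map (factorThruImage u)), comp_zero,
        ← Functor.map_comp, image.fac_assoc, Functor.map_comp]
      exact w
    obtain ⟨j, φ, h0⟩ := (map_eq_zero_iff D c hc (isFT_image_source u hF hG) hIm hH _).1 hi
    have := QuasiCompact.compactSpace_of_compactSpace (D.map φ)
    let T := Scheme.Modules.pullback (D.map φ)
    have hT : T.map u ≫ T.map v = 0 := by
      rw [← T.map_comp, ← image.fac_assoc u v, T.map_comp, show T.map (image.ι u ≫ v) = 0 from h0, comp_zero]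
    have hGj := isQCoh_pullback (D.map φ) hG
    have hHj := isQCoh_pullback (D.map φ) hH
    have := preservesFiniteLimits_pullback (D.map φ)
    have hK := isQCoh_kernel hGj hHj (T.map v)
    have hKft : CohB1.IsFT (kernel (T.map v)) :=
      isFT_of_epi (PreservesKernel.iso T v).hom (isQCoh_pullback (D.map φ) (isQCoh_kernel hG hH v)) hK
        (FittX.isFT_pullback (D.map φ) (isQCoh_kernel hG hH v) hKer)
    have := hπ j
    have h1 := (exactAt_iff_epi (c.π.app j) (T.map u) (T.map v) hT).1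
      ((exactAt_map_map_iff (π_eq D c φ) u v).2 ⟨w, hx⟩)
    obtain ⟨k, ψ, hk⟩ := (ev_epi D c hc (isQCoh_pullback (D.map φ) hF) hK hKft _ h1).exists_stage
    exact ⟨k, ψ ≫ φ, (exactAt_map_map_iff (D.map_comp ψ φ).symm u v).1
      ((exactAt_iff_epi (D.map ψ) (T.map u) (T.map v) hT).2 hk)⟩
  · rintro ⟨j, φ, w, hx⟩
    have := hπ j
    have := preservesFiniteLimits_pullback (c.π.app j)
    haveI : (Scheme.Modules.pullback (c.π.app j)).IsLeftAdjoint :=
      (Scheme.Modules.pullbackPushforwardAdjunction _).isLeftAdjoint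
    refine (exactAt_map_map_iff (π_eq D c φ) u v).1 ⟨by rw [← Functor.map_comp, w, Functor.map_zero], ?_⟩
    exact hx.map (Scheme.Modules.pullback (c.π.app j))

end Limit

end Groth.Agent.RGLib.Lim8
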