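import Groth.Agent.RGLib.Lim8Ample
import Groth.Agent.MorLib.BaseChangeLim
import Groth.Agent.AmpleX.BaseChange
import Groth.Agent.AmpleX.Comp

/-!
# Relative ampleness descends to a stage
-/

set_option autoImplicit false
set_option backward.isDefEq.respectTransparency false
set_option backward.isDefEq.respectTransparency.types false

universe u

open CategoryTheory CategoryTheory.Limits AlgebraicGeometry TopologicalSpace
open Groth.Agent.H23.PicMul

namespace Groth.Agent.RGLib.Lim8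

open Groth.Agent Groth.Agent.AmpleX Groth.Agent.MorLib

/-- Pullback of an ample module along an affine morphism. -/
theorem isAmple_pullback_affine {X Z : Scheme.{u}} (u : Z ⟶ X) [IsAffineHom u] {L : X.Modules}
    (h : CohB1.IsAmple L) : CohB1.IsAmple ((Scheme.Modules.pullback u).obj L) := by
  obtain ⟨hL, hc, hx⟩ := isAmple_iff.1 h
  haveI : CompactSpace Z := QuasiCompact.compactSpace_of_compactSpace u
  refine isAmple_iff.2 ⟨PicClLib.isInvertible_pullback u hL, inferInstance, fun z => ?_⟩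
  obtain ⟨m, hm, s, hzs, hs⟩ := hx (u z)
  rw [genLocus_eq_locus] at hzs hs
  obtain ⟨b, hb⟩ := exists_pull_section hL u (InvX.one s)
  refine ⟨m, hm, InvX.ofSect b, ?_, ?_⟩
  · rw [genLocus_eq_locus, InvX.one_ofSect, hb]; exact hzs
  · rw [genLocus_eq_locus, InvX.one_ofSect, hb]; exact hs.preimage u

/-- Transport of ampleness along composites of pullbacks. -/
theorem nonempty_pull_pull {X Y Z : Scheme.{u}} (L : Z.Modules) (g : Y ⟶ Z) (ψ : X ⟶ Y) (h : X ⟶ Z)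
    (w : ψ ≫ g = h) :
    Nonempty ((Scheme.Modules.pullback ψ).obj ((Scheme.Modules.pullback g).obj L) ≅
      (Scheme.Modules.pullback h).obj L) :=
  ⟨(Scheme.Modules.pullbackComp ψ g ≪≫ Scheme.Modules.pullbackCongr w).app L⟩

theorem isRelAmple_of_iso {X Y : Scheme.{u}} {f : X ⟶ Y} {A B : X.Modules} (e : A ≅ B)
    (h : RelAmple.IsRelAmple f A) : RelAmple.IsRelAmple f B :=
  ⟨h.1, fun V => isAmple_of_iso ((Scheme.Modules.restrictFunctor _).mapIso e) (h.2 V)⟩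

/-- Relative ampleness is stable under base change, stated with a pullback square. -/
theorem isRelAmple_of_isPullback {X X' Y Y' : Scheme.{u}} {q : X' ⟶ X} {f' : X' ⟶ Y'} {f : X ⟶ Y}
    {g : Y' ⟶ Y} (sq : IsPullback q f' f g) {L : X.Modules} (h : RelAmple.IsRelAmple f L) :
    RelAmple.IsRelAmple f' ((Scheme.Modules.pullback q).obj L) := by
  have h' := isRelAmple_pullback_embedding (pullback.snd f g) sq.isoPullback.hom
    sq.isoPullback.hom.homeomorph.isEmbedding (isRelAmple_baseChange f g h)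
  rw [sq.isoPullback_hom_snd] at h'
  exact isRelAmple_of_iso (nonempty_pull_pull L _ _ _ sq.isoPullback_hom_fst).some h'

variable {I : Type u} [SmallCategory I] [IsCofiltered I] (D : I ⥤ Scheme.{u}) (c : Cone D) (hc : IsLimit c)
  [∀ (i j : I) (f : i ⟶ j), IsAffineHom (D.map f)] {i₀ : I}

omit [IsCofiltered I] [∀ (i j : I) (f : i ⟶ j), IsAffineHom (D.map f)] in
theorem isRelAmple_ascend {X₀ Y₀ : Scheme.{u}} {f₀ : X₀ ⟶ Y₀} {g₀ : Y₀ ⟶ D.obj i₀} {L₀ : X₀.Modules}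
    {X Y : Scheme.{u}} {f : X ⟶ Y} {g : Y ⟶ c.pt} {qY : Y ⟶ Y₀} {qX : X ⟶ X₀}
    (hY : IsPullback qY g g₀ (c.π.app i₀)) (hX : IsPullback qX f f₀ qY) {j : I} {φ : j ⟶ i₀}
    {Xj Yj : Scheme.{u}} {fj : Xj ⟶ Yj} {gj : Yj ⟶ D.obj j} {pY : Yj ⟶ Y₀} {pX : Xj ⟶ X₀}
    (hYj : IsPullback pY gj g₀ (D.map φ)) (hXj : IsPullback pX fj f₀ pY)
    (h : RelAmple.IsRelAmple fj ((Scheme.Modules.pullback pX).obj L₀)) :
    RelAmple.IsRelAmple f ((Scheme.Modules.pullback qX).obj L₀) := by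
  have w : qY ≫ g₀ = (g ≫ c.π.app j) ≫ D.map φ := by rw [Category.assoc, c.w]; exact hY.w
  let a : Y ⟶ Yj := hYj.lift qY (g ≫ c.π.app j) w
  have ha : a ≫ pY = qY := hYj.lift_fst _ _ _
  have w' : qX ≫ f₀ = (f ≫ a) ≫ pY := by rw [Category.assoc, ha]; exact hX.w
  let b : X ⟶ Xj := hXj.lift qX (f ≫ a) w'
  have hb : b ≫ pX = qX := hXj.lift_fst _ _ _
  have sq : IsPullback b f fj a := by
    refine IsPullback.of_right ?_ (hXj.lift_snd _ _ _) hXj
    rw [hb, ha]; exact hX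
  exact isRelAmple_of_iso (nonempty_pull_pull L₀ pX b qX hb).some (isRelAmple_of_isPullback sq h)

variable [CompactSpace (D.obj i₀)]

include hc in
theorem exists_isRelAmple_stage {X₀ Y₀ : Scheme.{u}} (f₀ : X₀ ⟶ Y₀) (g₀ : Y₀ ⟶ D.obj i₀)
    [QuasiCompact g₀] [QuasiSeparated g₀] [QuasiCompact (f₀ ≫ g₀)] [QuasiSeparated (f₀ ≫ g₀)]
    (L₀ : X₀.Modules) (hL₀ : PicF.IsInvertible L₀)
    {X Y : Scheme.{u}} (f : X ⟶ Y) (g : Y ⟶ c.pt) (qY : Y ⟶ Y₀) (qX : X ⟶ X₀)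
    (hY : IsPullback qY g g₀ (c.π.app i₀)) (hX : IsPullback qX f f₀ qY)
    (h : RelAmple.IsRelAmple f ((Scheme.Modules.pullback qX).obj L₀)) :
    ∃ (k : I) (ρ : k ⟶ i₀), RelAmple.IsRelAmple (pullback.snd f₀ (pullback.fst g₀ (D.map ρ)))
      ((Scheme.Modules.pullback (pullback.fst f₀ (pullback.fst g₀ (D.map ρ)))).obj L₀) := by
  classical
  haveI : QuasiCompact f₀ := QuasiCompact.of_comp f₀ g₀
  haveI : QuasiSeparated f₀ := QuasiSeparated.of_comp f₀ g₀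
  haveI : CompactSpace Y₀ := QuasiCompact.compactSpace_of_compactSpace g₀
  haveI : IsAffineHom (c.π.app i₀) := isAffineHom_π_app D c hc i₀
  haveI : IsAffineHom qY := MorphismProperty.of_isPullback hY.flip ‹IsAffineHom (c.π.app i₀)›
  obtain ⟨W, hWfin, hWcov⟩ := isCompact_iff_finite_and_eq_biUnion_affineOpens.mp
    (show IsCompact ((⊤ : Y₀.Opens) : Set Y₀) from isCompact_univ)
  have key : ∀ V : Y₀.affineOpens, ∃ (j : I) (φ : j ⟶ i₀), CohB1.IsAmple
      ((Scheme.Modules.pullback (pullback.fst ((f₀ ⁻¹ᵁ V.1).ι ≫ f₀ ≫ g₀) (D.map φ) ≫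
        (f₀ ⁻¹ᵁ V.1).ι)).obj L₀) := by
    intro V
    let U := f₀ ⁻¹ᵁ V.1
    let xi := U.ι ≫ f₀ ≫ g₀
    haveI : CompactSpace U.toScheme := isCompact_iff_compactSpace.mp (f₀.isCompact_preimage V.2.isCompact)
    haveI : QuasiSeparatedSpace U.toScheme :=
      (isQuasiSeparated_iff_quasiSeparatedSpace (U : Set X₀) U.2).1
        (f₀.isQuasiSeparated_preimage V.2.isQuasiSeparated)
    have hXX : IsPullback qX (f ≫ g) (f₀ ≫ g₀) (c.π.app i₀) := hX.paste_vert hY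
    have sq : IsPullback (qX ∣_ U) ((qX ⁻¹ᵁ U).ι ≫ f ≫ g) xi (c.π.app i₀) :=
      (isPullback_morphismRestrict qX U).paste_vert hXX
    let o : Over i₀ := Over.mk (𝟙 i₀)
    let M := (Scheme.Modules.pullback (pullback.fst xi (D.map o.hom) ≫ U.ι)).obj L₀
    have hA : CohB1.IsAmple ((Scheme.Modules.pullback ((BC.cone D xi sq).π.app o)).obj M) := by
      have hle : qX ⁻¹ᵁ U = f ⁻¹ᵁ (qY ⁻¹ᵁ V.1) := by
        rw [← Scheme.Hom.comp_preimage, ← Scheme.Hom.comp_preimage, hX.w]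
      have h1 := h.2 ⟨_, V.2.preimage qY⟩
      have h2 := isAmple_restrict_congr _ (qX ⁻¹ᵁ U).ι (PicClLib.isInvertible_pullback qX hL₀)
        (by rw [Scheme.Opens.opensRange_ι, Scheme.Opens.opensRange_ι, hle]) h1
      refine isAmple_of_iso ?_ h2
      refine (Scheme.Modules.restrictFunctorIsoPullback (qX ⁻¹ᵁ U).ι).app _ ≪≫ ?_
      refine (nonempty_pull_pull L₀ qX _ _ rfl).some ≪≫ (nonempty_pull_pull L₀ _ _ _ ?_).some.symm
      show BC.proj D xi sq o ≫ _ ≫ U.ι = _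
      rw [BC.proj_fst_assoc, morphismRestrict_ι]
    obtain ⟨j, φ, hj⟩ := exists_isAmple_stage (BC.diag D xi) (BC.cone D xi sq)
      (BC.isLimitCone D xi sq hc) (i₀ := o) M (PicClLib.isInvertible_pullback _ hL₀) hA
    refine ⟨j.left, j.hom, isAmple_of_iso (nonempty_pull_pull L₀ _ _ _ ?_).some hj⟩
    exact (Category.assoc _ _ _).symm.trans (congrArg (· ≫ U.ι) (BC.map_fst D xi φ))
  choose j φ hjA using key
  obtain ⟨k, ρ, hρ⟩ : ∃ (k : I) (ρ : k ⟶ i₀), ∀ V ∈ hWfin.toFinset, ∃ α : k ⟶ j V, α ≫ φ V = ρ := by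
    generalize hWfin.toFinset = T
    induction T using Finset.induction_on with
    | empty => exact ⟨i₀, 𝟙 _, by simp⟩
    | insert x T _ ih =>
      obtain ⟨k, ρ, hk⟩ := ih
      obtain ⟨k', α, β, e⟩ := IsCofiltered.cospan (φ x) ρ
      refine ⟨k', α ≫ φ x, fun y hy => ?_⟩
      rcases Finset.mem_insert.1 hy with rfl | hy
      · exact ⟨α, rfl⟩
      · obtain ⟨δ, hδ⟩ := hk y hy
        exact ⟨β ≫ δ, by rw [Category.assoc, hδ, e]⟩
  refine ⟨k, ρ, ?_⟩
  let pY := pullback.fst g₀ (D.map ρ)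
  let pX := pullback.fst f₀ pY
  let fk := pullback.snd f₀ pY
  haveI : QuasiCompact fk := MorphismProperty.pullback_snd _ _ inferInstance
  refine isRelAmple_of_ampleOn fun x => ?_
  obtain ⟨V, hVW, hxV⟩ : ∃ V ∈ W, pY (fk x) ∈ V.1 := by
    have : pY (fk x) ∈ (⊤ : Y₀.Opens) := trivial
    rw [hWcov] at this
    simpa only [Opens.mem_iSup, exists_prop] using this
  obtain ⟨α, hα⟩ := hρ V (hWfin.mem_toFinset.2 hVW)
  let U := f₀ ⁻¹ᵁ V.1
  let xi := U.ι ≫ f₀ ≫ g₀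
  have hXk : IsPullback pX (fk ≫ pullback.snd g₀ (D.map ρ)) (f₀ ≫ g₀) (D.map ρ) :=
    (IsPullback.of_hasPullback f₀ pY).paste_vert (IsPullback.of_hasPullback g₀ (D.map ρ))
  have sqU : IsPullback (pX ∣_ U) ((pX ⁻¹ᵁ U).ι ≫ fk ≫ pullback.snd g₀ (D.map ρ)) xi (D.map ρ) :=
    (isPullback_morphismRestrict pX U).paste_vert hXk
  let jo : Over i₀ := Over.mk (φ V)
  let ko : Over i₀ := Over.mk ρ
  let t : ko ⟶ jo := Over.homMk α hα
  haveI : IsAffineHom ((BC.diag D xi).map t) := BC.isAffineHom_map D xi t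
  have hk := isAmple_pullback_affine ((BC.diag D xi).map t) (hjA V)
  let e : (pX ⁻¹ᵁ U).toScheme ⟶ pullback xi (D.map ρ) := sqU.isoPullback.hom
  have hk' : CohB1.IsAmple ((Scheme.Modules.pullback (e ≫ pullback.fst xi (D.map ρ) ≫ U.ι)).obj L₀) := by
    refine isAmple_of_iso (nonempty_pull_pull L₀ _ e _ rfl).some (isAmple_pullback_affine e ?_)
    refine isAmple_of_iso (nonempty_pull_pull L₀ _ _ _ ?_).some hk
    exact (Category.assoc _ _ _).symm.trans (congrArg (· ≫ U.ι) (BC.map_fst D xi t))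
  refine ⟨pY ⁻¹ᵁ V.1, _, (pX ⁻¹ᵁ U).ι, inferInstance, hxV, ?_, ?_⟩
  · rw [Scheme.Opens.opensRange_ι, ← Scheme.Hom.comp_preimage, ← Scheme.Hom.comp_preimage,
      pullback.condition]
  · refine isAmple_of_iso ?_ hk'
    refine (nonempty_pull_pull L₀ pX (pX ⁻¹ᵁ U).ι _ ?_).some.symm ≪≫
      ((Scheme.Modules.restrictFunctorIsoPullback (pX ⁻¹ᵁ U).ι).app _).symm
    rw [sqU.isoPullback_hom_fst_assoc, morphismRestrict_ι]

end Groth.Agent.RGLib.Lim8
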