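import Groth.Agent.S2330
import Groth.Agent.AmpleX.Rel

/-!
# Relative ampleness through projective spaces
-/

set_option autoImplicit false
set_option linter.style.haveILetI false
set_option backward.isDefEq.respectTransparency false
set_option backward.isDefEq.respectTransparency.types false

universe u

open CategoryTheory CategoryTheory.Limits AlgebraicGeometry TopologicalSpace

namespace Groth.Agent.RGLib.RelAmplePn

open Groth.Agent

theorem isRelAmple_of_isRelVeryAmplePn {X Y : Scheme.{u}} (q : X ⟶ Y) [QuasiCompact q] {L : X.Modules}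
    (h : RelAmple.IsRelVeryAmplePn q L) : RelAmple.IsRelAmple q L := by
  classical
  obtain ⟨N, i, hi, hiq, ⟨τ⟩⟩ := h
  let p : CohB1.ProjSpace N (ULift.{u} ℤ) ⟶ _ := CohB1.ProjSpace.toSpec N (ULift.{u} ℤ)
  let f2 : pullback p (specULiftZIsTerminal.from Y) ⟶ Y := pullback.snd _ _
  haveI : IsProper p := PnCoh.Chow.isProper_toSpec N _
  haveI : IsSeparated f2 := inferInstanceAs (IsSeparated (pullback.snd p (specULiftZIsTerminal.from Y)))
  haveI : QuasiSeparated f2 := inferInstanceAs (QuasiSeparated (pullback.snd p (specULiftZIsTerminal.from Y)))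
  let i' : X ⟶ pullback p (specULiftZIsTerminal.from Y) := i
  haveI : IsImmersion i' := hi
  haveI : QuasiCompact (i' ≫ f2) := by rw [show i' ≫ f2 = q from hiq]; infer_instance
  haveI : QuasiCompact i' := QuasiCompact.of_comp i' f2
  have hamp : CohB1.IsAmple (Twist.twistProjSpace N (ULift.{u} ℤ) 1) := by
    refine AmpleX.isAmple_twist_one _ (Finset.univ.image fun j : Fin (N + 1) => MvPolynomial.X j) ?_ ?_
    · intro g hg
      obtain ⟨j, -, rfl⟩ := Finset.mem_image.1 hg
      exact ProjPt.X_mem j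
    · refine eq_top_iff.2 fun y _ => ?_
      obtain ⟨j, hj⟩ := PnCoh.Chow.cov_coord _ y
      exact TopologicalSpace.Opens.mem_iSup.2 ⟨⟨_, Finset.mem_image_of_mem _ (Finset.mem_univ j.down)⟩, hj⟩
  have h1 : RelAmple.IsRelAmple f2 (Twist.twistOver N Y 1) :=
    AmpleX.isRelAmple_baseChange p (specULiftZIsTerminal.from Y) ((AmpleX.isRelAmple_iff_isAmple p _).2 hamp)
  have h2 := AmpleX.isRelAmple_pullback_embedding f2 i' i'.isEmbedding h1
  rw [show i' ≫ f2 = q from hiq] at h2
  exact ⟨h2.1, fun V => AmpleX.isAmple_of_iso ((Scheme.Modules.restrictFunctor _).mapIso τ.symm) (h2.2 V)⟩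

theorem isRelVeryAmplePn_of_iso {X Y : Scheme.{u}} {q : X ⟶ Y} {A B : X.Modules} (e : A ≅ B)
    (h : RelAmple.IsRelVeryAmplePn q A) : RelAmple.IsRelVeryAmplePn q B := by
  obtain ⟨N, i, hi, hiq, ⟨τ⟩⟩ := h
  exact ⟨N, i, hi, hiq, ⟨e.symm ≪≫ τ⟩⟩

theorem isRelAmple_iff {X S : Scheme.{u}} (f : X ⟶ S) [LocallyOfFiniteType f] [QuasiCompact f] (L : X.Modules)
    (hL : PicF.IsInvertible L) :
    RelAmple.IsRelAmple f L ↔
      ∃ (ι : Type u) (V : ι → S.Opens), (⨆ j, V j) = ⊤ ∧
        ∀ j, ∃ d : ℕ, 0 < d ∧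
          RelAmple.IsRelVeryAmplePn (f ∣_ V j) ((CohB1.tensorPow L d).restrict (f ⁻¹ᵁ V j).ι) := by
  constructor
  · intro h
    haveI : IsSeparated f := AmpleX.isSeparated_of_ampleOn fun x => AmpleX.ampleOn_of_isRelAmple h (f x)
    refine ⟨S.affineOpens, fun V => V.1, iSup_affineOpens_eq_top S, fun V => ?_⟩
    haveI : IsAffine V.1.toScheme := V.2
    haveI : IsSeparated (f ∣_ V.1) := IsZariskiLocalAtTarget.restrict (P := @IsSeparated) inferInstance _
    haveI : QuasiCompact (f ∣_ V.1) := IsZariskiLocalAtTarget.restrict (P := @QuasiCompact) inferInstance _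
    haveI : LocallyOfFiniteType (f ∣_ V.1) := IsZariskiLocalAtTarget.restrict (P := @LocallyOfFiniteType) inferInstance _
    obtain ⟨n, hn, hv⟩ := (S2330.result (f ∣_ V.1) _ (AmpleX.isInvertible_restrict _ hL)).1.1 (h.2 V)
    obtain ⟨e⟩ := AmpleX.nonempty_restrict_tensorPow (L := L) (f ⁻¹ᵁ V.1).ι n
    exact ⟨n, hn, isRelVeryAmplePn_of_iso e.symm hv⟩
  · rintro ⟨ι, V, hV, h⟩
    refine (AmpleX.isRelAmple_iff_cover V hV).2 fun j => ?_
    obtain ⟨d, hd, hv⟩ := h j
    haveI : QuasiCompact (f ∣_ V j) := IsZariskiLocalAtTarget.restrict (P := @QuasiCompact) inferInstance _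
    obtain ⟨e⟩ := AmpleX.nonempty_restrict_tensorPow (L := L) (f ⁻¹ᵁ V j).ι d
    exact (AmpleX.isRelAmple_tensorPow_iff (AmpleX.isInvertible_restrict _ hL) hd).2
      (isRelAmple_of_isRelVeryAmplePn _ (isRelVeryAmplePn_of_iso e hv))

end Groth.Agent.RGLib.RelAmplePn
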