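import Groth.Agent.VAmple.Embed
import Groth.Agent.AmpleX.Rel
import Groth.Agent.AmpleX.BaseChange
import Groth.Agent.AmpleX.Separated

/-!
# Large powers of an ample module are very ample over any base
-/

universe u

open CategoryTheory CategoryTheory.Limits AlgebraicGeometry TopologicalSpace Opposite HomogeneousLocalization
open Groth.Agent.AModX (res resR)
open Groth.Agent.H23.PicMul

set_option backward.isDefEq.respectTransparency false
set_option backward.isDefEq.respectTransparency.types false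
set_option linter.style.haveILetI false

namespace Groth.Agent.RGLib.VAmpleBase

open Groth.Agent Groth.Agent.AmpleX

variable {X S : Scheme.{u}} {L : X.Modules}

theorem exists_gens_over (f : X ⟶ S) [LocallyOfFiniteType f] {A : S.Opens} (hA : IsAffineOpen A) {U : X.Opens}
    (hU : IsAffineOpen U) (hle : U ≤ f ⁻¹ᵁ A) :
    ∃ (k : ℕ) (s : Fin k → Γ(X, U)), Function.Surjective (MvPolynomial.eval₂Hom (f.appLE A U hle).hom s) := by
  have h : (f.appLE A U hle).hom.FiniteType := f.finiteType_appLE hA hU hle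
  letI := (f.appLE A U hle).hom.toAlgebra
  obtain ⟨k, φ, hφ⟩ := Algebra.FiniteType.iff_quotient_mvPolynomial''.1
    (show Algebra.FiniteType Γ(S, A) Γ(X, U) from h)
  refine ⟨k, fun a => φ (MvPolynomial.X a), ?_⟩
  have : MvPolynomial.eval₂Hom (f.appLE A U hle).hom (fun a => φ (MvPolynomial.X a)) = φ.toRingHom :=
    MvPolynomial.ringHom_ext (fun r => (MvPolynomial.eval₂Hom_C _ _ r).trans (φ.commutes r).symm)
      fun i => MvPolynomial.eval₂Hom_X' _ _ i
  rw [this]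
  exact hφ

/-- Small affine loci over affine opens of the base. -/
theorem exists_cover_genLocus_over [CompactSpace X] [X.IsSeparated] (f : X ⟶ S) (hL : CohB1.IsAmple L) :
    ∃ (a : ℕ) (_ : 0 < a) (κ : Type u) (_ : Fintype κ)
      (σ : κ → (Coh.structureModule X ⟶ CohB1.tensorPow L a)),
      (∀ k, IsAffineOpen (CohB1.genLocus _ (σ k))) ∧
      (∀ k, ∃ e : Γ(L, CohB1.genLocus _ (σ k)), InvX.IsFrame e) ∧
      (∀ k, ∃ (U : S.Opens) (_ : IsAffineOpen U), CohB1.genLocus _ (σ k) ≤ f ⁻¹ᵁ U) ∧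
      ∀ x : X, ∃ k, x ∈ CohB1.genLocus _ (σ k) := by
  classical
  have hloc : ∀ x : X, ∃ (m : ℕ) (_ : 0 < m) (s : Coh.structureModule X ⟶ CohB1.tensorPow L m),
      x ∈ CohB1.genLocus _ s ∧ IsAffineOpen (CohB1.genLocus _ s) ∧
        (∃ e : Γ(L, CohB1.genLocus _ s), InvX.IsFrame e) ∧
        ∃ (U : S.Opens) (_ : IsAffineOpen U), CohB1.genLocus _ s ≤ f ⁻¹ᵁ U := fun x => by
    obtain ⟨U, hxU, e, he⟩ := InvX.exists_frame hL.1 x
    obtain ⟨U', hU', hxU', -⟩ := exists_isAffineOpen_mem_and_subset (x := f x) (U := ⊤) trivial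
    obtain ⟨m, hm, s, hxs, hle, hs⟩ := exists_genLocus_le hL (U := U ⊓ f ⁻¹ᵁ U') ⟨hxU, hxU'⟩
    exact ⟨m, hm, s, hxs, hs, ⟨_, he.res (hle.trans inf_le_left)⟩, U', hU', hle.trans inf_le_right⟩
  choose m hm s hxs hs he hU using hloc
  obtain ⟨S, hS⟩ := isCompact_univ.elim_finite_subcover
    (fun x => (CohB1.genLocus _ (s x) : Set X)) (fun x => (CohB1.genLocus _ (s x)).2)
    (fun x _ => Set.mem_iUnion.2 ⟨x, hxs x⟩)
  let a := ∏ x ∈ S, m x
  have ha : 0 < a := Finset.prod_pos fun x _ => hm x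
  have hpow : ∀ x : S, ∃ t : Coh.structureModule X ⟶ CohB1.tensorPow L a,
      CohB1.genLocus _ t = CohB1.genLocus _ (s x) := fun x => by
    obtain ⟨c, hc⟩ : m x ∣ a := Finset.dvd_prod_of_mem _ x.2
    obtain ⟨k, rfl⟩ : ∃ k, c = k + 1 := Nat.exists_eq_add_of_le'
      (Nat.pos_of_ne_zero fun h0 => by rw [h0, mul_zero] at hc; exact ha.ne' hc)
    obtain ⟨t, ht⟩ := exists_section_of_cl_eq (B := CohB1.tensorPow L a)
      (by rw [cl_tensorPow, cl_tensorPow, cl_tensorPow, ← pow_mul, hc]) (InvX.powHom (s x) (k + 1))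
    exact ⟨t, ht.trans (InvX.genLocus_powHom (InvX.isInvertible_tensorPow hL.1 _) _ k)⟩
  choose t ht using hpow
  refine ⟨a, ha, S, inferInstance, t, fun x => (ht x).symm ▸ hs x, fun x => (ht x).symm ▸ he x, fun x => (ht x).symm ▸ hU x, fun x => ?_⟩
  obtain ⟨y, hy, hxy⟩ := Set.mem_iUnion₂.1 (hS (Set.mem_univ x))
  exact ⟨⟨y, hy⟩, (ht ⟨y, hy⟩).symm ▸ hxy⟩

theorem exists_sections_over (q : X ⟶ S) [LocallyOfFiniteType q]
    [CompactSpace X] [X.IsSeparated] (hL : CohB1.IsAmple L) :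
    ∃ n₀ : ℕ, ∀ n, n₀ ≤ n → ∃ (κ : Type u) (_ : Fintype κ) (s : κ → Γ(CohB1.tensorPow L n, ⊤)),
      ∀ x : X, ∃ (l : κ) (V : X.Opens) (U : S.Opens) (hle : V ≤ q ⁻¹ᵁ U), IsAffineOpen U ∧
        x ∈ V ∧ V = locus (s l) ∧ IsAffineOpen V ∧
        Subring.closure (Set.range ((resR hle).comp (q.app U).hom) ∪
          {v : Γ(X, V) | ∃ i, res _ (le_top : V ≤ ⊤) (s i) = v • res _ (le_top : V ≤ ⊤) (s l)}) = ⊤ := by
  classical
  obtain ⟨a, ha, κ₀, _, σ, hσ, he, hU, hcov⟩ := exists_cover_genLocus_over q hL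
  choose Uk hUk hGU using hU
  choose e he using he
  obtain ⟨n₁, hn₁⟩ := VAmple.exists_sections_cover hL
  choose J hJ τ hτ using fun r : Fin a => hn₁ (n₁ + r) (Nat.le_add_right _ _)
  choose m g hg using fun k => exists_gens_over q (hUk k) (hσ k) (hGU k)
  let G := fun k => CohB1.genLocus _ (σ k)
  let t : ∀ (r : Fin a) (k : κ₀) (j : J r), Option (Fin (m k)) → Γ(CohB1.tensorPow L (n₁ + r), G k) :=
    fun r k j o => o.elim (powElt (e k) (n₁ + r)) (fun c => g k c • res _ (le_top : G k ≤ ⊤) (τ r j))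
  have hext := fun (r : Fin a) (p : Σ (k : κ₀) (_ : J r), Option (Fin (m k))) => exists_extend
    (ProjUPX.isQCoh_of_isInvertible (InvX.isInvertible_tensorPow hL.1 (n₁ + r)))
    (InvX.isInvertible_tensorPow hL.1 a) (σ p.1) (t r p.1 p.2.1 p.2.2)
  choose Q hQ using hext
  haveI := fun r => hJ r
  let Q₀ := Finset.univ.sup fun r => Finset.univ.sup (Q r)
  refine ⟨n₁ + a * (Q₀ + 1), fun n hn => ?_⟩
  let r : Fin a := ⟨(n - n₁) % a, Nat.mod_lt _ ha⟩
  have hqq : Q₀ + 1 ≤ (n - n₁) / a := (Nat.le_div_iff_mul_le ha).2 (by rw [mul_comm]; omega)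
  obtain ⟨q', hq'⟩ := Nat.exists_eq_add_of_le' (le_trans (Nat.le_add_left 1 Q₀) hqq)
  obtain ⟨φ⟩ : Nonempty (CohB1.tensorMod (CohB1.tensorPow L (n₁ + r)) (CohB1.tensorPow (CohB1.tensorPow L a) (q' + 1)) ≅
      CohB1.tensorPow L n) := cl_eq_iff.1 (by
    have h1 : n₁ + (n - n₁) % a + a * (q' + 1) = n := by
      rw [← hq', add_assoc, Nat.mod_add_div]; omega
    rw [cl_tensor, cl_tensorPow, cl_tensorPow, cl_tensorPow, cl_tensorPow, ← pow_mul, ← pow_add, h1])
  choose T hT using fun p => hQ r p (q' + 1)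
    ((Finset.le_sup (f := Q r) (Finset.mem_univ p)).trans
      ((Finset.le_sup (f := fun r => Finset.univ.sup (Q r)) (Finset.mem_univ r)).trans
        ((Nat.le_succ Q₀).trans (hqq.trans hq'.le))))
  let P : ∀ k, Γ(CohB1.tensorPow (CohB1.tensorPow L a) (q' + 1), ⊤) := fun k => powElt (InvX.one (σ k)) (q' + 1)
  let s : ((κ₀ × J r) ⊕ (Σ (k : κ₀) (_ : J r), Option (Fin (m k)))) → Γ(CohB1.tensorPow L n, ⊤) :=
    Sum.elim (fun p => φ.hom.app ⊤ (InvX.tmul (τ r p.2) (P p.1))) (fun p => φ.hom.app ⊤ (T p))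
  refine ⟨_, inferInstance, s, fun x => ?_⟩
  obtain ⟨k, hxk⟩ := hcov x
  obtain ⟨j, hxj⟩ := hτ r x
  have hE : InvX.IsFrame (powElt (e k) (n₁ + r)) := isFrame_powElt (he k) _
  obtain ⟨h, hh⟩ := hE.exists_coord le_rfl (res _ (le_top : G k ≤ ⊤) (τ r j))
  rw [AModX.res_self] at hh
  have hinf : locus (τ r j) ⊓ G k = X.basicOpen h := locus_inf _ le_top hE hh
  have hloc : locus (s (Sum.inl (k, j))) = locus (τ r j) ⊓ G k := by
    refine (locus_iso φ _).trans ?_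
    rw [locus_tmul (InvX.isInvertible_tensorPow hL.1 _) (InvX.isInvertible_tensorPow
      (InvX.isInvertible_tensorPow hL.1 a) _), locus_powElt (InvX.isInvertible_tensorPow hL.1 a),
      ← genLocus_eq_locus]
  refine ⟨Sum.inl (k, j), X.basicOpen h, Uk k, (X.basicOpen_le h).trans (hGU k), hUk k, hinf.le ⟨hxj, hxk⟩, (hloc.trans hinf).symm, (hσ k).basicOpen h, ?_⟩
  set V := X.basicOpen h
  have hVG : V ≤ G k := X.basicOpen_le h
  set R := Subring.closure (Set.range ((resR (hVG.trans (hGU k))).comp (q.app (Uk k)).hom) ∪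
    {v : Γ(X, V) | ∃ i, res _ (le_top : V ≤ ⊤) (s i) = v • res _ (le_top : V ≤ ⊤) (s (Sum.inl (k, j)))}) with hR
  have hcoord : ∀ (o : Option (Fin (m k))) (c : Γ(X, V)),
      res _ hVG (t r k j o) = c • res _ (le_top : V ≤ ⊤) (τ r j) → c ∈ R := fun o c hc => by
    refine Subring.subset_closure (Or.inr ⟨Sum.inr ⟨k, j, o⟩, ?_⟩)
    show res _ _ (φ.hom.app ⊤ (T ⟨k, j, o⟩)) = c • res _ _ (φ.hom.app ⊤ (InvX.tmul (τ r j) (P k)))
    rw [← AModX.app_res, ← AModX.app_res, ← Scheme.Modules.Hom.app_smul]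
    refine congrArg _ ?_
    rw [InvX.res_tmul, ← InvX.tmul_smul_left, ← hc,
      ← AModX.res_res (le_top : G k ≤ ⊤) hVG (T ⟨k, j, o⟩)]
    refine (congrArg (res _ hVG) (hT ⟨k, j, o⟩)).trans ((InvX.res_tmul _ _ _).trans ?_)
    refine congrArg (InvX.tmul _) ?_
    rw [res_powElt, AModX.res_res, res_powElt]
  have hunit : IsUnit (resR hVG h) := AModX.isUnit_resR _ _ le_rfl
  obtain ⟨u, hu⟩ := hunit
  have hτV : res _ (le_top : V ≤ ⊤) (τ r j) = (u : Γ(X, V)) • res _ hVG (powElt (e k) (n₁ + r)) := by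
    rw [← AModX.res_res (le_top : G k ≤ ⊤) hVG, hh, AModX.res_smul, hu]
  have huS : (↑u⁻¹ : Γ(X, V)) ∈ R := hcoord none _ (by
    rw [hτV, smul_smul, Units.inv_mul, one_smul]; rfl)
  have hgS : ∀ c, resR hVG (g k c) ∈ R := fun c => hcoord (some c) _ (by
    show res _ hVG (g k c • res _ (le_top : G k ≤ ⊤) (τ r j)) = _
    rw [AModX.res_smul, AModX.res_res])
  have hGS : ∀ y : Γ(X, G k), resR hVG y ∈ R := fun y => by
    obtain ⟨p, rfl⟩ := hg k y
    rw [MvPolynomial.map_eval₂Hom]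
    refine VAmple.eval₂Hom_mem _ _ R (fun c => Subring.subset_closure (Or.inl ⟨c, ?_⟩)) hgS p
    exact (AModX.resR_resR _ _ _).symm
  refine eq_top_iff.2 fun z _ => ?_
  letI : Algebra Γ(X, G k) Γ(X, V) := (X.presheaf.map (homOfLE hVG).op).hom.toAlgebra
  haveI : IsLocalization.Away h Γ(X, V) := (hσ k).isLocalization_basicOpen h
  obtain ⟨N, y, hy⟩ := IsLocalization.Away.surj h z
  have hy' : z * (u : Γ(X, V)) ^ N = resR hVG y := by rw [hu]; exact hy
  have hz : z = resR hVG y * (↑u⁻¹ : Γ(X, V)) ^ N := by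
    rw [← hy', mul_assoc, ← mul_pow, Units.mul_inv, one_pow, mul_one]
  rw [hz]
  exact mul_mem (hGS y) (pow_mem huS N)

variable {Y : Scheme.{u}} {M : X.Modules}

/-- Sections with coordinates generating the functions on affine loci give an immersion in projective space. -/
theorem exists_immersion_over (q : X ⟶ Y) (hM : PicF.IsInvertible M) (N : ℕ)
    (s : ULift.{u} (Fin (N + 1)) → Γ(M, ⊤))
    (hs : ∀ x : X, ∃ (l : ULift.{u} (Fin (N + 1))) (V : X.Opens) (A : Y.Opens) (hle : V ≤ q ⁻¹ᵁ A), IsAffineOpen A ∧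
      x ∈ V ∧ V = locus (s l) ∧ IsAffineOpen V ∧
      Subring.closure (Set.range ((resR hle).comp (q.app A).hom) ∪
        {v : Γ(X, V) | ∃ i, res _ (le_top : V ≤ ⊤) (s i) = v • res _ (le_top : V ≤ ⊤) (s l)}) = ⊤) :
    RelAmple.IsRelVeryAmplePn q M := by
  classical
  let Z := ULift.{u} ℤ
  let 𝒜 := CohB1.polyGrading N Z
  let T : ULift.{u} (Fin (N + 1)) → MvPolynomial (Fin (N + 1)) Z := fun i => MvPolynomial.X i.down
  have hT : ∀ i, T i ∈ 𝒜 1 := fun i => ProjPt.X_mem i.down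
  have hgen : Algebra.adjoin Z (Set.range T) = ⊤ := by
    rw [show Set.range T = Set.range (MvPolynomial.X : Fin (N + 1) → _) from
      Set.ext fun p => ⟨fun ⟨i, h⟩ => ⟨i.down, h⟩, fun ⟨i, h⟩ => ⟨⟨i⟩, h⟩⟩]
    exact MvPolynomial.adjoin_range_X
  have hsgen : ProjUP.GeneratedBy M s := fun x => by
    obtain ⟨l, V, -, -, -, hxV, hVeq, -, -⟩ := hs x
    have hf : InvX.IsFrame (res M (le_top : V ≤ ⊤) (s l)) := isFrame_res_of_le (s l) hVeq.le
    refine top_le_iff.1 fun w _ => ?_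
    obtain ⟨c, hc⟩ := (hf.germ_bijective hxV).2 w
    rw [← hc]
    refine Submodule.smul_mem _ c (Submodule.subset_span ⟨l, ?_⟩)
    exact (InvX.germ_res' le_top hxV (s l)).symm
  let qZ : X ⟶ Spec (CommRingCat.of Z) := specULiftZIsTerminal.from X
  obtain ⟨r, hr, τ, hτ⟩ := ProjUPX.exists_map (𝒜 := 𝒜) qZ hM _ T hT hgen (PnCoh.Chow.cov_coord Z) s hsgen
    (fun V v k _ _ => ⟨MvPolynomial.eval₂Hom ((resR (le_top : V ≤ ⊤)).comp (ProjUP.toGlobal qZ)) (fun i => v ⟨i⟩),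
      fun l => MvPolynomial.eval₂Hom_X' _ _ _, fun z => MvPolynomial.eval₂Hom_C _ _ z⟩)
  have hw : r ≫ CohB1.ProjSpace.toSpec N Z = q ≫ specULiftZIsTerminal.from _ := specULiftZIsTerminal.hom_ext _ _
  let i : X ⟶ pullback (CohB1.ProjSpace.toSpec N Z) (specULiftZIsTerminal.from Y) :=
    pullback.lift r q hw
  have hi1 : i ≫ pullback.fst _ _ = r := pullback.lift_fst _ _ _
  have hi2 : i ≫ pullback.snd _ _ = q := pullback.lift_snd _ _ _
  let p1 := pullback.fst (CohB1.ProjSpace.toSpec N Z) (specULiftZIsTerminal.from Y)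
  have hframe : ∀ l, InvX.IsFrame (res M (le_top : r ⁻¹ᵁ Proj.basicOpen 𝒜 (T l) ≤ ⊤) (s l)) := fun l => by
    have h := InvX.IsFrame.map_iso τ (ProjUPX.isFrame_pullG r (hT l))
    rw [AModX.app_res, show τ.hom.app ⊤ (ProjUPX.pullG r (hT l)) = s l from hτ l] at h
    exact h
  have hpre : ∀ l, r ⁻¹ᵁ Proj.basicOpen 𝒜 (T l) = locus (s l) := fun l => by
    refine le_antisymm (le_locus _ le_top (hframe l)) fun x hx => ?_
    obtain ⟨b, hb⟩ := PnCoh.Chow.cov_coord Z (r x)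
    let W : X.Opens := locus (s l) ⊓ r ⁻¹ᵁ Proj.basicOpen 𝒜 (T b)
    have h1 := congrArg (τ.hom.app W) (ProjUPX.res_pullG r (hT l) (hT b) (inf_le_right : W ≤ _))
    rw [Scheme.Modules.Hom.app_smul, AModX.app_res, AModX.app_res,
      show τ.hom.app ⊤ (ProjUPX.pullG r (hT l)) = s l from hτ l,
      show τ.hom.app ⊤ (ProjUPX.pullG r (hT b)) = s b from hτ b] at h1
    obtain ⟨c, hc⟩ := (isFrame_res_of_le (s l) (inf_le_left : W ≤ _)).exists_coord le_rfl
      (res M (le_top : W ≤ ⊤) (s b))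
    rw [AModX.res_self] at hc
    have hu : IsUnit (ProjUPX.ratioOf r (hT l) (hT b) (inf_le_right : W ≤ _)) := by
      refine IsUnit.of_mul_eq_one c ((isFrame_res_of_le (s l) (inf_le_left : W ≤ _)).coord_unique le_rfl ?_)
      rw [AModX.res_self, one_smul, mul_smul, ← hc, ← h1]
    exact ProjUPX.le_preimage_of_isUnit r (hT l) (hT b) (inf_le_right : W ≤ _) hu
      (show x ∈ W from ⟨hx, hb⟩)
  let p2 := pullback.snd (CohB1.ProjSpace.toSpec N Z) (specULiftZIsTerminal.from Y)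
  choose L V A hVA hA hxV hVeq hVaff hcl using hs
  let O : X → (pullback (CohB1.ProjSpace.toSpec N Z) (specULiftZIsTerminal.from Y)).Opens :=
    fun x => p1 ⁻¹ᵁ Proj.basicOpen 𝒜 (T (L x)) ⊓ p2 ⁻¹ᵁ A x
  have hOaff : ∀ x, IsAffineOpen (O x) := fun x =>
    AmpleX.isAffineOpen_fst_inf_snd _ _ (isAffineOpen_top _)
      (Proj.isAffineOpen_basicOpen 𝒜 _ (hT (L x)) one_pos) (hA x) le_top le_top
  have hiO : ∀ x, i ⁻¹ᵁ O x = V x := fun x => by
    show i ⁻¹ᵁ (p1 ⁻¹ᵁ Proj.basicOpen 𝒜 (T (L x))) ⊓ i ⁻¹ᵁ (p2 ⁻¹ᵁ A x) = V x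
    rw [← Scheme.Hom.comp_preimage, ← Scheme.Hom.comp_preimage, hi1, hi2, hpre, ← hVeq]
    exact inf_eq_left.2 (hVA x)
  let U := ⨆ x : X, O x
  have hrange : Set.range i ⊆ Set.range U.ι := by
    rintro _ ⟨x, rfl⟩
    rw [Scheme.Opens.range_ι]
    exact Opens.mem_iSup.2 ⟨x, (hiO x).ge (hxV x)⟩
  let j := IsOpenImmersion.lift U.ι i hrange
  have hj : j ≫ U.ι = i := IsOpenImmersion.lift_fac _ _ _
  have hjc : IsClosedImmersion j := by
    refine IsZariskiLocalAtTarget.of_iSup_eq_top (P := @IsClosedImmersion) (fun x : X => U.ι ⁻¹ᵁ O x) ?_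
      fun x => ?_
    · refine eq_top_iff.2 fun z _ => ?_
      obtain ⟨x, hx⟩ := Opens.mem_iSup.1 z.2
      exact Opens.mem_iSup.2 ⟨x, hx⟩
    · have hOU : O x ≤ U := le_iSup O x
      have hO' : IsAffineOpen (U.ι ⁻¹ᵁ O x) :=
        (hOaff x).preimage_of_isOpenImmersion U.ι
          (by rw [Scheme.Opens.opensRange_ι]; exact hOU)
      have hjV : j ⁻¹ᵁ U.ι ⁻¹ᵁ O x = V x := by
        rw [← Scheme.Hom.comp_preimage, hj, hiO]
      refine VAmple.isClosedImmersion_morphismRestrict j hO' (hjV ▸ hVaff x) ?_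
      have hiV : V x ≤ i ⁻¹ᵁ O x := (hiO x).ge
      have hsurj : Function.Surjective (i.appLE (O x) (V x) hiV) := by
        intro z
        suffices hz : (⊤ : Subring Γ(X, V x)) ≤ (i.appLE (O x) (V x) hiV).hom.range from hz trivial
        rw [← hcl x, Subring.closure_le]
        rintro v (⟨c, rfl⟩ | ⟨m, hm⟩)
        · refine Eq.subst (motive := fun w => w ∈ (i.appLE (O x) (V x) hiV).hom.range) ?_
            (VAmple.mem_range_appLE hi2 (inf_le_right : O x ≤ p2 ⁻¹ᵁ A x) hiV (hVA x) c)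
          rfl
        · have hle : V x ≤ r ⁻¹ᵁ Proj.basicOpen 𝒜 (T (L x)) := ((hVeq x).trans (hpre _).symm).le
          have hv : v = ProjUPX.ratioOf r (hT m) (hT (L x)) hle := by
            have h1 := congrArg (τ.hom.app (V x)) (ProjUPX.res_pullG r (hT m) (hT (L x)) hle)
            rw [Scheme.Modules.Hom.app_smul, AModX.app_res, AModX.app_res,
              show τ.hom.app ⊤ (ProjUPX.pullG r (hT m)) = s m from hτ m,
              show τ.hom.app ⊤ (ProjUPX.pullG r (hT (L x))) = s (L x) from hτ (L x)] at h1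
            refine (isFrame_res_of_le (s (L x)) (hVeq x).le).coord_unique le_rfl ?_
            rw [AModX.res_self, ← hm, ← h1]
          rw [hv, ProjUPX.ratioOf]
          exact VAmple.mem_range_appLE hi1 (inf_le_left : O x ≤ p1 ⁻¹ᵁ Proj.basicOpen 𝒜 (T (L x))) hiV hle _
      exact VAmple.surjective_app_lift hj hjV hiV hsurj
  haveI : IsImmersion i := by rw [← hj]; haveI := hjc; infer_instance
  refine ⟨N, i, inferInstance, hi2, ⟨τ.symm ≪≫ ?_⟩⟩
  exact eqToIso (by rw [hi1]; rfl) ≪≫ ((Scheme.Modules.pullbackComp i p1).app (Twist.twistProjSpace N Z 1)).symm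

theorem eventually_isRelVeryAmplePn (f : X ⟶ S) [LocallyOfFiniteType f] (hL : CohB1.IsAmple L) :
    ∃ d₀ : ℕ, 0 < d₀ ∧ ∀ d : ℕ, d₀ ≤ d → RelAmple.IsRelVeryAmplePn f (CohB1.tensorPow L d) := by
  obtain ⟨hi, hc, -⟩ := isAmple_iff.1 hL
  haveI := hc
  haveI := isSeparated_of_isAmple hL
  obtain ⟨n₀, h⟩ := exists_sections_over f hL
  refine ⟨n₀ + 1, Nat.succ_pos _, fun d hd => ?_⟩
  obtain ⟨κ, hκ, s, hs⟩ := h d (by omega)
  let e : ULift.{u} (Fin (Fintype.card κ + 1)) ≃ Option κ :=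
    Equiv.ulift.trans ((finCongr Fintype.card_option.symm).trans (Fintype.equivFin (Option κ)).symm)
  refine exists_immersion_over f (InvX.isInvertible_tensorPow hi d) (Fintype.card κ)
    (fun i => (e i).elim 0 s) fun x => ?_
  obtain ⟨l, V, U, hle, hU, hxV, hVeq, hV, hcl⟩ := hs x
  refine ⟨e.symm (some l), V, U, hle, hU, hxV, ?_, hV, ?_⟩
  · simp only [Equiv.apply_symm_apply]
    exact hVeq
  · rw [eq_top_iff, ← hcl, Subring.closure_le]
    rintro v (hv | ⟨i, hi⟩)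
    · exact Subring.subset_closure (Or.inl hv)
    · refine Subring.subset_closure (Or.inr ⟨e.symm (some i), ?_⟩)
      simp only [Equiv.apply_symm_apply]
      exact hi

end Groth.Agent.RGLib.VAmpleBase
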