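import Groth.Agent.RGLib.Lim8Zero
import Groth.Agent.QCoh.PullStalk
import Groth.Agent.KFlatLib.Perfect.LocFree
import Groth.Agent.ConsPropLib.FibreLocFreeRank
import Mathlib.RingTheory.TensorProduct.Pi

/-!
# Locally free modules on a limit of schemes, at a stage
-/

set_option autoImplicit false
set_option linter.style.haveILetI false

universe u

open CategoryTheory CategoryTheory.Limits AlgebraicGeometry TopologicalSpace
open scoped TensorProduct

namespace Groth.Agent.RGLib.Lim8

open Groth.Agent.QCoh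

section Algebra

variable {A M : Type u} [CommRing A] [AddCommGroup M] [Module A M] {m q : ℕ}
  (x : Fin m → M) (hx : Submodule.span A (Set.range x) = ⊤) (r : Fin q → (Fin m → A))
  (hr : Submodule.span A (Set.range r) = LinearMap.ker (Fintype.linearCombination A x))

/-- The equations of a projector onto the base change of a presented module. -/
def ProjEqs {B : Type*} [CommRing B] (f : A →+* B) (r : Fin q → (Fin m → A)) (E : Fin m → Fin m → B)
    (cc : Fin m → Fin q → B) : Prop :=
  (∀ l j, ∑ i, f (r l i) * E i j = 0) ∧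
    ∀ i j, E i j - (if i = j then 1 else 0) = ∑ l, cc i l * f (r l j)

include hx in
theorem linearCombination_surjective : Function.Surjective (Fintype.linearCombination A x) := by
  rw [← LinearMap.range_eq_top, Fintype.range_linearCombination, hx]

variable {B Q : Type u} [CommRing B] [Algebra A B] [AddCommGroup Q] [Module A Q] [Module B Q]
  [IsScalarTower A B Q] {l : M →ₗ[A] Q} (hb : IsBaseChange B l)

include hx hr hb in
/-- A projector gives projectivity. -/
theorem projective_of_projEqs {E : Fin m → Fin m → B} {cc : Fin m → Fin q → B}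
    (h : ProjEqs (algebraMap A B) r E cc) : Module.Projective B Q := by
  obtain ⟨h1, h2⟩ := h
  let π := Fintype.linearCombination A x
  let ψ : (Fin m → A) →ₗ[A] (Fin m → B) := Fintype.linearCombination A E
  have hψ : LinearMap.ker π ≤ LinearMap.ker ψ := by
    rw [← hr, Submodule.span_le]
    rintro _ ⟨k, rfl⟩
    ext j
    simp only [ψ, Fintype.linearCombination_apply, Finset.sum_apply, Pi.smul_apply, Pi.zero_apply,
      Algebra.smul_def]
    exact h1 k j
  let e := LinearMap.quotKerEquivOfSurjective π (linearCombination_surjective x hx)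
  let σ₀ : M →ₗ[A] (Fin m → B) := (Submodule.liftQ _ ψ hψ).comp e.symm.toLinearMap
  let s : Q →ₗ[B] (Fin m → B) := hb.lift σ₀
  let p : (Fin m → B) →ₗ[B] Q := Fintype.linearCombination B (fun i => l (x i))
  have hσ : ∀ i, σ₀ (x i) = E i := fun i => by
    have hxi : π (Pi.single i 1) = x i := by simp [π, Fintype.linearCombination_apply_single]
    have : e.symm (x i) = Submodule.Quotient.mk (Pi.single i 1) := by
      rw [LinearEquiv.symm_apply_eq, ← hxi]; rfl
    simp [σ₀, this, ψ, Fintype.linearCombination_apply_single]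
  have hker : ∀ k, ∑ j, algebraMap A B (r k j) • l (x j) = (0 : Q) := fun k => by
    simp only [algebraMap_smul, ← map_smul, ← map_sum]
    have : r k ∈ LinearMap.ker π := hr ▸ Submodule.subset_span ⟨k, rfl⟩
    rw [LinearMap.mem_ker, Fintype.linearCombination_apply] at this
    rw [this, map_zero]
  refine Module.Projective.of_split s p (hb.algHom_ext _ _ fun y => ?_)
  obtain ⟨v, rfl⟩ := linearCombination_surjective x hx y
  rw [LinearMap.id_apply, Fintype.linearCombination_apply, map_sum, map_sum]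
  refine Finset.sum_congr rfl fun i _ => ?_
  rw [map_smul, LinearMap.map_smul_of_tower]
  refine congrArg _ ?_
  simp only [LinearMap.comp_apply, s, hb.lift_eq, hσ, p, Fintype.linearCombination_apply]
  have key : ∀ j, E i j = (if i = j then 1 else 0) + ∑ k, cc i k * algebraMap A B (r k j) := fun j => by
    rw [← h2 i j]; ring
  simp only [key, add_smul, Finset.sum_add_distrib, Finset.sum_smul, mul_smul]
  rw [Finset.sum_comm]
  simp only [← Finset.smul_sum, hker, smul_zero, Finset.sum_const_zero, add_zero]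
  simp [ite_smul]

include hx hr hb in
/-- Projectivity gives a projector. -/
theorem exists_projEqs [Module.Projective B Q] :
    ∃ (E : Fin m → Fin m → B) (cc : Fin m → Fin q → B), ProjEqs (algebraMap A B) r E cc := by
  let π := Fintype.linearCombination A x
  let p : (Fin m → B) →ₗ[B] Q := Fintype.linearCombination B (fun i => l (x i))
  have hp : Function.Surjective p := by
    intro y
    induction y using hb.inductionOn with
    | zero => exact ⟨0, map_zero p⟩
    | tmul y =>
      obtain ⟨v, rfl⟩ := linearCombination_surjective x hx y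
      exact ⟨fun i => algebraMap A B (v i), by simp [p, Fintype.linearCombination_apply]⟩
    | smul b y ih => obtain ⟨v, rfl⟩ := ih; exact ⟨b • v, map_smul p b v⟩
    | add a b ha hb' =>
      obtain ⟨v, rfl⟩ := ha
      obtain ⟨w, rfl⟩ := hb'
      exact ⟨v + w, map_add p v w⟩
  obtain ⟨s, hs⟩ := Module.projective_lifting_property p LinearMap.id hp
  refine ⟨fun i => s (l (x i)), ?_⟩
  have h1 : ∀ k j, ∑ i, algebraMap A B (r k i) * s (l (x i)) j = 0 := fun k j => by
    have h0 : π (r k) = 0 := LinearMap.mem_ker.1 (hr ▸ Submodule.subset_span ⟨k, rfl⟩)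
    have := congrArg (fun y => s (l y) j) h0
    simpa [π, Fintype.linearCombination_apply, map_sum, LinearMap.map_smul_of_tower, Algebra.smul_def]
      using this
  have hv : ∀ i, ∑ j, (s (l (x i)) j - (if i = j then 1 else 0)) • l (x j) = (0 : Q) := fun i => by
    have := LinearMap.congr_fun hs (l (x i))
    simp only [LinearMap.comp_apply, LinearMap.id_apply, p, Fintype.linearCombination_apply] at this
    simp [sub_smul, this, ite_smul]
  have hc : ∀ i, ∃ c : Fin q → B, ∀ j, s (l (x i)) j - (if i = j then 1 else 0) =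
      ∑ k, c k * algebraMap A B (r k j) := fun i => by
    let R := Fintype.linearCombination A r
    have hex : Function.Exact R π := fun y => by
      rw [← LinearMap.mem_ker, ← hr, ← Fintype.range_linearCombination]
      rfl
    let v : Fin m → B := fun j => s (l (x i)) j - (if i = j then 1 else 0)
    let t : B ⊗[A] (Fin m → A) := ∑ j, v j ⊗ₜ Pi.single j 1
    have ht : (LinearMap.lTensor B π) t = 0 := hb.equiv.injective (by
      simp [t, π, Fintype.linearCombination_apply_single, hb.equiv_tmul, v, hv i])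
    obtain ⟨w, hw⟩ := (lTensor_exact B hex (linearCombination_surjective x hx) t).1 ht
    let e := TensorProduct.piScalarRight A B B (Fin q)
    refine ⟨e w, fun j => ?_⟩
    let ev : B ⊗[A] (Fin m → A) →ₗ[B] B :=
      (LinearMap.proj j).comp (TensorProduct.piScalarRight A B B (Fin m)).toLinearMap
    have hl : ev t = v j := by
      simp [ev, t, TensorProduct.piScalarRight_apply, TensorProduct.piScalarRightHom_tmul, Pi.single_apply,
        ite_smul]
    have hR : ∀ w, ev (LinearMap.lTensor B R w) = ∑ k, e w k * algebraMap A B (r k j) := fun w => by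
      induction w using TensorProduct.induction_on with
      | zero => simp
      | tmul b y =>
        simp [ev, e, R, TensorProduct.piScalarRight_apply, TensorProduct.piScalarRightHom_tmul,
          Fintype.linearCombination_apply, Algebra.smul_def, Finset.sum_apply, Finset.sum_mul, Finset.mul_sum, map_sum,
          mul_comm, mul_left_comm]
      | add a b ha hb' => simp [map_add, ha, hb', add_mul, Finset.sum_add_distrib]
    rw [← hR, hw, hl]
  choose cc hcc using hc
  exact ⟨cc, h1, hcc⟩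

end Algebra

variable {X Y : Scheme.{u}}

theorem isFinLocFree_of_flat_cover {M : X.Modules} (hfp : CohB1.IsFP M) {ι : Type*} (W : ι → X.Opens)
    (hW : ∀ i, IsAffineOpen (W i)) (hcov : ∀ x : X, ∃ i, x ∈ W i)
    (h : ∀ i, Module.Flat Γ(X, W i) Γ(M, W i)) : FlatMod.IsFinLocFree M :=
  isFlat_and_isFP_iff.1 ⟨fun x => (hcov x).elim fun i hi =>
    (flat_sections_iff (isQCoh_of_isFP hfp) (hW i)).1 (h i) x hi, hfp⟩

theorem projective_sections {M : X.Modules} (h : FlatMod.IsFinLocFree M) {W : X.Opens} (hW : IsAffineOpen W) :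
    Module.Projective Γ(X, W) Γ(M, W) := by
  obtain ⟨hfl, hfp⟩ := isFlat_and_isFP_iff.2 h
  haveI : Module.Flat Γ(X, W) Γ(M, W) :=
    (flat_sections_iff (isQCoh_of_isFP hfp) hW).2 fun x _ => hfl x
  haveI := finitePresentation_of_isFP hfp hW
  exact Module.Flat.projective_of_finitePresentation

theorem finrank_stalk_pullback (f : Y ⟶ X) {M : X.Modules} (h : FlatMod.IsFinLocFree M) (y : Y) :
    Module.finrank (Y.presheaf.stalk y) (((Scheme.Modules.pullback f).obj M).presheaf.stalk y) =
      Module.finrank (X.presheaf.stalk (f y)) (M.presheaf.stalk (f y)) := by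
  letI : Algebra (X.presheaf.stalk (f y)) (Y.presheaf.stalk y) := (f.stalkMap y).hom.toAlgebra
  haveI := free_stalk_of_isFinLocFree h (f y)
  obtain ⟨e⟩ := nonempty_pullStalkEquiv f (isQCoh_of_isFP (isFlat_and_isFP_iff.2 h).2) y
  rw [e.finrank_eq, Module.finrank_baseChange]

section Limit

variable {I : Type u} [SmallCategory I] [IsCofiltered I] (D : I ⥤ Scheme.{u}) (c : Cone D)
  (hc : IsLimit c) [∀ (i j : I) (f : i ⟶ j), IsAffineHom (D.map f)] {i₀ : I} [CompactSpace (D.obj i₀)]
  {F : (D.obj i₀).Modules}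

omit [∀ (i j : I) (f : i ⟶ j), IsAffineHom (D.map f)] [CompactSpace (D.obj i₀)] in
theorem isFinLocFree_π {j : I} (φ : j ⟶ i₀)
    (h : FlatMod.IsFinLocFree ((Scheme.Modules.pullback (D.map φ)).obj F)) :
    FlatMod.IsFinLocFree ((Scheme.Modules.pullback (c.π.app i₀)).obj F) :=
  (ConsPropLib.isFinLocFree_iso ((Scheme.Modules.pullbackComp (c.π.app j) (D.map φ) ≪≫
    Scheme.Modules.pullbackCongr (c.w φ)).app F)).1 (KFlatLib.isFinLocFree_pullback _ h)

include hc in
theorem ev_isFinLocFree (hfp : CohB1.IsFP F)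
    (h : FlatMod.IsFinLocFree ((Scheme.Modules.pullback (c.π.app i₀)).obj F)) :
    Ev (fun j (φ : j ⟶ i₀) => FlatMod.IsFinLocFree ((Scheme.Modules.pullback (D.map φ)).obj F)) := by
  classical
  have : ∀ {i j : I} (f : i ⟶ j), IsAffineHom (D.map f) := fun f => inferInstance
  have hF : Coh.IsQCoh F := isQCoh_of_isFP hfp
  choose U hU hxU _ using fun x : (D.obj i₀) =>
    exists_isAffineOpen_mem_and_subset (x := x) (U := ⊤) trivial
  obtain ⟨t, ht⟩ := isCompact_univ.elim_finite_subcover (fun x => (U x : Set (D.obj i₀)))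
    (fun x => (U x).isOpen) fun x _ => Set.mem_iUnion.2 ⟨x, hxU x⟩
  have key : ∀ x : t, Ev (fun j (φ : j ⟶ i₀) =>
      Module.Flat Γ(D.obj j, D.map φ ⁻¹ᵁ U x.1)
        Γ((Scheme.Modules.pullback (D.map φ)).obj F, D.map φ ⁻¹ᵁ U x.1)) := fun x => by
    suffices H : ∀ V : (D.obj i₀).Opens, IsAffineOpen V → Ev (fun j (φ : j ⟶ i₀) =>
        Module.Flat Γ(D.obj j, D.map φ ⁻¹ᵁ V)
          Γ((Scheme.Modules.pullback (D.map φ)).obj F, D.map φ ⁻¹ᵁ V)) from H _ (hU x.1)
    intro V hV
    haveI := finitePresentation_of_isFP hfp (hV)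
    obtain ⟨m, xx, hxx⟩ := Module.Finite.exists_fin (R := Γ(D.obj i₀, V)) (M := Γ(F, V))
    have hfg : (LinearMap.ker (Fintype.linearCombination Γ(D.obj i₀, V) xx)).FG :=
      Module.FinitePresentation.fg_ker _ (linearCombination_surjective xx hxx)
    obtain ⟨q, r, hr⟩ := Submodule.fg_iff_exists_fin_generating_family.1 hfg
    let π : c.pt ⟶ D.obj i₀ := c.π.app i₀
    haveI : IsAffineHom π := isAffineHom_π_app D c hc i₀
    have hW : IsAffineOpen (π ⁻¹ᵁ V) := (hV).preimage π
    letI : Algebra Γ(D.obj i₀, V) Γ(c.pt, π ⁻¹ᵁ V) := (π.appLE V (π ⁻¹ᵁ V) le_rfl).hom.toAlgebra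
    letI : Module Γ(D.obj i₀, V) Γ((Scheme.Modules.pullback π).obj F, π ⁻¹ᵁ V) :=
      Module.compHom _ (π.appLE V (π ⁻¹ᵁ V) le_rfl).hom
    haveI : IsScalarTower Γ(D.obj i₀, V) Γ(c.pt, π ⁻¹ᵁ V)
        Γ((Scheme.Modules.pullback π).obj F, π ⁻¹ᵁ V) :=
      ⟨fun a b y => mul_smul ((π.appLE V (π ⁻¹ᵁ V) le_rfl).hom a) b y⟩
    let l : Γ(F, V) →ₗ[Γ(D.obj i₀, V)] Γ((Scheme.Modules.pullback π).obj F, π ⁻¹ᵁ V) :=
      { toFun := pullSec π F le_rfl
        map_add' := pullSec_add π F le_rfl
        map_smul' := pullSec_smul π F le_rfl }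
    haveI : Module.Projective Γ(c.pt, π ⁻¹ᵁ V) Γ((Scheme.Modules.pullback π).obj F, π ⁻¹ᵁ V) :=
      projective_sections h hW
    obtain ⟨E, cc, hE1, hE2⟩ := exists_projEqs xx hxx r hr (l := l)
      (isBaseChange_pullback (hV) π hW hF le_rfl (fun _ => rfl) l fun _ => rfl)
    obtain ⟨j, φ, hj⟩ := ((Ev.forall_fintype fun i : Fin m × Fin m => ev_section D c hc (hV) (E i.1 i.2)).and
      (Ev.forall_fintype fun i : Fin m × Fin q => ev_section D c hc (hV) (cc i.1 i.2))).exists_stage
    choose Ej hEj using fun i i' => hj.1 (i, i')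
    choose cj hcj using fun i k => hj.2 (i, k)
    obtain ⟨k₀, ψ₀, hk₀⟩ :=
      (Ev.forall_fintype fun p : Fin q × Fin m => ev_section_zero D c hc (hV).isCompact φ
        (∑ i, (D.map φ).appLE V _ le_rfl (r p.1 i) * Ej i p.2) (by
          simp only [map_sum, map_mul, hEj, res_base_limit]
          exact hE1 p.1 p.2)).and
      (Ev.forall_fintype fun p : Fin m × Fin m => ev_section_zero D c hc (hV).isCompact φ
        (Ej p.1 p.2 - (if p.1 = p.2 then 1 else 0) - ∑ k, cj p.1 k * (D.map φ).appLE V _ le_rfl (r k p.2))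
        (by
          simp only [map_sub, map_sum, map_mul, hEj, hcj, res_base_limit]
          rw [sub_eq_zero, apply_ite ((c.π.app j).appLE _ _ (le_π_preimage D c φ)), map_one, map_zero]
          exact hE2 p.1 p.2))
    refine ⟨k₀, ψ₀ ≫ φ, fun k ψ => ?_⟩
    obtain ⟨hk1, hk2⟩ := hk₀ k ψ
    rw [← Category.assoc]
    let g := D.map ((ψ ≫ ψ₀) ≫ φ)
    letI : Algebra Γ(D.obj i₀, V) Γ(D.obj k, g ⁻¹ᵁ V) := (g.appLE V (g ⁻¹ᵁ V) le_rfl).hom.toAlgebra
    letI : Module Γ(D.obj i₀, V) Γ((Scheme.Modules.pullback g).obj F, g ⁻¹ᵁ V) :=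
      Module.compHom _ (g.appLE V (g ⁻¹ᵁ V) le_rfl).hom
    haveI : IsScalarTower Γ(D.obj i₀, V) Γ(D.obj k, g ⁻¹ᵁ V) Γ((Scheme.Modules.pullback g).obj F, g ⁻¹ᵁ V) :=
      ⟨fun a b y => mul_smul ((g.appLE V (g ⁻¹ᵁ V) le_rfl).hom a) b y⟩
    let lk : Γ(F, V) →ₗ[Γ(D.obj i₀, V)] Γ((Scheme.Modules.pullback g).obj F, g ⁻¹ᵁ V) :=
      { toFun := pullSec g F le_rfl
        map_add' := pullSec_add g F le_rfl
        map_smul' := pullSec_smul g F le_rfl }
    haveI : Module.Projective Γ(D.obj k, g ⁻¹ᵁ V) Γ((Scheme.Modules.pullback g).obj F, g ⁻¹ᵁ V) :=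
      projective_of_projEqs xx hxx r hr (l := lk)
        (E := fun i i' => (D.map (ψ ≫ ψ₀)).appLE _ _ (le_map_preimage D φ (ψ ≫ ψ₀)) (Ej i i'))
        (cc := fun i i' => (D.map (ψ ≫ ψ₀)).appLE _ _ (le_map_preimage D φ (ψ ≫ ψ₀)) (cj i i'))
        (isBaseChange_pullback (hV) g ((hV).preimage g) hF le_rfl (fun _ => rfl) lk fun _ => rfl)
        ⟨fun a b => by
          have := hk1 (a, b)
          simp only [map_sum, map_mul, res_base] at this
          exact this,
         fun a b => by
          have := hk2 (a, b)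
          simp only [map_sub, map_sum, map_mul, res_base, sub_eq_zero] at this
          rw [apply_ite ((D.map (ψ ≫ ψ₀)).appLE _ _ (le_map_preimage D φ (ψ ≫ ψ₀))), map_one, map_zero]
            at this
          exact this⟩
    exact inferInstanceAs (Module.Flat Γ(D.obj k, g ⁻¹ᵁ V) Γ((Scheme.Modules.pullback g).obj F, g ⁻¹ᵁ V))
  refine (Ev.forall_fintype key).mono fun j φ hj => ?_
  refine isFinLocFree_of_flat_cover (isFP_pullback (D.map φ) hF hfp) (fun x : t => D.map φ ⁻¹ᵁ U x.1)
    (fun x => (hU x.1).preimage (D.map φ)) (fun y => ?_) hj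
  obtain ⟨x, hx, hy⟩ := Set.mem_iUnion₂.1 (ht (Set.mem_univ (D.map φ y)))
  exact ⟨⟨x, hx⟩, hy⟩

include hc in
theorem isFinLocFree_iff (hfp : CohB1.IsFP F) :
    FlatMod.IsFinLocFree ((Scheme.Modules.pullback (c.π.app i₀)).obj F) ↔
      ∃ (j : I) (φ : j ⟶ i₀), FlatMod.IsFinLocFree ((Scheme.Modules.pullback (D.map φ)).obj F) :=
  ⟨fun h => (ev_isFinLocFree D c hc hfp h).exists_stage, fun ⟨_, φ, h⟩ => isFinLocFree_π D c φ h⟩

include hc in
theorem isFinLocFreeOfRank_iff (hfp : CohB1.IsFP F) (n : ℕ) :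
    FlatMod.IsFinLocFreeOfRank n ((Scheme.Modules.pullback (c.π.app i₀)).obj F) ↔
      ∃ (j : I) (φ : j ⟶ i₀), FlatMod.IsFinLocFreeOfRank n ((Scheme.Modules.pullback (D.map φ)).obj F) := by
  have : ∀ {i j : I} (f : i ⟶ j), IsAffineHom (D.map f) := fun f => inferInstance
  simp only [ConsPropLib.isFinLocFreeOfRank_iff]
  constructor
  · rintro ⟨hl, hn⟩
    obtain ⟨j, φ, hj⟩ := (ev_isFinLocFree D c hc hfp hl).exists_stage
    let E := (Scheme.Modules.pullback (D.map φ)).obj F
    let Z : (D.obj j).Opens :=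
      ⟨(fun z => Module.finrank ((D.obj j).presheaf.stalk z) (E.presheaf.stalk z)) ⁻¹' {n},
        isLocallyConstant_rank hj {n}⟩
    let e : (Scheme.Modules.pullback (c.π.app j)).obj E ≅ (Scheme.Modules.pullback (c.π.app i₀)).obj F :=
      (Scheme.Modules.pullbackComp (c.π.app j) (D.map φ) ≪≫ Scheme.Modules.pullbackCongr (c.w φ)).app F
    have hZ : c.π.app j ⁻¹ᵁ Z = ⊤ := top_le_iff.1 fun y _ => by
      show Module.finrank _ _ = n
      rw [← finrank_stalk_pullback (c.π.app j) hj]
      have := (ConsPropLib.isFinLocFreeOfRank_iso e).2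
        (ConsPropLib.isFinLocFreeOfRank_iff.2 ⟨hl, hn⟩)
      exact (ConsPropLib.isFinLocFreeOfRank_iff.1 this).2 y
    have hcpt : ∀ (k : I) (g : k ⟶ i₀), CompactSpace (D.obj k) := fun k g =>
      QuasiCompact.compactSpace_of_compactSpace (D.map g)
    haveI : ∀ o : Over j, CompactSpace ((Over.forget j ⋙ D).obj o) := fun o =>
      hcpt o.left (o.hom ≫ φ)
    haveI : ∀ {a b : Over j} (f : a ⟶ b), IsAffineHom ((Over.forget j ⋙ D).map f) := fun f =>
      inferInstanceAs (IsAffineHom (D.map f.left))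
    obtain ⟨o, f, hf⟩ := exists_map_eq_top (Over.forget j ⋙ D) (c.whisker (Over.forget j))
      ((Functor.Initial.isLimitWhiskerEquiv (Over.forget j) c).symm hc) (i := Over.mk (𝟙 j)) Z hZ
    refine ⟨o.left, f.left ≫ φ, ?_, fun z => ?_⟩
    · exact (ConsPropLib.isFinLocFree_iso ((Scheme.Modules.pullbackComp (D.map f.left) (D.map φ) ≪≫
        Scheme.Modules.pullbackCongr (D.map_comp f.left φ).symm).app F)).1 (KFlatLib.isFinLocFree_pullback _ hj)
    · let e' : (Scheme.Modules.pullback (D.map f.left)).obj E ≅ (Scheme.Modules.pullback (D.map (f.left ≫ φ))).obj F :=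
        (Scheme.Modules.pullbackComp (D.map f.left) (D.map φ) ≪≫
          Scheme.Modules.pullbackCongr (D.map_comp f.left φ).symm).app F
      have h1 : FlatMod.IsFinLocFreeOfRank n ((Scheme.Modules.pullback (D.map f.left)).obj E) :=
        ConsPropLib.isFinLocFreeOfRank_iff.2 ⟨KFlatLib.isFinLocFree_pullback _ hj, fun w =>
          (finrank_stalk_pullback (D.map f.left) hj w).trans (hf.ge (Set.mem_univ w))⟩
      exact (ConsPropLib.isFinLocFreeOfRank_iff.1 ((ConsPropLib.isFinLocFreeOfRank_iso e').1 h1)).2 z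
  · rintro ⟨j, φ, hj, hn⟩
    refine ConsPropLib.isFinLocFreeOfRank_iff.1
      ((ConsPropLib.isFinLocFreeOfRank_iso ((Scheme.Modules.pullbackComp (c.π.app j) (D.map φ) ≪≫
        Scheme.Modules.pullbackCongr (c.w φ)).app F)).1 ?_)
    exact ConsPropLib.isFinLocFreeOfRank_iff.2 ⟨KFlatLib.isFinLocFree_pullback _ hj, fun y =>
      (finrank_stalk_pullback (c.π.app j) hj y).trans (hn _)⟩

end Limit

end Groth.Agent.RGLib.Lim8
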