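import Groth.Agent.RGLib.Lim8Quot
import Groth.Agent.AlgGlue.Absolute

/-!
# Modules of finite type are quotients of modules of finite presentation
-/

set_option autoImplicit false
set_option linter.style.haveILetI false
set_option backward.isDefEq.respectTransparency false
set_option backward.isDefEq.respectTransparency.types false
set_option maxHeartbeats 1000000

universe u

open CategoryTheory CategoryTheory.Limits AlgebraicGeometry TopologicalSpace

namespace Groth.Agent.RGLib.FPCover

open Groth.Agent.QCoh Groth.Agent.RGLib.Lim8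

/-- A map surjective on the sections over an affine cover is an epimorphism. -/
theorem epi_of_surjective_cover {X : Scheme.{u}} {M N : X.Modules} (hM : Coh.IsQCoh M) (hN : Coh.IsQCoh N)
    (φ : M ⟶ N) {ι : Type u} (U : ι → X.Opens) (hU : ∀ i, IsAffineOpen (U i)) (hcov : ∀ x, ∃ i, x ∈ U i)
    (h : ∀ i, Function.Surjective (φ.app (U i))) : Epi φ := by
  refine Preadditive.epi_of_cokernel_zero ?_
  refine hom_eq_zero_of_cover hN (cokernel.π φ) U hU hcov fun i z => ?_
  obtain ⟨w, rfl⟩ := h i z
  exact congrArg (fun ψ => Scheme.Modules.Hom.app ψ (U i) w) (cokernel.condition φ)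

/-- Along an affine morphism to a quasi-compact quasi-separated scheme, a module of finite type is a
quotient of the inverse image of a quasi-coherent module of finite type. -/
theorem exists_ft_epi {X T : Scheme.{u}} (g : X ⟶ T) [IsAffineHom g] [CompactSpace T] [QuasiSeparatedSpace T]
    {F : X.Modules} (hF : Coh.IsQCoh F) (hft : CohB1.IsFT F) :
    ∃ M : T.Modules, Coh.IsQCoh M ∧ CohB1.IsFT M ∧
      ∃ u : (Scheme.Modules.pullback g).obj M ⟶ F, Epi u := by
  classical
  choose U₀ hU₀ hxU₀ _ using fun x : T => exists_isAffineOpen_mem_and_subset (x := x) (U := ⊤) trivial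
  obtain ⟨t, ht⟩ := isCompact_univ.elim_finite_subcover (fun x => (U₀ x : Set T))
    (fun x => (U₀ x).isOpen) fun x _ => Set.mem_iUnion.2 ⟨x, hxU₀ x⟩
  let U : t → T.Opens := fun a => U₀ a.1
  have hU : ∀ a, IsAffineOpen (U a) := fun a => hU₀ a.1
  have hgen : ∀ a : t, ∃ Z : Finset Γ(F, g ⁻¹ᵁ U a),
      Submodule.span Γ(X, g ⁻¹ᵁ U a) (Z : Set Γ(F, g ⁻¹ᵁ U a)) = ⊤ := fun a =>
    (finite_of_isFT hF hft ((hU a).preimage g)).fg_top
  choose Z hZ using hgen
  let H := (Scheme.Modules.pushforward g).obj F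
  have hH : Coh.IsQCoh H := isQCoh_pushforward g hF
  obtain ⟨N, hN, hZN⟩ := exists_ftOn_family hH U hU (fun a => (Z a : Set Γ(F, g ⁻¹ᵁ U a)))
    fun a => (Z a).finite_toSet
  have hM : Coh.IsQCoh N.toModules := isQCoh_of_ftOn hH hN
  let u := ((Scheme.Modules.pullbackPushforwardAdjunction g).homEquiv N.toModules F).symm N.ι
  refine ⟨N.toModules, hM, isFT_of_ftOn hH hN, u, ?_⟩
  refine epi_of_surjective_cover (isQCoh_pullback g hM) hF u (fun a => g ⁻¹ᵁ U a) (fun a => (hU a).preimage g)
    (fun x => ?_) fun a => ?_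
  · obtain ⟨y, hy, hxy⟩ := Set.mem_iUnion₂.1 (ht (Set.mem_univ (g x)))
    exact ⟨⟨y, hy⟩, hxy⟩
  · have hle : Submodule.span Γ(X, g ⁻¹ᵁ U a) (Z a : Set Γ(F, g ⁻¹ᵁ U a)) ≤
        LinearMap.range (Lim8.appLin u (g ⁻¹ᵁ U a)) := by
      rw [Submodule.span_le]
      intro z hz
      obtain ⟨m, hm⟩ := N.exists_app_eq (hZN a hz)
      exact ⟨pullSec g N.toModules le_rfl m, (adjoint_pullSec g N.ι m).trans hm⟩
    rw [hZ] at hle
    exact fun z => hle (Submodule.mem_top : z ∈ ⊤)

/-- On a locally Noetherian scheme finite type is finite presentation. -/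
theorem isFP_of_isFT_noetherian {X : Scheme.{u}} [IsLocallyNoetherian X] {M : X.Modules} (hM : Coh.IsQCoh M)
    (hft : CohB1.IsFT M) : CohB1.IsFP M := by
  choose U hU hxU _ using fun x : X => exists_isAffineOpen_mem_and_subset (x := x) (U := ⊤) trivial
  refine QCoh.isFP_of_finitePresentation hM U
    (IsOpenCover.mk (eq_top_iff.2 fun x _ => Opens.mem_iSup.2 ⟨x, hxU x⟩)) hU fun x => ?_
  haveI := finite_of_isFT hM hft (hU x)
  haveI : IsNoetherianRing Γ(X, U x) := IsLocallyNoetherian.component_noetherian ⟨U x, hU x⟩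
  exact Module.finitePresentation_of_finite _ _

/-- Finite type modules on schemes affine over a quasi-compact quasi-separated one are quotients of
modules of finite presentation coming from that scheme. -/
theorem exists_fp_epi {S X : Scheme.{u}} (π : X ⟶ S) [IsAffineHom π] [CompactSpace S] [QuasiSeparatedSpace S]
    {F : X.Modules} (hF : Coh.IsQCoh F) (hft : CohB1.IsFT F) :
    ∃ P : S.Modules, Coh.IsQCoh P ∧ CohB1.IsFP P ∧
      ∃ u : (Scheme.Modules.pullback π).obj P ⟶ F, Epi u := by
  obtain ⟨T, g, hg, hT⟩ := AlgGlue.approximable_of_qcqs S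
  haveI := hg
  haveI := hT.compactSpace
  haveI := hT.quasiSeparatedSpace
  haveI := hT.isNoetherian
  obtain ⟨M, hM, hMt, u, hu⟩ := exists_ft_epi (π ≫ g) hF hft
  haveI := hu
  exact ⟨(Scheme.Modules.pullback g).obj M, isQCoh_pullback g hM,
    isFP_pullback g hM (isFP_of_isFT_noetherian hM hMt),
    ((Scheme.Modules.pullbackComp π g).app M).hom ≫ u, epi_comp _ _⟩

end Groth.Agent.RGLib.FPCover
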