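import Groth.Agent.RGLib.Lim8Hom
import Groth.Agent.AmpleX.Sect
import Groth.Agent.AmpleX.Basis

/-!
# Ampleness descends to a stage
-/

set_option autoImplicit false
set_option backward.isDefEq.respectTransparency false
set_option backward.isDefEq.respectTransparency.types false

universe u

open CategoryTheory CategoryTheory.Limits AlgebraicGeometry TopologicalSpace
open Groth.Agent.H23.PicMul

namespace Groth.Agent.RGLib.Lim8

open Groth.Agent Groth.Agent.AmpleX

variable {I : Type u} [SmallCategory I] [IsCofiltered I] (D : I ⥤ Scheme.{u}) (c : Cone D) (hc : IsLimit c)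
  [∀ (i j : I) (f : i ⟶ j), IsAffineHom (D.map f)] [∀ i, CompactSpace (D.obj i)]
  [∀ i, QuasiSeparatedSpace (D.obj i)] {i₀ : I}

/-- Loci of sections of invertible modules on compact schemes are compact. -/
theorem isCompact_genLocus {X : Scheme.{u}} [CompactSpace X] {M : X.Modules} (hM : PicF.IsInvertible M)
    (s : Coh.structureModule X ⟶ M) : IsCompact (CohB1.genLocus M s : Set X) := by
  obtain ⟨W, hW, hWc⟩ := isCompact_iff_finite_and_eq_biUnion_affineOpens.mp
    (show IsCompact ((⊤ : X.Opens) : Set X) from isCompact_univ)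
  have e : (CohB1.genLocus M s : Set X) = ⋃ V ∈ W, ((V.1 ⊓ CohB1.genLocus M s : X.Opens) : Set X) := by
    ext z
    simp only [Set.mem_iUnion, Opens.coe_inf, Set.mem_inter_iff, exists_prop, exists_and_left]
    refine ⟨fun hz => ?_, fun ⟨V, _, _, hz⟩ => hz⟩
    have : z ∈ (⊤ : X.Opens) := trivial
    rw [hWc] at this
    simp only [Opens.mem_iSup] at this
    obtain ⟨V, hV, hzV⟩ := this
    exact ⟨V, hV, hzV, hz⟩
  rw [e]
  exact hW.isCompact_biUnion fun V _ => (isAffineOpen_inf_genLocus hM V.2 s).isCompact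

include hc in
/-- A section of a pulled back invertible module on the limit has the locus of a section at a stage. -/
theorem exists_stage_locus {M : (D.obj i₀).Modules} (hM : PicF.IsInvertible M)
    (t : Γ((Scheme.Modules.pullback (c.π.app i₀)).obj M, ⊤)) :
    ∃ (j : I) (φ : j ⟶ i₀) (tj : Γ((Scheme.Modules.pullback (D.map φ)).obj M, ⊤)),
      c.π.app j ⁻¹ᵁ locus tj = locus t := by
  have hF : FlatMod.IsFinLocFree (Coh.structureModule (D.obj i₀)) :=
    H23.PullPush.isFinLocFree_of_isInvertible InvX.isInvertible_structureModule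
  obtain ⟨j, φ, u, σ, U, hU, hcov, hu⟩ := exists_stage_hom D c hc (QCoh.isFP_of_isFinLocFree hF)
    (AmpleX.isQCoh_one _) (ProjUPX.isQCoh_of_isInvertible hM) (InvX.ofSect (M := limMod D c M) t)
  let tj : Γ((Scheme.Modules.pullback (D.map φ)).obj M, ⊤) := InvX.one (L := stageMod D M φ) u
  refine ⟨j, φ, tj, ?_⟩
  have hT : toLim D c M φ ⊤ (show Γ(stageMod D M φ, ⊤) from tj) = (show Γ(limMod D c M, ⊤) from t) := by
    refine AModX.eq_of_locally _ _ fun p _ => ?_
    obtain ⟨a, ha⟩ := hcov p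
    refine ⟨U a, le_top, ha, ?_⟩
    refine (toLim_res D c M φ (le_top : U a ≤ ⊤) _).trans ?_
    let one₀ : Γ(Coh.structureModule (D.obj i₀), ⊤) := (1 : Γ(D.obj i₀, ⊤))
    have h1 : (stageMod D M φ).presheaf.map (homOfLE (le_top : U a ≤ ⊤)).op (show Γ(stageMod D M φ, ⊤) from tj) =
        u.app (U a) (AModX.res _ (le_top : U a ≤ ⊤) one₀) := (AModX.app_res u (le_top : U a ≤ ⊤) one₀).symm
    rw [h1, hu a]
    refine (AModX.app_res _ _ one₀).trans (congrArg (AModX.res (limMod D c M) le_top) ?_)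
    exact InvX.one_ofSect (M := limMod D c M) t
  have hinv := PicClLib.isInvertible_pullback (D.map φ) hM
  rw [show t = toLim D c M φ ⊤ (show Γ(stageMod D M φ, ⊤) from tj) from hT.symm]
  refine Eq.trans ?_ (locus_iso ((Scheme.Modules.pullbackComp (c.π.app j) (D.map φ) ≪≫
    Scheme.Modules.pullbackCongr (π_eq D c φ)).app M) _).symm
  rw [← locus_pullElt hinv (c.π.app j) tj]
  exact congrArg locus (AModX.res_self (InvX.pullElt (c.π.app j) tj)).symm

/-- Composite pullbacks of sections of powers. -/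
theorem exists_pull_pull {X Y Z : Scheme.{u}} {L : Z.Modules} (hL : PicF.IsInvertible L) (g : Y ⟶ Z)
    (ψ : X ⟶ Y) (h : X ⟶ Z) (w : ψ ≫ g = h) {a : ℕ}
    (s : Γ(CohB1.tensorPow ((Scheme.Modules.pullback g).obj L) a, ⊤)) :
    ∃ b : Γ(CohB1.tensorPow ((Scheme.Modules.pullback h).obj L) a, ⊤), locus b = ψ ⁻¹ᵁ locus s := by
  obtain ⟨b, hb⟩ := exists_pull_section (PicClLib.isInvertible_pullback g hL) ψ s
  obtain ⟨b', hb'⟩ := exists_locus_cl (N := CohB1.tensorPow ((Scheme.Modules.pullback h).obj L) a)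
    (show PicF.cl (CohB1.tensorPow ((Scheme.Modules.pullback ψ).obj ((Scheme.Modules.pullback g).obj L)) a) = _ by
      rw [cl_tensorPow, cl_tensorPow]
      exact congrArg (· ^ a) (cl_eq_iff.2 ⟨(Scheme.Modules.pullbackComp ψ g ≪≫
        Scheme.Modules.pullbackCongr w).app L⟩)) b
  exact ⟨b', hb'.trans hb⟩

include hc in
theorem exists_isAmple_stage (L₀ : (D.obj i₀).Modules) (hL₀ : PicF.IsInvertible L₀)
    (h : CohB1.IsAmple ((Scheme.Modules.pullback (c.π.app i₀)).obj L₀)) :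
    ∃ (i : I) (φ : i ⟶ i₀), CohB1.IsAmple ((Scheme.Modules.pullback (D.map φ)).obj L₀) := by
  classical
  obtain ⟨hL, hcpt, hx⟩ := isAmple_iff.1 h
  haveI : CompactSpace ↥c.pt := hcpt
  have key : ∀ x : c.pt, ∃ (j : I) (φ : j ⟶ i₀) (a : ℕ) (_ : 0 < a)
      (s : Γ(CohB1.tensorPow ((Scheme.Modules.pullback (D.map φ)).obj L₀) a, ⊤)),
      x ∈ c.π.app j ⁻¹ᵁ locus s ∧ IsAffineOpen (locus s) := by
    intro x
    obtain ⟨a, ha, s, hxs, hs⟩ := hx x
    rw [genLocus_eq_locus] at hxs hs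
    have hLa := InvX.isInvertible_tensorPow hL₀ a
    obtain ⟨t, ht⟩ := exists_locus_cl (N := (Scheme.Modules.pullback (c.π.app i₀)).obj (CohB1.tensorPow L₀ a))
      (show PicF.cl (CohB1.tensorPow ((Scheme.Modules.pullback (c.π.app i₀)).obj L₀) a) =
          PicF.pullCl (c.π.app i₀) (PicF.cl (CohB1.tensorPow L₀ a)) by
        rw [cl_tensorPow, cl_tensorPow, pullCl_pow]; rfl) (InvX.one s)
    obtain ⟨j, φ, tj, htj⟩ := exists_stage_locus D c hc hLa t
    obtain ⟨sj, hsj⟩ := exists_locus_cl (N := CohB1.tensorPow ((Scheme.Modules.pullback (D.map φ)).obj L₀) a)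
      (show PicF.pullCl (D.map φ) (PicF.cl (CohB1.tensorPow L₀ a)) = _ by
        rw [cl_tensorPow, cl_tensorPow, pullCl_pow]; rfl) tj
    rw [← hsj, ht] at htj
    -- an affine model of the locus
    obtain ⟨i, V, hV, hVe⟩ := exists_isAffineOpen_preimage_eq D c hc (locus (InvX.one s)) hs
    let k := IsCofiltered.min j i
    let α : k ⟶ j := IsCofiltered.minToLeft j i
    let β : k ⟶ i := IsCofiltered.minToRight j i
    have hcU : IsCompact ((D.map α ⁻¹ᵁ locus sj : (D.obj k).Opens) : Set (D.obj k)) := by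
      refine (D.map α).isCompact_preimage ?_
      have := isCompact_genLocus (InvX.isInvertible_tensorPow (PicClLib.isInvertible_pullback (D.map φ) hL₀) a)
        (InvX.ofSect sj)
      rwa [genLocus_eq_locus, InvX.one_ofSect] at this
    obtain ⟨l, γ, hl⟩ := exists_map_preimage_eq_map_preimage D c hc (i := k) hcU
      ((hV.preimage (D.map β)).isCompact) (by
        rw [← Scheme.Hom.comp_preimage, ← Scheme.Hom.comp_preimage, c.w, c.w, htj, hVe])
    obtain ⟨b, hb⟩ := exists_pull_pull hL₀ (D.map φ) (D.map (γ ≫ α)) (D.map ((γ ≫ α) ≫ φ))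
      (D.map_comp _ _).symm sj
    refine ⟨l, (γ ≫ α) ≫ φ, a, ha, b, ?_, ?_⟩
    · rw [hb, ← Scheme.Hom.comp_preimage, c.w, htj]
      exact hxs
    · rw [hb, Functor.map_comp, Scheme.Hom.comp_preimage, hl]
      exact (hV.preimage _).preimage _
  choose j φ a ha s hmem haff using key
  obtain ⟨S, hS⟩ := isCompact_univ.elim_finite_subcover
    (fun x => ((c.π.app (j x) ⁻¹ᵁ locus (s x) : c.pt.Opens) : Set c.pt))
    (fun x => (c.π.app (j x) ⁻¹ᵁ locus (s x)).2) (fun x _ => Set.mem_iUnion.2 ⟨x, hmem x⟩)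
  -- a common stage
  obtain ⟨k, ρ, hρ⟩ : ∃ (k : I) (ρ : k ⟶ i₀), ∀ x ∈ S, ∃ α : k ⟶ j x, α ≫ φ x = ρ := by
    clear hS
    induction S using Finset.induction_on with
    | empty => exact ⟨i₀, 𝟙 _, by simp⟩
    | insert x T _ ih =>
      obtain ⟨k, ρ, hk⟩ := ih
      obtain ⟨k', α, β, e⟩ := IsCofiltered.cospan (φ x) ρ
      refine ⟨k', α ≫ φ x, fun y hy => ?_⟩
      rcases Finset.mem_insert.1 hy with rfl | hy
      · exact ⟨α, rfl⟩
      · obtain ⟨δ, hδ⟩ := hk y hy
        exact ⟨β ≫ δ, by rw [Category.assoc, hδ, e]⟩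
  choose α hα using hρ
  let V : (D.obj k).Opens := ⨆ x : S, D.map (α x.1 x.2) ⁻¹ᵁ locus (s x.1)
  have hV : c.π.app k ⁻¹ᵁ V = ⊤ := by
    refine top_le_iff.1 fun p _ => ?_
    obtain ⟨x, hxS, hp⟩ := Set.mem_iUnion₂.1 (hS (Set.mem_univ p))
    refine Opens.mem_iSup.2 ⟨⟨x, hxS⟩, ?_⟩
    show p ∈ c.π.app k ⁻¹ᵁ (D.map (α x hxS) ⁻¹ᵁ locus (s x))
    rw [← Scheme.Hom.comp_preimage, c.w]
    exact hp
  obtain ⟨l, γ, hl⟩ := exists_map_eq_top D c hc V hV
  refine ⟨l, γ ≫ ρ, isAmple_iff.2 ⟨PicClLib.isInvertible_pullback _ hL₀, inferInstance, fun p => ?_⟩⟩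
  obtain ⟨⟨x, hxS⟩, hp⟩ := Opens.mem_iSup.1 (show D.map γ p ∈ V from hl.ge (show p ∈ ⊤ from trivial))
  obtain ⟨b, hb⟩ := exists_pull_pull hL₀ (D.map (φ x)) (D.map (γ ≫ α x hxS)) (D.map (γ ≫ ρ))
    (by rw [← D.map_comp, Category.assoc, hα]) (s x)
  refine ⟨a x, ha x, InvX.ofSect b, ?_, ?_⟩
  · rw [genLocus_eq_locus, InvX.one_ofSect, hb, Functor.map_comp, Scheme.Hom.comp_preimage]
    exact hp
  · rw [genLocus_eq_locus, InvX.one_ofSect, hb]
    exact (haff x).preimage _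

end Groth.Agent.RGLib.Lim8
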