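import Groth.Agent.RGLib.Lim8Zero
import Groth.Agent.RGLib.Lim8Exact
import Groth.Agent.QCoh.PullStalk
import Groth.Agent.QCoh.Devissage
import Groth.Prelude.Def_FlatFun
import Groth.Prelude.Def_QuotSh
import Mathlib.AlgebraicGeometry.Sites.Fpqc

/-!
# Zero, surjective, injective, bijective maps of qcoh modules descend along flat covering families
-/

set_option autoImplicit false
set_option linter.style.haveILetI false

universe u

open CategoryTheory CategoryTheory.Limits AlgebraicGeometry Opposite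

namespace Groth.Agent.RGLib.GenPSheaf

open Groth.Agent.QCoh Groth.Agent.RGLib.Lim8

variable {S : Scheme.{u}}

/-- A family of flat morphisms over `S` that jointly covers. -/
theorem isSheaf_genPSp (P : Over S → Prop)
    (hstab : ∀ ⦃T T₀ : Over S⦄ (_ : T ⟶ T₀), P T₀ → P T)
    (hdesc : ∀ (T : Over S) {ι : Type (u + 1)} (Ti : ι → Over S) (g : ∀ i, Ti i ⟶ T),
      (∀ i, Flat (g i).left) → (∀ x : T.left, ∃ i, x ∈ Set.range (g i).left) → (∀ i, P (Ti i)) → P T) :
    Presheaf.IsSheaf (QuotSh.J Scheme.fpqcPrecoverage S) (FlatFun.genPSp S P) := by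
  rw [isSheaf_iff_isSheaf_of_type]
  intro T R hR x _
  have hPT : P T := by
    obtain ⟨R₀, hR₀, hle⟩ := (Precoverage.mem_toGrothendieck_iff_of_isStableUnderComposition).1
      ((GrothendieckTopology.mem_over_iff _ R).1 hR)
    obtain ⟨ι, W, w, rfl⟩ := Presieve.exists_eq_ofArrows R₀
    obtain ⟨hsurj, hflat⟩ := (Scheme.ofArrows_mem_precoverage_iff @Flat).1 hR₀.2
    refine hdesc T (fun i => Over.mk (w i ≫ T.hom)) (fun i => Over.homMk (w i) rfl) hflat hsurj fun i => ?_
    exact (FlatFun.genPSp_nonempty_iff_of_stable P hstab _).1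
      ⟨x (Over.homMk (w i) rfl) ((Sieve.overEquiv_iff R (w i)).1 (hle _ _ (Presieve.ofArrows.mk i)))⟩
  obtain ⟨t⟩ := FlatFun.genPSp_nonempty_of P hPT
  exact ⟨t, fun Z h hh => (FlatFun.genPSp_subsingleton S P _).allEq _ _,
    fun y _ => (FlatFun.genPSp_subsingleton S P _).allEq _ _⟩

section Descent

variable {Y : Scheme.{u}} {ι : Type*} {Yi : ι → Scheme.{u}} (g : ∀ i, Yi i ⟶ Y) (hg : ∀ i, Flat (g i))
  (hs : ∀ y : Y, ∃ i, y ∈ Set.range (g i))

include hg hs in
theorem isZero_of_pullback {M : Y.Modules} (hM : Coh.IsQCoh M)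
    (h : ∀ i, IsZero ((Scheme.Modules.pullback (g i)).obj M)) : IsZero M := by
  refine isZero_of_app_eq_zero hM fun U s => ?_
  refine eq_zero_of_locally U.1 s fun p hp => ?_
  have hsub : Subsingleton (M.presheaf.stalk p) := by
    obtain ⟨i, z, rfl⟩ := hs p
    letI : Algebra (Y.presheaf.stalk (g i z)) ((Yi i).presheaf.stalk z) := ((g i).stalkMap z).hom.toAlgebra
    haveI := hg i
    haveI : Module.Flat (Y.presheaf.stalk (g i z)) ((Yi i).presheaf.stalk z) := Flat.stalkMap (g i) z
    haveI : IsLocalHom (algebraMap (Y.presheaf.stalk (g i z)) ((Yi i).presheaf.stalk z)) :=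
      inferInstanceAs (IsLocalHom ((g i).stalkMap z).hom)
    haveI : Module.FaithfullyFlat (Y.presheaf.stalk (g i z)) ((Yi i).presheaf.stalk z) :=
      Module.FaithfullyFlat.of_flat_of_isLocalHom
    obtain ⟨e⟩ := nonempty_pullStalkEquiv (g i) hM z
    have hz : IsZero (((Scheme.Modules.pullback (g i)).obj M).presheaf.stalk z) :=
      (Scheme.Modules.toPresheaf (Yi i) ⋙ TopCat.Presheaf.stalkFunctor AddCommGrpCat.{u} z).map_isZero (h i)
    haveI : Subsingleton (((Scheme.Modules.pullback (g i)).obj M).presheaf.stalk z) :=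
      AddCommGrpCat.subsingleton_of_isZero hz
    haveI := e.symm.injective.subsingleton
    exact Module.FaithfullyFlat.lTensor_reflects_triviality (Y.presheaf.stalk (g i z))
      ((Yi i).presheaf.stalk z) _
  obtain ⟨V, hpV, i, j, e⟩ := M.presheaf.germ_eq p hp hp s 0 (hsub.elim _ _)
  exact ⟨V, i, hpV, e.trans (map_zero _)⟩

include hg hs in
theorem mono_of_pullback {M N : Y.Modules} (hM : Coh.IsQCoh M) (hN : Coh.IsQCoh N) (u : M ⟶ N)
    (h : ∀ i, Mono ((Scheme.Modules.pullback (g i)).map u)) : Mono u := by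
  refine Preadditive.mono_of_isZero_kernel _ (isZero_of_pullback g hg hs (isQCoh_kernel hM hN u) fun i => ?_)
  haveI := hg i
  haveI := preservesFiniteLimits_pullback (g i)
  exact (isZero_kernel_of_mono _).of_iso (PreservesKernel.iso (Scheme.Modules.pullback (g i)) u)

include hg hs in
theorem epi_of_pullback {M N : Y.Modules} (hM : Coh.IsQCoh M) (hN : Coh.IsQCoh N) (u : M ⟶ N)
    (h : ∀ i, Epi ((Scheme.Modules.pullback (g i)).map u)) : Epi u := by
  refine Preadditive.epi_of_isZero_cokernel _ (isZero_of_pullback g hg hs (isQCoh_cokernel hM hN u) fun i => ?_)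
  exact (IsZero.iff_id_eq_zero _).2
    (((Scheme.Modules.pullback (g i)).map_id _).symm.trans ((epi_pullback_map_iff (g i) u).1 (h i)))

include hg hs in
theorem eq_zero_of_pullback {M N : Y.Modules} (hM : Coh.IsQCoh M) (hN : Coh.IsQCoh N) (u : M ⟶ N)
    (h : ∀ i, (Scheme.Modules.pullback (g i)).map u = 0) : u = 0 := by
  haveI : Epi (kernel.ι u) := epi_of_pullback g hg hs (isQCoh_kernel hM hN u) hM (kernel.ι u) fun i => by
    haveI := hg i
    haveI := preservesFiniteLimits_pullback (g i)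
    have : IsIso (kernel.ι ((Scheme.Modules.pullback (g i)).map u)) :=
      KernelFork.IsLimit.isIso_ι (c := KernelFork.ofι _ (kernel.condition ((Scheme.Modules.pullback (g i)).map u))) (kernelIsKernel _) (h i)
    rw [← kernelComparison_comp_ι u (Scheme.Modules.pullback (g i))]
    exact epi_comp _ _
  rw [← cancel_epi (kernel.ι u), kernel.condition, comp_zero]

include hg hs in
theorem isIso_of_pullback {M N : Y.Modules} (hM : Coh.IsQCoh M) (hN : Coh.IsQCoh N) (u : M ⟶ N)
    (h : ∀ i, IsIso ((Scheme.Modules.pullback (g i)).map u)) : IsIso u := by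
  haveI := mono_of_pullback g hg hs hM hN u fun i => inferInstance
  haveI := epi_of_pullback g hg hs hM hN u fun i => inferInstance
  exact isIso_of_mono_of_epi u

end Descent

section BaseChange

variable {X : Scheme.{u}} (f : X ⟶ S)

/-- The base change of a morphism over `S`. -/
noncomputable def bcMap {T T₀ : Over S} (g : T ⟶ T₀) : pullback f T.hom ⟶ pullback f T₀.hom :=
  pullback.lift (pullback.fst _ _) (pullback.snd _ _ ≫ g.left)
    (by rw [pullback.condition, Category.assoc, Over.w g])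

theorem bcMap_fst {T T₀ : Over S} (g : T ⟶ T₀) :
    bcMap f g ≫ pullback.fst f T₀.hom = pullback.fst f T.hom :=
  pullback.lift_fst _ _ _

theorem bcMap_isPullback {T T₀ : Over S} (g : T ⟶ T₀) :
    IsPullback (bcMap f g) (pullback.snd f T.hom) (pullback.snd f T₀.hom) g.left := by
  refine IsPullback.of_right ?_ (pullback.lift_snd _ _ _) (IsPullback.of_hasPullback f T₀.hom)
  rw [bcMap_fst, Over.w g]
  exact IsPullback.of_hasPullback f T.hom

theorem flat_bcMap {T T₀ : Over S} (g : T ⟶ T₀) [Flat g.left] : Flat (bcMap f g) :=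
  MorphismProperty.of_isPullback (P := @Flat) (bcMap_isPullback f g).flip inferInstance

theorem surjective_bcMap {T : Over S} {ι : Type*} {Ti : ι → Over S} (g : ∀ i, Ti i ⟶ T)
    (hs : ∀ x : T.left, ∃ i, x ∈ Set.range (g i).left) (y : (pullback f T.hom : Scheme.{u})) :
    ∃ i, y ∈ Set.range (bcMap f (g i)) := by
  obtain ⟨i, t, ht⟩ := hs (pullback.snd f T.hom y)
  obtain ⟨z, hz, -⟩ := Scheme.exists_preimage_of_isPullback (bcMap_isPullback f (g i)) y t ht.symm
  exact ⟨i, z, hz⟩

variable {F G : X.Modules} [Coh.IsQCoh F] [Coh.IsQCoh G] (u : F ⟶ G)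

theorem map_map_mono_iff {X Y Z : Scheme.{u}} {g : Z ⟶ Y} {f : Y ⟶ X} {h : Z ⟶ X} (hgf : g ≫ f = h)
    {M N : X.Modules} (u : M ⟶ N) :
    Mono ((Scheme.Modules.pullback g).map ((Scheme.Modules.pullback f).map u)) ↔
      Mono ((Scheme.Modules.pullback h).map u) := by
  rw [pullback_map_map g f h hgf u, mono_comp_iff_of_isIso, mono_comp_iff_of_mono]

theorem isSheaf_zero : Presheaf.IsSheaf (QuotSh.J Scheme.fpqcPrecoverage S)
    (FlatFun.genPSp S (fun T => ((Scheme.Modules.pullback (pullback.fst f T.hom)).map u) = 0)) := by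
  refine isSheaf_genPSp _ (fun T T₀ g h => map_eq_zero_of_comp (bcMap_fst f g) h)
    fun T ι Ti g hg hs h => ?_
  exact eq_zero_of_pullback _ (fun i => flat_bcMap f (g i)) (surjective_bcMap f g hs)
    (isQCoh_pullback _ ‹_›) (isQCoh_pullback _ ‹_›) _ fun i => (map_map_eq_zero_iff (bcMap_fst f (g i)) u).2 (h i)

theorem isSheaf_surj : Presheaf.IsSheaf (QuotSh.J Scheme.fpqcPrecoverage S)
    (FlatFun.genPSp S (fun T => Epi ((Scheme.Modules.pullback (pullback.fst f T.hom)).map u))) := by
  refine isSheaf_genPSp _ (fun T T₀ g h => epi_of_comp (bcMap_fst f g) h) fun T ι Ti g hg hs h => ?_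
  exact epi_of_pullback _ (fun i => flat_bcMap f (g i)) (surjective_bcMap f g hs)
    (isQCoh_pullback _ ‹_›) (isQCoh_pullback _ ‹_›) _ fun i => (map_map_epi_iff (bcMap_fst f (g i)) u).2 (h i)

theorem isSheaf_iso : Presheaf.IsSheaf (QuotSh.J Scheme.fpqcPrecoverage S)
    (FlatFun.genPSp S (fun T => IsIso ((Scheme.Modules.pullback (pullback.fst f T.hom)).map u))) := by
  refine isSheaf_genPSp _ (fun T T₀ g h => isIso_of_comp (bcMap_fst f g) h) fun T ι Ti g hg hs h => ?_
  exact isIso_of_pullback _ (fun i => flat_bcMap f (g i)) (surjective_bcMap f g hs)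
    (isQCoh_pullback _ ‹_›) (isQCoh_pullback _ ‹_›) _ fun i => (map_map_isIso_iff (bcMap_fst f (g i)) u).2 (h i)

theorem mono_iff (T : Over S) {ι : Type u} (Ti : ι → Over S) (g : ∀ i, Ti i ⟶ T)
    (hcov : Presieve.ofArrows (fun i => (Ti i).left) (fun i => (g i).left) ∈ Scheme.fpqcPrecoverage T.left) :
    Mono ((Scheme.Modules.pullback (pullback.fst f T.hom)).map u) ↔
      ∀ i, Mono ((Scheme.Modules.pullback (pullback.fst f (Ti i).hom)).map u) := by
  obtain ⟨hs, hg⟩ := (Scheme.ofArrows_mem_precoverage_iff @Flat).1 hcov.2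
  haveI := hg
  refine ⟨fun h i => ?_, fun h => ?_⟩
  · haveI := flat_bcMap f (g i)
    haveI := preservesFiniteLimits_pullback (bcMap f (g i))
    exact (map_map_mono_iff (bcMap_fst f (g i)) u).1 inferInstance
  · exact mono_of_pullback _ (fun i => flat_bcMap f (g i)) (surjective_bcMap f g hs)
      (isQCoh_pullback _ ‹_›) (isQCoh_pullback _ ‹_›) _ fun i => (map_map_mono_iff (bcMap_fst f (g i)) u).2 (h i)

end BaseChange

end Groth.Agent.RGLib.GenPSheaf
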