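import Groth.Agent.RGLib.Lim8Zero
import Groth.Prelude.Def_FlatFun

/-!
# Limit preservation of the conditions zero, surjective, bijective on base changes
-/

set_option autoImplicit false

universe u

open CategoryTheory CategoryTheory.Limits AlgebraicGeometry Opposite

namespace Groth.Agent.RGLib.Lim8

variable {S X : Scheme.{u}}

/-- A stable condition holding from some stage on gives a limit preserving subfunctor of the point. -/
theorem isLimitPreserving_genPSp (P : Over S → Prop)
    (hstab : ∀ ⦃T T₀ : Over S⦄ (_ : T ⟶ T₀), P T₀ → P T)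
    (hlim : ∀ ⦃I : Type u⦄ [SmallCategory I] [IsCofiltered I] (D : I ⥤ Over S) (c : Cone D),
      IsLimit ((Over.forget S).mapCone c) → (∀ i, IsAffine (D.obj i).left) → P c.pt →
        ∃ i, P (D.obj i)) :
    AlgSp.IsLimitPreserving (FlatFun.genPSp S P) := by
  intro I _ _ D c hc hD _
  refine ⟨Types.FilteredColimit.isColimitOf _ _ (fun x => ?_) fun i j xi xj _ => ?_⟩
  · obtain ⟨i, hi⟩ := hlim D c hc hD
      ((FlatFun.genPSp_nonempty_iff_of_stable P hstab c.pt).1 ⟨x⟩)
    exact ⟨op i, ⟨⟨⟨D.obj i, 𝟙 _, hi⟩⟩⟩, FlatFun.genPSp_subsingleton S P _ |>.allEq _ _⟩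
  · obtain ⟨k, f, g, -⟩ := IsFilteredOrEmpty.cocone_objs i j
    exact ⟨k, f, g, (FlatFun.genPSp_subsingleton S P _).allEq _ _⟩

section BaseChange

variable (f : X ⟶ S) {I : Type u} [SmallCategory I] (D : I ⥤ Over S)

/-- The base change maps, in the convention `X ×_S T`. -/
noncomputable def bcMap {T T₀ : Over S} (g : T ⟶ T₀) : pullback f T.hom ⟶ pullback f T₀.hom :=
  pullback.lift (pullback.fst _ _) (pullback.snd _ _ ≫ g.left)
    (by rw [pullback.condition, Category.assoc, Over.w g])

theorem bcMap_fst {T T₀ : Over S} (g : T ⟶ T₀) :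
    bcMap f g ≫ pullback.fst f T₀.hom = pullback.fst f T.hom :=
  pullback.lift_fst _ _ _

theorem bcMap_snd {T T₀ : Over S} (g : T ⟶ T₀) :
    bcMap f g ≫ pullback.snd f T₀.hom = pullback.snd f T.hom ≫ g.left :=
  pullback.lift_snd _ _ _

theorem bcMap_comp {T₁ T₂ T₃ : Over S} (g : T₁ ⟶ T₂) (h : T₂ ⟶ T₃) :
    bcMap f (g ≫ h) = bcMap f g ≫ bcMap f h := by
  refine pullback.hom_ext ?_ ?_
  · rw [Category.assoc, bcMap_fst, bcMap_fst, bcMap_fst]
  · rw [Category.assoc, bcMap_snd, bcMap_snd, ← Category.assoc, bcMap_snd, Category.assoc, Over.comp_left]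

theorem bcMap_id (T : Over S) : bcMap f (𝟙 T) = 𝟙 _ := by
  refine pullback.hom_ext ?_ ?_
  · rw [bcMap_fst, Category.id_comp]
  · rw [bcMap_snd, Category.id_comp, Over.id_left, Category.comp_id]

theorem bcMap_isPullback {T T₀ : Over S} (g : T ⟶ T₀) :
    IsPullback (bcMap f g) (pullback.snd f T.hom) (pullback.snd f T₀.hom) g.left := by
  refine IsPullback.of_right ?_ (pullback.lift_snd _ _ _) (IsPullback.of_hasPullback f T₀.hom).flip.flip
  rw [bcMap_fst, Over.w g]
  exact IsPullback.of_hasPullback f T.hom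

/-- The base changes of `X` to the stages. -/
noncomputable def bc : I ⥤ Scheme.{u} where
  obj i := pullback f (D.obj i).hom
  map φ := bcMap f (D.map φ)
  map_id i := by rw [D.map_id, bcMap_id]
  map_comp φ ψ := by rw [D.map_comp, bcMap_comp]

/-- The projections from the base changes to the stages. -/
noncomputable def bcSnd : bc f D ⟶ D ⋙ Over.forget S where
  app i := pullback.snd f (D.obj i).hom
  naturality i j φ := pullback.lift_snd _ _ _

/-- The base change of `X` to the limit, as a cone. -/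
noncomputable def bcCone (c : Cone D) : Cone (bc f D) where
  pt := pullback f c.pt.hom
  π :=
    { app := fun i => bcMap f (c.π.app i)
      naturality := fun i j φ => by
        refine (Category.id_comp _).trans ?_
        rw [← c.w φ]
        exact bcMap_comp f _ _ }

theorem nonempty_isLimit_bcCone [IsCofiltered I] (c : Cone D)
    (hc : IsLimit ((Over.forget S).mapCone c)) : Nonempty (IsLimit (bcCone f D c)) := by
  have := IsCofiltered.isConnected I
  exact ⟨isLimitOfIsPullbackOfIsConnected (bcSnd f D) _ ((Over.forget S).mapCone c)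
    { hom := pullback.snd f c.pt.hom, w := fun i => (pullback.lift_snd _ _ _).symm }
    (fun i => bcMap_isPullback f (c.π.app i)) hc⟩

theorem isAffineHom_bc (hD : ∀ i, IsAffine (D.obj i).left) (i j : I) (φ : i ⟶ j) :
    IsAffineHom ((bc f D).map φ) := by
  have := hD i
  have := hD j
  exact MorphismProperty.of_isPullback (bcMap_isPullback f (D.map φ)).flip
    (isAffineHom_of_isAffine (D.map φ).left)

theorem compactSpace_bc [QuasiCompact f] (hD : ∀ i, IsAffine (D.obj i).left) (i : I) :
    CompactSpace ↥((bc f D).obj i) := by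
  have := hD i
  exact inferInstanceAs (CompactSpace ↥(pullback f (D.obj i).hom))

end BaseChange

section Functors

variable (f : X ⟶ S) [QuasiCompact f] {F G : X.Modules} [Coh.IsQCoh F] [Coh.IsQCoh G]

theorem isLimitPreserving_surj (hG : CohB1.IsFT G) (u : F ⟶ G) :
    AlgSp.IsLimitPreserving
      (FlatFun.genPSp S (fun T => Epi ((Scheme.Modules.pullback (pullback.fst f T.hom)).map u))) := by
  refine isLimitPreserving_genPSp _ (fun T T₀ g h => epi_of_comp (bcMap_fst f g) h) ?_
  intro I _ _ D c hc hD h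
  obtain ⟨hbc⟩ := nonempty_isLimit_bcCone f D c hc
  have := isAffineHom_bc f D hD
  obtain ⟨i₀⟩ := IsCofiltered.nonempty (C := I)
  have := compactSpace_bc f D hD i₀
  let p := pullback.fst f (D.obj i₀).hom
  have hF : Coh.IsQCoh F := inferInstance
  have hGq : Coh.IsQCoh G := inferInstance
  obtain ⟨j, φ, hj⟩ := (ev_epi (bc f D) (bcCone f D c) hbc (QCoh.isQCoh_pullback p hF)
    (QCoh.isQCoh_pullback p hGq) (FittX.isFT_pullback p hGq hG) _
    ((map_map_epi_iff (bcMap_fst f (c.π.app i₀)) u).2 h)).exists_stage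
  exact ⟨j, (map_map_epi_iff (bcMap_fst f (D.map φ)) u).1 hj⟩

theorem isLimitPreserving_zero (hFt : CohB1.IsFT F) (u : F ⟶ G) :
    AlgSp.IsLimitPreserving
      (FlatFun.genPSp S (fun T => ((Scheme.Modules.pullback (pullback.fst f T.hom)).map u) = 0)) := by
  refine isLimitPreserving_genPSp _ (fun T T₀ g h => map_eq_zero_of_comp (bcMap_fst f g) h) ?_
  intro I _ _ D c hc hD h
  obtain ⟨hbc⟩ := nonempty_isLimit_bcCone f D c hc
  have := isAffineHom_bc f D hD
  obtain ⟨i₀⟩ := IsCofiltered.nonempty (C := I)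
  have := compactSpace_bc f D hD i₀
  let p := pullback.fst f (D.obj i₀).hom
  have hF : Coh.IsQCoh F := inferInstance
  have hGq : Coh.IsQCoh G := inferInstance
  obtain ⟨j, φ, hj⟩ := (ev_zero (bc f D) (bcCone f D c) hbc (QCoh.isQCoh_pullback p hF)
    (FittX.isFT_pullback p hF hFt) (QCoh.isQCoh_pullback p hGq) _
    ((map_map_eq_zero_iff (bcMap_fst f (c.π.app i₀)) u).2 h)).exists_stage
  exact ⟨j, (map_map_eq_zero_iff (bcMap_fst f (D.map φ)) u).1 hj⟩

theorem isLimitPreserving_iso (hFt : CohB1.IsFT F) (hG : CohB1.IsFP G) (u : F ⟶ G) :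
    AlgSp.IsLimitPreserving
      (FlatFun.genPSp S (fun T => IsIso ((Scheme.Modules.pullback (pullback.fst f T.hom)).map u))) := by
  refine isLimitPreserving_genPSp _ (fun T T₀ g h => isIso_of_comp (bcMap_fst f g) h) ?_
  intro I _ _ D c hc hD h
  obtain ⟨hbc⟩ := nonempty_isLimit_bcCone f D c hc
  have := isAffineHom_bc f D hD
  obtain ⟨i₀⟩ := IsCofiltered.nonempty (C := I)
  have := compactSpace_bc f D hD i₀
  let p := pullback.fst f (D.obj i₀).hom
  have hF : Coh.IsQCoh F := inferInstance
  have hGq : Coh.IsQCoh G := inferInstance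
  obtain ⟨j, φ, hj⟩ := (ev_isIso (bc f D) (bcCone f D c) hbc (QCoh.isQCoh_pullback p hF)
    (FittX.isFT_pullback p hF hFt) (QCoh.isQCoh_pullback p hGq) (isFP_pullback p hGq hG) _
    ((map_map_isIso_iff (bcMap_fst f (c.π.app i₀)) u).2 h)).exists_stage
  exact ⟨j, (map_map_isIso_iff (bcMap_fst f (D.map φ)) u).1 hj⟩

end Functors

end Groth.Agent.RGLib.Lim8
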