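import Mathlib
import Groth.Agent.EGA41Lib.IntDim

/-!
# Kummer algebras `A[T_i]/(T_i^{n_i} - a_i)`
-/

set_option autoImplicit false
universe u v

open IsLocalRing MvPolynomial

namespace Groth.Agent.RGLib.Kummer

/-- The Kummer algebra. -/
abbrev K (A : Type u) [CommRing A] {ι : Type v} (a : ι → A) (n : ι → ℕ) : Type (max v u) :=
  MvPolynomial ι A ⧸ Ideal.span (Set.range fun i => (X i : MvPolynomial ι A) ^ n i - C (a i))

variable {A : Type u} [CommRing A] {ι : Type v} (a : ι → A) (n : ι → ℕ)

/-- The root. -/
noncomputable abbrev T (i : ι) : K A a n := Ideal.Quotient.mk _ (X i)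

theorem T_pow (i : ι) : T a n i ^ n i = algebraMap A (K A a n) (a i) := by
  rw [← map_pow, IsScalarTower.algebraMap_apply A (MvPolynomial ι A) (K A a n)]
  exact Ideal.Quotient.eq.2 (Ideal.subset_span ⟨i, rfl⟩)

theorem adjoin_T : Algebra.adjoin A (Set.range (T a n)) = ⊤ := by
  have : Set.range (T a n) = Ideal.Quotient.mkₐ A _ '' Set.range (X : ι → MvPolynomial ι A) :=
    Set.range_comp _ _
  rw [this, ← AlgHom.map_adjoin, MvPolynomial.adjoin_range_X, Algebra.map_top]
  exact (AlgHom.range_eq_top _).2 (Ideal.Quotient.mkₐ_surjective A _)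

/-- The universal property. -/
theorem existsUnique_hom {B : Type*} [CommRing B] [Algebra A B] (t : ι → B)
    (ht : ∀ i, t i ^ n i = algebraMap A B (a i)) :
    ∃! g : K A a n →ₐ[A] B, ∀ i, g (T a n i) = t i := by
  refine ⟨Ideal.Quotient.liftₐ _ (aeval t) ?_, fun i => ?_, fun g hg => ?_⟩
  · intro p hp
    refine RingHom.mem_ker.1 ((Ideal.span_le (I := RingHom.ker (aeval (R := A) t).toRingHom)).2 ?_ hp)
    rintro _ ⟨i, rfl⟩
    simp [ht i]
  · show aeval t (X i) = t i
    simp
  · apply Ideal.Quotient.algHom_ext
    apply MvPolynomial.algHom_ext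
    intro i
    refine (hg i).trans ?_
    show t i = aeval t (X i)
    simp

theorem hom_ext {B : Type*} [CommRing B] [Algebra A B] {g g' : K A a n →ₐ[A] B}
    (h : ∀ i, g (T a n i) = g' (T a n i)) : g = g' :=
  (existsUnique_hom a n (fun i => g' (T a n i)) fun i => by rw [← map_pow, T_pow, AlgHom.commutes]).unique h
    fun _ => rfl

variable [Finite ι] (hn : ∀ i, 1 ≤ n i)

include hn in
theorem finite : Module.Finite A (K A a n) := by
  have hint : ∀ x ∈ Set.range (T a n), IsIntegral A x := by
    rintro _ ⟨i, rfl⟩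
    refine IsIntegral.of_pow (hn i) ?_
    rw [T_pow]
    exact isIntegral_algebraMap
  have := fg_adjoin_of_finite (Set.finite_range (T a n)) hint
  rw [adjoin_T] at this
  exact Module.finite_def.2 (by simpa using this)

include hn in
theorem exists_roots : ∃ (B : Type u) (_ : CommRing B) (_ : Algebra A B) (t : ι → B),
    Function.Injective (algebraMap A B) ∧ ∀ i, t i ^ n i = algebraMap A B (a i) := by
  classical
  haveI := Fintype.ofFinite ι
  suffices h : ∀ s : Finset ι, ∃ (B : Type u) (_ : CommRing B) (_ : Algebra A B) (t : ι → B),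
      Function.Injective (algebraMap A B) ∧ ∀ i ∈ s, t i ^ n i = algebraMap A B (a i) by
    obtain ⟨B, i1, i2, t, h1, h2⟩ := h Finset.univ
    exact ⟨B, i1, i2, t, h1, fun i => h2 i (Finset.mem_univ i)⟩
  intro s
  induction s using Finset.induction with
  | empty => exact ⟨A, inferInstance, Algebra.id A, fun _ => 0, Function.injective_id, by simp⟩
  | insert i s his ih =>
    obtain ⟨B, _, _, t, hinj, ht⟩ := ih
    let p : Polynomial B := Polynomial.X ^ n i - Polynomial.C (algebraMap A B (a i))
    have hp : p.Monic := Polynomial.monic_X_pow_sub_C _ (by have := hn i; omega)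
    have hof : Function.Injective (AdjoinRoot.of p) := by
      rcases subsingleton_or_nontrivial B with hB | hB
      · exact Function.injective_of_subsingleton _
      refine (injective_iff_map_eq_zero _).2 fun b hb => ?_
      rw [← AdjoinRoot.mk_C, AdjoinRoot.mk_eq_zero] at hb
      have h0 := (Polynomial.modByMonic_eq_zero_iff_dvd hp).2 hb
      rw [(Polynomial.modByMonic_eq_self_iff hp).2 ?_] at h0
      · exact Polynomial.C_eq_zero.1 h0
      · refine lt_of_le_of_lt Polynomial.degree_C_le ?_
        rw [Polynomial.degree_X_pow_sub_C (hn i)]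
        exact_mod_cast hn i
    refine ⟨AdjoinRoot p, inferInstance, ((AdjoinRoot.of p).comp (algebraMap A B)).toAlgebra,
      Function.update (fun j => AdjoinRoot.of p (t j)) i (AdjoinRoot.root p), hof.comp hinj, fun j hj => ?_⟩
    rcases Finset.mem_insert.1 hj with rfl | hj
    · rw [Function.update_self]
      have := AdjoinRoot.eval₂_root p
      rw [Polynomial.eval₂_sub, Polynomial.eval₂_X_pow, Polynomial.eval₂_C, sub_eq_zero] at this
      exact this
    · rw [Function.update_of_ne (fun e : j = i => his (by rwa [← e])), ← map_pow, ht j hj]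
      rfl

include hn in
theorem injective : Function.Injective (algebraMap A (K A a n)) := by
  obtain ⟨B, _, _, t, hinj, ht⟩ := exists_roots a n hn
  obtain ⟨g, -⟩ := (existsUnique_hom a n t ht).exists
  refine fun x y h => hinj ?_
  rw [← g.commutes x, ← g.commutes y, h]

theorem root_unique {R : Type*} [CommRing R] {m : ℕ} (hm1 : 1 ≤ m) (hm : IsUnit ((m : ℕ) : R)) {c x y : R} (hc : IsUnit c)
    (hx : x ^ m = c) (hy : y ^ m = c) (h : IsNilpotent (x - y)) : x = y := by
  have hP : Polynomial.aeval x (Polynomial.X ^ m - Polynomial.C c) = 0 := by simp [hx]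
  have hd : IsUnit (Polynomial.aeval x (Polynomial.derivative (Polynomial.X ^ m - Polynomial.C c))) := by
    rw [Polynomial.derivative_sub, Polynomial.derivative_X_pow, Polynomial.derivative_C, sub_zero, map_mul,
      Polynomial.aeval_C, map_pow, Polynomial.aeval_X, Algebra.algebraMap_self, RingHom.id_apply]
    exact hm.mul (((isUnit_pow_iff (by omega)).1 (hx ▸ hc)).pow _)
  exact (Polynomial.existsUnique_nilpotent_sub_and_aeval_eq_zero (hP ▸ IsNilpotent.zero) hd).unique
    ⟨by simp, hP⟩ ⟨h, by simp [hy]⟩

/-- The ideal generated by the roots and `m`. -/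
noncomputable abbrev J (m : Ideal A) : Ideal (K A a n) :=
  Ideal.span (Set.range (T a n)) ⊔ m.map (algebraMap A (K A a n))

variable [IsLocalRing A] (ha : ∀ i, a i ∈ maximalIdeal A)

include hn ha in
theorem maximalIdeal_unique :
    (J a n (maximalIdeal A)).IsMaximal ∧ ∀ M : Ideal (K A a n), M.IsMaximal → M = J a n (maximalIdeal A) := by
  letI := (residue A).toAlgebra
  obtain ⟨g, hg⟩ := (existsUnique_hom a n (B := ResidueField A) (fun _ => 0) fun i => by
    rw [zero_pow (by have := hn i; omega)]
    exact ((residue_eq_zero_iff _).2 (ha i)).symm).exists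
  have hJ : J a n (maximalIdeal A) = RingHom.ker g := by
    refine le_antisymm (sup_le (Ideal.span_le.2 ?_) (Ideal.map_le_iff_le_comap.2 ?_)) fun z hz => ?_
    · rintro _ ⟨i, rfl⟩
      exact hg i
    · intro m hm
      show g (algebraMap A _ m) = 0
      rw [g.commutes]
      exact (residue_eq_zero_iff _).2 hm
    · have hz' : z ∈ Algebra.adjoin A (Set.range (T a n)) := by rw [adjoin_T]; trivial
      have key : ∃ c : A, z - algebraMap A _ c ∈ J a n (maximalIdeal A) := by
        clear hz
        induction hz' using Algebra.adjoin_induction with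
        | mem x hx => exact ⟨0, by simpa using Ideal.mem_sup_left (Ideal.subset_span hx)⟩
        | algebraMap r => exact ⟨r, by simp⟩
        | add x y _ _ hx hy =>
          obtain ⟨c, hc⟩ := hx; obtain ⟨d, hd⟩ := hy
          exact ⟨c + d, by rw [map_add, add_sub_add_comm]; exact add_mem hc hd⟩
        | mul x y _ _ hx hy =>
          obtain ⟨c, hc⟩ := hx; obtain ⟨d, hd⟩ := hy
          refine ⟨c * d, ?_⟩
          have : x * y - algebraMap A _ (c * d) =
              (x - algebraMap A _ c) * y + algebraMap A _ c * (y - algebraMap A _ d) := by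
            rw [map_mul]; ring
          rw [this]
          exact add_mem (Ideal.mul_mem_right _ _ hc) (Ideal.mul_mem_left _ _ hd)
      obtain ⟨c, hc⟩ := key
      have hc' : g (z - algebraMap A _ c) = 0 := by
        have hle : J a n (maximalIdeal A) ≤ RingHom.ker g := sup_le
          (Ideal.span_le.2 (by rintro _ ⟨i, rfl⟩; exact hg i))
          (Ideal.map_le_iff_le_comap.2 fun m hm => by
            show g (algebraMap A _ m) = 0
            rw [g.commutes]; exact (residue_eq_zero_iff _).2 hm)
        exact hle hc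
      rw [map_sub, RingHom.mem_ker.1 hz, zero_sub, neg_eq_zero, g.commutes] at hc'
      rw [← sub_add_cancel z (algebraMap A _ c)]
      exact add_mem hc (Ideal.mem_sup_right (Ideal.mem_map_of_mem _ ((residue_eq_zero_iff _).1 hc')))
  have hmax : (RingHom.ker g).IsMaximal := RingHom.ker_isMaximal_of_surjective g fun y => by
    obtain ⟨x, rfl⟩ := residue_surjective y
    exact ⟨algebraMap A _ x, g.commutes x⟩
  refine ⟨hJ ▸ hmax, fun M hM => ((hJ ▸ hmax).eq_of_le hM.ne_top (sup_le (Ideal.span_le.2 ?_) ?_)).symm⟩
  all_goals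
    haveI := finite a n hn
    have hcomap : M.comap (algebraMap A (K A a n)) = maximalIdeal A :=
      eq_maximalIdeal (Ideal.isMaximal_comap_of_isIntegral_of_isMaximal M)
  · rintro _ ⟨i, rfl⟩
    refine hM.isPrime.mem_of_pow_mem (n i) ?_
    rw [T_pow]
    exact Ideal.mem_comap.1 (hcomap ▸ ha i)
  · exact Ideal.map_le_iff_le_comap.2 hcomap.ge

include hn ha in
theorem isLocalRing : IsLocalRing (K A a n) :=
  IsLocalRing.of_unique_max_ideal ⟨_, (maximalIdeal_unique a n hn ha).1, (maximalIdeal_unique a n hn ha).2⟩

include hn ha in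
theorem isRegularLocalRing [IsRegularLocalRing A]
    (hli : LinearIndependent (ResidueField A) fun i => (maximalIdeal A).toCotangent ⟨a i, ha i⟩) :
    IsRegularLocalRing (K A a n) := by
  classical
  haveI := Fintype.ofFinite ι
  haveI := finite a n hn
  haveI := isLocalRing a n hn ha
  haveI : IsNoetherianRing (K A a n) := IsNoetherianRing.of_finite A _
  refine IsRegularLocalRing.of_spanFinrank_maximalIdeal_le _ ?_
  rw [Groth.Agent.EGA41Lib.ringKrullDim_eq_of_integral (injective a n hn),
    ← (IsRegularLocalRing.iff_finrank_cotangentSpace A).1 inferInstance]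
  obtain ⟨W, hW⟩ := Submodule.exists_isCompl
    (Submodule.span (ResidueField A) (Set.range fun i => (maximalIdeal A).toCotangent ⟨a i, ha i⟩))
  let b := Module.finBasis (ResidueField A) W
  choose y hy using fun j => (maximalIdeal A).toCotangent_surjective (b j : CotangentSpace A)
  let s : Set (maximalIdeal A) := Set.range (fun i => (⟨a i, ha i⟩ : maximalIdeal A)) ∪ Set.range y
  have hs : Submodule.span A (Subtype.val '' s) = maximalIdeal A := by
    have h1 : Submodule.span A s = ⊤ := by
      refine IsLocalRing.CotangentSpace.span_image_eq_top_iff.1 ?_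
      rw [Set.image_union, ← Set.range_comp, ← Set.range_comp, Submodule.span_union]
      refine eq_top_iff.2 (hW.sup_eq_top.symm.le.trans (sup_le_sup le_rfl ?_))
      have : Set.range ((maximalIdeal A).toCotangent ∘ y) = W.subtype '' Set.range b := by
        rw [← Set.range_comp]
        exact congrArg Set.range (funext hy)
      rw [this, ← Submodule.map_span, b.span_eq, Submodule.map_top, Submodule.range_subtype]
    rw [show (Subtype.val : maximalIdeal A → A) = (maximalIdeal A).subtype from rfl, ← Submodule.map_span, h1,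
      Submodule.map_top, Submodule.range_subtype]
  have hmax : maximalIdeal (K A a n) = Ideal.span
      (Set.range (T a n) ∪ Set.range (fun j => algebraMap A (K A a n) (y j : A))) := by
    rw [← (maximalIdeal_unique a n hn ha).2 _ (maximalIdeal.isMaximal _) |>.symm]
    show Ideal.span (Set.range (T a n)) ⊔ (maximalIdeal A).map (algebraMap A (K A a n)) = _
    conv_lhs => arg 2; arg 2; rw [← hs]
    refine le_antisymm (sup_le (Ideal.span_mono Set.subset_union_left) ?_) (Ideal.span_le.2 ?_)
    · show (Ideal.span _).map _ ≤ _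
      rw [Ideal.map_span, Ideal.span_le]
      rintro _ ⟨_, ⟨z, hz, rfl⟩, rfl⟩
      rcases hz with ⟨i, rfl⟩ | ⟨j, rfl⟩
      · show algebraMap A _ (a i) ∈ _
        rw [← T_pow, SetLike.mem_coe]
        exact Ideal.pow_mem_of_mem _ (Ideal.subset_span (Set.mem_union_left _ (Set.mem_range_self i))) _ (hn i)
      · exact Ideal.subset_span (Set.mem_union_right _ ⟨j, rfl⟩)
    · rintro _ (⟨i, rfl⟩ | ⟨j, rfl⟩)
      · exact Ideal.mem_sup_left (Ideal.subset_span ⟨i, rfl⟩)
      · refine Ideal.mem_sup_right (Ideal.mem_map_of_mem _ ?_)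
        exact Submodule.subset_span (R := A) (s := Subtype.val '' s) ⟨y j, Set.mem_union_right _ ⟨j, rfl⟩, rfl⟩
  have hcard : (maximalIdeal (K A a n)).spanFinrank ≤ Module.finrank (ResidueField A) (CotangentSpace A) := by
    rw [hmax, ← Submodule.finrank_add_eq_of_isCompl hW, finrank_span_eq_card hli]
    refine (Submodule.spanFinrank_span_le_ncard_of_finite ((Set.finite_range _).union (Set.finite_range _))).trans
      ((Set.ncard_union_le _ _).trans (add_le_add ?_ ?_))
    · exact (Finite.card_range_le _).trans_eq Nat.card_eq_fintype_card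
    · exact (Finite.card_range_le _).trans_eq (Nat.card_eq_fintype_card.trans (Fintype.card_fin _))
  exact_mod_cast hcard

omit [IsLocalRing A] [Finite ι] in
theorem formallyEtale_away [Finite ι] (hn : ∀ i, 1 ≤ n i) (F : A) (hF : ∀ i, a i ∣ F)
    (hu : ∀ i, IsUnit ((n i : ℕ) : A))
    (AF : Type u) [CommRing AF] [Algebra A AF] [IsLocalization.Away F AF]
    (BF : Type (max v u)) [CommRing BF] [Algebra (K A a n) BF] [Algebra A BF] [IsScalarTower A (K A a n) BF]
    [IsLocalization.Away (algebraMap A (K A a n) F) BF] [Algebra AF BF] [IsScalarTower A AF BF] :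
    Algebra.FormallyEtale AF BF := by
  rw [Algebra.FormallyEtale.iff_comp_bijective]
  intro Q _ _ I hI
  letI : Algebra A Q := ((algebraMap AF Q).comp (algebraMap A AF)).toAlgebra
  haveI : IsScalarTower A AF Q := .of_algebraMap_eq fun _ => rfl
  have huF : ∀ i, IsUnit (algebraMap A Q (a i)) := fun i => by
    refine isUnit_of_dvd_unit (map_dvd _ (hF i)) ?_
    exact (IsLocalization.Away.algebraMap_isUnit (S := AF) F).map (algebraMap AF Q)
  have hder : ∀ (i : ι) (r : Q), IsUnit (r ^ n i) →
      IsUnit (Polynomial.aeval r (Polynomial.derivative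
        (Polynomial.X ^ n i - Polynomial.C (algebraMap A Q (a i))))) := fun i r hr => by
    rw [Polynomial.derivative_sub, Polynomial.derivative_X_pow, Polynomial.derivative_C, sub_zero, map_mul,
      Polynomial.aeval_C, map_pow, Polynomial.aeval_X, Algebra.algebraMap_self, RingHom.id_apply]
    refine IsUnit.mul ?_ ?_
    · have := (hu i).map (algebraMap A Q)
      rwa [map_natCast] at this
    · exact ((isUnit_pow_iff (by have := hn i; omega)).1 hr).pow _
  have hnil : ∀ z ∈ I, IsNilpotent z := fun z hz => ⟨2, by
    have : z ^ 2 ∈ (I ^ 2 : Ideal Q) := Ideal.pow_mem_pow hz 2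
    rwa [hI, Ideal.mem_bot] at this⟩
  have hroot : ∀ (i : ι) (r₀ : Q), Ideal.Quotient.mk I r₀ ^ n i = Ideal.Quotient.mk I (algebraMap A Q (a i)) →
      ∃! r, IsNilpotent (r₀ - r) ∧ r ^ n i = algebraMap A Q (a i) := fun i r₀ hr₀ => by
    have h0 : IsNilpotent (r₀ ^ n i - algebraMap A Q (a i)) :=
      hnil _ (Ideal.Quotient.eq.1 ((map_pow (Ideal.Quotient.mk I) r₀ (n i)).trans hr₀))
    have hunit : IsUnit (r₀ ^ n i) := by
      have := h0.isUnit_add_left_of_commute (huF i) (Commute.all _ _)
      simpa using this
    have h1 : Polynomial.aeval r₀ (Polynomial.X ^ n i - Polynomial.C (algebraMap A Q (a i))) =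
        r₀ ^ n i - algebraMap A Q (a i) := by simp
    have := Polynomial.existsUnique_nilpotent_sub_and_aeval_eq_zero
      (h1 ▸ h0 : IsNilpotent (Polynomial.aeval r₀ (Polynomial.X ^ n i - Polynomial.C (algebraMap A Q (a i)))))
      (hder i r₀ hunit)
    simpa [sub_eq_zero] using this
  refine ⟨fun g g' hgg => ?_, fun h => ?_⟩
  · have hB : (g.restrictScalars A).comp (IsScalarTower.toAlgHom A (K A a n) BF) =
        (g'.restrictScalars A).comp (IsScalarTower.toAlgHom A (K A a n) BF) := hom_ext a n fun i => by
      have hp : ∀ k : BF →ₐ[AF] Q, k (algebraMap _ BF (T a n i)) ^ n i = algebraMap A Q (a i) := fun k => by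
        rw [← map_pow, ← map_pow, T_pow, ← IsScalarTower.algebraMap_apply]
        exact (k.restrictScalars A).commutes _
      obtain ⟨r, -, hr⟩ := hroot i (g (algebraMap _ BF (T a n i)))
        (by rw [← map_pow, hp])
      refine (hr _ ⟨by simp, hp g⟩).trans (hr _ ⟨hnil _ (Ideal.Quotient.eq.1 ?_), hp g'⟩).symm
      exact DFunLike.congr_fun hgg _
    refine AlgHom.coe_ringHom_injective ?_
    exact IsLocalization.ringHom_ext (Submonoid.powers (algebraMap A (K A a n) F))
      (congrArg AlgHom.toRingHom hB)
  · choose r₀ hr₀ using fun i => Ideal.Quotient.mk_surjective (h (algebraMap _ BF (T a n i)))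
    choose r hr using fun i => (hroot i (r₀ i) (by
      rw [hr₀, ← map_pow, ← map_pow, T_pow, ← IsScalarTower.algebraMap_apply]
      exact (h.restrictScalars A).commutes _)).exists
    obtain ⟨g, hg⟩ := (existsUnique_hom a n r fun i => (hr i).2).exists
    have hgu : IsUnit (g.toRingHom (algebraMap A (K A a n) F)) := by
      show IsUnit (g (algebraMap A (K A a n) F))
      rw [g.commutes]
      exact (IsLocalization.Away.algebraMap_isUnit (S := AF) F).map (algebraMap AF Q)
    let G : BF →+* Q := IsLocalization.Away.lift (algebraMap A (K A a n) F) hgu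
    have hG : ∀ z, G (algebraMap _ BF z) = g z := IsLocalization.Away.lift_eq _ hgu
    have hGA : G.comp (algebraMap AF BF) = algebraMap AF Q := by
      refine IsLocalization.ringHom_ext (Submonoid.powers F) (RingHom.ext fun z => ?_)
      show G (algebraMap AF BF (algebraMap A AF z)) = algebraMap A Q z
      rw [← IsScalarTower.algebraMap_apply, IsScalarTower.algebraMap_apply A (K A a n) BF, hG, g.commutes]
    refine ⟨⟨G, fun z => RingHom.congr_fun hGA z⟩, ?_⟩
    refine AlgHom.coe_ringHom_injective (IsLocalization.ringHom_ext (Submonoid.powers (algebraMap A (K A a n) F)) ?_)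
    have hB : ((Ideal.Quotient.mkₐ A I).comp g) =
        (h.restrictScalars A).comp (IsScalarTower.toAlgHom A (K A a n) BF) := hom_ext a n fun i => by
      show Ideal.Quotient.mk I (g (T a n i)) = h (algebraMap _ BF (T a n i))
      rw [hg, ← hr₀]
      refine root_unique (hn i) ?_ (((huF i).map (Ideal.Quotient.mk I))) ?_ ?_ ?_
      · have := (hu i).map ((Ideal.Quotient.mk I).comp (algebraMap A Q))
        rwa [map_natCast] at this
      · rw [← map_pow, (hr i).2]
      · rw [hr₀, ← map_pow, ← map_pow, T_pow, ← IsScalarTower.algebraMap_apply]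
        exact (h.restrictScalars A).commutes _
      · rw [← map_sub]
        exact (IsNilpotent.map (by simpa using (hr i).1.neg) (Ideal.Quotient.mk I))
    refine RingHom.ext fun z => ?_
    exact (congrArg (Ideal.Quotient.mk I) (hG z)).trans (DFunLike.congr_fun hB z)

end Groth.Agent.RGLib.Kummer
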