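import Groth.Agent.RGLib.Kummer
import Groth.Agent.WEtLib.Stalks
import Groth.Prelude.Def_EtRam

/-!
# Kummer extensions of a discrete valuation ring are tame
-/

set_option autoImplicit false
universe u v

open IsLocalRing

namespace Groth.Agent.RGLib.KummerTame

theorem exists_mul_eq_kummer {κ : Type u} [Field κ] {ι : Type} [Finite ι] (a : ι → κ) (n : ι → ℕ)
    (hn : ∀ i, 1 ≤ n i) (hu : ∀ i, IsUnit ((n i : ℕ) : κ)) (ha : ∀ i, a i ≠ 0) (z : Kummer.K κ a n) :
    ∃ r, z = z * z * r := by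
  haveI := Kummer.finite a n hn
  haveI : IsLocalization.Away (1 : κ) κ :=
    IsLocalization.away_of_isUnit_of_bijective κ isUnit_one Function.bijective_id
  haveI : IsLocalization.Away (algebraMap κ (Kummer.K κ a n) 1) (Kummer.K κ a n) :=
    IsLocalization.away_of_isUnit_of_bijective _ (by rw [map_one]; exact isUnit_one) Function.bijective_id
  haveI : Algebra.Etale κ (Kummer.K κ a n) :=
    ⟨Kummer.formallyEtale_away a n hn 1 (fun i => (ha i).isUnit.dvd) hu κ (Kummer.K κ a n),
      Algebra.FinitePresentation.of_finiteType.1 inferInstance⟩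
  exact Groth.Agent.WEtLib.exists_mul_eq (K := κ) z

variable {R : Type u} [CommRing R] [IsLocalRing R] [IsNoetherianRing R] {L : Type u} [Field L]

theorem tame (g : R →+* L) (π : R) (hπ : maximalIdeal R = Ideal.span {π}) (hπ0 : g π ≠ 0)
    {ι : Type} [Finite ι] (i₀ : ι) (t : ι → L) (a : ι → R) (n : ι → ℕ) (ha : a i₀ = π)
    (hau : ∀ j, j ≠ i₀ → IsUnit (a j)) (hn : ∀ j, 1 ≤ n j) (hu : ∀ j, IsUnit ((n j : ℕ) : ResidueField R))
    (ht : ∀ j, t j ^ n j = g (a j))
    (hgen : letI := g.toAlgebra; ∀ x : L, ∃ d₁ ∈ Algebra.adjoin R (Set.range t),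
      ∃ d₂ ∈ Algebra.adjoin R (Set.range t), d₂ ≠ 0 ∧ x = d₁ / d₂) :
    EtRam.IsTamelyRamified R g := by
  classical
  letI := g.toAlgebra
  intro V h
  letI : Algebra R V := (RingHom.codRestrict g V h.1).toAlgebra
  intro _
  haveI := Fintype.ofFinite ι
  let D := Algebra.adjoin R (Set.range t)
  have htV : ∀ j, t j ∈ V := fun j => by
    rw [← V.valuation_le_one_iff]
    by_contra hcon
    have h1 := V.valuation_le_one_iff _ |>.2 (h.1 (a j))
    rw [← ht, map_pow] at h1
    exact absurd h1 (not_le.2 (one_lt_pow₀ (not_le.1 hcon) (by have := hn j; omega)))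
  have hDV : ∀ d ∈ D, d ∈ V := fun d hd => by
    induction hd using Algebra.adjoin_induction with
    | mem x hx => obtain ⟨j, rfl⟩ := hx; exact htV j
    | algebraMap r => exact h.1 r
    | add x y _ _ hx hy => exact add_mem hx hy
    | mul x y _ _ hx hy => exact mul_mem hx hy
  let incl : D →+* V :=
    { toFun := fun d => ⟨d.1, hDV d.1 d.2⟩, map_one' := rfl, map_mul' := fun _ _ => rfl,
      map_zero' := rfl, map_add' := fun _ _ => rfl }
  let P : Ideal D := (maximalIdeal V).comap incl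
  haveI : P.IsPrime := Ideal.IsPrime.comap _
  have hPV : ∀ d : D, d ∉ P → V.valuation d.1 = 1 := fun d hd => by
    have h1 : IsUnit (incl d) := not_not.1 hd
    exact V.valuation_eq_one_iff ⟨d.1, hDV d.1 d.2⟩ |>.1 h1
  let tD : ι → D := fun j => ⟨t j, Algebra.subset_adjoin ⟨j, rfl⟩⟩
  have ht0 : t i₀ ≠ 0 := fun e => hπ0 (by rw [← ha, ← ht, e, zero_pow (by have := hn i₀; omega)])
  have hvt : V.valuation (t i₀) < 1 := by
    by_contra hcon
    have h1 := h.2 π (by rw [hπ]; exact Ideal.mem_span_singleton_self π)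
    rw [← ha, ← ht, map_pow] at h1
    exact not_le.2 h1 (one_le_pow₀ (not_lt.1 hcon))
  have htP : tD i₀ ∈ P := fun hu' => by
    have := V.valuation_eq_one_iff ⟨t i₀, htV i₀⟩ |>.1 hu'
    exact hvt.ne this
  -- the closed fibre
  let q : D →+* D ⧸ Ideal.span {tD i₀} := Ideal.Quotient.mk _
  have hq0 : ∀ r ∈ maximalIdeal R, (q.comp (algebraMap R D)) r = 0 := fun r hr => by
    rw [hπ] at hr
    obtain ⟨b, rfl⟩ := Ideal.mem_span_singleton.1 hr
    have h1 : algebraMap R D π = tD i₀ ^ n i₀ := Subtype.ext (by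
      show g π = t i₀ ^ n i₀
      rw [ht, ha])
    rw [map_mul, RingHom.comp_apply, h1, map_pow]
    rw [show q (tD i₀) = 0 from Ideal.Quotient.eq_zero_iff_mem.2 (Ideal.mem_span_singleton_self _),
      zero_pow (by have := hn i₀; omega), zero_mul]
  letI : Algebra (ResidueField R) (D ⧸ Ideal.span {tD i₀}) :=
    (Ideal.Quotient.lift (maximalIdeal R) (q.comp (algebraMap R D)) hq0).toAlgebra
  have halg : ∀ r, algebraMap (ResidueField R) (D ⧸ Ideal.span {tD i₀}) (residue R r) = q (algebraMap R D r) :=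
    fun r => rfl
  let ι' := {j : ι // j ≠ i₀}
  obtain ⟨ψ, hψ⟩ := (Kummer.existsUnique_hom (fun j : ι' => residue R (a j.1)) (fun j : ι' => n j.1)
    (fun j => q (tD j.1)) fun j => by
      rw [← map_pow, halg]
      exact congrArg q (Subtype.ext (ht j.1))).exists
  have hψs : Function.Surjective ψ := fun y => by
    obtain ⟨d, rfl⟩ := Ideal.Quotient.mk_surjective y
    show q d ∈ ψ.range
    obtain ⟨d, hd⟩ := d
    induction hd using Algebra.adjoin_induction with
    | mem x hx =>
      obtain ⟨j, rfl⟩ := hx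
      by_cases hj : j = i₀
      · subst hj
        refine ⟨0, ?_⟩
        show ψ 0 = _
        rw [map_zero]
        exact (Ideal.Quotient.eq_zero_iff_mem.2 (Ideal.mem_span_singleton_self _)).symm
      · exact ⟨_, hψ ⟨j, hj⟩⟩
    | algebraMap r => exact ⟨algebraMap _ _ (residue R r), (ψ.commutes _).trans (halg r)⟩
    | add x y hx hy ihx ihy => exact map_add q ⟨x, hx⟩ ⟨y, hy⟩ ▸ add_mem ihx ihy
    | mul x y hx hy ihx ihy => exact map_mul q ⟨x, hx⟩ ⟨y, hy⟩ ▸ mul_mem ihx ihy
  have hP : ∀ d ∈ P, ∃ s d', s ∉ P ∧ s * d = tD i₀ * d' := fun d hd => by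
    obtain ⟨z, hz⟩ := hψs (q d)
    obtain ⟨r, hr⟩ := exists_mul_eq_kummer (fun j : ι' => residue R (a j.1)) (fun j : ι' => n j.1)
      (fun j => hn j.1) (fun j => hu j.1) (fun j => ((hau j.1 j.2).map (residue R)).ne_zero) z
    obtain ⟨r', hr'⟩ := Ideal.Quotient.mk_surjective (ψ r)
    have h1 : q d = q (d * d * r') := by
      rw [map_mul, map_mul, show q r' = ψ r from hr', ← hz, ← map_mul, ← map_mul, ← hr]
    rw [Ideal.Quotient.eq, Ideal.mem_span_singleton] at h1
    obtain ⟨d', hd'⟩ := h1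
    refine ⟨1 - d * r', d', fun h2 => ?_, ?_⟩
    · have h3 := add_mem h2 (P.mul_mem_right r' hd)
      rw [sub_add_cancel] at h3
      exact (P.ne_top_iff_one.1 (Ideal.IsPrime.ne_top inferInstance)) h3
    · rw [← hd']; ring
  haveI : IsNoetherianRing D := by
    haveI : Algebra.FiniteType R D := (Subalgebra.fg_iff_finiteType _).1 ⟨(Set.finite_range t).toFinset, by simp [D]⟩
    exact Algebra.FiniteType.isNoetherianRing R D
  have hfac : ∀ d : D, d ≠ 0 → ∃ (k : ℕ) (s d₁ : D), s ∉ P ∧ d₁ ∉ P ∧ s * d = tD i₀ ^ k * d₁ := by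
    let Sat : D → Ideal D := fun d =>
      { carrier := {y | ∃ s, s ∉ P ∧ s * y ∈ Ideal.span {d}}
        add_mem' := by
          rintro y z ⟨s, hs, hy⟩ ⟨s', hs', hz⟩
          refine ⟨s * s', fun e => (Ideal.IsPrime.mem_or_mem inferInstance e).elim hs hs', ?_⟩
          rw [show s * s' * (y + z) = s' * (s * y) + s * (s' * z) by ring]
          exact add_mem (Ideal.mul_mem_left _ _ hy) (Ideal.mul_mem_left _ _ hz)
        zero_mem' := ⟨1, fun e => (P.ne_top_iff_one.1 (Ideal.IsPrime.ne_top inferInstance)) e, by simp⟩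
        smul_mem' := by
          rintro c y ⟨s, hs, hy⟩
          refine ⟨s, hs, ?_⟩
          rw [smul_eq_mul, mul_left_comm]
          exact Ideal.mul_mem_left _ _ hy }
    intro d hd
    generalize hI : Sat d = I
    induction I using WellFoundedGT.induction generalizing d with
    | ind I ih =>
      by_cases hdP : d ∈ P
      · obtain ⟨s, d', hs, hsd⟩ := hP d hdP
        have hd' : d' ≠ 0 := fun e => by
          rw [e, mul_zero] at hsd
          exact (mul_eq_zero.1 hsd).elim (fun e' => hs (e' ▸ P.zero_mem)) hd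
        have hlt : Sat d < Sat d' := by
          refine lt_of_le_of_ne (fun y => ?_) fun e => ?_
          · rintro ⟨s', hs', hy⟩
            refine ⟨s * s', fun e => (Ideal.IsPrime.mem_or_mem inferInstance e).elim hs hs', ?_⟩
            obtain ⟨c, hc⟩ := Ideal.mem_span_singleton.1 hy
            rw [Ideal.mem_span_singleton]
            exact ⟨tD i₀ * c, by rw [mul_assoc, hc, ← mul_assoc, hsd]; ring⟩
          · have h1 : d' ∈ Sat d := by
              rw [e]
              exact ⟨1, fun e => (P.ne_top_iff_one.1 (Ideal.IsPrime.ne_top inferInstance)) e, by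
                rw [one_mul]; exact Ideal.mem_span_singleton_self _⟩
            obtain ⟨s', hs', hy⟩ := h1
            obtain ⟨c, hc⟩ := Ideal.mem_span_singleton.1 hy
            have h2 : (s * s' - tD i₀ * c) * d' = 0 := by
              rw [sub_mul, mul_assoc, hc, ← mul_assoc s d c, hsd]; ring
            have h3 := (mul_eq_zero.1 h2).resolve_right hd'
            rw [sub_eq_zero] at h3
            exact (Ideal.IsPrime.mem_or_mem inferInstance (h3 ▸ P.mul_mem_right c htP)).elim hs hs'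
        obtain ⟨k, s₁, d₁, hs₁, hd₁, h1⟩ := ih _ (hI ▸ hlt) d' hd' rfl
        refine ⟨k + 1, s * s₁, d₁, fun e => (Ideal.IsPrime.mem_or_mem inferInstance e).elim hs hs₁, hd₁, ?_⟩
        rw [mul_comm s s₁, mul_assoc, hsd, ← mul_assoc, mul_comm s₁, mul_assoc, h1]
        ring
      · exact ⟨0, 1, d, fun e => (P.ne_top_iff_one.1 (Ideal.IsPrime.ne_top inferInstance)) e, hdP, by simp⟩
  have hfac' : ∀ x : V, x ≠ 0 → ∃ (k : ℕ) (d₁ d₂ : D), d₁ ∉ P ∧ d₂ ∉ P ∧ (d₂ : L) * x = t i₀ ^ k * d₁ := by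
    intro x hx
    obtain ⟨e₁, he₁, e₂, he₂, hne, hxe⟩ := hgen x.1
    have he10 : e₁ ≠ 0 := fun e => hx (Subtype.ext (by rw [hxe, e, zero_div]; rfl))
    obtain ⟨k₁, s₁, c₁, hs₁, hc₁, h1⟩ := hfac ⟨e₁, he₁⟩ (fun e => he10 (congrArg Subtype.val e))
    obtain ⟨k₂, s₂, c₂, hs₂, hc₂, h2⟩ := hfac ⟨e₂, he₂⟩ (fun e => hne (congrArg Subtype.val e))
    have h1' : (s₁ : L) * e₁ = t i₀ ^ k₁ * c₁ := congrArg Subtype.val h1
    have h2' : (s₂ : L) * e₂ = t i₀ ^ k₂ * c₂ := congrArg Subtype.val h2
    have hx' : (x : L) * e₂ = e₁ := by rw [hxe, div_mul_cancel₀ _ hne]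
    have key : ((s₁ * c₂ : D) : L) * x * t i₀ ^ k₂ = t i₀ ^ k₁ * ((s₂ * c₁ : D) : L) := by
      push_cast
      calc (s₁ : L) * c₂ * x * t i₀ ^ k₂ = (s₁ : L) * x * (t i₀ ^ k₂ * c₂) := by ring
        _ = (s₁ : L) * (x * e₂) * s₂ := by rw [← h2']; ring
        _ = t i₀ ^ k₁ * (s₂ * c₁) := by rw [hx', h1']; ring
    have hne' : ∀ a b : D, a ∉ P → b ∉ P → a * b ∉ P := fun a b ha hb e =>
      (Ideal.IsPrime.mem_or_mem inferInstance e).elim ha hb
    have hk : k₂ ≤ k₁ := by
      by_contra hk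
      have h3 := congrArg V.valuation key
      rw [map_mul, map_mul, map_mul, hPV _ (hne' _ _ hs₁ hc₂), hPV _ (hne' _ _ hs₂ hc₁), one_mul, mul_one,
        map_pow, map_pow] at h3
      have h4 : V.valuation (t i₀) ^ k₂ < V.valuation (t i₀) ^ k₁ :=
        pow_lt_pow_right_of_lt_one₀ (zero_lt_iff.2 ((map_ne_zero _).2 ht0)) hvt (not_le.1 hk)
      refine absurd h4 (not_lt.2 ?_)
      rw [← h3]
      exact mul_le_of_le_one_left' (V.valuation_le_one_iff _ |>.2 x.2)
    refine ⟨k₁ - k₂, s₂ * c₁, s₁ * c₂, hne' _ _ hs₂ hc₁, hne' _ _ hs₁ hc₂, ?_⟩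
    refine mul_right_cancel₀ (pow_ne_zero k₂ ht0) ?_
    rw [key, mul_right_comm, ← pow_add, Nat.sub_add_cancel hk]
  let tV : V := ⟨t i₀, htV i₀⟩
  have hmV : maximalIdeal V = Ideal.span {tV} := by
    refine le_antisymm (fun x hx => ?_) (Ideal.span_le.2 (Set.singleton_subset_iff.2 fun e =>
      hvt.ne (V.valuation_eq_one_iff tV |>.1 e)))
    by_cases hx0 : x = 0
    · rw [hx0]; exact zero_mem _
    obtain ⟨k, d₁, d₂, hd₁, hd₂, hxk⟩ := hfac' x hx0
    have h2u : IsUnit (incl d₂) := not_not.1 hd₂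
    rcases k with _ | k
    · exfalso
      have h3 : incl d₂ * x = incl d₁ := Subtype.ext (hxk.trans (by rw [pow_zero, one_mul]; rfl))
      exact hd₁ (show incl d₁ ∈ maximalIdeal V from h3 ▸ Ideal.mul_mem_left _ _ hx)
    · rw [Ideal.mem_span_singleton, ← h2u.dvd_mul_left]
      exact ⟨tV ^ k * incl d₁, Subtype.ext (by
        show (d₂ : L) * x = t i₀ * (t i₀ ^ k * d₁)
        rw [hxk, pow_succ']; ring)⟩
  refine ⟨⟨fun y => ?_⟩, fun p hp hchar hdvd => ?_⟩
  · let S := separableClosure (ResidueField R) (ResidueField V)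
    have hD : ∀ d : D, residue V (incl d) ∈ S := by
      rintro ⟨d, hd⟩
      induction hd using Algebra.adjoin_induction with
      | mem x hx =>
        obtain ⟨j, rfl⟩ := hx
        by_cases hj : j = i₀
        · subst hj
          have : incl ⟨t j, Algebra.subset_adjoin ⟨j, rfl⟩⟩ ∈ maximalIdeal V := htP
          rw [(residue_eq_zero_iff _).2 this]
          exact zero_mem _
        · refine mem_separableClosure_iff.2 (Polynomial.Separable.of_dvd
            (Polynomial.separable_X_pow_sub_C (residue R (a j)) (hu j).ne_zero ((hau j hj).map (residue R)).ne_zero) ?_)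
          refine minpoly.dvd _ _ ?_
          rw [map_sub, map_pow, Polynomial.aeval_X, Polynomial.aeval_C, sub_eq_zero, ← map_pow]
          show residue V _ = residue V (algebraMap R V (a j))
          exact congrArg (residue V) (Subtype.ext (ht j))
      | algebraMap r => exact S.algebraMap_mem (residue R r)
      | add x y hx hy ihx ihy =>
        rw [show incl ⟨x + y, add_mem hx hy⟩ = incl ⟨x, hx⟩ + incl ⟨y, hy⟩ from rfl, map_add]
        exact add_mem ihx ihy
      | mul x y hx hy ihx ihy =>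
        rw [show incl ⟨x * y, mul_mem hx hy⟩ = incl ⟨x, hx⟩ * incl ⟨y, hy⟩ from rfl, map_mul]
        exact mul_mem ihx ihy
    obtain ⟨x, rfl⟩ := residue_surjective y
    refine mem_separableClosure_iff.1 (show residue V x ∈ S from ?_)
    by_cases hx0 : x = 0
    · rw [hx0, map_zero]; exact zero_mem _
    obtain ⟨k, d₁, d₂, hd₁, hd₂, hxk⟩ := hfac' x hx0
    have h3 : incl d₂ * x = tV ^ k * incl d₁ := Subtype.ext hxk
    have h4 := congrArg (residue V) h3
    rw [map_mul, map_mul, map_pow, (residue_eq_zero_iff tV).2 (hmV ▸ Ideal.mem_span_singleton_self _)] at h4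
    have h5 : residue V (incl d₂) ≠ 0 := fun e => hd₂ ((residue_eq_zero_iff _).1 e)
    rw [show residue V x = 0 ^ k * residue V (incl d₁) / residue V (incl d₂) by
      rw [eq_div_iff h5, ← h4, mul_comm]]
    exact div_mem (mul_mem (pow_mem (zero_mem _) _) (hD _)) (hD _)
  · rw [Ideal.ramificationIdx'_spec (n := n i₀)] at hdvd
    · haveI := hchar
      exact (hu i₀).ne_zero ((CharP.cast_eq_zero_iff (ResidueField R) p (n i₀)).2 hdvd)
    all_goals
      rw [hπ, Ideal.map_span, Set.image_singleton, hmV, Ideal.span_singleton_pow,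
        show algebraMap R V π = tV ^ n i₀ from Subtype.ext (by show g π = t i₀ ^ n i₀; rw [ht, ha])]
    · intro hle
      rw [Ideal.span_singleton_le_span_singleton] at hle
      obtain ⟨c, hc⟩ := hle
      rw [pow_succ, mul_assoc] at hc
      have h6 := congrArg (fun z : V => (z : L)) hc
      have h7 : (1 : L) = t i₀ * (c : L) := mul_left_cancel₀ (pow_ne_zero (n i₀) ht0) (by simpa using h6)
      have h8 := congrArg V.valuation h7
      rw [map_one, map_mul] at h8
      exact absurd h8.symm (ne_of_lt (mul_lt_of_lt_of_le_one hvt (V.valuation_le_one_iff _ |>.2 c.2)))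

end Groth.Agent.RGLib.KummerTame
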