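import Groth.Agent.FlatMisc.ApproxGeomRed
import Groth.Agent.H1Spread.IrredConst
import Groth.Agent.H1Spread.Constr
import Groth.Agent.Triage.GeomCount

/-!
# Noetherian approximation: geometrically irreducible / connected fibres
-/

universe u
set_option autoImplicit false
set_option backward.isDefEq.respectTransparency false
set_option backward.isDefEq.respectTransparency.types false
open AlgebraicGeometry CategoryTheory CategoryTheory.Limits TopologicalSpace Topology

namespace Groth.Agent.RGLib.ApproxCount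

open ConsPropLib FlatMisc in
/-- A constructible, base-change stable condition on the fibres descends. -/
theorem exists_model (L : ∀ {X Y : Scheme.{u}}, (X ⟶ Y) → Set Y)
    (hL : ∀ {X Y X' Y' : Scheme.{u}} {f : X ⟶ Y} {f' : X' ⟶ Y'} {g' : X' ⟶ X} {g : Y' ⟶ Y},
      IsPullback g' f' f g → L f' = g ⁻¹' L f)
    (hc : ∀ {X Y : Scheme.{u}} (f : X ⟶ Y) [LocallyOfFinitePresentation f] [QuasiCompact f] [QuasiSeparated f],
      IsLocallyConstructible (L f))
    {X S : Scheme.{u}} (f : X ⟶ S) [IsAffine X] [IsAffine S] [LocallyOfFinitePresentation f]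
    (hf : ∀ s, s ∈ L f) :
    ∃ (X₀ S₀ : Scheme.{u}) (f₀ : X₀ ⟶ S₀) (g : S ⟶ S₀) (g' : X ⟶ X₀), IsAffine X₀ ∧ IsAffine S₀ ∧ IsPullback g' f f₀ g ∧
      Algebra.FiniteType ℤ Γ(S₀, ⊤) ∧ LocallyOfFiniteType f₀ ∧ ∀ s₀, s₀ ∈ L f₀ := by
  obtain ⟨i, X₀, f₀, g, hX, hfp, sq⟩ := ApproxGeomRed.exists_affine_model f
  haveI := hX; haveI := hfp
  let e := NoethApprox.cone Γ(S, ⊤)
  let D := NoethApprox.diagram Γ(S, ⊤)
  haveI : ∀ {i j} (φ : i ⟶ j), IsAffineHom (D.map φ) := fun φ => NoethApprox.isAffineHom_map _ φ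
  haveI : IsAffine (D.obj i) := NoethApprox.isAffine_obj _ i
  haveI : QuasiCompact f₀ := inferInstance
  haveI : QuasiSeparated f₀ := inferInstance
  have hsub : e.π.app i ⁻¹' (((⊤ : (D.obj i).Opens) : Set (D.obj i)) ∩ Set.univ) ⊆ e.π.app i ⁻¹' L f₀ := by
    intro s _
    have hs := hf (S.isoSpec.inv s)
    rw [hL sq, Set.mem_preimage, Scheme.Hom.comp_apply, ← Scheme.Hom.comp_apply S.isoSpec.inv, Iso.inv_hom_id] at hs
    exact hs
  obtain ⟨j, φ, hj⟩ := MorLib.LimCons.exists_subset_open (NoethApprox.isLimit Γ(S, ⊤)) i ⊤ isCompact_univ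
    (MorLib.LimCons.pro_univ) (ApproxGeomRed.isIndConstructible (hc f₀)) hsub
  haveI : IsAffine (D.obj j) := NoethApprox.isAffine_obj _ j
  have hπ : ∀ (πi : S ⟶ D.obj i), πi = S.isoSpec.hom ≫ e.π.app i →
      (S.isoSpec.hom ≫ e.π.app j : S ⟶ D.obj j) ≫ D.map φ = πi := fun πi h => by
    rw [h]; exact (Category.assoc _ _ _).trans (congrArg _ (e.w φ))
  have hw : g ≫ f₀ = (f ≫ (S.isoSpec.hom ≫ e.π.app j : S ⟶ D.obj j)) ≫ D.map φ :=
    sq.w.trans ((congrArg (f ≫ ·) (hπ _ rfl).symm).trans (Category.assoc _ _ _).symm)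
  refine ⟨pullback f₀ (D.map φ), D.obj j, pullback.snd f₀ (D.map φ), S.isoSpec.hom ≫ e.π.app j,
    pullback.lift g _ hw, inferInstance, inferInstance, ?_, ?_, inferInstance, ?_⟩
  · refine IsPullback.of_right ?_ (pullback.lift_snd _ _ _) (IsPullback.of_hasPullback f₀ (D.map φ))
    rw [pullback.lift_fst, hπ _ rfl]
    exact sq
  · haveI : Algebra.FiniteType ℤ (Algebra.adjoin ℤ ((j.unop : Finset Γ(S, ⊤)) : Set Γ(S, ⊤))) :=
      Algebra.FiniteType.adjoin_of_finite (Finset.finite_toSet _)
    exact Algebra.FiniteType.equiv ‹_›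
      ((Scheme.ΓSpecIso (CommRingCat.of (Algebra.adjoin ℤ ((j.unop : Finset Γ(S, ⊤)) : Set Γ(S, ⊤))))).symm.commRingCatIsoToRingEquiv.toIntAlgEquiv)
  · intro y
    rw [hL (IsPullback.of_hasPullback f₀ (D.map φ))]
    exact hj ⟨trivial, trivial⟩

/-- The base change to `Spec K` is covered by the geometric fibre at its point. -/
theorem surjective_geomFiber_fst {Z : Scheme.{u}} {K : Type u} [Field K] (p : Z ⟶ Spec (CommRingCat.of K))
    (s : Spec (CommRingCat.of K)) :
    Function.Surjective (pullback.fst (p.fiberToSpecResidueField s) (Spec.map (CommRingCat.ofHom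
      (algebraMap ((Spec (CommRingCat.of K)).residueField s) (SeparableClosure ((Spec (CommRingCat.of K)).residueField s))))) ≫
        p.fiberι s : MoreMor.geomFiber p s ⟶ Z) := by
  intro z
  have hz : z ∈ Set.range (p.fiberι s) := by
    rw [Scheme.Hom.range_fiberι]; exact Subsingleton.elim (α := PrimeSpectrum K) _ _
  obtain ⟨w, rfl⟩ := hz
  obtain ⟨v, hv⟩ : w ∈ Set.range (pullback.fst (p.fiberToSpecResidueField s) (Spec.map (CommRingCat.ofHom
      (algebraMap ((Spec (CommRingCat.of K)).residueField s) (SeparableClosure ((Spec (CommRingCat.of K)).residueField s)))))) := by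
    rw [Scheme.Pullback.range_fst]
    exact ⟨IsLocalRing.closedPoint _, Subsingleton.elim (α := PrimeSpectrum ((Spec (CommRingCat.of K)).residueField s)) _ _⟩
  exact ⟨v, by rw [Scheme.Hom.comp_apply]; exact congrArg _ hv⟩

theorem encard_components_eq_one_iff (Z : Type u) [TopologicalSpace Z] :
    (irreducibleComponents Z).encard = 1 ↔ IrreducibleSpace Z := by
  rw [Set.encard_eq_one]
  constructor
  · rintro ⟨T, hT⟩
    have hTm : T ∈ irreducibleComponents Z := by rw [hT]; rfl
    have : T = Set.univ := Set.eq_univ_of_forall fun z => by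
      have h := irreducibleComponent_mem_irreducibleComponents z
      rw [hT, Set.mem_singleton_iff] at h
      exact h ▸ mem_irreducibleComponent
    rw [irreducibleSpace_def, Set.top_eq_univ, ← this]
    exact hTm.1
  · intro h
    exact ⟨Set.univ, Set.eq_singleton_iff_unique_mem.2
      ⟨⟨(irreducibleSpace_def Z).1 h, fun T _ _ => Set.subset_univ T⟩,
        fun T hT => hT.eq_of_le ((irreducibleSpace_def Z).1 h) (Set.subset_univ T)⟩⟩

theorem geometricallyIrreducible_iff {X Y : Scheme.{u}} (f : X ⟶ Y) :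
    GeometricallyIrreducible f ↔ ∀ y, MoreMor.nGeomIrredComp f y = 1 := by
  constructor
  · intro h y
    exact (encard_components_eq_one_iff _).2 (GeometricallyIrreducible.geometrically_irreducibleSpace
      _ _ _ ((IsPullback.of_hasPullback (f.fiberToSpecResidueField y) _).paste_horiz (IsPullback.of_hasPullback f (Y.fromSpecResidueField y))))
  · intro h
    refine ⟨fun K _ τ Z fst snd sq => ?_⟩
    haveI : IrreducibleSpace (MoreMor.geomFiber snd (IsLocalRing.closedPoint K)) := (encard_components_eq_one_iff _).1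
      ((Triage.GeomCount.nGeom_baseChange f snd fst τ sq _).1.trans (h _))
    refine (surjective_geomFiber_fst snd (IsLocalRing.closedPoint K)).irreducibleSpace ?_
    exact Scheme.Hom.continuous _

theorem card_connected_eq_one_iff (Z : Type u) [TopologicalSpace Z] :
    ENat.card (ConnectedComponents Z) = 1 ↔ ConnectedSpace Z := by
  rw [le_antisymm_iff, ENat.card_le_one_iff_subsingleton, ENat.one_le_card_iff_nonempty]
  constructor
  · rintro ⟨hsub, ⟨c⟩⟩
    obtain ⟨z, rfl⟩ := ConnectedComponents.surjective_coe c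
    haveI : Nonempty Z := ⟨z⟩
    haveI : PreconnectedSpace Z := preconnectedSpace_iff_connectedComponent.2 fun x =>
      Set.eq_univ_of_forall fun y => (ConnectedComponents.coe_eq_coe'.1 (Subsingleton.elim (α := ConnectedComponents Z) ↑y ↑x))
    exact ⟨inferInstance⟩
  · intro h
    haveI := h.toPreconnectedSpace
    refine ⟨⟨fun a b => ?_⟩, ConnectedComponents.nonempty_iff_nonempty.2 h.toNonempty⟩
    obtain ⟨x, rfl⟩ := ConnectedComponents.surjective_coe a
    obtain ⟨y, rfl⟩ := ConnectedComponents.surjective_coe b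
    exact ConnectedComponents.coe_eq_coe'.2 (by rw [PreconnectedSpace.connectedComponent_eq_univ]; trivial)

theorem geometricallyConnected_iff {X Y : Scheme.{u}} (f : X ⟶ Y) :
    GeometricallyConnected f ↔ ∀ y, MoreMor.nGeomConnComp f y = 1 := by
  constructor
  · intro h y
    exact (card_connected_eq_one_iff _).2 (GeometricallyConnected.geometrically_connectedSpace
      _ _ _ ((IsPullback.of_hasPullback (f.fiberToSpecResidueField y) _).paste_horiz (IsPullback.of_hasPullback f (Y.fromSpecResidueField y))))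
  · intro h
    refine ⟨fun K _ τ Z fst snd sq => ?_⟩
    haveI : ConnectedSpace (MoreMor.geomFiber snd (IsLocalRing.closedPoint K)) := (card_connected_eq_one_iff _).1
      ((Triage.GeomCount.nGeom_baseChange f snd fst τ sq _).2.trans (h _))
    exact (surjective_geomFiber_fst snd (IsLocalRing.closedPoint K)).connectedSpace (Scheme.Hom.continuous _)

theorem exists_model_irred {X S : Scheme.{u}} (f : X ⟶ S) [IsAffine X] [IsAffine S] [LocallyOfFinitePresentation f]
    [GeometricallyIrreducible f] :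
    ∃ (X₀ S₀ : Scheme.{u}) (f₀ : X₀ ⟶ S₀) (g : S ⟶ S₀) (g' : X ⟶ X₀), IsAffine X₀ ∧ IsAffine S₀ ∧ IsPullback g' f f₀ g ∧
      Algebra.FiniteType ℤ Γ(S₀, ⊤) ∧ LocallyOfFiniteType f₀ ∧ GeometricallyIrreducible f₀ := by
  obtain ⟨X₀, S₀, f₀, g, g', h1, h2, h3, h4, h5, h6⟩ := exists_model
    (fun {X Y} f => {y | MoreMor.nGeomIrredComp f y = 1})
    (fun {X Y X' Y' f f' g' g} sq => Set.ext fun y' => by
      simp only [Set.mem_setOf_eq, Set.mem_preimage, (Triage.GeomCount.nGeom_baseChange f f' g' g sq y').1])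
    (fun f => H1Spread.isLocallyConstructible_level_irred f 1) f ((geometricallyIrreducible_iff f).1 inferInstance)
  exact ⟨X₀, S₀, f₀, g, g', h1, h2, h3, h4, h5, (geometricallyIrreducible_iff f₀).2 h6⟩

theorem exists_model_conn {X S : Scheme.{u}} (f : X ⟶ S) [IsAffine X] [IsAffine S] [LocallyOfFinitePresentation f]
    [GeometricallyConnected f] :
    ∃ (X₀ S₀ : Scheme.{u}) (f₀ : X₀ ⟶ S₀) (g : S ⟶ S₀) (g' : X ⟶ X₀), IsAffine X₀ ∧ IsAffine S₀ ∧ IsPullback g' f f₀ g ∧
      Algebra.FiniteType ℤ Γ(S₀, ⊤) ∧ LocallyOfFiniteType f₀ ∧ GeometricallyConnected f₀ := by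
  obtain ⟨X₀, S₀, f₀, g, g', h1, h2, h3, h4, h5, h6⟩ := exists_model
    (fun {X Y} f => {y | MoreMor.nGeomConnComp f y = 1})
    (fun {X Y X' Y' f f' g' g} sq => Set.ext fun y' => by
      simp only [Set.mem_setOf_eq, Set.mem_preimage, (Triage.GeomCount.nGeom_baseChange f f' g' g sq y').2])
    (fun f => H1Spread.isLocallyConstructible_level f 1) f ((geometricallyConnected_iff f).1 inferInstance)
  exact ⟨X₀, S₀, f₀, g, g', h1, h2, h3, h4, h5, (geometricallyConnected_iff f₀).2 h6⟩

end Groth.Agent.RGLib.ApproxCount
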