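import Groth.Agent.RGLib.SectionSpan
import Groth.Agent.AmpleX.QAHom
import Groth.Agent.AmpleX.Sect
import Groth.Agent.AmpleX.Basis
import Groth.Agent.AmpleX.Separated
import Groth.Agent.ConsPropLib.QuasiAffine
import Groth.Agent.AlgSpLib.Descends2

/-!
# Ampleness descends along faithfully flat base change of affine bases
-/

set_option autoImplicit false
set_option backward.isDefEq.respectTransparency false
set_option backward.isDefEq.respectTransparency.types false

universe u

open CategoryTheory CategoryTheory.Limits AlgebraicGeometry TopologicalSpace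
open Groth.Agent.H23.PicMul

namespace Groth.Agent.RGLib.AmpleDescent

open Groth.Agent Groth.Agent.AmpleX

variable {X X' : Scheme.{u}}

/-- The sections not generating at a point form a submodule. -/
theorem exists_locus_of_mem_span {M : X.Modules} (hM : PicF.IsInvertible M) {U : X.Opens} {x : X}
    {S : Set Γ(M, U)} {a : Γ(M, U)} (ha : a ∈ Submodule.span Γ(X, U) S) (hx : x ∈ locus a) :
    ∃ b ∈ S, x ∈ locus b := by
  by_contra hcon
  push Not at hcon
  have hxU : x ∈ U := locus_le a hx
  obtain ⟨V₀, hxV₀, e₀, he₀⟩ := InvX.exists_frame hM x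
  let V := V₀ ⊓ U
  have he := he₀.res (inf_le_left : V ≤ V₀)
  have hxV : x ∈ V := ⟨hxV₀, hxU⟩
  have hcoord : ∀ b : Γ(M, U), ∃ c : Γ(X, V),
      AModX.res M (inf_le_right : V ≤ U) b = c • AModX.res M (inf_le_left : V ≤ V₀) e₀ := fun b => by
    obtain ⟨c, hc⟩ := he.exists_coord le_rfl (AModX.res M (inf_le_right : V ≤ U) b)
    rw [AModX.res_self] at hc
    exact ⟨c, hc⟩
  choose c hc using hcoord
  have hiff : ∀ b, x ∈ locus b ↔ IsUnit (X.presheaf.germ V x hxV (c b)) := fun b => by
    have h := locus_inf b _ he (hc b)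
    rw [← Scheme.mem_basicOpen X (c b) x hxV, ← h, Opens.mem_inf]
    exact (and_iff_left hxV).symm
  suffices H : ¬ IsUnit (X.presheaf.germ V x hxV (c a)) from H ((hiff a).1 hx)
  clear hx
  induction ha using Submodule.span_induction with
  | mem b hb => exact fun h => hcon b hb ((hiff b).2 h)
  | zero =>
    have h0 : c 0 = 0 := he.coord_unique le_rfl (by
      rw [AModX.res_self, zero_smul, ← hc, map_zero])
    rw [h0, map_zero]
    exact not_isUnit_zero
  | add b b' _ _ hb hb' =>
    have h0 : c (b + b') = c b + c b' := he.coord_unique le_rfl (by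
      rw [AModX.res_self, ← hc, map_add, add_smul, hc, hc])
    rw [h0, map_add]
    exact fun h => (IsLocalRing.isUnit_or_isUnit_of_isUnit_add h).elim hb hb'
  | smul r b _ hb =>
    have h0 : c (r • b) = AModX.resR (inf_le_right : V ≤ U) r * c b := he.coord_unique le_rfl (by
      rw [AModX.res_self, ← hc, AModX.res_smul, mul_smul, hc b])
    rw [h0, map_mul]
    exact fun h => hb (isUnit_of_mul_isUnit_right h)

/-- An invertible module whose powers have sections with quasi-affine covering loci is ample. -/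
theorem isAmple_of_qa [CompactSpace X] [X.IsSeparated] {L : X.Modules} (hL : PicF.IsInvertible L)
    (h : ∀ x : X, ∃ (a : ℕ) (_ : 0 < a) (s : Coh.structureModule X ⟶ CohB1.tensorPow L a),
      x ∈ CohB1.genLocus _ s ∧ (CohB1.genLocus _ s : Scheme.{u}).IsQuasiAffine) : CohB1.IsAmple L := by
  refine isAmple_iff.2 ⟨hL, inferInstance, fun x => ?_⟩
  obtain ⟨a, ha, s, hxs, hs⟩ := h x
  let G := CohB1.genLocus (CohB1.tensorPow L a) s
  obtain ⟨f, hf, hxf⟩ := ((qa_opens_iff G).1 hs).2 x hxs
  have hLa := InvX.isInvertible_tensorPow hL a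
  obtain ⟨n₀, hn₀⟩ := exists_extend (M := Coh.structureModule X)
    (isQCoh_one X) hLa s (show Γ(Coh.structureModule X, G) from f)
  obtain ⟨T, hT⟩ := hn₀ n₀ le_rfl
  let S := InvX.mulHom (InvX.ofSect T) s
  let P := CohB1.tensorMod (Coh.structureModule X) (CohB1.tensorPow (CohB1.tensorPow L a) n₀)
  have hP : PicF.IsInvertible P :=
    InvX.isInvertible_tensorMod InvX.isInvertible_structureModule (InvX.isInvertible_tensorPow hLa n₀)
  have hfr : InvX.IsFrame (InvX.tmul (M := Coh.structureModule X)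
      (show Γ(Coh.structureModule X, G) from (1 : Γ(X, G)))
      (powElt (AModX.res _ (le_top : G ≤ ⊤) (InvX.one s)) n₀)) := by
    refine InvX.isFrame_tmul (InvX.isFrame_one G) (isFrame_powElt ?_ n₀)
    exact isFrame_res_of_le (InvX.one s) (genLocus_eq_locus s).le
  have hG : CohB1.genLocus _ S = X.basicOpen f := by
    rw [InvX.genLocus_mulHom hP hLa]
    refine InvX.genLocus_inf (InvX.ofSect T) hfr ?_
    rw [InvX.one_ofSect, hT, ← InvX.tmul_smul_left]
    exact congrArg (fun z => InvX.tmul z _) (mul_one f).symm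
  obtain ⟨t, ht⟩ := exists_section_of_cl_eq (B := CohB1.tensorPow L (a * n₀ + a))
    (by rw [cl_tensor, cl_tensor, cl_tensorPow, cl_tensorPow, cl_tensorPow, ← one_def, one_mul,
      pow_add, pow_mul]) S
  refine ⟨a * n₀ + a, Nat.add_pos_right _ ha, t, ?_⟩
  rw [ht, hG]
  exact ⟨hxf, hf⟩

/-- On a separated scheme, the locus of a section of a power of an ample module is quasi-affine. -/
theorem qa_genLocus [X.IsSeparated] {L : X.Modules} (h : CohB1.IsAmple L) {a : ℕ} (ha : 0 < a)
    (s : Coh.structureModule X ⟶ CohB1.tensorPow L a) (hc : IsCompact (CohB1.genLocus _ s : Set X)) :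
    (CohB1.genLocus _ s : Scheme.{u}).IsQuasiAffine := by
  rw [qa_opens_iff]
  refine ⟨hc, fun x hx => ?_⟩
  obtain ⟨m, hm, t, hxt, hle, ht⟩ := exists_genLocus_le h hx
  rw [genLocus_eq_locus] at hxt hle ht
  obtain ⟨b₁, hb₁⟩ := exists_pow_section h.1 (InvX.one t) ha
  obtain ⟨b₂, hb₂⟩ := exists_pow_section h.1 (InvX.one s) hm
  obtain ⟨b₂', hb₂'⟩ := exists_locus_cl (N := CohB1.tensorPow L (m * a))
    (show PicF.cl (CohB1.tensorPow L (a * m)) = _ by rw [mul_comm]) b₂
  let G := CohB1.genLocus (CohB1.tensorPow L a) s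
  have hfr : InvX.IsFrame (AModX.res _ (le_top : G ≤ ⊤) b₂') :=
    isFrame_res_of_le b₂' ((genLocus_eq_locus s).trans (hb₂'.trans hb₂).symm).le
  obtain ⟨r, hr⟩ := hfr.exists_coord le_rfl (AModX.res _ (le_top : G ≤ ⊤) b₁)
  rw [AModX.res_self] at hr
  have e := locus_inf b₁ le_top hfr hr
  rw [hb₁, inf_eq_left.2 hle] at e
  exact ⟨r, e ▸ ht, e ▸ hxt⟩

/-- Ampleness descends along a faithfully flat base change of affine bases. -/
theorem isAmple_of_isAmple_pullback {Y Y' : Scheme.{u}} [IsAffine Y] [IsAffine Y'] (f : X ⟶ Y) (g : Y' ⟶ Y)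
    [QuasiCompact f] [Flat g] [Surjective g] {L : X.Modules} (hL : PicF.IsInvertible L)
    (h : CohB1.IsAmple ((Scheme.Modules.pullback (pullback.fst f g)).obj L)) : CohB1.IsAmple L := by
  let p := pullback.fst f g
  let q := pullback.snd f g
  let L' := (Scheme.Modules.pullback p).obj L
  haveI hsepX' : (pullback f g).IsSeparated := isSeparated_of_isAmple h
  haveI : IsSeparated q := IsSeparated.of_comp q (terminal.from Y')
  haveI : QuasiCompact g := inferInstance
  haveI : IsSeparated f := by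
    rw [isSeparated_iff]
    exact MorphismProperty.of_isPullback_of_descendsAlong
      (P := MorphismProperty.diagonal (@IsClosedImmersion : MorphismProperty Scheme.{u}))
      (Q := @Surjective ⊓ @Flat ⊓ @QuasiCompact) (IsPullback.of_hasPullback f g).flip
      ⟨⟨inferInstance, inferInstance⟩, inferInstance⟩ ((isSeparated_iff q).1 inferInstance)
  haveI : X.IsSeparated := by
    constructor
    rw [Subsingleton.elim (terminal.from X) (f ≫ terminal.from Y)]
    infer_instance
  haveI : CompactSpace X := (quasiCompact_iff_compactSpace f).1 inferInstance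
  let A := Γ(Y, ⊤)
  let B := Γ(Y', ⊤)
  letI : Algebra A B := g.appTop.hom.toAlgebra
  haveI : Module.Flat A B := Scheme.Hom.flat_appTop g
  haveI : IsAffineHom p := MorphismProperty.pullback_fst _ _ inferInstance
  have hφ : IsPullback p (q ≫ Y'.isoSpec.hom) (f ≫ Y.isoSpec.hom)
      (Spec.map (CommRingCat.ofHom (algebraMap A B))) := by
    refine (IsPullback.of_hasPullback f g).of_iso (Iso.refl _) (Iso.refl _) Y'.isoSpec Y.isoSpec
      (by simp [p]) (by simp [q]) (by simp) ?_
    exact (Scheme.isoSpec_hom_naturality g).symm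
  haveI : Surjective (Spec.map (CommRingCat.ofHom (algebraMap A B))) := by
    have e : Spec.map (CommRingCat.ofHom (algebraMap A B)) = Y'.isoSpec.inv ≫ g ≫ Y.isoSpec.hom := by
      rw [Iso.eq_inv_comp]
      exact Scheme.isoSpec_hom_naturality g
    rw [e]
    infer_instance
  haveI : Flat (Spec.map (CommRingCat.ofHom (algebraMap A B))) :=
    Flat.SpecMap_iff.2 (Scheme.Hom.flat_appTop g)
  haveI : Surjective p := MorphismProperty.pullback_fst _ _ inferInstance
  refine isAmple_of_qa hL fun x => ?_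
  obtain ⟨x', rfl⟩ := p.surjective x
  obtain ⟨a, ha, t, hxt, -⟩ := (isAmple_iff.1 h).2.2 x'
  rw [genLocus_eq_locus] at hxt
  have hLa := InvX.isInvertible_tensorPow hL a
  obtain ⟨t', ht'⟩ := exists_locus_cl (N := (Scheme.Modules.pullback p).obj (CohB1.tensorPow L a))
    (show PicF.cl (CohB1.tensorPow L' a) = PicF.pullCl p (PicF.cl (CohB1.tensorPow L a)) by
      rw [cl_tensorPow, cl_tensorPow, pullCl_pow]; rfl) (InvX.one t)
  obtain ⟨b, ⟨m, rfl⟩, hm⟩ := exists_locus_of_mem_span (PicClLib.isInvertible_pullback p hLa)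
    (SectionSpan.mem_span_pull hφ (ProjUPX.isQCoh_of_isInvertible hLa) t') (show x' ∈ locus t' from ht' ▸ hxt)
  have hlocm : locus (QCoh.pullSec p (CohB1.tensorPow L a) le_rfl m) = p ⁻¹ᵁ locus m := by
    rw [← locus_pullElt hLa p m]
    exact congrArg locus (AModX.res_self _)
  rw [hlocm] at hm
  let s : Coh.structureModule X ⟶ CohB1.tensorPow L a := InvX.ofSect m
  have hG : CohB1.genLocus _ s = locus m := by rw [genLocus_eq_locus, InvX.one_ofSect]
  refine ⟨a, ha, s, hG.ge hm, ?_⟩
  -- quasi-affineness descends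
  let G := CohB1.genLocus (CohB1.tensorPow L a) s
  have hGc : IsCompact (G : Set X) := by
    obtain ⟨W, hW, hWc⟩ := isCompact_iff_finite_and_eq_biUnion_affineOpens.mp
      (show IsCompact ((⊤ : X.Opens) : Set X) from isCompact_univ)
    have e : (G : Set X) = ⋃ V ∈ W, ((V.1 ⊓ G : X.Opens) : Set X) := by
      ext z
      simp only [Set.mem_iUnion, Opens.coe_inf, Set.mem_inter_iff, exists_prop, exists_and_left]
      refine ⟨fun hz => ?_, fun ⟨V, _, _, hz⟩ => hz⟩
      have : z ∈ (⊤ : X.Opens) := trivial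
      rw [hWc] at this
      simp only [Opens.mem_iSup] at this
      obtain ⟨V, hV, hzV⟩ := this
      exact ⟨V, hV, hzV, hz⟩
    rw [e]
    exact hW.isCompact_biUnion fun V _ => (isAffineOpen_inf_genLocus hLa V.2 s).isCompact
  obtain ⟨s', hs'⟩ := exists_pull_section hL p (InvX.one s)
  let t₀ : Coh.structureModule (pullback f g) ⟶ CohB1.tensorPow L' a := InvX.ofSect s'
  have hG' : CohB1.genLocus _ t₀ = p ⁻¹ᵁ G := by
    rw [genLocus_eq_locus, InvX.one_ofSect, hs', ← genLocus_eq_locus]
  haveI hqa : ((p ⁻¹ᵁ G : (pullback f g).Opens) : Scheme.{u}).IsQuasiAffine :=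
    hG' ▸ qa_genLocus h ha t₀ (hG'.symm ▸ p.isCompact_preimage hGc)
  haveI : CompactSpace (G : Scheme.{u}) := isCompact_iff_compactSpace.mp hGc
  haveI : QuasiSeparatedSpace (G : Scheme.{u}) :=
    quasiSeparatedSpace_of_quasiSeparated G.ι
  let φ := CommRingCat.ofHom (algebraMap A B)
  have hsq : IsPullback ((p ∣_ G)) ((p ⁻¹ᵁ G).ι ≫ q ≫ Y'.isoSpec.hom) (G.ι ≫ f ≫ Y.isoSpec.hom) (Spec.map φ) :=
    (isPullback_morphismRestrict p G).paste_vert hφ
  haveI : (pullback (Spec.map φ) (G.ι ≫ f ≫ Y.isoSpec.hom)).IsQuasiAffine :=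
    .of_isImmersion hsq.flip.isoPullback.inv
  exact ConsPropLib.isQuasiAffine_of_faithfullyFlat φ (G.ι ≫ f ≫ Y.isoSpec.hom)

end Groth.Agent.RGLib.AmpleDescent
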