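import Groth.Agent.AmpleX.Comp
import Groth.Agent.AmpleX.Extend
import Groth.Prelude.Def_MoreMor

/-!
# Extending sections on quasi-separated schemes; ample families upstairs
-/

universe u

open CategoryTheory AlgebraicGeometry TopologicalSpace
open Groth.Agent.H23.PicMul

set_option backward.isDefEq.respectTransparency false
set_option backward.isDefEq.respectTransparency.types false

namespace Groth.Agent.RGLib.AmpleFamily

open Groth.Agent Groth.Agent.AmpleX

variable {X Y : Scheme.{u}} {M L : X.Modules}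

/-- A section over the generating locus of `s` extends after multiplication by a power of `s`. -/
theorem exists_extend_qs [CompactSpace X] [QuasiSeparatedSpace X] (hM : Coh.IsQCoh M) (hL : PicF.IsInvertible L)
    (s : Coh.structureModule X ⟶ L) (t : Γ(M, CohB1.genLocus L s)) :
    ∃ n₀ : ℕ, ∀ n, n₀ ≤ n → ∃ T : Γ(CohB1.tensorMod M (CohB1.tensorPow L n), ⊤),
      AModX.res _ (le_top : CohB1.genLocus L s ≤ ⊤) T =
        InvX.tmul t (powElt (AModX.res L (le_top : CohB1.genLocus L s ≤ ⊤) (InvX.one s)) n) := by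
  classical
  let G := CohB1.genLocus L s
  have hloc : ∀ x : X, ∃ (U : X.Opens) (_ : IsAffineOpen U) (_ : x ∈ U) (e : Γ(L, U)), InvX.IsFrame e :=
    fun x => by
    obtain ⟨U, hxU, e, he⟩ := InvX.exists_frame hL x
    obtain ⟨_, ⟨W, hW, rfl⟩, hxW, hle⟩ :=
      X.isBasis_affineOpens.exists_subset_of_mem_open (show x ∈ U from hxU) U.2
    exact ⟨W, hW, hxW, _, he.res (show W ≤ U from hle)⟩
  choose U hU hxU e he using hloc
  obtain ⟨S, hS⟩ := isCompact_univ.elim_finite_subcover (fun x => (U x : Set X)) (fun x => (U x).2)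
    (fun x _ => Set.mem_iUnion.2 ⟨x, hxU x⟩)
  choose g hg using fun x => (he x).exists_coord le_rfl (AModX.res L (le_top : U x ≤ ⊤) (InvX.one s))
  simp only [AModX.res_self] at hg
  have hD : ∀ x, G ⊓ U x = X.basicOpen (g x) := fun x => InvX.genLocus_inf s (he x) (hg x)
  have hDle : ∀ x, X.basicOpen (g x) ≤ G := fun x => (hD x).ge.trans inf_le_left
  choose nx ax hax using fun x =>
    QCoh.exists_pow_smul_eq_map hM (hU x) (g x) (AModX.res M (hDle x) t)
  let N := S.sup nx
  obtain ⟨a, ha⟩ : ∃ a : ∀ x, Γ(M, U x), ∀ x ∈ S, AModX.res M (X.basicOpen_le (g x)) (a x) =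
      AModX.resR (X.basicOpen_le (g x)) (g x) ^ N • AModX.res M (hDle x) t := by
    refine ⟨fun x => g x ^ (N - nx x) • ax x, fun x hx => ?_⟩
    rw [AModX.res_smul, map_pow]
    refine (congrArg (_ • ·) (hax x)).trans ?_
    rw [← mul_smul]
    refine congrArg (· • _) ?_
    show _ * AModX.resR (X.basicOpen_le (g x)) (g x) ^ nx x = _
    rw [← pow_add, Nat.sub_add_cancel (Finset.le_sup hx)]
  -- transition functions
  choose u hu using fun x y => (he x).exists_coord (inf_le_left : U x ⊓ U y ≤ U x)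
    (AModX.res L (inf_le_right : U x ⊓ U y ≤ U y) (e y))
  have hgu : ∀ x y, AModX.resR (inf_le_left : U x ⊓ U y ≤ U x) (g x) =
      AModX.resR (inf_le_right : U x ⊓ U y ≤ U y) (g y) * u x y := fun x y => by
    refine (he x).coord_unique inf_le_left ?_
    rw [mul_smul, ← hu, ← AModX.res_smul, ← AModX.res_smul, ← hg, ← hg, AModX.res_res, AModX.res_res]
  have hcompat : ∀ x ∈ S, ∀ y ∈ S, ∃ m : ℕ,
      AModX.resR (inf_le_left : U x ⊓ U y ≤ U x) (g x) ^ m •
        (AModX.res M inf_le_left (a x) - u x y ^ N • AModX.res M inf_le_right (a y)) = 0 := by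
    intro x hx y hy
    refine QCoh.exists_pow_smul_eq_zero_of_isCompact hM
      (QuasiSeparatedSpace.inter_isCompact _ _ (U x).2 (hU x).isCompact (U y).2 (hU y).isCompact) _ _ ?_
    let W := U x ⊓ U y
    let gW := AModX.resR (inf_le_left : W ≤ U x) (g x)
    have hbW : X.basicOpen gW = W ⊓ X.basicOpen (g x) := X.basicOpen_res _ _
    have h1 : X.basicOpen gW ≤ X.basicOpen (g x) := hbW.le.trans inf_le_right
    have h2 : X.basicOpen gW ≤ X.basicOpen (g y) := by
      rw [← hD y]
      exact le_inf (h1.trans (hDle x)) ((X.basicOpen_le _).trans inf_le_right)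
    show AModX.res M (X.basicOpen_le gW) _ = 0
    rw [map_sub, sub_eq_zero, AModX.res_smul, AModX.res_res, AModX.res_res,
      ← AModX.res_res (X.basicOpen_le (g x)) h1, ha x hx,
      ← AModX.res_res (X.basicOpen_le (g y)) h2 (a y), ha y hy, AModX.res_smul, AModX.res_smul,
      AModX.res_res, AModX.res_res, map_pow, map_pow, map_pow, ← mul_smul, ← mul_pow,
      AModX.resR_resR, AModX.resR_resR]
    congr 2
    have h3 := congrArg (AModX.resR (X.basicOpen_le gW)) (hgu x y)
    rw [map_mul, AModX.resR_resR, AModX.resR_resR] at h3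
    rw [h3, mul_comm]
  choose! m hm using hcompat
  let m₀ := (S ×ˢ S).sup fun p => m p.1 p.2
  refine ⟨N + m₀, fun n hn => ?_⟩
  obtain ⟨k, rfl⟩ := Nat.exists_eq_add_of_le (le_trans (Nat.le_add_right N m₀) hn)
  have hk : m₀ ≤ k := by omega
  let T : ∀ x : S, Γ(CohB1.tensorMod M (CohB1.tensorPow L (N + k)), U x) := fun x =>
    InvX.tmul (g x ^ k • a x) (powElt (e x) (N + k))
  obtain ⟨T₀, hT₀, -⟩ := AModX.existsUnique_glue (M := CohB1.tensorMod M (CohB1.tensorPow L (N + k)))
    (V := (⊤ : X.Opens)) (fun x : S => U x) (fun _ => le_top)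
    (fun p _ => by
      obtain ⟨x, hxS, hpx⟩ := Set.mem_iUnion₂.1 (hS (Set.mem_univ p))
      exact ⟨⟨x, hxS⟩, hpx⟩) T
    (fun x y => by
      show AModX.res _ _ (InvX.tmul _ _) = AModX.res _ _ (InvX.tmul _ _)
      have hu' := hu x.1 y.1
      rw [InvX.res_tmul, InvX.res_tmul, res_powElt, res_powElt, hu', powElt_smul, InvX.tmul_smul_right,
        ← InvX.tmul_smul_left]
      refine congrArg (fun z => InvX.tmul z _) ?_
      have h0 := hm x.1 x.2 y.1 y.2
      obtain ⟨j, hj⟩ := Nat.exists_eq_add_of_le ((Finset.le_sup (f := fun p : X × X => m p.1 p.2)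
        (Finset.mk_mem_product x.2 y.2)).trans hk)
      have h1 : AModX.resR (inf_le_left : U x.1 ⊓ U y.1 ≤ U x.1) (g x.1) ^ k •
          (AModX.res M inf_le_left (a x.1) - u x.1 y.1 ^ N • AModX.res M inf_le_right (a y.1)) = 0 := by
        rw [hj, pow_add, mul_comm, mul_smul, h0, smul_zero]
      rw [smul_sub, sub_eq_zero] at h1
      rw [AModX.res_smul, AModX.res_smul, map_pow, map_pow]
      refine h1.trans ?_
      rw [← mul_smul, ← mul_smul, hgu, mul_pow, pow_add]
      congr 1
      ring)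
  refine ⟨T₀, AModX.eq_of_locally _ _ fun p hp => ?_⟩
  obtain ⟨x, hxS, hpx⟩ := Set.mem_iUnion₂.1 (hS (Set.mem_univ p))
  refine ⟨X.basicOpen (g x), hDle x, ?_, ?_⟩
  · rw [← hD x]; exact ⟨hp, hpx⟩
  rw [AModX.res_res, ← AModX.res_res (le_top : U x ≤ ⊤) (X.basicOpen_le (g x)), hT₀ ⟨x, hxS⟩,
    InvX.res_tmul, InvX.res_tmul, AModX.res_smul, ha x hxS, map_pow, ← mul_smul, ← pow_add,
    InvX.tmul_smul_left, ← InvX.tmul_smul_right, res_powElt, res_powElt, AModX.res_res,
    ← AModX.res_res (le_top : U x ≤ ⊤) (X.basicOpen_le (g x)) (InvX.one s), hg x, AModX.res_smul,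
    powElt_smul, add_comm k N]

/-- A scheme with an ample family is quasi-separated. -/
theorem quasiSeparatedSpace_of_hasAmpleFamily (hY : MoreMor.HasAmpleFamily Y) : QuasiSeparatedSpace Y := by
  classical
  obtain ⟨hc, h⟩ := hY
  choose N n s hN hn hys hs using h
  let A : Y → Y.Opens := fun y => CohB1.genLocus (CohB1.tensorPow (N y) (n y)) (s y)
  have hA : ∀ (W : Y.Opens), IsAffineOpen W → ∀ y, IsAffineOpen (W ⊓ A y) := fun W hW y =>
    isAffineOpen_inf_genLocus (InvX.isInvertible_tensorPow (hN y) (n y)) hW (s y)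
  obtain ⟨S, hS⟩ := isCompact_univ.elim_finite_subcover (fun y => (A y : Set Y)) (fun y => (A y).2)
    (fun y _ => Set.mem_iUnion.2 ⟨y, hys y⟩)
  rw [quasiSeparatedSpace_iff_forall_affineOpens]
  intro U V
  have e : ((U : Y.Opens) : Set Y) ∩ (V : Y.Opens) =
      ⋃ y ∈ S, (((U : Y.Opens) ⊓ A y : Y.Opens) : Set Y) ∩ (((V : Y.Opens) ⊓ A y : Y.Opens) : Set Y) := by
    ext z
    constructor
    · rintro ⟨h1, h2⟩
      obtain ⟨y, hy, hzy⟩ := Set.mem_iUnion₂.1 (hS (Set.mem_univ z))
      exact Set.mem_iUnion₂.2 ⟨y, hy, ⟨h1, hzy⟩, h2, hzy⟩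
    · intro hz
      obtain ⟨y, -, ⟨h1, -⟩, h2, -⟩ := Set.mem_iUnion₂.1 hz
      exact ⟨h1, h2⟩
  rw [e]
  refine S.finite_toSet.isCompact_biUnion fun y _ => ?_
  haveI : IsAffine (A y : Scheme.{u}) := hs y
  exact (hs y).isQuasiSeparated _ _
    inf_le_right (((U : Y.Opens) ⊓ A y : Y.Opens).2) (hA U U.2 y).isCompact
    inf_le_right (((V : Y.Opens) ⊓ A y : Y.Opens).2) (hA V V.2 y).isCompact

/-- An ample family on the base and a relatively ample module give an ample family. -/
theorem hasAmpleFamily_of_isRelAmple (f : X ⟶ Y) (hY : MoreMor.HasAmpleFamily Y) {L : X.Modules}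
    (hL : RelAmple.IsRelAmple f L) : MoreMor.HasAmpleFamily X := by
  haveI := quasiSeparatedSpace_of_hasAmpleFamily hY
  haveI : CompactSpace Y := hY.1
  haveI := hL.1
  haveI : IsSeparated f := isSeparated_of_ampleOn fun x => ampleOn_of_isRelAmple hL (f x)
  haveI : QuasiSeparatedSpace X := quasiSeparatedSpace_of_quasiSeparated f
  haveI : CompactSpace X := QuasiCompact.compactSpace_of_compactSpace f
  refine ⟨inferInstance, fun x => ?_⟩
  obtain ⟨N, n, s, hN, -, hys, hs⟩ := hY.2 (f x)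
  rw [genLocus_eq_locus] at hys hs
  obtain ⟨k, hk, b, hxb, -, hb⟩ := exists_sections_of_isRelAmple hL hs (x := x) hys (U := ⊤) trivial
  obtain ⟨a', ha'⟩ := exists_pull_section hN f (InvX.one s)
  let P := CohB1.tensorPow ((Scheme.Modules.pullback f).obj N) n
  have hP : PicF.IsInvertible P := InvX.isInvertible_tensorPow (PicClLib.isInvertible_pullback f hN) n
  let s' : Coh.structureModule X ⟶ P := InvX.ofSect (M := P) a'
  have hG : CohB1.genLocus P s' = locus a' := by rw [genLocus_eq_locus, InvX.one_ofSect]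
  have hGle : CohB1.genLocus P s' ≤ f ⁻¹ᵁ locus (InvX.one s) := (hG.trans ha').le
  have hiL := isInvertible_of_isRelAmple hL
  have hLk := InvX.isInvertible_tensorPow hiL k
  obtain ⟨j, hj⟩ := exists_extend_qs (M := CohB1.tensorPow L k) (ProjUPX.isQCoh_of_isInvertible hLk) hP s'
    (AModX.res _ hGle b)
  obtain ⟨T, hT⟩ := hj j le_rfl
  have h1 : locus T ⊓ CohB1.genLocus P s' = locus b := by
    have h2 := congrArg locus hT
    rw [locus_res, locus_tmul hLk (InvX.isInvertible_tensorPow hP j)] at h2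
    refine h2.trans ((inf_eq_left.2 ((locus_le _).trans (le_locus _ le_rfl ?_))).trans ?_)
    · rw [AModX.res_self]
      refine isFrame_powElt ?_ j
      exact isFrame_res_of_le (InvX.one s') (genLocus_eq_locus s').le
    · rw [locus_res]
      exact inf_eq_left.2 ((locus_le b).trans (ha'.ge.trans hG.ge))
  let Q := CohB1.tensorMod (CohB1.tensorMod (CohB1.tensorPow L k) (CohB1.tensorPow P j)) P
  have hQ : PicF.IsInvertible Q :=
    InvX.isInvertible_tensorMod (InvX.isInvertible_tensorMod hLk (InvX.isInvertible_tensorPow hP j)) hP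
  obtain ⟨c, hc⟩ := exists_locus_cl (N := CohB1.tensorPow Q 1)
    (show PicF.cl Q = _ by rw [cl_tensorPow, pow_one]) (InvX.tmul T (InvX.one s'))
  refine ⟨Q, 1, InvX.ofSect c, hQ, le_rfl, ?_⟩
  have hloc : CohB1.genLocus _ (InvX.ofSect c) = locus b := by
    rw [genLocus_eq_locus, InvX.one_ofSect, hc,
      locus_tmul (InvX.isInvertible_tensorMod hLk (InvX.isInvertible_tensorPow hP j)) hP,
      ← genLocus_eq_locus, h1]
  rw [hloc]
  exact ⟨hxb, hb⟩

end Groth.Agent.RGLib.AmpleFamily
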