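import Groth.Agent.RGLib.Lim8Alg
import Groth.Agent.QCoh.FT
import Groth.Agent.QCoh.Support
import Groth.Agent.QCoh.Extension
import Groth.Agent.FittX.Sheaf
import Groth.Agent.QCoh.LocFree

/-!
# Maps of quasi-coherent modules on a limit of schemes, at a stage
-/

set_option autoImplicit false
set_option linter.style.haveILetI false

universe u

open CategoryTheory CategoryTheory.Limits AlgebraicGeometry TopologicalSpace

namespace Groth.Agent.RGLib.Lim8

open Groth.Agent.QCoh

section Modules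

variable {X Y Z : Scheme.{u}}

/-- A map out of a quasi-coherent module vanishing on the sections over an affine cover vanishes. -/
theorem hom_eq_zero_of_cover {M N : X.Modules} (hM : Coh.IsQCoh M) (ψ : M ⟶ N) {ι : Type*}
    (W : ι → X.Opens) (hW : ∀ i, IsAffineOpen (W i)) (hcov : ∀ x : X, ∃ i, x ∈ W i)
    (h : ∀ i (s : Γ(M, W i)), ψ.app (W i) s = 0) : ψ = 0 := by
  refine Scheme.Modules.hom_ext _ _ fun U => ?_
  ext s
  show ψ.app U s = 0
  refine eq_zero_of_locally U _ fun p hp => ?_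
  obtain ⟨i, hi⟩ := hcov p
  obtain ⟨f, hf, hpf⟩ := (hW i).exists_basicOpen_le ⟨p, hp⟩ hi
  obtain ⟨n, t, ht⟩ := exists_pow_smul_eq_map hM (hW i) f (M.presheaf.map (homOfLE hf).op s)
  refine ⟨X.basicOpen f, homOfLE hf, hpf, ?_⟩
  have hu : IsUnit (X.presheaf.map (homOfLE (X.basicOpen_le f)).op f ^ n) :=
    (X.toRingedSpace.isUnit_res_basicOpen f).pow n
  rw [← map_app_comm]
  refine (hu.smul_eq_zero).1 ?_
  rw [← Scheme.Modules.Hom.app_smul, ← ht, map_app_comm, h i t, map_zero]

/-- The finite type property passes to quotients. -/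
theorem isFT_of_epi {M N : X.Modules} (φ : M ⟶ N) [Epi φ] (hM : Coh.IsQCoh M) (hN : Coh.IsQCoh N)
    (hft : CohB1.IsFT M) : CohB1.IsFT N := by
  choose U hU hxU _ using fun x : X => exists_isAffineOpen_mem_and_subset (x := x) (U := ⊤) trivial
  refine isFT_of_finite hN U (IsOpenCover.mk (eq_top_iff.2 fun x _ => Opens.mem_iSup.2 ⟨x, hxU x⟩)) hU
    fun x => ?_
  have := finite_of_isFT hM hft (hU x)
  exact Module.Finite.of_surjective
    ({ toFun := φ.app (U x), map_add' := map_add (φ.app (U x)).hom,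
       map_smul' := fun r y => φ.app_smul r y } : Γ(M, U x) →ₗ[Γ(X, U x)] Γ(N, U x))
    (app_surjective_of_epi hM hN φ (hU x))

/-- The kernel of a surjection from finite type onto finite presentation has finite type. -/
theorem isFT_kernel_of_epi {M N : X.Modules} (φ : M ⟶ N) [Epi φ] (hM : Coh.IsQCoh M)
    (hN : Coh.IsQCoh N) (hft : CohB1.IsFT M) (hfp : CohB1.IsFP N) : CohB1.IsFT (kernel φ) := by
  choose U hU hxU _ using fun x : X => exists_isAffineOpen_mem_and_subset (x := x) (U := ⊤) trivial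
  refine isFT_of_finite (isQCoh_kernel hM hN φ) U
    (IsOpenCover.mk (eq_top_iff.2 fun x _ => Opens.mem_iSup.2 ⟨x, hxU x⟩)) hU fun x => ?_
  have := finite_of_isFT hM hft (hU x)
  have := finitePresentation_of_isFP hfp (hU x)
  let l : Γ(M, U x) →ₗ[Γ(X, U x)] Γ(N, U x) :=
    { toFun := φ.app (U x), map_add' := map_add (φ.app (U x)).hom,
      map_smul' := fun r y => φ.app_smul r y }
  let ι : Γ(kernel φ, U x) →ₗ[Γ(X, U x)] LinearMap.ker l :=
    LinearMap.codRestrict _
      ({ toFun := (kernel.ι φ).app (U x), map_add' := map_add ((kernel.ι φ).app (U x)).hom,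
         map_smul' := fun r y => (kernel.ι φ).app_smul r y } : Γ(kernel φ, U x) →ₗ[Γ(X, U x)] Γ(M, U x))
      fun y => congrArg (fun ψ : kernel φ ⟶ N => ψ.app (U x) y) (kernel.condition φ)
  have hinj : Function.Injective ι := fun a b hab =>
    app_injective (kernel.ι φ) (U x) (congrArg Subtype.val hab)
  have hsurj : Function.Surjective ι := fun y => by
    obtain ⟨a, ha⟩ := exists_app_f_eq (S := ShortComplex.mk (kernel.ι φ) φ (kernel.condition φ))
      { exact := ShortComplex.exact_kernel φ, mono_f := inferInstance, epi_g := inferInstance } (U x) y.1 y.2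
    exact ⟨a, Subtype.ext ha⟩
  have : Module.Finite Γ(X, U x) (LinearMap.ker l) :=
    Module.Finite.of_fg (Module.FinitePresentation.fg_ker l (app_surjective_of_epi hM hN φ (hU x)))
  exact Module.Finite.equiv (LinearEquiv.ofBijective ι ⟨hinj, hsurj⟩).symm

/-- Finite presentation is stable under pullback. -/
theorem isFP_pullback (f : Y ⟶ X) {M : X.Modules} (hM : Coh.IsQCoh M) (hfp : CohB1.IsFP M) :
    CohB1.IsFP ((Scheme.Modules.pullback f).obj M) := by
  choose U hU hxU _ using fun y : Y => exists_isAffineOpen_mem_and_subset (x := f y) (U := ⊤) trivial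
  choose W hW hxW hle using fun y : Y => exists_isAffineOpen_mem_and_subset (x := y) (U := f ⁻¹ᵁ U y) (hxU y)
  refine QCoh.isFP_of_finitePresentation (isQCoh_pullback f hM) W
    (IsOpenCover.mk (eq_top_iff.2 fun x _ => Opens.mem_iSup.2 ⟨x, hxW x⟩)) hW fun x => ?_
  letI : Algebra Γ(X, U x) Γ(Y, W x) := (f.appLE (U x) (W x) (hle x)).hom.toAlgebra
  letI : Module Γ(X, U x) Γ((Scheme.Modules.pullback f).obj M, W x) :=
    Module.compHom _ (f.appLE (U x) (W x) (hle x)).hom
  haveI : IsScalarTower Γ(X, U x) Γ(Y, W x) Γ((Scheme.Modules.pullback f).obj M, W x) :=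
    ⟨fun a b c => mul_smul ((f.appLE (U x) (W x) (hle x)).hom a) b c⟩
  let l : Γ(M, U x) →ₗ[Γ(X, U x)] Γ((Scheme.Modules.pullback f).obj M, W x) :=
    { toFun := pullSec f M (hle x)
      map_add' := pullSec_add f M (hle x)
      map_smul' := pullSec_smul f M (hle x) }
  have hb : IsBaseChange Γ(Y, W x) l :=
    isBaseChange_pullback (hU x) f (hW x) hM (hle x) (fun _ => rfl) l fun _ => rfl
  have := QCoh.finitePresentation_of_isFP hfp (hU x)
  exact Module.FinitePresentation.of_equiv hb.equiv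

theorem pullSec_naturality (f : Y ⟶ X) {M N : X.Modules} (u : M ⟶ N) {V : X.Opens} {W : Y.Opens}
    (hle : W ≤ f ⁻¹ᵁ V) (x : Γ(M, V)) :
    ((Scheme.Modules.pullback f).map u).app W (pullSec f M hle x) = pullSec f N hle (u.app V x) := by
  unfold pullSec
  rw [map_app_comm]
  refine congrArg _ ?_
  have h := (Scheme.Modules.pullbackPushforwardAdjunction f).unit.naturality u
  exact (congrArg (fun ψ => Scheme.Modules.Hom.app ψ V x) h).symm

/-- Two successive inverse images of a map, and the inverse image along the composite. -/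
theorem pullback_map_map (g : Z ⟶ Y) (f : Y ⟶ X) (h : Z ⟶ X) (hgf : g ≫ f = h) {M N : X.Modules}
    (u : M ⟶ N) : (Scheme.Modules.pullback g).map ((Scheme.Modules.pullback f).map u) =
      (Scheme.Modules.pullbackComp g f ≪≫ Scheme.Modules.pullbackCongr hgf).hom.app M ≫
        (Scheme.Modules.pullback h).map u ≫
          (Scheme.Modules.pullbackComp g f ≪≫ Scheme.Modules.pullbackCongr hgf).inv.app N :=
  (NatIso.naturality_2 (Scheme.Modules.pullbackComp g f ≪≫ Scheme.Modules.pullbackCongr hgf) u).symm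

theorem map_map_eq_zero_iff {g : Z ⟶ Y} {f : Y ⟶ X} {h : Z ⟶ X} (hgf : g ≫ f = h) {M N : X.Modules}
    (u : M ⟶ N) : (Scheme.Modules.pullback g).map ((Scheme.Modules.pullback f).map u) = 0 ↔
      (Scheme.Modules.pullback h).map u = 0 := by
  rw [pullback_map_map g f h hgf u, Preadditive.IsIso.comp_left_eq_zero,
    Preadditive.IsIso.comp_right_eq_zero]

theorem map_map_isIso_iff {g : Z ⟶ Y} {f : Y ⟶ X} {h : Z ⟶ X} (hgf : g ≫ f = h) {M N : X.Modules}
    (u : M ⟶ N) : IsIso ((Scheme.Modules.pullback g).map ((Scheme.Modules.pullback f).map u)) ↔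
      IsIso ((Scheme.Modules.pullback h).map u) := by
  rw [pullback_map_map g f h hgf u, isIso_comp_left_iff, isIso_comp_right_iff]

theorem map_map_epi_iff {g : Z ⟶ Y} {f : Y ⟶ X} {h : Z ⟶ X} (hgf : g ≫ f = h) {M N : X.Modules}
    (u : M ⟶ N) : Epi ((Scheme.Modules.pullback g).map ((Scheme.Modules.pullback f).map u)) ↔
      Epi ((Scheme.Modules.pullback h).map u) := by
  rw [pullback_map_map g f h hgf u]
  rw [epi_comp_iff_of_epi, epi_comp_iff_of_isIso]

theorem map_eq_zero_of_comp {g : Z ⟶ Y} {f : Y ⟶ X} {h : Z ⟶ X} (hgf : g ≫ f = h) {M N : X.Modules}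
    {u : M ⟶ N} (hu : (Scheme.Modules.pullback f).map u = 0) : (Scheme.Modules.pullback h).map u = 0 :=
  (map_map_eq_zero_iff hgf u).1 (by rw [hu, Functor.map_zero])

theorem epi_of_comp {g : Z ⟶ Y} {f : Y ⟶ X} {h : Z ⟶ X} (hgf : g ≫ f = h) {M N : X.Modules}
    {u : M ⟶ N} (hu : Epi ((Scheme.Modules.pullback f).map u)) :
    Epi ((Scheme.Modules.pullback h).map u) :=
  (map_map_epi_iff hgf u).1 inferInstance

theorem isIso_of_comp {g : Z ⟶ Y} {f : Y ⟶ X} {h : Z ⟶ X} (hgf : g ≫ f = h) {M N : X.Modules}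
    {u : M ⟶ N} (hu : IsIso ((Scheme.Modules.pullback f).map u)) :
    IsIso ((Scheme.Modules.pullback h).map u) :=
  (map_map_isIso_iff hgf u).1 inferInstance

/-- An inverse image of a map is surjective exactly when that of its cokernel vanishes. -/
theorem epi_pullback_map_iff (f : Y ⟶ X) {M N : X.Modules} (u : M ⟶ N) :
    Epi ((Scheme.Modules.pullback f).map u) ↔ (Scheme.Modules.pullback f).map (𝟙 (cokernel u)) = 0 := by
  haveI : (Scheme.Modules.pullback f).IsLeftAdjoint :=
    (Scheme.Modules.pullbackPushforwardAdjunction f).isLeftAdjoint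
  rw [CategoryTheory.Functor.map_id, ← IsZero.iff_id_eq_zero]
  refine ⟨fun _ => ?_, fun h => ?_⟩
  · exact (isZero_cokernel_of_epi ((Scheme.Modules.pullback f).map u)).of_iso
      (PreservesCokernel.iso (Scheme.Modules.pullback f) u)
  · exact Preadditive.epi_of_isZero_cokernel _
      (h.of_iso (PreservesCokernel.iso (Scheme.Modules.pullback f) u).symm)

/-- An epimorphism whose kernel inclusion pulls back to zero pulls back to an isomorphism. -/
theorem isIso_pullback_map_of_kernel (f : Y ⟶ X) {M N : X.Modules} (u : M ⟶ N) [Epi u]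
    (h : (Scheme.Modules.pullback f).map (kernel.ι u) = 0) :
    IsIso ((Scheme.Modules.pullback f).map u) := by
  haveI : (Scheme.Modules.pullback f).IsLeftAdjoint :=
    (Scheme.Modules.pullbackPushforwardAdjunction f).isLeftAdjoint
  have hcol : IsColimit (CokernelCofork.ofπ u (kernel.condition u)) :=
    (ShortComplex.exact_kernel u).gIsCokernel
  have hcol' := isColimitCoforkMapOfIsColimit' (Scheme.Modules.pullback f) (kernel.condition u) hcol
  exact CokernelCofork.IsColimit.isIso_π _ hcol' h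

end Modules

section Limit

variable {I : Type u} [SmallCategory I] [IsCofiltered I] (D : I ⥤ Scheme.{u}) (c : Cone D)
  (hc : IsLimit c) [∀ (i j : I) (f : i ⟶ j), IsAffineHom (D.map f)] {i₀ : I} [CompactSpace (D.obj i₀)]
  {F G : (D.obj i₀).Modules}

omit [IsCofiltered I] [∀ (i j : I) (f : i ⟶ j), IsAffineHom (D.map f)] [CompactSpace (D.obj i₀)] in
theorem π_eq {j : I} (φ : j ⟶ i₀) : c.π.app j ≫ D.map φ = c.π.app i₀ := c.w φ

include hc in
/-- A map out of a module of finite type which vanishes on the limit vanishes from some stage on. -/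
theorem ev_zero (hF : Coh.IsQCoh F) (hft : CohB1.IsFT F) (hG : Coh.IsQCoh G) (u : F ⟶ G)
    (h : (Scheme.Modules.pullback (c.π.app i₀)).map u = 0) :
    Ev (fun j (φ : j ⟶ i₀) => (Scheme.Modules.pullback (D.map φ)).map u = 0) := by
  classical
  choose U hU hxU _ using fun x : (D.obj i₀) =>
    exists_isAffineOpen_mem_and_subset (x := x) (U := ⊤) trivial
  obtain ⟨t, ht⟩ := isCompact_univ.elim_finite_subcover (fun x => (U x : Set (D.obj i₀)))
    (fun x => (U x).isOpen) fun x _ => Set.mem_iUnion.2 ⟨x, hxU x⟩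
  have key : ∀ x : t, Ev (fun j (φ : j ⟶ i₀) => ∀ n : Γ(F, U x.1),
      pullSec (D.map φ) G le_rfl (u.app (U x.1) n) =
        (0 : Γ((Scheme.Modules.pullback (D.map φ)).obj G, D.map φ ⁻¹ᵁ U x.1))) := fun x => by
    obtain ⟨s, hs⟩ := (finite_of_isFT hF hft (hU x.1)).fg_top
    refine (Ev.forall_finset s fun n _ => ev_pullSec_zero D c hc (hU x.1) hG (u.app (U x.1) n) ?_).mono
      fun j φ hj n => ?_
    · rw [← pullSec_naturality, h]
      rfl
    · have hn : n ∈ Submodule.span Γ(D.obj i₀, U x.1) (s : Set Γ(F, U x.1)) := hs ▸ Submodule.mem_top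
      induction hn using Submodule.span_induction with
      | mem a ha => exact hj a ha
      | zero => rw [map_zero]; exact (pullSecₛₗ (D.map φ) G (U x.1)).map_zero
      | add a b _ _ ha hb => rw [map_add, pullSec_add, ha, hb, add_zero]
      | smul r a _ ha => rw [Scheme.Modules.Hom.app_smul, pullSec_smul, ha, smul_zero]
  refine (Ev.forall_fintype key).mono fun j φ hj => ?_
  refine hom_eq_zero_of_cover (isQCoh_pullback (D.map φ) hF) _ (fun x : t => D.map φ ⁻¹ᵁ U x.1)
    (fun x => (hU x.1).preimage (D.map φ)) (fun y => ?_) fun x s => ?_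
  · obtain ⟨x, hx, hy⟩ := Set.mem_iUnion₂.1 (ht (Set.mem_univ (D.map φ y)))
    exact ⟨⟨x, hx⟩, hy⟩
  · let V := U x.1
    let W := D.map φ ⁻¹ᵁ V
    let N := (Scheme.Modules.pullback (D.map φ)).obj F
    letI : Algebra Γ(D.obj i₀, V) Γ(D.obj j, W) := ((D.map φ).appLE V W le_rfl).hom.toAlgebra
    letI : Module Γ(D.obj i₀, V) Γ(N, W) := Module.compHom _ ((D.map φ).appLE V W le_rfl).hom
    haveI : IsScalarTower Γ(D.obj i₀, V) Γ(D.obj j, W) Γ(N, W) :=
      ⟨fun a b y => mul_smul (((D.map φ).appLE V W le_rfl).hom a) b y⟩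
    let l : Γ(F, V) →ₗ[Γ(D.obj i₀, V)] Γ(N, W) :=
      { toFun := pullSec (D.map φ) F le_rfl
        map_add' := pullSec_add (D.map φ) F le_rfl
        map_smul' := pullSec_smul (D.map φ) F le_rfl }
    have hb : IsBaseChange Γ(D.obj j, W) l :=
      isBaseChange_pullback (hU x.1) (D.map φ) ((hU x.1).preimage _) hF le_rfl (fun _ => rfl) l fun _ => rfl
    induction s using hb.inductionOn with
    | zero => exact map_zero _
    | tmul n => exact (pullSec_naturality (D.map φ) u le_rfl n).trans (hj x n)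
    | smul r n hn => rw [Scheme.Modules.Hom.app_smul, hn, smul_zero]
    | add a b ha hb' => rw [map_add, ha, hb', add_zero]

include hc in
theorem map_eq_zero_iff (hF : Coh.IsQCoh F) (hft : CohB1.IsFT F) (hG : Coh.IsQCoh G) (u : F ⟶ G) :
    (Scheme.Modules.pullback (c.π.app i₀)).map u = 0 ↔
      ∃ (j : I) (φ : j ⟶ i₀), (Scheme.Modules.pullback (D.map φ)).map u = 0 :=
  ⟨fun h => (ev_zero D c hc hF hft hG u h).exists_stage,
    fun ⟨j, φ, h⟩ => map_eq_zero_of_comp (π_eq D c φ) h⟩

include hc in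
theorem ev_epi (hF : Coh.IsQCoh F) (hG : Coh.IsQCoh G) (hft : CohB1.IsFT G) (u : F ⟶ G)
    (h : Epi ((Scheme.Modules.pullback (c.π.app i₀)).map u)) :
    Ev (fun j (φ : j ⟶ i₀) => Epi ((Scheme.Modules.pullback (D.map φ)).map u)) :=
  (ev_zero D c hc (isQCoh_cokernel hF hG u)
    (isFT_of_epi (cokernel.π u) hG (isQCoh_cokernel hF hG u) hft) (isQCoh_cokernel hF hG u) _
    ((epi_pullback_map_iff _ u).1 h)).mono fun _ φ hj => (epi_pullback_map_iff _ u).2 hj

include hc in
theorem epi_iff (hF : Coh.IsQCoh F) (hG : Coh.IsQCoh G) (hft : CohB1.IsFT G) (u : F ⟶ G) :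
    Epi ((Scheme.Modules.pullback (c.π.app i₀)).map u) ↔
      ∃ (j : I) (φ : j ⟶ i₀), Epi ((Scheme.Modules.pullback (D.map φ)).map u) :=
  ⟨fun h => (ev_epi D c hc hF hG hft u h).exists_stage,
    fun ⟨j, φ, h⟩ => epi_of_comp (π_eq D c φ) h⟩

include hc in
theorem ev_isIso (hF : Coh.IsQCoh F) (hFft : CohB1.IsFT F) (hG : Coh.IsQCoh G) (hGfp : CohB1.IsFP G)
    
    (u : F ⟶ G) (h : IsIso ((Scheme.Modules.pullback (c.π.app i₀)).map u)) :
    Ev (fun j (φ : j ⟶ i₀) => IsIso ((Scheme.Modules.pullback (D.map φ)).map u)) := by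
  have hGft : CohB1.IsFT G := QCoh.isFT_of_isFP hGfp
  obtain ⟨j, φ, he⟩ := (ev_epi D c hc hF hG hGft u inferInstance).exists_stage
  have hj : CompactSpace (D.obj j) := QuasiCompact.compactSpace_of_compactSpace (D.map φ)
  let uj := (Scheme.Modules.pullback (D.map φ)).map u
  have : Epi uj := he
  have hFj := isQCoh_pullback (D.map φ) hF
  have hGj := isQCoh_pullback (D.map φ) hG
  have hFjft := FittX.isFT_pullback (D.map φ) hF hFft
  have : IsIso ((Scheme.Modules.pullback (c.π.app j)).map uj) :=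
    (map_map_isIso_iff (π_eq D c φ) u).2 h
  have hz : (Scheme.Modules.pullback (c.π.app j)).map (kernel.ι uj) = 0 := by
    rw [← cancel_mono ((Scheme.Modules.pullback (c.π.app j)).map uj), ← Functor.map_comp,
      kernel.condition, Functor.map_zero, zero_comp]
  obtain ⟨k, ψ, hk⟩ := ev_zero D c hc (isQCoh_kernel hFj hGj uj)
    (isFT_kernel_of_epi uj hFj hGj hFjft (isFP_pullback (D.map φ) hG hGfp)) hFj (kernel.ι uj) hz
  refine ⟨k, ψ ≫ φ, fun l χ => ?_⟩
  rw [← Category.assoc]
  exact (map_map_isIso_iff (D.map_comp (χ ≫ ψ) φ).symm u).1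
    (isIso_pullback_map_of_kernel _ uj (hk l χ))

include hc in
theorem isIso_iff (hF : Coh.IsQCoh F) (hFft : CohB1.IsFT F) (hG : Coh.IsQCoh G) (hGfp : CohB1.IsFP G)
    (u : F ⟶ G) : IsIso ((Scheme.Modules.pullback (c.π.app i₀)).map u) ↔
      ∃ (j : I) (φ : j ⟶ i₀), IsIso ((Scheme.Modules.pullback (D.map φ)).map u) :=
  ⟨fun h => (ev_isIso D c hc hF hFft hG hGfp u h).exists_stage,
    fun ⟨j, φ, h⟩ => isIso_of_comp (π_eq D c φ) h⟩

end Limit

end Groth.Agent.RGLib.Lim8
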