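import Groth.Agent.SymX.ImmPoint
import Groth.Agent.SymX.ImmLocal
import Groth.Agent.SymX.VeryAmpleTwist
import Groth.Agent.RGLib.RelAmplePn

/-!
# The twisting sheaf of projective space is very ample
-/

set_option linter.style.haveILetI false
set_option backward.isDefEq.respectTransparency false
set_option backward.isDefEq.respectTransparency.types false

noncomputable section

universe u

open CategoryTheory CategoryTheory.Limits AlgebraicGeometry TopologicalSpace Opposite HomogeneousLocalization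
open Groth.Agent.AModX (res resR)

namespace Groth.Agent.RGLib.PnVeryAmple

open Groth.Agent Groth.Agent.AmpleX

variable (N : ℕ)

theorem isRelVeryAmple_twist :
    RelProj.IsRelVeryAmple (CohB1.ProjSpace.toSpec N (ULift.{u} ℤ)) (Twist.twistProjSpace N (ULift.{u} ℤ) 1) := by
  classical
  let Z := ULift.{u} ℤ
  let 𝒜 := CohB1.polyGrading N Z
  let T : ULift.{u} (Fin (N + 1)) → MvPolynomial (Fin (N + 1)) Z := fun i => MvPolynomial.X i.down
  have hT : ∀ i, T i ∈ 𝒜 1 := fun i => ProjPt.X_mem i.down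
  have hgen : Algebra.adjoin Z (Set.range T) = ⊤ := by
    rw [show Set.range T = Set.range (MvPolynomial.X : Fin (N + 1) → _) from
      Set.ext fun p => ⟨fun ⟨i, h⟩ => ⟨i.down, h⟩, fun ⟨i, h⟩ => ⟨⟨i⟩, h⟩⟩]
    exact MvPolynomial.adjoin_range_X
  let g := CohB1.ProjSpace.toSpec N Z
  haveI : IsProper g := PnCoh.Chow.isProper_toSpec N _
  let r : Proj 𝒜 ⟶ Proj 𝒜 := 𝟙 _
  let M := (Scheme.Modules.pullback r).obj (Twist.twist 𝒜 1)
  refine SymX.isRelVeryAmple_of_iso (g := g) (L := M) ((Scheme.Modules.pullbackId (Proj 𝒜)).app _) ?_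
  have hM : PicF.IsInvertible M := InvX.isInvertible_of_frames fun x => by
    obtain ⟨l, hl⟩ := PnCoh.Chow.cov_coord Z (r x)
    exact ⟨_, hl, _, ProjUPX.isFrame_pullG r (hT l)⟩
  have hloc : ∀ l, locus (U := (⊤ : (Proj 𝒜).Opens)) (ProjUPX.pullG r (hT l)) = Proj.basicOpen 𝒜 (T l) := by
    intro l
    refine le_antisymm (fun x hx => ?_) (le_locus _ le_top (ProjUPX.isFrame_pullG r (hT l)))
    obtain ⟨b, hb⟩ := PnCoh.Chow.cov_coord Z x
    let W : (Proj 𝒜).Opens := locus (U := (⊤ : (Proj 𝒜).Opens)) (ProjUPX.pullG r (hT l)) ⊓ r ⁻¹ᵁ Proj.basicOpen 𝒜 (T b)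
    have h1 := ProjUPX.res_pullG r (hT l) (hT b) (inf_le_right : W ≤ _)
    obtain ⟨c, hc⟩ := (isFrame_res_of_le (ProjUPX.pullG r (hT l)) (inf_le_left : W ≤ _)).exists_coord le_rfl
      (res M (le_top : W ≤ ⊤) (ProjUPX.pullG r (hT b)))
    rw [AModX.res_self] at hc
    have hu : IsUnit (ProjUPX.ratioOf r (hT l) (hT b) (inf_le_right : W ≤ _)) := by
      refine IsUnit.of_mul_eq_one c ((isFrame_res_of_le (ProjUPX.pullG r (hT l)) (inf_le_left : W ≤ _)).coord_unique le_rfl ?_)
      rw [AModX.res_self, one_smul, mul_smul, ← hc, ← h1]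
    exact ProjUPX.le_preimage_of_isUnit r (hT l) (hT b) (inf_le_right : W ≤ _) hu
      (show x ∈ W from ⟨hx, hb⟩)
  refine SymX.isRelVeryAmple_of_immPoints (E := (Scheme.Modules.pushforward g).obj M) (θ := 𝟙 _)
    (QCoh.isQCoh_pushforward g (ProjUPX.isQCoh_of_isInvertible hM)) fun x => ?_
  obtain ⟨l, hl⟩ := PnCoh.Chow.cov_coord Z x
  refine ⟨⊤, isAffineOpen_top _, ProjUPX.pullG r (hT l), (hloc l).ge hl, ?_⟩
  let e : Γ((Scheme.Modules.pushforward g).obj M, ⊤) := ProjUPX.pullG r (hT l)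
  let O := locus (U := g ⁻¹ᵁ ⊤) (SymX.th g (𝟙 _) e)
  have hO : O = Proj.basicOpen 𝒜 (T l) := hloc l
  have hOaff : IsAffineOpen O := hO ▸ Proj.isAffineOpen_basicOpen 𝒜 _ (hT l) one_pos
  have htop : Subring.closure (SymX.ratioSet g (𝟙 _) e) = ⊤ := by
    refine eq_top_iff.2 fun z _ => ?_
    have hle : O ≤ r ⁻¹ᵁ Proj.basicOpen 𝒜 (T l) := hO.le
    let χ : Away 𝒜 (T l) →+* Γ(Proj 𝒜, O) :=
      (r.appLE (Proj.basicOpen 𝒜 (T l)) O hle).hom.comp (Proj.awayToSection 𝒜 (T l)).hom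
    have hsurj : Function.Surjective χ := by
      haveI : IsIso (Proj.awayToSection 𝒜 (T l)) := inferInstanceAs
        (IsIso (Proj.basicOpenIsoAway 𝒜 (T l) (hT l) one_pos).hom)
      have h2 : Function.Surjective (r.appLE (Proj.basicOpen 𝒜 (T l)) O hle).hom := by
        haveI : IsIso (r.appLE (Proj.basicOpen 𝒜 (T l)) O hle) := by
          show IsIso (r.app _ ≫ (Proj 𝒜).presheaf.map (homOfLE hle).op)
          have : homOfLE hle = eqToHom hO := Subsingleton.elim _ _
          rw [this]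
          infer_instance
        exact ((ConcreteCategory.isIso_iff_bijective _).1 inferInstance).2
      have h3 : Function.Surjective (Proj.awayToSection 𝒜 (T l)).hom :=
        ((ConcreteCategory.isIso_iff_bijective (Proj.awayToSection 𝒜 (T l))).1 inferInstance).2
      exact h2.comp h3
    obtain ⟨w, rfl⟩ := hsurj z
    obtain ⟨n, a, ha, rfl⟩ := HomogeneousLocalization.Away.mk_surjective 𝒜 (hT l) w
    have ha1 : a ∈ 𝒜 n := by simpa using ha
    obtain ⟨p, hp, hpa⟩ := ProjUPX.exists_homogeneous_preimage 𝒜 hT hgen ha1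
    subst hpa
    rw [ProjUPX.away_mk_eq_eval hT (hT l) n p hp ha, MvPolynomial.map_eval₂Hom]
    suffices key : ∀ q, MvPolynomial.eval₂Hom _ _ q ∈ Subring.closure (SymX.ratioSet g (𝟙 _) e) from key p
    intro p
    induction p using MvPolynomial.induction_on with
    | C c =>
      rw [MvPolynomial.eval₂Hom_C]
      have hint : ∀ (φ : Z →+* Γ(Proj 𝒜, O)), φ c = (c.down : Γ(Proj 𝒜, O)) := fun φ => by
        rw [show c = ((c.down : ℤ) : Z) from rfl, map_intCast]; rfl
      refine Eq.subst (motive := fun w => w ∈ Subring.closure (SymX.ratioSet g (𝟙 _) e)) (hint _).symm ?_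
      exact intCast_mem (Subring.closure (SymX.ratioSet g (𝟙 _) e)) c.down
    | add p q hp hq => rw [map_add]; exact Subring.add_mem _ hp hq
    | mul_X p i hp =>
      rw [map_mul, MvPolynomial.eval₂Hom_X']
      refine Subring.mul_mem _ hp (Subring.subset_closure (Or.inr ⟨ProjUPX.pullG r (hT i), ?_⟩))
      exact ProjUPX.res_pullG r (hT i) (hT l) hle
  show IsImmersion (SymX.subSpec O _)
  haveI : IsAffine O.toScheme := hOaff
  haveI : IsImmersion (O.toSpecΓ ≫ Spec.map (𝟙 _)) := by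
    rw [Spec.map_id, Category.comp_id, ← IsAffineOpen.isoSpec_hom hOaff]
    infer_instance
  exact SymX.isImmersion_subSpec_of_hom O (𝟙 _) _ fun a => htop.ge trivial

theorem isRelVeryAmple_of_isRelVeryAmplePn {X Y : Scheme.{u}} (q : X ⟶ Y) {L : X.Modules}
    (h : RelAmple.IsRelVeryAmplePn q L) : RelProj.IsRelVeryAmple q L := by
  obtain ⟨n, i, hi, hiq, ⟨τ⟩⟩ := h
  let p := CohB1.ProjSpace.toSpec n (ULift.{u} ℤ)
  let i' : X ⟶ pullback p (specULiftZIsTerminal.from Y) := i
  haveI : IsImmersion i' := hi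
  have h1 := SymX.isRelVeryAmple_baseChange (IsPullback.of_hasPullback p (specULiftZIsTerminal.from Y))
    (isRelVeryAmple_twist n)
  have h2 := SymX.isRelVeryAmple_immersion_comp i' h1
  rw [show i' ≫ pullback.snd p (specULiftZIsTerminal.from Y) = q from hiq] at h2
  exact SymX.isRelVeryAmple_of_iso τ.symm h2

theorem isRelVeryAmple_of_cover {X S : Scheme.{u}} (f : X ⟶ S) [QuasiCompact f] (L : X.Modules)
    (hL : PicF.IsInvertible L) {ι : Type u} (V : ι → S.Opens) (hV : (⨆ j, V j) = ⊤)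
    (h : ∀ j, RelAmple.IsRelVeryAmplePn (f ∣_ V j) (L.restrict (f ⁻¹ᵁ V j).ι)) :
    RelProj.IsRelVeryAmple f L :=
  (SymX.isRelVeryAmple_iff_restrict V hV hL).2 fun j => isRelVeryAmple_of_isRelVeryAmplePn _ (h j)

end Groth.Agent.RGLib.PnVeryAmple
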