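import Groth.Agent.VAmple.Embed
import Groth.Agent.SymX.FiniteImm
import Groth.Agent.SymX.VeryAmpleTensor
import Groth.Agent.SymX.ImmLocal

/-!
# Very ample over an affine base gives an immersion into projective space
-/

set_option autoImplicit false
set_option linter.style.haveILetI false
set_option backward.isDefEq.respectTransparency false
set_option backward.isDefEq.respectTransparency.types false

universe u

open CategoryTheory CategoryTheory.Limits AlgebraicGeometry TopologicalSpace Opposite HomogeneousLocalization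
open Groth.Agent.AModX (res resR)

namespace Groth.Agent.RGLib.VAmpleImm

open Groth.Agent Groth.Agent.AmpleX Groth.Agent.VAmple

variable {X Y : Scheme.{u}} [IsAffine Y] {M : X.Modules}

/-- Sections with coordinates generating the functions on affine loci give an immersion in projective space. -/
theorem exists_immersion_of_ratios (q : X ⟶ Y) (hM : PicF.IsInvertible M) (N : ℕ)
    (s : ULift.{u} (Fin (N + 1)) → Γ(M, ⊤))
    (hs : ∀ x : X, ∃ (l : ULift.{u} (Fin (N + 1))), x ∈ locus (s l) ∧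
      IsImmersion (SymX.subSpec (locus (s l)) (Subring.closure
        (Set.range ((resR (le_top : locus (s l) ≤ ⊤)).comp q.appTop.hom) ∪
        {v : Γ(X, locus (s l)) | ∃ i, res _ (le_top : locus (s l) ≤ ⊤) (s i) =
          v • res _ (le_top : locus (s l) ≤ ⊤) (s l)})))) :
    RelAmple.IsRelVeryAmplePn q M := by
  classical
  let Z := ULift.{u} ℤ
  let 𝒜 := CohB1.polyGrading N Z
  let T : ULift.{u} (Fin (N + 1)) → MvPolynomial (Fin (N + 1)) Z := fun i => MvPolynomial.X i.down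
  have hT : ∀ i, T i ∈ 𝒜 1 := fun i => ProjPt.X_mem i.down
  have hgen : Algebra.adjoin Z (Set.range T) = ⊤ := by
    rw [show Set.range T = Set.range (MvPolynomial.X : Fin (N + 1) → _) from
      Set.ext fun p => ⟨fun ⟨i, h⟩ => ⟨i.down, h⟩, fun ⟨i, h⟩ => ⟨⟨i⟩, h⟩⟩]
    exact MvPolynomial.adjoin_range_X
  have hsgen : ProjUP.GeneratedBy M s := fun x => by
    obtain ⟨l, hxV, -⟩ := hs x
    have hf : InvX.IsFrame (res M (le_top : locus (s l) ≤ ⊤) (s l)) := isFrame_res_of_le (s l) le_rfl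
    refine top_le_iff.1 fun w _ => ?_
    obtain ⟨c, hc⟩ := (hf.germ_bijective hxV).2 w
    rw [← hc]
    refine Submodule.smul_mem _ c (Submodule.subset_span ⟨l, ?_⟩)
    exact (InvX.germ_res' le_top hxV (s l)).symm
  let qZ : X ⟶ Spec (CommRingCat.of Z) := specULiftZIsTerminal.from X
  obtain ⟨r, hr, τ, hτ⟩ := ProjUPX.exists_map (𝒜 := 𝒜) qZ hM _ T hT hgen (PnCoh.Chow.cov_coord Z) s hsgen
    (fun V v k _ _ => ⟨MvPolynomial.eval₂Hom ((resR (le_top : V ≤ ⊤)).comp (ProjUP.toGlobal qZ)) (fun i => v ⟨i⟩),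
      fun l => MvPolynomial.eval₂Hom_X' _ _ _, fun z => MvPolynomial.eval₂Hom_C _ _ z⟩)
  have hw : r ≫ CohB1.ProjSpace.toSpec N Z = q ≫ specULiftZIsTerminal.from _ := specULiftZIsTerminal.hom_ext _ _
  let i : X ⟶ pullback (CohB1.ProjSpace.toSpec N Z) (specULiftZIsTerminal.from Y) :=
    pullback.lift r q hw
  have hi1 : i ≫ pullback.fst _ _ = r := pullback.lift_fst _ _ _
  have hi2 : i ≫ pullback.snd _ _ = q := pullback.lift_snd _ _ _
  let p1 := pullback.fst (CohB1.ProjSpace.toSpec N Z) (specULiftZIsTerminal.from Y)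
  have hframe : ∀ l, InvX.IsFrame (res M (le_top : r ⁻¹ᵁ Proj.basicOpen 𝒜 (T l) ≤ ⊤) (s l)) := fun l => by
    have h := InvX.IsFrame.map_iso τ (ProjUPX.isFrame_pullG r (hT l))
    rw [AModX.app_res, show τ.hom.app ⊤ (ProjUPX.pullG r (hT l)) = s l from hτ l] at h
    exact h
  have hpre : ∀ l, r ⁻¹ᵁ Proj.basicOpen 𝒜 (T l) = locus (s l) := fun l => by
    refine le_antisymm (le_locus _ le_top (hframe l)) fun x hx => ?_
    obtain ⟨b, hb⟩ := PnCoh.Chow.cov_coord Z (r x)
    let W : X.Opens := locus (s l) ⊓ r ⁻¹ᵁ Proj.basicOpen 𝒜 (T b)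
    have h1 := congrArg (τ.hom.app W) (ProjUPX.res_pullG r (hT l) (hT b) (inf_le_right : W ≤ _))
    rw [Scheme.Modules.Hom.app_smul, AModX.app_res, AModX.app_res,
      show τ.hom.app ⊤ (ProjUPX.pullG r (hT l)) = s l from hτ l,
      show τ.hom.app ⊤ (ProjUPX.pullG r (hT b)) = s b from hτ b] at h1
    obtain ⟨c, hc⟩ := (isFrame_res_of_le (s l) (inf_le_left : W ≤ _)).exists_coord le_rfl
      (res M (le_top : W ≤ ⊤) (s b))
    rw [AModX.res_self] at hc
    have hu : IsUnit (ProjUPX.ratioOf r (hT l) (hT b) (inf_le_right : W ≤ _)) := by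
      refine IsUnit.of_mul_eq_one c ((isFrame_res_of_le (s l) (inf_le_left : W ≤ _)).coord_unique le_rfl ?_)
      rw [AModX.res_self, one_smul, mul_smul, ← hc, ← h1]
    exact ProjUPX.le_preimage_of_isUnit r (hT l) (hT b) (inf_le_right : W ≤ _) hu
      (show x ∈ W from ⟨hx, hb⟩)
  haveI : IsAffineHom (specULiftZIsTerminal.from Y) := inferInstance
  haveI : IsAffineHom p1 := MorphismProperty.pullback_fst _ _ inferInstance
  have himm : IsImmersion i := by
    refine SymX.isImmersion_of_locally i fun x => ?_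
    obtain ⟨l, hx, hI⟩ := hs x
    let T' := locus (s l)
    let O := p1 ⁻¹ᵁ Proj.basicOpen 𝒜 (T l)
    have hO : IsAffineOpen O := (Proj.isAffineOpen_basicOpen 𝒜 _ (hT l) one_pos).preimage p1
    have hiO : i ⁻¹ᵁ O = T' := by
      rw [show T' = locus (s l) from rfl, ← hpre l, ← hi1]; rfl
    have hiV : T' ≤ i ⁻¹ᵁ O := hiO.ge
    refine ⟨O, hiV hx, ?_⟩
    rw [hiO]
    have hfac : T'.ι ≫ i = (T'.toSpecΓ ≫ Spec.map (i.appLE O T' hiV)) ≫ hO.fromSpec := by
      rw [Category.assoc, Scheme.Opens.toSpecΓ_SpecMap_appLE_assoc, hO.toSpecΓ_fromSpec,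
        Scheme.Hom.resLE_comp_ι]
    rw [hfac]
    haveI := hI
    haveI : IsImmersion (T'.toSpecΓ ≫ Spec.map (i.appLE O T' hiV)) := by
      refine @SymX.isImmersion_comp_of_subSpec X T' _ _ _ ?_ hI
      refine Subring.closure_le.2 ?_
      rintro v (⟨c, rfl⟩ | ⟨m, hm⟩)
      · refine Eq.subst (motive := fun w => w ∈ (i.appLE O T' hiV).hom.range) ?_
          (mem_range_appLE hi2 le_top hiV le_top c)
        rfl
      · have hle : T' ≤ r ⁻¹ᵁ Proj.basicOpen 𝒜 (T l) := (hpre l).ge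
        have hv : v = ProjUPX.ratioOf r (hT m) (hT l) hle := by
          have h1 := congrArg (τ.hom.app T') (ProjUPX.res_pullG r (hT m) (hT l) hle)
          rw [Scheme.Modules.Hom.app_smul, AModX.app_res, AModX.app_res,
            show τ.hom.app ⊤ (ProjUPX.pullG r (hT m)) = s m from hτ m,
            show τ.hom.app ⊤ (ProjUPX.pullG r (hT l)) = s l from hτ l] at h1
          refine (isFrame_res_of_le (s l) le_rfl).coord_unique le_rfl ?_
          rw [AModX.res_self, ← hm, ← h1]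
        rw [hv, ProjUPX.ratioOf]
        exact mem_range_appLE hi1 le_rfl hiV hle _
    infer_instance
  haveI := himm
  refine ⟨N, i, inferInstance, hi2, ⟨τ.symm ≪≫ ?_⟩⟩
  exact eqToIso (by rw [hi1]; rfl) ≪≫ ((Scheme.Modules.pullbackComp i p1).app (Twist.twistProjSpace N Z 1)).symm

theorem isRelVeryAmplePn_of_isRelVeryAmple (f : X ⟶ Y) [LocallyOfFiniteType f] [QuasiCompact f]
    (hM : PicF.IsInvertible M) (hva : RelProj.IsRelVeryAmple f M) : RelAmple.IsRelVeryAmplePn f M := by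
  classical
  haveI : CompactSpace X := QuasiCompact.compactSpace_of_compactSpace f
  obtain ⟨E, θ, hpt⟩ := SymX.exists_point_over hva
  choose e hxe himm using fun x : X => hpt ⊤ (isAffineOpen_top Y) x trivial
  obtain ⟨pts, hpts⟩ := isCompact_univ.elim_finite_subcover (fun x => (locus (SymX.th f θ (e x)) : Set X))
    (fun x => (locus (SymX.th f θ (e x))).2) fun x _ => Set.mem_iUnion.2 ⟨x, hxe x⟩
  choose S hSsub hSfin hSimm using fun x => SymX.exists_finite_immAt hM (isAffineOpen_top Y) (e x) (himm x)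
  let scal : ∀ x, Set Γ(X, locus (SymX.th f θ (e x))) := fun x =>
    {a | ∃ r : Γ(Y, ⊤), a = resR (locus_le (SymX.th f θ (e x))) (f.app ⊤ r)}
  choose! m hm using fun (x : X) (c : Γ(X, locus (SymX.th f θ (e x)))) (hc : c ∈ S x \ scal x) =>
    (hSsub x hc.1).resolve_left hc.2
  haveI : ∀ x, Finite ↥(S x \ scal x) := fun x => ((hSfin x).subset Set.diff_subset).to_subtype
  let ι := Σ x : ↥pts, Option ↥(S x.1 \ scal x.1)
  haveI : Fintype ι := Fintype.ofFinite ι
  let t : ι → Γ(M, ⊤) := fun a => match a with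
    | ⟨x, none⟩ => SymX.th f θ (e x.1)
    | ⟨x, some c⟩ => SymX.th f θ (m x.1 c.1)
  let k : ULift.{u} (Fin (Fintype.card ι + 1)) ≃ Option ι :=
    Equiv.ulift.trans ((finCongr Fintype.card_option.symm).trans (Fintype.equivFin (Option ι)).symm)
  refine exists_immersion_of_ratios f hM (Fintype.card ι) (fun i => (k i).elim 0 t) fun x => ?_
  obtain ⟨y, hy, hxy⟩ := Set.mem_iUnion₂.1 (hpts (Set.mem_univ x))
  obtain ⟨l, hl⟩ : ∃ l, (k l).elim 0 t = SymX.th f θ (e y) :=
    ⟨k.symm (some ⟨⟨y, hy⟩, none⟩), by simp [t]⟩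
  refine ⟨l, ?_, ?_⟩
  · show x ∈ locus ((k l).elim 0 t)
    rw [hl]
    exact hxy
  show IsImmersion (SymX.subSpec (locus ((k l).elim 0 t)) (Subring.closure
    (Set.range ((resR (le_top : locus ((k l).elim 0 t) ≤ ⊤)).comp f.appTop.hom) ∪
      {v : Γ(X, locus ((k l).elim 0 t)) | ∃ i, res _ (le_top : locus ((k l).elim 0 t) ≤ ⊤) ((k i).elim 0 t) =
        v • res _ (le_top : locus ((k l).elim 0 t) ≤ ⊤) ((k l).elim 0 t)})))
  rw [hl]
  refine SymX.isImmersion_subSpec_of_le _ (hR := hSimm y) (Subring.closure_le.2 ?_)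
  rintro c (⟨r, rfl⟩ | hc)
  · exact Subring.subset_closure (Or.inl ⟨r, rfl⟩)
  · by_cases h : c ∈ scal y
    · obtain ⟨r, hr⟩ := h
      exact Subring.subset_closure (Or.inl ⟨r, hr.symm⟩)
    · exact Subring.subset_closure (Or.inr ⟨k.symm (some ⟨⟨y, hy⟩, some ⟨c, hc, h⟩⟩), by
        rw [Equiv.apply_symm_apply]
        exact hm y c ⟨hc, h⟩⟩)

end Groth.Agent.RGLib.VAmpleImm

namespace Groth.Agent.RGLib.VAmpleImm

theorem exists_cover_isRelVeryAmplePn {X S : Scheme.{u}} (f : X ⟶ S) [LocallyOfFiniteType f] [QuasiCompact f]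
    (L : X.Modules) (hL : PicF.IsInvertible L) (hva : RelProj.IsRelVeryAmple f L) :
    ∃ (ι : Type u) (V : ι → S.Opens), (⨆ j, V j) = ⊤ ∧
      ∀ j, RelAmple.IsRelVeryAmplePn (f ∣_ V j) (L.restrict (f ⁻¹ᵁ V j).ι) := by
  refine ⟨S.affineOpens, fun V => V.1, iSup_affineOpens_eq_top S, fun V => ?_⟩
  haveI : IsAffine V.1.toScheme := V.2
  haveI : QuasiCompact (f ∣_ V.1) := IsZariskiLocalAtTarget.restrict (P := @QuasiCompact) inferInstance _
  haveI : LocallyOfFiniteType (f ∣_ V.1) := IsZariskiLocalAtTarget.restrict (P := @LocallyOfFiniteType) inferInstance _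
  exact isRelVeryAmplePn_of_isRelVeryAmple (f ∣_ V.1) (AmpleX.isInvertible_restrict _ hL)
    ((SymX.isRelVeryAmple_iff_restrict (fun V : S.affineOpens => V.1) (iSup_affineOpens_eq_top S) hL).1 hva V)

end Groth.Agent.RGLib.VAmpleImm
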