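import Groth.Agent.RGLib.Lim8Hom
import Groth.Agent.QcqsColim.FTSub

/-!
# Quotients of finite presentation on a limit of schemes come from a stage
-/

set_option autoImplicit false
set_option linter.style.haveILetI false
set_option backward.isDefEq.respectTransparency false
set_option backward.isDefEq.respectTransparency.types false
set_option maxHeartbeats 1000000

universe u

open CategoryTheory CategoryTheory.Limits AlgebraicGeometry TopologicalSpace

namespace Groth.Agent.RGLib.Lim8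

open Groth.Agent.QCoh

/-- The cokernel of a map from finite type to finite presentation is of finite presentation. -/
theorem isFP_cokernel {X : Scheme.{u}} {N F : X.Modules} (m : N ⟶ F) (hN : Coh.IsQCoh N) (hNft : CohB1.IsFT N)
    (hF : Coh.IsQCoh F) (hFfp : CohB1.IsFP F) : CohB1.IsFP (cokernel m) := by
  have hE := isQCoh_cokernel hN hF m
  have hK := isQCoh_kernel hF hE (cokernel.π m)
  have hI : Coh.IsQCoh (Abelian.image m) := hK
  choose U hU hxU _ using fun x : X => exists_isAffineOpen_mem_and_subset (x := x) (U := ⊤) trivial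
  refine QCoh.isFP_of_finitePresentation hE U
    (IsOpenCover.mk (eq_top_iff.2 fun x _ => Opens.mem_iSup.2 ⟨x, hxU x⟩)) hU fun x => ?_
  have := finitePresentation_of_isFP hFfp (hU x)
  have := finite_of_isFT hN hNft (hU x)
  refine Module.finitePresentation_of_surjective (appLin (cokernel.π m) (U x))
    (app_surjective_of_epi hF hE (cokernel.π m) (hU x)) ?_
  have e : LinearMap.ker (appLin (cokernel.π m) (U x)) = LinearMap.range (appLin m (U x)) := by
    refine le_antisymm (fun y hy => ?_) ?_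
    · obtain ⟨a, ha⟩ := exists_app_f_eq (S := ShortComplex.mk (kernel.ι (cokernel.π m)) (cokernel.π m) (kernel.condition _))
        { exact := ShortComplex.exact_kernel _, mono_f := inferInstance, epi_g := inferInstance } (U x) y hy
      obtain ⟨b, rfl⟩ := app_surjective_of_epi hN hI (Abelian.factorThruImage m) (hU x) a
      refine ⟨b, ?_⟩
      show m.app (U x) b = y
      rw [← ha]
      exact (congrArg (fun q : N ⟶ F => q.app (U x) b) (Abelian.image.fac m)).symm
    · rintro _ ⟨b, rfl⟩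
      exact congrArg (fun q : N ⟶ cokernel m => q.app (U x) b) (cokernel.condition m)
  rw [e, LinearMap.range_eq_map]
  exact Module.Finite.fg_top.map _

/-- Finitely many sections over finitely many affine opens lie in a submodule of finite type. -/
theorem exists_ftOn_family {X : Scheme.{u}} [CompactSpace X] [QuasiSeparatedSpace X] {G : X.Modules}
    (hG : Coh.IsQCoh G) {ι : Type u} [Finite ι] (U : ι → X.Opens) (hU : ∀ i, IsAffineOpen (U i))
    (T : ∀ i, Set Γ(G, U i)) (hT : ∀ i, (T i).Finite) :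
    ∃ N : SubMod G, FTOn N ⊤ ∧ ∀ i, T i ⊆ N.mem (U i) := by
  classical
  have := Fintype.ofFinite ι
  suffices h : ∀ s : Finset ι, ∃ N : SubMod G, FTOn N ⊤ ∧ ∀ i ∈ s, T i ⊆ N.mem (U i) by
    obtain ⟨N, h1, h2⟩ := h Finset.univ
    exact ⟨N, h1, fun i => h2 i (Finset.mem_univ i)⟩
  intro s
  induction s using Finset.induction with
  | empty => exact ⟨_, (Classical.arbitrary (QcqsColim.FTIndex G)).2, by simp⟩
  | insert i s _ ih =>
    obtain ⟨N, h1, h2⟩ := ih
    obtain ⟨N', h1', h2'⟩ := exists_ftOn_contains hG (hU i) (extStep_qcqs (hU i).isCompact) (T i) (hT i)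
    refine ⟨QcqsColim.supSub N N', QcqsColim.ftOn_supSub h1 h1', fun j hj t ht => ?_⟩
    rcases Finset.mem_insert.1 hj with rfl | hj
    · exact QcqsColim.mem_supSub_right _ _ _ (h2' ht)
    · exact QcqsColim.mem_supSub_left _ _ _ (h2 j hj ht)

variable {I : Type u} [SmallCategory I] [IsCofiltered I] (D : I ⥤ Scheme.{u}) (c : Cone D) {i₀ : I}
  [∀ (i j : I) (f : i ⟶ j), IsAffineHom (D.map f)] (hc : IsLimit c)

include hc in
theorem exists_quotient_descend [CompactSpace (D.obj i₀)] [QuasiSeparatedSpace (D.obj i₀)]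
    {F₀ : (D.obj i₀).Modules} (hF₀ : CohB1.IsFP F₀) (hFq : Coh.IsQCoh F₀) {G : c.pt.Modules} (hGq : Coh.IsQCoh G)
    (hG : CohB1.IsFP G) (p : (Scheme.Modules.pullback (c.π.app i₀)).obj F₀ ⟶ G) [Epi p] :
    ∃ (j : I) (φ : j ⟶ i₀) (Gj : (D.obj j).Modules) (_ : Coh.IsQCoh Gj)
      (pj : (Scheme.Modules.pullback (D.map φ)).obj F₀ ⟶ Gj)
      (e : (Scheme.Modules.pullback (c.π.app j)).obj Gj ≅ G), CohB1.IsFP Gj ∧ Epi pj ∧
        ((Scheme.Modules.pullbackComp (c.π.app j) (D.map φ) ≪≫ Scheme.Modules.pullbackCongr (π_eq D c φ)).app F₀).inv ≫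
          (Scheme.Modules.pullback (c.π.app j)).map pj ≫ e.hom = p := by
  classical
  haveI : IsAffineHom (c.π.app i₀) := isAffineHom_π_app D c hc i₀
  choose U₀ hU₀ hxU₀ _ using fun x : D.obj i₀ =>
    exists_isAffineOpen_mem_and_subset (x := x) (U := ⊤) trivial
  obtain ⟨t, ht⟩ := isCompact_univ.elim_finite_subcover (fun x => (U₀ x : Set (D.obj i₀)))
    (fun x => (U₀ x).isOpen) fun x _ => Set.mem_iUnion.2 ⟨x, hxU₀ x⟩
  let U : t → (D.obj i₀).Opens := fun a => U₀ a.1
  have hU : ∀ a, IsAffineOpen (U a) := fun a => hU₀ a.1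
  have hcov : ∀ q, ∃ a, q ∈ U a := fun q => by
    obtain ⟨x, hx, hq⟩ := Set.mem_iUnion₂.1 (ht (Set.mem_univ q))
    exact ⟨⟨x, hx⟩, hq⟩
  let P := (Scheme.Modules.pullback (c.π.app i₀)).obj F₀
  have hP : Coh.IsQCoh P := isQCoh_pullback _ hFq
  have hPfp : CohB1.IsFP P := isFP_pullback _ hFq hF₀
  have hgen : ∀ a : t, ∃ Z : Finset Γ(P, c.π.app i₀ ⁻¹ᵁ U a),
      Submodule.span Γ(c.pt, c.π.app i₀ ⁻¹ᵁ U a) (Z : Set Γ(P, c.π.app i₀ ⁻¹ᵁ U a)) =
        LinearMap.ker (appLin p (c.π.app i₀ ⁻¹ᵁ U a)) := fun a => by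
    have hW : IsAffineOpen (c.π.app i₀ ⁻¹ᵁ U a) := (hU a).preimage _
    haveI := finitePresentation_of_isFP hG hW
    haveI : Module.Finite Γ(c.pt, c.π.app i₀ ⁻¹ᵁ U a) Γ(P, c.π.app i₀ ⁻¹ᵁ U a) :=
      finite_of_isFT hP (isFT_of_isFP hPfp) hW
    exact Module.FinitePresentation.fg_ker _ (app_surjective_of_epi hP hGq p hW)
  choose Z hZ using hgen
  obtain ⟨j, φ, hj⟩ := (Ev.forall_fintype fun q : Σ a : t, ↥(Z a) =>
    ev_lift D c hc hFq (hU q.1) q.2.1).exists_stage
  choose y hy using hj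
  haveI : CompactSpace (D.obj j) := QuasiCompact.compactSpace_of_compactSpace (D.map φ)
  haveI : QuasiSeparatedSpace (D.obj j) := quasiSeparatedSpace_of_quasiSeparated (D.map φ)
  haveI : IsAffineHom (c.π.app j) := isAffineHom_π_app D c hc j
  let Fj := (Scheme.Modules.pullback (D.map φ)).obj F₀
  have hFj : Coh.IsQCoh Fj := isQCoh_pullback _ hFq
  let eF := (Scheme.Modules.pullbackComp (c.π.app j) (D.map φ) ≪≫ Scheme.Modules.pullbackCongr (π_eq D c φ)).app F₀
  let p' : (Scheme.Modules.pullback (c.π.app j)).obj Fj ⟶ G := eF.hom ≫ p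
  let w : Fj ⟶ (Scheme.Modules.pushforward (c.π.app j)).obj G :=
    (Scheme.Modules.pullbackPushforwardAdjunction (c.π.app j)).homEquiv _ _ p'
  have hw : ((Scheme.Modules.pullbackPushforwardAdjunction (c.π.app j)).homEquiv _ _).symm w = p' :=
    Equiv.symm_apply_apply _ _
  have hPush : Coh.IsQCoh ((Scheme.Modules.pushforward (c.π.app j)).obj G) := isQCoh_pushforward _ hGq
  have hK : Coh.IsQCoh (kernel w) := isQCoh_kernel hFj hPush w
  have hle : ∀ a : t, c.π.app i₀ ⁻¹ᵁ U a ≤ c.π.app j ⁻¹ᵁ (D.map φ ⁻¹ᵁ U a) := fun a => le_π_preimage D c φ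
  have hge : ∀ a : t, c.π.app j ⁻¹ᵁ (D.map φ ⁻¹ᵁ U a) ≤ c.π.app i₀ ⁻¹ᵁ U a := fun a => by
    rw [← Scheme.Hom.comp_preimage, c.w φ]
  have hwy : ∀ q : Σ a : t, ↥(Z a), w.app (D.map φ ⁻¹ᵁ U q.1)
      (show Γ(Fj, D.map φ ⁻¹ᵁ U q.1) from y q) = 0 := fun q => by
    rw [← adjoint_pullSec (c.π.app j) w, hw]
    rw [← pullSec_map (c.π.app j) Fj (hge q.1) (hle q.1)
      (show Γ(Fj, D.map φ ⁻¹ᵁ U q.1) from y q)]
    refine (map_app_comm p' (homOfLE (hge q.1)) _).trans ?_
    have h1 : p'.app (c.π.app i₀ ⁻¹ᵁ U q.1) (pullSec (c.π.app j) Fj (hle q.1)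
        (show Γ(Fj, D.map φ ⁻¹ᵁ U q.1) from y q)) = 0 := by
      show p.app (c.π.app i₀ ⁻¹ᵁ U q.1) (toLim D c F₀ φ (U q.1) (y q)) = 0
      rw [hy q]
      have h2 : q.2.1 ∈ LinearMap.ker (appLin p (c.π.app i₀ ⁻¹ᵁ U q.1)) := by
        rw [← hZ]
        exact Submodule.subset_span q.2.2
      exact h2
    exact (congrArg _ h1).trans (map_zero _)
  have hlift : ∀ q : Σ a : t, ↥(Z a), ∃ z : Γ(kernel w, D.map φ ⁻¹ᵁ U q.1),
      (kernel.ι w).app _ z = (show Γ(Fj, D.map φ ⁻¹ᵁ U q.1) from y q) := fun q => by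
    have hSE : (ShortComplex.mk (kernel.ι w) (Abelian.factorThruImage w) (by
        rw [← cancel_mono (Abelian.image.ι w), Category.assoc, Abelian.image.fac, kernel.condition, zero_comp])).ShortExact :=
      { exact := ShortComplex.exact_of_f_is_kernel _ (isKernelOfComp (Abelian.image.ι w) _ (kernelIsKernel w) _ (Abelian.image.fac w))
        mono_f := inferInstance
        epi_g := inferInstance }
    refine exists_app_f_eq hSE _ _ ?_
    apply app_injective (Abelian.image.ι w)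
    rw [map_zero]
    refine Eq.trans ?_ (hwy q)
    exact congrArg (fun r : Fj ⟶ (Scheme.Modules.pushforward (c.π.app j)).obj G => r.app _ (show Γ(Fj, D.map φ ⁻¹ᵁ U q.1) from y q))
      (Abelian.image.fac w)
  choose z hz using hlift
  obtain ⟨N, hN, hzN⟩ := exists_ftOn_family hK (fun a : t => D.map φ ⁻¹ᵁ U a)
    (fun a => (hU a).preimage _) (fun a => Set.range fun s : Z a => z ⟨a, s⟩) fun a => Set.finite_range _
  let m : N.toModules ⟶ Fj := N.ι ≫ kernel.ι w
  have hNq : Coh.IsQCoh N.toModules := isQCoh_of_ftOn hK hN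
  have hNt : CohB1.IsFT N.toModules := isFT_of_ftOn hK hN
  have hGj : Coh.IsQCoh (cokernel m) := isQCoh_cokernel hNq hFj m
  refine ⟨j, φ, cokernel m, hGj, cokernel.π m, ?_⟩
  let d : cokernel m ⟶ (Scheme.Modules.pushforward (c.π.app j)).obj G :=
    cokernel.desc m w (by simp [m])
  let e₀ := ((Scheme.Modules.pullbackPushforwardAdjunction (c.π.app j)).homEquiv _ _).symm d
  have he₀ : (Scheme.Modules.pullback (c.π.app j)).map (cokernel.π m) ≫ e₀ = p' := by
    rw [← hw, ← Adjunction.homEquiv_naturality_left_symm, cokernel.π_desc]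
  let r := eF.inv ≫ (Scheme.Modules.pullback (c.π.app j)).map (cokernel.π m)
  have hre : r ≫ e₀ = p := by
    simp [r, he₀, p']
  haveI : (Scheme.Modules.pullback (c.π.app j)).IsLeftAdjoint :=
    (Scheme.Modules.pullbackPushforwardAdjunction (c.π.app j)).isLeftAdjoint
  haveI : Epi r := by
    haveI : Epi ((Scheme.Modules.pullback (c.π.app j)).map (cokernel.π m)) := inferInstance
    exact epi_comp _ _
  have hr : kernel.ι p ≫ r = 0 := by
    have hKp : Coh.IsQCoh (kernel p) := isQCoh_kernel hP hGq p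
    refine hom_eq_zero_of_cover hKp _ (fun a : t => c.π.app i₀ ⁻¹ᵁ U a) (fun a => (hU a).preimage _)
      (fun x => hcov (c.π.app i₀ x)) fun a k => ?_
    show r.app _ ((kernel.ι p).app _ k) = 0
    have hk : (kernel.ι p).app _ k ∈ LinearMap.ker (appLin p (c.π.app i₀ ⁻¹ᵁ U a)) :=
      congrArg (fun q : kernel p ⟶ G => q.app _ k) (kernel.condition p)
    rw [← hZ] at hk
    generalize (kernel.ι p).app (c.π.app i₀ ⁻¹ᵁ U a) k = v at hk
    induction hk using Submodule.span_induction with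
    | zero => exact map_zero _
    | add v v' _ _ hv hv' => rw [map_add, hv, hv', add_zero]
    | smul b v _ hv => rw [Scheme.Modules.Hom.app_smul, hv, smul_zero]
    | mem v hv =>
      have e1 : eF.inv.app _ v = pullSec (c.π.app j) Fj (hle a) (show Γ(Fj, D.map φ ⁻¹ᵁ U a) from y ⟨a, ⟨v, hv⟩⟩) := by
        have e2 : eF.hom.app _ (pullSec (c.π.app j) Fj (hle a) (show Γ(Fj, D.map φ ⁻¹ᵁ U a) from y ⟨a, ⟨v, hv⟩⟩)) = v :=
          hy ⟨a, ⟨v, hv⟩⟩
        conv_lhs => rw [← e2]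
        exact congrArg (fun q : (Scheme.Modules.pullback (c.π.app j)).obj Fj ⟶ (Scheme.Modules.pullback (c.π.app j)).obj Fj =>
          q.app _ (pullSec (c.π.app j) Fj (hle a) (show Γ(Fj, D.map φ ⁻¹ᵁ U a) from y ⟨a, ⟨v, hv⟩⟩))) eF.hom_inv_id
      show ((Scheme.Modules.pullback (c.π.app j)).map (cokernel.π m)).app _ (eF.inv.app _ v) = 0
      rw [e1, pullSec_naturality]
      obtain ⟨n, hn⟩ := N.exists_app_eq (hzN a ⟨⟨v, hv⟩, rfl⟩)
      have e3 : (cokernel.π m).app (D.map φ ⁻¹ᵁ U a) (show Γ(Fj, D.map φ ⁻¹ᵁ U a) from y ⟨a, ⟨v, hv⟩⟩) = 0 := by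
        have hn' : N.ι.app (D.map φ ⁻¹ᵁ U a) n = z ⟨a, ⟨v, hv⟩⟩ := hn
        rw [← hz ⟨a, ⟨v, hv⟩⟩]
        show (cokernel.π m).app (D.map φ ⁻¹ᵁ U a) ((kernel.ι w).app (D.map φ ⁻¹ᵁ U a) (z ⟨a, ⟨v, hv⟩⟩)) = 0
        rw [← hn']
        exact congrArg (fun q : N.toModules ⟶ cokernel m => q.app _ n) (cokernel.condition m)
      rw [e3]
      unfold pullSec
      rw [map_zero]
      exact map_zero _
  let e' : G ⟶ (Scheme.Modules.pullback (c.π.app j)).obj (cokernel m) := Abelian.epiDesc p r hr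
  have he' : p ≫ e' = r := Abelian.comp_epiDesc p r hr
  refine ⟨⟨e₀, e', ?_, ?_⟩, isFP_cokernel m hNq hNt hFj (isFP_pullback _ hFq hF₀), inferInstance, ?_⟩
  · rw [← cancel_epi r, reassoc_of% hre, he', Category.comp_id]
  · rw [← cancel_epi p, reassoc_of% he', hre, Category.comp_id]
  · rw [← Category.assoc]
    exact hre

end Groth.Agent.RGLib.Lim8
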