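import Groth.Agent.Lib.CurveTensor
import Groth.Agent.IntSym.Cartier
import Groth.Agent.KFlatLib.Perfect.Tensor
import Groth.Agent.KFlatLib.Scheme.PullTensorCx
import Groth.Agent.QCoh.ClosedPush
import Groth.Agent.QCoh.DevissageSum
import Groth.Agent.QCoh.Qcqs
import Groth.Prelude.Def_CohB1
import Mathlib

/-!
# Extending homomorphisms of locally free modules along square-zero thickenings
-/

set_option autoImplicit false
set_option linter.style.haveILetI false
set_option backward.isDefEq.respectTransparency false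
set_option backward.isDefEq.respectTransparency.types false

open AlgebraicGeometry CategoryTheory CategoryTheory.Limits TopologicalSpace Opposite MonoidalCategory
open scoped TensorProduct

namespace Groth.Agent.RGLib.SqZeroHom

universe u

open Groth.Agent

variable {X : Scheme.{u}} (I : X.IdealSheafData)

/-- The unit at a module. -/
noncomputable abbrev eta (M : X.Modules) :
    M ⟶ (Scheme.Modules.pushforward I.subschemeι).obj ((Scheme.Modules.pullback I.subschemeι).obj M) :=
  (Scheme.Modules.pullbackPushforwardAdjunction I.subschemeι).unit.app M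

theorem eta_surjective {M : X.Modules} (hM : Coh.IsQCoh M) (U : X.affineOpens) :
    Function.Surjective ((eta I M).app U.1) := (QCoh.unit_app_closed I.subschemeι hM U.2).1

theorem eta_eq_zero_iff {M : X.Modules} (hM : Coh.IsQCoh M) (U : X.affineOpens) (x : Γ(M, U.1)) :
    (eta I M).app U.1 x = 0 ↔ x ∈ I.ideal U • (⊤ : Submodule Γ(X, U.1) Γ(M, U.1)) := by
  refine ((QCoh.unit_app_closed I.subschemeι hM U.2).2 x).trans ?_
  rw [I.ker_subschemeι]

theorem ι_eta_structure : ClSub.idealModι I ≫ eta I (Coh.structureModule X) = 0 := by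
  refine Scheme.Modules.hom_ext _ 0 fun V => AddCommGrpCat.ext fun y => ?_
  refine (QCoh.eq_zero_of_locally V _ fun p hp => ?_).trans rfl
  obtain ⟨_, ⟨W, hW, rfl⟩, hpW, hWV⟩ :=
    X.isBasis_affineOpens.exists_subset_of_mem_open (show p ∈ V from hp) V.isOpen
  refine ⟨W, homOfLE hWV, hpW, ?_⟩
  rw [← QCoh.map_app_comm]
  set s := (ClSub.idealMod I).presheaf.map (homOfLE hWV).op y
  show (eta I (Coh.structureModule X)).app W ((ClSub.idealModι I).app W s) = 0
  have h0 : (ClSub.toSubscheme I).app W ((ClSub.idealModι I).app W s) = 0 :=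
    congr(($(kernel.condition (ClSub.toSubscheme I))).app W s)
  have hr : (show Γ(X, W) from (ClSub.idealModι I).app W s) ∈ I.ideal ⟨W, hW⟩ := by
    rw [← I.ker_subschemeι_app ⟨W, hW⟩, RingHom.mem_ker]; exact h0
  refine (eta_eq_zero_iff I (QCoh.isQCoh_structureModule) ⟨W, hW⟩ _).2 ?_
  have h1 := Submodule.smul_mem_smul hr
    (Submodule.mem_top (R := Γ(X, W)) (x := (show Γ(Coh.structureModule X, W) from (1 : Γ(X, W)))))
  have e : (show Γ(X, W) from (ClSub.idealModι I).app W s) • (show Γ(Coh.structureModule X, W) from (1 : Γ(X, W))) =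
      (ClSub.idealModι I).app W s := mul_one (show Γ(X, W) from (ClSub.idealModι I).app W s)
  rwa [e] at h1

theorem pullback_map_ι : (Scheme.Modules.pullback I.subschemeι).map (ClSub.idealModι I) = 0 := by
  refine ((Scheme.Modules.pullbackPushforwardAdjunction I.subschemeι).homEquiv _ _).injective ?_
  rw [Adjunction.homEquiv_unit, Adjunction.homEquiv_unit, Functor.map_zero, comp_zero]
  exact ((Scheme.Modules.pullbackPushforwardAdjunction I.subschemeι).unit.naturality (ClSub.idealModι I)).symm.trans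
    (ι_eta_structure I)

theorem killed_tensor {Q : X.Modules} (hQ : ∀ (U : X.affineOpens), ∀ a ∈ I.ideal U, ∀ s : Γ(Q, U.1), a • s = 0)
    (F : X.Modules) (U : X.affineOpens) (a : Γ(X, U.1)) (ha : a ∈ I.ideal U)
    (y : Γ((DCoh.tensorBi.obj F).obj Q, U.1)) : a • y = 0 := by
  let T := (DCoh.tensorBi.obj F).obj Q
  refine TopCat.Presheaf.section_ext ⟨T.presheaf, T.isSheaf⟩ _ _ _ fun x hx => ?_
  show T.presheaf.germ U.1 x hx (a • y) = T.presheaf.germ U.1 x hx 0
  rw [map_zero, QCoh.germ_smul']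
  set g : X.presheaf.stalk x := X.presheaf.germ U.1 x hx a
  have hg : ∀ q : ((DerSch.stalkFunctor X x).obj Q : Type u), g • q = 0 := by
    intro q
    obtain ⟨V, hxV, s, rfl⟩ := TopCat.Presheaf.exists_germ_eq Q.presheaf q
    obtain ⟨f, hf, hxf⟩ := U.2.exists_basicOpen_le (V := V) ⟨x, hxV⟩ hx
    have haf : X.presheaf.map (homOfLE (X.basicOpen_le f)).op a ∈ I.ideal (X.affineBasicOpen f) := by
      rw [← I.map_ideal_basicOpen U f]
      exact Ideal.mem_map_of_mem _ ha
    have h0 := congrArg (Q.presheaf.germ (X.basicOpen f) x hxf)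
      (hQ (X.affineBasicOpen f) _ haf (Q.presheaf.map (homOfLE hf).op s))
    rw [map_zero, QCoh.germ_smul', TopCat.Presheaf.germ_res_apply, TopCat.Presheaf.germ_res_apply] at h0
    exact h0
  set z : ((DerSch.stalkFunctor X x).obj T : Type u) := T.presheaf.germ U.1 x hx y
  show g • z = 0
  let e := (KFlatLib.stalkTensorIso x F Q).toLinearEquiv
  obtain ⟨w, hw⟩ : ∃ w, e w = z := ⟨e.symm z, e.apply_symm_apply z⟩
  rw [← hw, ← map_smul]
  clear hw
  refine (congrArg e (?_ : g • w = 0)).trans (map_zero e)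
  induction w using TensorProduct.induction_on with
  | zero => exact smul_zero _
  | tmul p q => rw [← TensorProduct.tmul_smul, hg q, TensorProduct.tmul_zero]
  | add p q hp hq => rw [smul_add, hp, hq, add_zero]

variable {F : X.Modules}

/-- `F ⊗ O ≅ F`. -/
noncomputable def rU (F : X.Modules) : (DCoh.tensorBi.obj F).obj (Coh.structureModule X) ≅ F :=
  (KFlatLib.tensorStructureIso X).app F

/-- Multiplication `F ⊗ I ⟶ F`. -/
noncomputable def mult (F : X.Modules) : (DCoh.tensorBi.obj F).obj (ClSub.idealMod I) ⟶ F :=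
  (DCoh.tensorBi.obj F).map (ClSub.idealModι I) ≫ (rU F).hom

theorem shortExact_ι_coker : (ShortComplex.mk (ClSub.idealModι I) (cokernel.π (ClSub.idealModι I))
    (cokernel.condition _)).ShortExact :=
  haveI : Mono (ClSub.idealModι I) := inferInstanceAs (Mono (kernel.ι _))
  { exact := ShortComplex.exact_of_g_is_cokernel _ (cokernelIsCokernel (ClSub.idealModι I)) }

theorem coker_killed (U : X.affineOpens) (a : Γ(X, U.1)) (ha : a ∈ I.ideal U)
    (s : Γ(cokernel (ClSub.idealModι I), U.1)) : a • s = 0 := by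
  let e : cokernel (ClSub.idealModι I) ≅ ClSub.quotMod I :=
    (cokernelIsCokernel (ClSub.idealModι I)).coconePointUniqueUpToIso (IntSym.shortExact_toSubscheme I).gIsCokernel
  refine (ConcreteCategory.bijective_of_isIso (e.hom.app U.1)).1 ?_
  rw [Scheme.Modules.Hom.app_smul, map_zero]
  have h0 : I.subschemeι.app U.1 a = 0 := by
    rw [← RingHom.mem_ker, I.ker_subschemeι_app]; exact ha
  show I.subschemeι.app U.1 a • (show Γ(Coh.structureModule I.subscheme, I.subschemeι ⁻¹ᵁ U.1) from e.hom.app U.1 s) = 0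
  rw [h0, zero_smul]

theorem mult_mono (hF : FlatMod.IsFinLocFree F) : Mono (mult I F) := by
  have h := CurveTensor.shortExact_tensor hF _ _ _ (shortExact_ι_coker I)
  haveI : Mono ((DCoh.tensorBi.obj F).map (ClSub.idealModι I)) := h.mono_f
  exact mono_comp _ _

theorem pullback_map_mult (F : X.Modules) : (Scheme.Modules.pullback I.subschemeι).map (mult I F) = 0 := by
  let i := I.subschemeι
  let Φ := (KFlatLib.pullTensorBiIso i).app F
  have h : (Scheme.Modules.pullback i).map ((DCoh.tensorBi.obj F).map (ClSub.idealModι I)) = 0 := by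
    have h1 : (Scheme.Modules.pullback i).map ((DCoh.tensorBi.obj F).map (ClSub.idealModι I)) ≫
          Φ.hom.app (Coh.structureModule X) =
        Φ.hom.app (ClSub.idealMod I) ≫ (DCoh.tensorBi.obj ((Scheme.Modules.pullback i).obj F)).map
          ((Scheme.Modules.pullback i).map (ClSub.idealModι I)) :=
      Φ.hom.naturality (ClSub.idealModι I)
    rw [pullback_map_ι, Functor.map_zero, comp_zero] at h1
    exact (cancel_mono (Φ.hom.app (Coh.structureModule X))).1 (h1.trans zero_comp.symm)
  rw [mult, Functor.map_comp, h, zero_comp]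

theorem mult_eta (F : X.Modules) : mult I F ≫ eta I F = 0 := by
  refine ((Scheme.Modules.pullbackPushforwardAdjunction I.subschemeι).unit.naturality (mult I F)).trans ?_
  show _ ≫ (Scheme.Modules.pushforward I.subschemeι).map ((Scheme.Modules.pullback I.subschemeι).map (mult I F)) = 0
  rw [pullback_map_mult, Functor.map_zero, comp_zero]

theorem shortExact_comp_iso {C : Type*} [Category C] [Abelian C] {S : ShortComplex C} (hS : S.ShortExact) {F : C}
    (l : S.X₂ ≅ F) :
    ∃ hw : (S.f ≫ l.hom) ≫ l.inv ≫ S.g = 0, (ShortComplex.mk (S.f ≫ l.hom) (l.inv ≫ S.g) hw).ShortExact :=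
  ⟨by simp [S.zero], ShortComplex.shortExact_of_iso (show S ≅ _ from ShortComplex.isoMk (Iso.refl _) l (Iso.refl _) (by simp) (by simp)) hS⟩

theorem kernel_iso_of_retraction {C : Type*} [Category C] [Abelian C] {S : ShortComplex C} (hS : S.ShortExact) {Q : C}
    (η : S.X₂ ⟶ Q) (j : S.X₃ ⟶ Q) (hj : S.g ≫ j = η) (k : Q ⟶ S.X₃) (hk : η ≫ k = S.g) :
    Nonempty (kernel η ≅ S.X₁) := by
  haveI : Epi S.g := hS.epi_g
  haveI : Mono j := by
    haveI : IsSplitMono j := ⟨⟨k, by rw [← cancel_epi S.g, reassoc_of% hj, hk, Category.comp_id]⟩⟩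
    infer_instance
  exact ⟨kernelIsoOfEq hj.symm ≪≫ kernelCompMono S.g j ≪≫
    (hS.fIsKernel.conePointUniqueUpToIso (kernelIsKernel S.g)).symm⟩

set_option maxHeartbeats 1000000 in
/-- The kernel of restriction to the closed subscheme is `F ⊗ I`. -/
theorem nonempty_kernel_iso (hF : FlatMod.IsFinLocFree F) :
    Nonempty (kernel (eta I F) ≅ (DCoh.tensorBi.obj F).obj (ClSub.idealMod I)) := by
  haveI := mult_mono I hF
  have hFq := QCoh.isQCoh_of_isFinLocFree hF
  let C := (DCoh.tensorBi.obj F).obj (cokernel (ClSub.idealModι I))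
  let π : F ⟶ C := (rU F).inv ≫ (DCoh.tensorBi.obj F).map (cokernel.π (ClSub.idealModι I))
  obtain ⟨hw, hS'⟩ : ∃ hw : mult I F ≫ π = 0, (ShortComplex.mk (mult I F) π hw).ShortExact :=
    shortExact_comp_iso (CurveTensor.shortExact_tensor hF _ _ _ (shortExact_ι_coker I))
      (rU F)
  have hιq : Coh.IsQCoh (ClSub.idealMod I) :=
    QCoh.isQCoh_kernel QCoh.isQCoh_structureModule
      (QCoh.isQCoh_pushforward I.subschemeι QCoh.isQCoh_structureModule) _
  have hCq : Coh.IsQCoh C := KFlatLib.isQCoh_tensor hFq (QCoh.isQCoh_cokernel hιq QCoh.isQCoh_structureModule _)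
  haveI : IsIso (eta I C) := (QCoh.isIso_unit_closed_iff I.subschemeι hCq).2 fun U a ha s => by
    rw [I.ker_subschemeι] at ha
    exact killed_tensor I (coker_killed I) F U a ha s
  -- the comparison of the two cokernels
  haveI : Epi (ShortComplex.mk (mult I F) π hw).g := hS'.epi_g
  let j : C ⟶ (Scheme.Modules.pushforward I.subschemeι).obj ((Scheme.Modules.pullback I.subschemeι).obj F) :=
    hS'.exact.desc (eta I F) (mult_eta I F)
  have hj : π ≫ j = eta I F := hS'.exact.g_desc _ _
  let k := (Scheme.Modules.pushforward I.subschemeι).map ((Scheme.Modules.pullback I.subschemeι).map π) ≫ inv (eta I C)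
  have hk : eta I F ≫ k = π := by
    have hn : π ≫ eta I C = eta I F ≫ (Scheme.Modules.pushforward I.subschemeι).map
        ((Scheme.Modules.pullback I.subschemeι).map π) :=
      (Scheme.Modules.pullbackPushforwardAdjunction I.subschemeι).unit.naturality π
    simp only [k]
    rw [← Category.assoc, ← hn, Category.assoc, IsIso.hom_inv_id, Category.comp_id]
  exact kernel_iso_of_retraction hS' (eta I F) j hj k hk

/-- Liftings of a restricted homomorphism. -/
noncomputable abbrev target {E F : X.Modules}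
    (u₀ : (Scheme.Modules.pullback I.subschemeι).obj E ⟶ (Scheme.Modules.pullback I.subschemeι).obj F) :
    E ⟶ (Scheme.Modules.pushforward I.subschemeι).obj ((Scheme.Modules.pullback I.subschemeι).obj F) :=
  (Scheme.Modules.pullbackPushforwardAdjunction I.subschemeι).homEquiv E _ u₀

theorem map_eq_iff {E F : X.Modules} (u : E ⟶ F)
    (u₀ : (Scheme.Modules.pullback I.subschemeι).obj E ⟶ (Scheme.Modules.pullback I.subschemeι).obj F) :
    (Scheme.Modules.pullback I.subschemeι).map u = u₀ ↔ u ≫ eta I F = target I u₀ := by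
  have h : u ≫ eta I F = target I ((Scheme.Modules.pullback I.subschemeι).map u) := by
    rw [target, Adjunction.homEquiv_unit]
    exact (Scheme.Modules.pullbackPushforwardAdjunction I.subschemeι).unit.naturality u
  rw [h]
  exact ⟨fun e => by rw [e], fun e => ((Scheme.Modules.pullbackPushforwardAdjunction I.subschemeι).homEquiv _ _).injective e⟩

theorem isQCoh_biprod {M N : X.Modules} (hM : Coh.IsQCoh M) (hN : Coh.IsQCoh N) : Coh.IsQCoh (M ⊞ N) := by
  let T : ULift.{u} Bool → X.Modules := fun b => cond b.down M N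
  let f : (⨁ T) ⟶ M ⊞ N := biproduct.desc fun b =>
    match b with
    | ⟨true⟩ => (biprod.inl : M ⟶ M ⊞ N)
    | ⟨false⟩ => (biprod.inr : N ⟶ M ⊞ N)
  let e : M ⊞ N ≅ ⨁ T :=
    { hom := biprod.desc (biproduct.ι T ⟨true⟩) (biproduct.ι T ⟨false⟩)
      inv := f
      hom_inv_id := by
        apply biprod.hom_ext' <;> simp [f]
      inv_hom_id := by
        apply biproduct.hom_ext'
        rintro ⟨_ | _⟩ <;> simp [f] }
  refine (QCoh.isQCoh_iff_iso e).2 (QCoh.isQCoh_biproduct T ?_)
  rintro ⟨_ | _⟩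
  · exact hN
  · exact hM

variable (hI : I ^ 2 = ⊥) (hF : FlatMod.IsFinLocFree F)

include hI hF in
theorem kernel_killed (U : X.affineOpens) (a : Γ(X, U.1)) (ha : a ∈ I.ideal U) (s : Γ(kernel (eta I F), U.1)) :
    a • s = 0 := by
  let ι' : kernel (eta I F) ⟶ F := kernel.ι _
  haveI : Mono ι' := inferInstanceAs (Mono (kernel.ι _))
  refine QCoh.app_injective ι' U.1 ?_
  rw [Scheme.Modules.Hom.app_smul, map_zero]
  have h0 : (eta I F).app U.1 (ι'.app U.1 s) = 0 := congr(($(kernel.condition (eta I F))).app U.1 s)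
  have h1 := Submodule.smul_mem_smul ha ((eta_eq_zero_iff I (QCoh.isQCoh_of_isFinLocFree hF) U _).1 h0)
  have hsq : I.ideal U * I.ideal U = ⊥ := by
    rw [← pow_two]
    have h2 := congrArg (fun J : X.IdealSheafData => J.ideal U) hI
    simpa using h2
  rw [← Submodule.mul_smul, hsq, Submodule.bot_smul, Submodule.mem_bot] at h1
  exact h1

include hI hF in
theorem isIso_eta_kernel : IsIso (eta I (kernel (eta I F))) := by
  have hFq := QCoh.isQCoh_of_isFinLocFree hF
  refine (QCoh.isIso_unit_closed_iff I.subschemeι (QCoh.isQCoh_kernel hFq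
    (QCoh.isQCoh_pushforward I.subschemeι (QCoh.isQCoh_pullback I.subschemeι hFq)) _)).2 fun U a ha s => ?_
  rw [I.ker_subschemeι] at ha
  exact kernel_killed I hI hF U a ha s

/-- The obstruction module. -/
noncomputable abbrev J (F : X.Modules) : I.subscheme.Modules :=
  CohB1.tensorMod ((Scheme.Modules.pullback I.subschemeι).obj (ClSub.idealMod I)) ((Scheme.Modules.pullback I.subschemeι).obj F)

include hF in
theorem nonempty_pullback_kernel_iso :
    Nonempty ((Scheme.Modules.pullback I.subschemeι).obj (kernel (eta I F)) ≅ J I F) := by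
  obtain ⟨e⟩ := nonempty_kernel_iso I hF
  exact ⟨(Scheme.Modules.pullback I.subschemeι).mapIso e ≪≫
    ((KFlatLib.pullTensorBiIso I.subschemeι).app F).app (ClSub.idealMod I) ≪≫
    (((KFlatLib.tensorBiFlipIso I.subscheme).app _).app _)⟩

include hI hF in
theorem hom_unique {E : X.Modules}
    (h0 : Subsingleton ((Scheme.Modules.pullback I.subschemeι).obj E ⟶ J I F)) (u u' : E ⟶ F)
    (h : (Scheme.Modules.pullback I.subschemeι).map u = (Scheme.Modules.pullback I.subschemeι).map u') : u = u' := by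
  have h1 : (u - u') ≫ eta I F = 0 := by
    rw [Preadditive.sub_comp, (map_eq_iff I u _).1 h, (map_eq_iff I u' _).1 rfl, sub_self]
  obtain ⟨e⟩ := nonempty_pullback_kernel_iso I hF
  haveI := isIso_eta_kernel I hI hF
  have h2 : kernel.lift (eta I F) (u - u') h1 ≫ eta I (kernel (eta I F)) = 0 := by
    refine ((Scheme.Modules.pullbackPushforwardAdjunction I.subschemeι).unit.naturality
      (kernel.lift (eta I F) (u - u') h1)).trans ?_
    have : (Scheme.Modules.pullback I.subschemeι).map (kernel.lift (eta I F) (u - u') h1) = 0 := by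
      rw [← cancel_mono e.hom]; exact h0.elim _ _
    show _ ≫ (Scheme.Modules.pushforward I.subschemeι).map
      ((Scheme.Modules.pullback I.subschemeι).map (kernel.lift (eta I F) (u - u') h1)) = 0
    rw [this, Functor.map_zero, comp_zero]
  have h3 : kernel.lift (eta I F) (u - u') h1 = 0 := by
    rw [← cancel_mono (eta I (kernel (eta I F))), h2, zero_comp]
  have h4 := kernel.lift_ι (eta I F) (u - u') h1
  rw [h3, zero_comp] at h4
  exact sub_eq_zero.1 h4.symm

include hI hF in
theorem exists_lift {E : X.Modules} (hE : FlatMod.IsFinLocFree E) [HasExt.{u} I.subscheme.Modules]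
    (h1 : Subsingleton (Abelian.Ext.{u} ((Scheme.Modules.pullback I.subschemeι).obj E) (J I F) 1))
    (u₀ : (Scheme.Modules.pullback I.subschemeι).obj E ⟶ (Scheme.Modules.pullback I.subschemeι).obj F) :
    ∃ u : E ⟶ F, (Scheme.Modules.pullback I.subschemeι).map u = u₀ := by
  have hEq := QCoh.isQCoh_of_isFinLocFree hE
  have hFq := QCoh.isQCoh_of_isFinLocFree hF
  let v := target I u₀
  let K := kernel (eta I F)
  let d : E ⊞ F ⟶ _ := biprod.fst ≫ v - biprod.snd ≫ eta I F
  let P := kernel d
  have hPq : Coh.IsQCoh P := QCoh.isQCoh_kernel (isQCoh_biprod hEq hFq)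
    (QCoh.isQCoh_pushforward I.subschemeι (QCoh.isQCoh_pullback I.subschemeι hFq)) _
  let g : P ⟶ E := kernel.ι d ≫ biprod.fst
  let p₂ : P ⟶ F := kernel.ι d ≫ biprod.snd
  let k₀ : K ⟶ P := kernel.lift d (kernel.ι (eta I F) ≫ biprod.inr) (by simp [d])
  have hgv : g ≫ v = p₂ ≫ eta I F := by
    have := kernel.condition d
    simp only [d, Preadditive.comp_sub, sub_eq_zero] at this
    simpa [g, p₂] using this
  have hk2 : k₀ ≫ p₂ = kernel.ι (eta I F) := by simp [k₀, p₂]
  have hw : k₀ ≫ g = 0 := by simp [k₀, g]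
  haveI : Mono k₀ := mono_of_mono_fac hk2
  -- surjectivity of `g` on affine opens
  have hgs : ∀ U : X.affineOpens, Function.Surjective (g.app U.1) := fun U y => by
    obtain ⟨x, hx⟩ := eta_surjective I hFq U (v.app U.1 y)
    let z : Γ(E ⊞ F, U.1) := (biprod.inl : E ⟶ E ⊞ F).app U.1 y + (biprod.inr : F ⟶ E ⊞ F).app U.1 x
    have hz1 : (biprod.fst : E ⊞ F ⟶ E).app U.1 z = y := by
      show (biprod.fst : E ⊞ F ⟶ E).app U.1 (_ + _) = _
      rw [map_add]
      exact (congrArg₂ (· + ·) congr(($(biprod.inl_fst (X := E) (Y := F))).app U.1 y)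
        congr(($(biprod.inr_fst (X := E) (Y := F))).app U.1 x)).trans (add_zero _)
    have hz2 : (biprod.snd : E ⊞ F ⟶ F).app U.1 z = x := by
      show (biprod.snd : E ⊞ F ⟶ F).app U.1 (_ + _) = _
      rw [map_add]
      exact (congrArg₂ (· + ·) congr(($(biprod.inl_snd (X := E) (Y := F))).app U.1 y)
        congr(($(biprod.inr_snd (X := E) (Y := F))).app U.1 x)).trans (zero_add _)
    obtain ⟨w, hw⟩ := QCoh.exists_kernel_lift d U.1 z (by
      show v.app U.1 ((biprod.fst : E ⊞ F ⟶ E).app U.1 z) - (eta I F).app U.1 ((biprod.snd : E ⊞ F ⟶ F).app U.1 z) = 0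
      rw [hz1, hz2, hx, sub_self])
    exact ⟨w, (congrArg ((biprod.fst : E ⊞ F ⟶ E).app U.1) hw).trans hz1⟩
  haveI : Epi g := Preadditive.epi_of_cancel_zero g fun {T} φ hφ => by
    refine Scheme.Modules.hom_ext _ 0 fun V => AddCommGrpCat.ext fun y => ?_
    refine (QCoh.eq_zero_of_locally V _ fun p hp => ?_).trans rfl
    obtain ⟨_, ⟨W, hW, rfl⟩, hpW, hWV⟩ :=
      X.isBasis_affineOpens.exists_subset_of_mem_open (show p ∈ V from hp) V.isOpen
    refine ⟨W, homOfLE hWV, hpW, ?_⟩
    rw [← QCoh.map_app_comm]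
    obtain ⟨w, hw⟩ := hgs ⟨W, hW⟩ (E.presheaf.map (homOfLE hWV).op y)
    exact (congrArg (φ.app W) hw).symm.trans congr(($hφ).app W w)
  -- the short exact sequence on `X`
  have hexact : (ShortComplex.mk k₀ g hw).Exact := by
    refine ShortComplex.exact_of_f_is_kernel _ (KernelFork.IsLimit.ofι' k₀ hw fun {T} t ht => ?_)
    have ht2 : t ≫ p₂ ≫ eta I F = 0 := by
      rw [← hgv, ← Category.assoc, ht, zero_comp]
    refine ⟨kernel.lift (eta I F) (t ≫ p₂) (by rw [Category.assoc, ht2]), ?_⟩
    rw [← cancel_mono (kernel.ι d)]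
    refine biprod.hom_ext _ _ ?_ ?_
    · have h0 : t ≫ kernel.ι d ≫ biprod.fst = 0 := ht
      simp [k₀, h0]
    · simp [k₀, p₂]
  let G := Scheme.Modules.pullback I.subschemeι
  have hexG : ((ShortComplex.mk k₀ g hw).map G).Exact :=
    hexact.map_of_epi_of_preservesCokernel G inferInstance inferInstance
  haveI : Mono (G.map k₀) := by
    haveI := isIso_eta_kernel I hI hF
    refine QCoh.mono_of_isBasis _ (B := {A | ∃ U : X.affineOpens, A = I.subschemeι ⁻¹ᵁ U.1})
      (Opens.isBasis_iff_nbhd.2 fun {A z} hz => ?_) ?_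
    · obtain ⟨O, hO, hOA⟩ := I.subschemeι.isClosedEmbedding.isInducing.isOpen_iff.1 A.2
      have hzO : I.subschemeι z ∈ O := by
        have : z ∈ I.subschemeι ⁻¹' O := by rw [hOA]; exact hz
        exact this
      obtain ⟨_, ⟨W, hW, rfl⟩, hzW, hWO⟩ := X.isBasis_affineOpens.exists_subset_of_mem_open hzO hO
      refine ⟨I.subschemeι ⁻¹ᵁ W, ⟨⟨W, hW⟩, rfl⟩, hzW, fun w hw => ?_⟩
      have : w ∈ I.subschemeι ⁻¹' O := hWO hw
      rw [hOA] at this; exact this
    rintro _ ⟨U, rfl⟩
    refine (injective_iff_map_eq_zero _).2 fun c hc => ?_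
    obtain ⟨k, rfl⟩ := (ConcreteCategory.bijective_of_isIso ((eta I K).app U.1)).2 c
    have h2 : (eta I P).app U.1 (k₀.app U.1 k) = 0 := by
      have hn := congr(($((Scheme.Modules.pullbackPushforwardAdjunction I.subschemeι).unit.naturality k₀)).app U.1 k)
      exact hn.trans hc
    have h3 := (eta_eq_zero_iff I hPq U _).1 h2
    haveI : Module.FinitePresentation Γ(X, U.1) Γ(E, U.1) :=
      QCoh.finitePresentation_of_isFP (QCoh.isFP_of_isFinLocFree hE) U.2
    haveI : Module.Flat Γ(X, U.1) Γ(E, U.1) :=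
      (QCoh.flat_sections_iff hEq U.2).2 fun x _ => (QCoh.isFlat_and_isFP_iff.2 hE).1 x
    haveI : Module.Projective Γ(X, U.1) Γ(E, U.1) := Module.Flat.projective_of_finitePresentation
    let gl : Γ(P, U.1) →ₗ[Γ(X, U.1)] Γ(E, U.1) :=
      { toFun := g.app U.1, map_add' := map_add _, map_smul' := fun r x => Scheme.Modules.Hom.app_smul g r x }
    obtain ⟨t, ht⟩ := Module.projective_lifting_property gl LinearMap.id (hgs U)
    have key : ∀ p ∈ I.ideal U • (⊤ : Submodule Γ(X, U.1) Γ(P, U.1)), p - t (gl p) = 0 := fun p hp => by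
      induction hp using Submodule.smul_induction_on' with
      | smul a ha p _ =>
        rw [map_smul, map_smul, ← smul_sub]
        have hker : g.app U.1 (p - t (gl p)) = 0 := by
          have : gl (t (gl p)) = gl p := LinearMap.congr_fun ht (gl p)
          show gl (p - t (gl p)) = 0
          rw [map_sub, this, sub_self]
        have hS : (ShortComplex.mk k₀ g hw).ShortExact := { exact := hexact }
        obtain ⟨k', hk'⟩ := QCoh.exists_app_f_eq hS U.1 (p - t (gl p)) hker
        rw [← hk']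
        show a • k₀.app U.1 k' = 0
        rw [← Scheme.Modules.Hom.app_smul, kernel_killed I hI hF U a ha k', map_zero]
      | add p _ q _ hp hq => rw [map_add, map_add, add_sub_add_comm, hp, hq, add_zero]
    have h4 := key _ h3
    have h5 : gl (k₀.app U.1 k) = 0 := congr(($hw).app U.1 k)
    rw [h5, map_zero, sub_zero] at h4
    have : k = 0 := QCoh.app_injective k₀ U.1 (h4.trans (map_zero _).symm)
    rw [this, map_zero]
  have hSE : ((ShortComplex.mk k₀ g hw).map G).ShortExact :=
    { exact := hexG, mono_f := ‹Mono (G.map k₀)›, epi_g := (inferInstance : Epi (G.map g)) }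
  obtain ⟨e⟩ := nonempty_pullback_kernel_iso I hF
  have hz : hSE.extClass = 0 := by
    have h2 : hSE.extClass.comp (Abelian.Ext.mk₀ e.hom) (add_zero 1) = 0 := h1.elim _ _
    have h3 := congrArg (fun y => Abelian.Ext.comp y (Abelian.Ext.mk₀ e.inv) (add_zero 1)) h2
    simpa [Abelian.Ext.comp_assoc_of_second_deg_zero, Abelian.Ext.mk₀_comp_mk₀] using h3
  -- a retraction
  obtain ⟨r, hr⟩ : ∃ r : G.obj P ⟶ G.obj K, G.map k₀ ≫ r = 𝟙 _ := by
    obtain ⟨x, hx⟩ := Abelian.Ext.contravariant_sequence_exact₁ hSE _ (Abelian.Ext.mk₀ (𝟙 (G.obj K))) (add_zero 1)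
      (by rw [hz]; simp)
    obtain ⟨r, rfl⟩ := (Abelian.Ext.mk₀_bijective _ _).2 x
    rw [Abelian.Ext.mk₀_comp_mk₀] at hx
    exact ⟨r, (Abelian.Ext.mk₀_bijective _ _).1 hx⟩
  haveI := isIso_eta_kernel I hI hF
  let ρ : P ⟶ K := eta I P ≫ (Scheme.Modules.pushforward I.subschemeι).map r ≫ inv (eta I K)
  have hρ : k₀ ≫ ρ = 𝟙 K := by
    have hn : k₀ ≫ eta I P = eta I K ≫ (Scheme.Modules.pushforward I.subschemeι).map (G.map k₀) :=
      (Scheme.Modules.pullbackPushforwardAdjunction I.subschemeι).unit.naturality k₀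
    simp only [ρ]
    rw [reassoc_of% hn, ← Functor.map_comp_assoc, hr, CategoryTheory.Functor.map_id, Category.id_comp, IsIso.hom_inv_id]
  have hS : (ShortComplex.mk k₀ g hw).ShortExact := { exact := hexact }
  let sp := ShortComplex.Splitting.ofExactOfRetraction _ hexact ρ hρ hS.epi_g
  refine ⟨sp.s ≫ p₂, (map_eq_iff I _ _).2 ?_⟩
  have hsg : sp.s ≫ g = 𝟙 E := sp.s_g
  rw [Category.assoc, ← hgv, reassoc_of% hsg]

include hI in
theorem nonempty_iso_of_lift {E E' : X.Modules} (hE : FlatMod.IsFinLocFree E) (hE' : FlatMod.IsFinLocFree E')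
    (e : (Scheme.Modules.pullback I.subschemeι).obj E ≅ (Scheme.Modules.pullback I.subschemeι).obj E')
    [HasExt.{u} I.subscheme.Modules]
    (h1 : Subsingleton (Abelian.Ext.{u} ((Scheme.Modules.pullback I.subschemeι).obj E) (J I E) 1)) :
    Nonempty (E ≅ E') := by
  let a : J I E' ≅ J I E :=
    (DCoh.tensorBi.obj ((Scheme.Modules.pullback I.subschemeι).obj (ClSub.idealMod I))).mapIso e.symm
  haveI : Subsingleton (Abelian.Ext.{u} ((Scheme.Modules.pullback I.subschemeι).obj E) (J I E') 1) := ⟨fun x y => by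
    have h2 := congrArg (fun z => Abelian.Ext.comp z (Abelian.Ext.mk₀ a.inv) (add_zero 1))
      (h1.elim (x.comp (Abelian.Ext.mk₀ a.hom) (add_zero 1)) (y.comp (Abelian.Ext.mk₀ a.hom) (add_zero 1)))
    simpa [Abelian.Ext.comp_assoc_of_second_deg_zero, Abelian.Ext.mk₀_comp_mk₀] using h2⟩
  obtain ⟨u, hu⟩ := exists_lift I hI hE' hE ‹_› e.hom
  refine ⟨@asIso _ _ _ _ u (QCoh.isIso_of_isBasis u X.isBasis_affineOpens fun U hU => ?_)⟩
  have hEq := QCoh.isQCoh_of_isFinLocFree hE
  have hE'q := QCoh.isQCoh_of_isFinLocFree hE'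
  let A := Γ(X, U)
  let Ju := I.ideal ⟨U, hU⟩
  let l : Γ(E, U) →ₗ[A] Γ(E', U) :=
    { toFun := u.app U, map_add' := map_add _, map_smul' := fun r x => Scheme.Modules.Hom.app_smul u r x }
  haveI : Module.FinitePresentation A Γ(E', U) := QCoh.finitePresentation_of_isFP (QCoh.isFP_of_isFinLocFree hE') hU
  haveI : Module.FinitePresentation A Γ(E, U) := QCoh.finitePresentation_of_isFP (QCoh.isFP_of_isFinLocFree hE) hU
  have hn := fun x => congr(($((Scheme.Modules.pullbackPushforwardAdjunction I.subschemeι).unit.naturality u)).app U x)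
  have hbij : Function.Bijective (((Scheme.Modules.pushforward I.subschemeι).map
      ((Scheme.Modules.pullback I.subschemeι).map u)).app U) := by
    rw [hu]
    exact ConcreteCategory.bijective_of_isIso (e.hom.app (I.subschemeι ⁻¹ᵁ U))
  have hsq : Ju * Ju = ⊥ := by
    rw [← pow_two]
    have h2 := congrArg (fun J : X.IdealSheafData => J.ideal ⟨U, hU⟩) hI
    simpa using h2
  have hnil : ∀ {M : Type u} [AddCommGroup M] [Module A M] (N : Submodule A M), ⊤ ≤ N ⊔ Ju • (⊤ : Submodule A M) → N = ⊤ :=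
    fun {M} _ _ N h => by
      refine top_le_iff.1 (h.trans (sup_le le_rfl ?_))
      refine (Submodule.smul_mono le_rfl h).trans ?_
      rw [Submodule.smul_sup, ← Submodule.mul_smul, hsq, Submodule.bot_smul, sup_bot_eq]
      exact Submodule.smul_le_right
  have hsurj : Function.Surjective l := by
    rw [← LinearMap.range_eq_top]
    refine hnil _ fun y _ => ?_
    obtain ⟨z, hz⟩ := hbij.2 ((eta I E').app U y)
    obtain ⟨x, hx⟩ := eta_surjective I hEq ⟨U, hU⟩ z
    have h2 : (eta I E').app U (l x) = (eta I E').app U y := by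
      rw [← hz, ← hx]; exact hn x
    refine Submodule.mem_sup.2 ⟨l x, ⟨x, rfl⟩, y - l x, ?_, by abel⟩
    refine (eta_eq_zero_iff I hE'q ⟨U, hU⟩ _).1 ?_
    rw [map_sub, h2, sub_self]
  haveI : Module.Flat A Γ(E', U) := (QCoh.flat_sections_iff hE'q hU).2 fun x _ => (QCoh.isFlat_and_isFP_iff.2 hE').1 x
  haveI : Module.Projective A Γ(E', U) := Module.Flat.projective_of_finitePresentation
  obtain ⟨t, ht⟩ := Module.projective_lifting_property l LinearMap.id hsurj
  have ht' : ∀ y, l (t y) = y := LinearMap.congr_fun ht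
  have htsurj : Function.Surjective t := by
    rw [← LinearMap.range_eq_top]
    refine hnil _ fun x _ => ?_
    refine Submodule.mem_sup.2 ⟨t (l x), ⟨l x, rfl⟩, x - t (l x), ?_, by abel⟩
    refine (eta_eq_zero_iff I hEq ⟨U, hU⟩ _).1 (hbij.1 ?_)
    rw [map_zero]
    refine (hn (x - t (l x))).symm.trans ?_
    show (eta I E').app U (l (x - t (l x))) = 0
    rw [map_sub, ht', sub_self, map_zero]
  refine ⟨fun x y hxy => ?_, hsurj⟩
  obtain ⟨a, rfl⟩ := htsurj x
  obtain ⟨b, rfl⟩ := htsurj y
  have : l (t a) = l (t b) := hxy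
  rw [ht', ht'] at this
  rw [this]

end Groth.Agent.RGLib.SqZeroHom
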