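import Groth.Agent.H23.Frame
import Groth.Agent.QCoh.LocFree
import Groth.Agent.ExistEasy.PP.PullSec
import Mathlib

/-!
# Frames pull back to frames
-/

set_option autoImplicit false
set_option linter.style.haveILetI false
set_option backward.isDefEq.respectTransparency false
set_option backward.isDefEq.respectTransparency.types false

open AlgebraicGeometry CategoryTheory CategoryTheory.Limits TopologicalSpace Opposite

namespace Groth.Agent.RGLib.PullbackFrame

universe u

open Groth.Agent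

variable {X Y : Scheme.{u}} {n : ℕ}

theorem map_comb (M : X.Modules) {U : X.Opens} (s : Fin n → Γ(M, U)) {W W' : X.Opens} (h : W ≤ U) (i : W' ≤ W)
    (c : Fin n → Γ(X, W)) :
    M.presheaf.map (homOfLE i).op (H23.Frame.comb M s W h c) =
      H23.Frame.comb M s W' (i.trans h) (fun k => X.presheaf.map (homOfLE i).op (c k)) := by
  unfold H23.Frame.comb
  rw [map_sum]
  refine Finset.sum_congr rfl fun k _ => ?_
  rw [Scheme.Modules.map_smul, ← ConcreteCategory.comp_apply, ← M.presheaf.map_comp]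
  rfl

/-- Frames over affine opens pull back to frames on affine opens. -/
theorem bijective_comb_affine (g : X ⟶ Y) {N : Y.Modules} (hN : Coh.IsQCoh N) {U : Y.Opens}
    {e : Fin n → Γ(N, U)} (he : H23.Frame.IsFrame N e) {V : Y.Opens} (hV : IsAffineOpen V) (hVU : V ≤ U)
    {W : X.Opens} (hW : IsAffineOpen W) (hle : W ≤ g ⁻¹ᵁ V) (h : W ≤ g ⁻¹ᵁ U) :
    Function.Bijective (H23.Frame.comb ((Scheme.Modules.pullback g).obj N)
      (fun i => QCoh.pullSec g N le_rfl (e i)) W h) := by
  letI : Algebra Γ(Y, V) Γ(X, W) := (g.appLE V W hle).hom.toAlgebra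
  letI : Module Γ(Y, V) Γ((Scheme.Modules.pullback g).obj N, W) := Module.compHom _ (g.appLE V W hle).hom
  haveI : IsScalarTower Γ(Y, V) Γ(X, W) Γ((Scheme.Modules.pullback g).obj N, W) :=
    ⟨fun a b c => mul_smul ((g.appLE V W hle).hom a) b c⟩
  obtain ⟨l, hl, hb⟩ := ExistEasy.exists_pullSec_baseChange g hN hW hV hle
  let L : (Fin n → Γ(Y, V)) →ₗ[Γ(Y, V)] Γ(N, V) :=
    Fintype.linearCombination Γ(Y, V) (fun i => N.presheaf.map (homOfLE hVU).op (e i))
  have hL : Function.Bijective L := by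
    have : (L : (Fin n → Γ(Y, V)) → Γ(N, V)) = H23.Frame.comb N e V hVU := by
      funext c; exact Fintype.linearCombination_apply _ _ _
    rw [this]; exact he V hVU
  let b : Module.Basis (Fin n) Γ(Y, V) Γ(N, V) := Module.Basis.ofEquivFun (LinearEquiv.ofBijective L hL).symm
  have hbi : ∀ i, b i = N.presheaf.map (homOfLE hVU).op (e i) := fun i => by
    rw [Module.Basis.coe_ofEquivFun, LinearEquiv.symm_symm]
    show L (Pi.single i 1) = _
    rw [Fintype.linearCombination_apply_single, one_smul]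
  let b' : Module.Basis (Fin n) Γ(X, W) Γ((Scheme.Modules.pullback g).obj N, W) :=
    (b.baseChange Γ(X, W)).map hb.equiv
  have hb' : ∀ i, b' i = ((Scheme.Modules.pullback g).obj N).presheaf.map (homOfLE h).op
      (QCoh.pullSec g N le_rfl (e i)) := fun i => by
    rw [Module.Basis.map_apply, Module.Basis.baseChange_apply, IsBaseChange.equiv_tmul, one_smul, hl, hbi]
    exact (ExistEasy.pullSec_res g N hVU h le_rfl hle (e i)).symm
  have hcomb : H23.Frame.comb ((Scheme.Modules.pullback g).obj N) (fun i => QCoh.pullSec g N le_rfl (e i)) W h =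
      b'.equivFun.symm := by
    funext c
    rw [Module.Basis.equivFun_symm_apply]
    exact Finset.sum_congr rfl fun i _ => by rw [hb']
  rw [hcomb]
  exact b'.equivFun.symm.bijective

/-- Frames pull back to frames. -/
theorem isFrame_pullback (g : X ⟶ Y) {N : Y.Modules} (hN : Coh.IsQCoh N) {U : Y.Opens}
    {e : Fin n → Γ(N, U)} (he : H23.Frame.IsFrame N e) :
    H23.Frame.IsFrame ((Scheme.Modules.pullback g).obj N) (fun i => QCoh.pullSec g N le_rfl (e i)) := by
  intro W h
  let Q := (Scheme.Modules.pullback g).obj N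
  let s := fun i => QCoh.pullSec g N le_rfl (e i)
  have hloc : ∀ p : W, ∃ (A : X.Opens) (hA : A ≤ W), p.1 ∈ A ∧
      ∀ (A' : X.Opens) (hA' : A' ≤ A), IsAffineOpen A' →
        Function.Bijective (H23.Frame.comb Q s A' ((hA'.trans hA).trans h)) := fun p => by
    obtain ⟨V, hV, hxV, hVU⟩ := exists_isAffineOpen_mem_and_subset (x := g p.1) (U := U) (h p.2)
    exact ⟨g ⁻¹ᵁ V ⊓ W, inf_le_right, ⟨hxV, p.2⟩, fun A' hA' hA'aff =>
      bijective_comb_affine g hN he hV hVU hA'aff (hA'.trans inf_le_left) _⟩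
  choose A hA hpA hbij using hloc
  have inj : ∀ (W' : X.Opens) (hW' : W' ≤ W), Function.Injective (H23.Frame.comb Q s W' (hW'.trans h)) := by
    intro W' hW' c c' hcc
    funext k
    refine TopCat.Presheaf.section_ext X.sheaf _ _ _ fun x hx => ?_
    obtain ⟨A', hA'aff, hxA', hA'le⟩ := exists_isAffineOpen_mem_and_subset (x := x) (U := A ⟨x, hW' hx⟩ ⊓ W')
      ⟨hpA ⟨x, hW' hx⟩, hx⟩
    have hA'W : A' ≤ W' := fun y hy => (hA'le hy).2
    have h1 := congrArg (Q.presheaf.map (homOfLE hA'W).op) hcc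
    rw [map_comb, map_comb] at h1
    have h2 := congrFun ((hbij ⟨x, hW' hx⟩ A' (fun y hy => (hA'le hy).1) hA'aff).1 h1) k
    show X.presheaf.germ W' x hx (c k) = X.presheaf.germ W' x hx (c' k)
    rw [← X.presheaf.germ_res_apply (homOfLE hA'W) x hxA', ← X.presheaf.germ_res_apply (homOfLE hA'W) x hxA' (c' k), h2]
  refine ⟨inj W le_rfl, fun t => ?_⟩
  have hx : ∀ p : W, ∃ (B : X.Opens) (hB : B ≤ W), p.1 ∈ B ∧ ∃ c : Fin n → Γ(X, B),
      H23.Frame.comb Q s B (hB.trans h) c = Q.presheaf.map (homOfLE hB).op t := fun p => by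
    obtain ⟨B, hBaff, hpB, hBA⟩ := exists_isAffineOpen_mem_and_subset (x := p.1) (U := A p) (hpA p)
    obtain ⟨c, hc⟩ := (hbij p B hBA hBaff).2 (Q.presheaf.map (homOfLE ((hBA : B ≤ A p).trans (hA p))).op t)
    exact ⟨B, (hBA : B ≤ A p).trans (hA p), hpB, c, hc⟩
  choose B hB hpB c hc using hx
  have hcov : W ≤ ⨆ p, B p := fun p hp => Opens.mem_iSup.2 ⟨⟨p, hp⟩, hpB ⟨p, hp⟩⟩
  have hglue : ∀ k, ∃ r : Γ(X, W), ∀ p, X.presheaf.map (homOfLE (hB p)).op r = c p k := fun k => by
    obtain ⟨r, hr, -⟩ := TopCat.Sheaf.existsUnique_gluing' X.sheaf B W (fun p => homOfLE (hB p)) hcov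
      (fun p => c p k) fun p q => by
        have hle : B p ⊓ B q ≤ W := inf_le_left.trans (hB p)
        have e1 : H23.Frame.comb Q s (B p ⊓ B q) (hle.trans h)
            (fun k => X.presheaf.map (homOfLE (inf_le_left : B p ⊓ B q ≤ B p)).op (c p k)) =
            H23.Frame.comb Q s (B p ⊓ B q) (hle.trans h)
              (fun k => X.presheaf.map (homOfLE (inf_le_right : B p ⊓ B q ≤ B q)).op (c q k)) := by
          rw [← map_comb Q s ((hB p).trans h) inf_le_left (c p), ← map_comb Q s ((hB q).trans h) inf_le_right (c q),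
            hc, hc, ← ConcreteCategory.comp_apply, ← ConcreteCategory.comp_apply, ← Q.presheaf.map_comp,
            ← Q.presheaf.map_comp]
          rfl
        exact congrFun (inj _ hle e1) k
    exact ⟨r, hr⟩
  choose r hr using hglue
  refine ⟨r, TopCat.Sheaf.eq_of_locally_eq' ⟨Q.presheaf, Q.isSheaf⟩ B W (fun p => homOfLE (hB p)) hcov _ _ fun p => ?_⟩
  refine (map_comb Q s h (hB p) r).trans ?_
  rw [← hc p]
  exact congrArg (H23.Frame.comb Q s (B p) _) (funext fun k => hr k p)

/-- A finite locally free module has frames locally. -/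
theorem exists_frame_nhd {N : Y.Modules} (hN : FlatMod.IsFinLocFree N) (y : Y) :
    ∃ (U : Y.Opens) (n : ℕ) (e : Fin n → Γ(N, U)), y ∈ U ∧ H23.Frame.IsFrame N e := by
  obtain ⟨U, n, hy, ⟨i⟩⟩ := hN y
  obtain ⟨s, hs⟩ := H23.Frame.exists_frame i
  exact ⟨U, n, s, hy, hs⟩

end Groth.Agent.RGLib.PullbackFrame
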