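import Groth.Agent.RGLib.Spread

/-!
# Universal injectivity of base change along a flat algebra covering the associated points of the fibres
-/

universe u

noncomputable section

open TensorProduct IsLocalRing

set_option linter.style.haveILetI false
set_option maxHeartbeats 800000

namespace Groth.Agent.RGLib

attribute [local instance] Algebra.TensorProduct.rightAlgebra

theorem isNoetherianRing_of_essFiniteType_field (k C : Type u) [Field k] [CommRing C] [Algebra k C]
    [Algebra.EssFiniteType k C] : IsNoetherianRing C := by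
  haveI : IsNoetherianRing (Algebra.EssFiniteType.subalgebra k C) := Algebra.FiniteType.isNoetherianRing k _
  exact IsLocalization.isNoetherianRing (Algebra.EssFiniteType.submonoid k C) C inferInstance

theorem isNoetherianRing_fiber {R S : Type u} [CommRing R] [CommRing S] [Algebra R S] [Algebra.EssFiniteType R S]
    (p : Ideal R) [p.IsPrime] : IsNoetherianRing (p.Fiber S) :=
  haveI : Algebra.EssFiniteType p.ResidueField (p.Fiber S) :=
    inferInstanceAs (Algebra.EssFiniteType p.ResidueField (p.ResidueField ⊗[R] S))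
  isNoetherianRing_of_essFiniteType_field p.ResidueField _

/-- Primes of a fibre ring lie over the point. -/
theorem comap_comap_fiber {R S : Type u} [CommRing R] [CommRing S] [Algebra R S] (p : Ideal R) [p.IsPrime]
    (P : Ideal (p.Fiber S)) [P.IsPrime] : (P.comap (algebraMap S (p.Fiber S))).comap (algebraMap R S) = p := by
  ext r
  rw [Ideal.mem_comap, Ideal.mem_comap]
  show (1 : p.ResidueField) ⊗ₜ[R] algebraMap R S r ∈ P ↔ r ∈ p
  rw [Algebra.algebraMap_eq_smul_one, ← smul_tmul, ← Algebra.algebraMap_eq_smul_one]
  constructor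
  · intro hr
    by_contra hrp
    refine ‹P.IsPrime›.ne_top (Ideal.eq_top_of_isUnit_mem _ hr ?_)
    have hne : algebraMap R p.ResidueField r ≠ 0 := fun h => hrp (Ideal.algebraMap_residueField_eq_zero.1 h)
    exact (isUnit_iff_ne_zero.2 hne).map (Algebra.TensorProduct.includeLeftRingHom (R := R) (A := p.ResidueField) (B := S))
  · intro hr
    rw [Ideal.algebraMap_residueField_eq_zero.2 hr, zero_tmul]
    exact zero_mem _

/-- Ideals of a fibre ring are extended. -/
theorem fiberIdeal_comap {R S : Type u} [CommRing R] [CommRing S] [Algebra R S] (p : Ideal R) [p.IsPrime]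
    (P : Ideal (p.Fiber S)) : FlatCA.fiberIdeal p (P.comap (algebraMap S (p.Fiber S))) = P := by
  refine le_antisymm (Ideal.map_le_iff_le_comap.2 le_rfl) fun b hb => ?_
  obtain ⟨r, hr, s, hs⟩ := AssFiber.exists_smul_eq_includeRight p b
  have hu : IsUnit ((1 : p.ResidueField) ⊗ₜ[R] algebraMap R S r : p.Fiber S) := by
    rw [Algebra.algebraMap_eq_smul_one, ← smul_tmul, ← Algebra.algebraMap_eq_smul_one]
    have hne : algebraMap R p.ResidueField r ≠ 0 := fun h => hr (Ideal.algebraMap_residueField_eq_zero.1 h)
    exact (isUnit_iff_ne_zero.2 hne).map (Algebra.TensorProduct.includeLeftRingHom (R := R) (A := p.ResidueField) (B := S))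
  refine (Ideal.unit_mul_mem_iff_mem _ hu).1 ?_
  rw [hs]
  refine Ideal.mem_map_of_mem _ ?_
  show (1 : p.ResidueField) ⊗ₜ[R] s ∈ P
  rw [← hs]
  exact Ideal.mul_mem_left _ _ hb

/-- An element with annihilator inside a contracted prime stays nonzero after flat base change. -/
theorem one_tmul_ne_zero {S S' F : Type u} [CommRing S] [CommRing S'] [Algebra S S'] [Module.Flat S S']
    [AddCommGroup F] [Module S F] (w : F) (q' : Ideal S') (hq' : q'.IsPrime)
    (h : ∀ s : S, s • w = 0 → algebraMap S S' s ∈ q') : (1 : S') ⊗ₜ[S] w ≠ 0 := by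
  intro h0
  let I := LinearMap.ker (LinearMap.toSpanSingleton S F w)
  let f : (S ⧸ I) →ₗ[S] F := I.liftQ (LinearMap.toSpanSingleton S F w) le_rfl
  have hf : Function.Injective f := by
    rw [← LinearMap.ker_eq_bot]
    exact Submodule.ker_liftQ_eq_bot _ _ _ le_rfl
  have h1 : (1 : S') ⊗ₜ[S] (Ideal.Quotient.mk I 1) = 0 := by
    refine Module.Flat.lTensor_preserves_injective_linearMap (M := S') f hf ?_
    rw [map_zero, LinearMap.lTensor_tmul]
    show (1 : S') ⊗ₜ[S] ((1 : S) • w) = 0
    rwa [one_smul]
  have h2 : (Ideal.Quotient.mk I 1) ⊗ₜ[S] (1 : S') = 0 := by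
    have := congrArg (TensorProduct.comm S S' (S ⧸ I)) h1
    rwa [TensorProduct.comm_tmul, map_zero] at this
  have h3 := congrArg (TensorProduct.quotTensorEquivQuotSMul S' I) h2
  rw [map_zero, TensorProduct.quotTensorEquivQuotSMul_mk_tmul, one_smul, Submodule.Quotient.mk_eq_zero,
    Ideal.smul_top_eq_map, Submodule.restrictScalars_mem] at h3
  refine hq'.ne_top ((Ideal.eq_top_iff_one _).2 ((Ideal.map_le_iff_le_comap.2 (fun s hs => ?_)) h3))
  exact h s hs

/-- A map over an algebra which reflects membership in the maximal ideal stays injective after tensoring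
with any module over a ring below. -/
theorem rTensor_injective_of_reflects {R A B L LM : Type u} [CommRing R] [CommRing A] [IsLocalRing A] [Algebra R A]
    [CommRing B] [IsLocalRing B] [Algebra A B] [IsLocalHom (algebraMap A B)] [Algebra.EssFiniteType A B]
    [AddCommGroup L] [Module B L] [Module A L] [IsScalarTower A B L] [Module.Finite B L] [Module R L] [IsScalarTower R A L]
    [AddCommGroup LM] [Module B LM] [Module A LM] [IsScalarTower A B LM] [Module.Flat A LM] [Module R LM]
    [IsScalarTower R A LM] (u : L →ₗ[B] LM)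
    (h : ∀ x, u x ∈ maximalIdeal A • (⊤ : Submodule A LM) → x ∈ maximalIdeal A • (⊤ : Submodule A L))
    (Q : Type u) [AddCommGroup Q] [Module R Q] (x : L ⊗[R] Q)
    (hx : ((u.restrictScalars A).restrictScalars R).rTensor Q x = 0) : x = 0 := by
  have hinj := (main u (lTensor_residue_injective (u.restrictScalars A) h)).1 (A ⊗[R] Q)
  let toP : ∀ (X : Type u) [AddCommGroup X] [Module R X] [Module A X] [IsScalarTower R A X],
      (X ⊗[R] Q) →+ (A ⊗[R] Q) ⊗[A] X := fun X _ _ _ _ =>
    ((TensorProduct.comm A X (A ⊗[R] Q)).toLinearMap.comp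
      (TensorProduct.AlgebraTensorModule.cancelBaseChange R A A X Q).symm.toLinearMap).toAddMonoidHom
  have htoP : ∀ x : L ⊗[R] Q, toP LM (((u.restrictScalars A).restrictScalars R).rTensor Q x) =
      (u.restrictScalars A).lTensor (A ⊗[R] Q) (toP L x) := fun x => by
    induction x using TensorProduct.induction_on with
    | zero => simp only [map_zero]
    | add a b ha hb => simp only [map_add, ha, hb]
    | tmul a b => rfl
  have h1 : (u.restrictScalars A).lTensor (A ⊗[R] Q) (toP L x) = 0 := by rw [← htoP, hx, map_zero]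
  have h2 := hinj (h1.trans (map_zero _).symm)
  exact ((TensorProduct.AlgebraTensorModule.cancelBaseChange R A A L Q).symm.trans
    (TensorProduct.comm A L (A ⊗[R] Q))).injective (h2.trans (map_zero _).symm)

section Localisation

variable {R S : Type u} [CommRing R] [CommRing S] [Algebra R S] [Algebra.EssFiniteType R S]
  {N : Type u} [AddCommGroup N] [Module S N] [Module R N] [IsScalarTower R S N] [Module.Finite S N]
  {M : Type u} [AddCommGroup M] [Module S M] [Module R M] [IsScalarTower R S M] [Module.Flat R M]

/-- A map into a flat module which reflects the fibre near a prime is universally injective near it. -/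
theorem exists_killer_of_fibre_reflects (u : N →ₗ[S] M) (q : Ideal S) [hqp : q.IsPrime] (p : Ideal R) [p.IsPrime]
    (hpq : ∀ r, r ∈ p ↔ algebraMap R S r ∈ q)
    (hu : ∀ n, u n ∈ AssFiber.pN p (S := S) M → ∃ c ∉ q, c • n ∈ AssFiber.pN p (S := S) N)
    (Q : Type u) [AddCommGroup Q] [Module R Q] (z : N ⊗[R] Q)
    (hz : TensorProduct.AlgebraTensorModule.rTensor R Q u z = 0) : ∃ d ∉ q, d • z = 0 := by
  let u' := TensorProduct.AlgebraTensorModule.rTensor R Q u
  change u' z = 0 at hz
  haveI hq : q.IsPrime := hqp
  let Sq := Localization.AtPrime q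
  let Rp := Localization.AtPrime p
  letI : Algebra Rp Sq := (IsLocalization.lift (M := p.primeCompl) (g := algebraMap R Sq) fun s => by
    rw [IsScalarTower.algebraMap_apply R S Sq]
    exact IsLocalization.map_units (M := q.primeCompl) Sq ⟨_, fun h => s.2 ((hpq _).2 h)⟩).toAlgebra
  haveI : IsScalarTower R Rp Sq := IsScalarTower.of_algebraMap_eq fun r => (IsLocalization.lift_eq _ r).symm
  haveI : IsLocalHom (algebraMap Rp Sq) := by
    refine ⟨fun x hx => ?_⟩
    obtain ⟨⟨r, s⟩, rfl⟩ := IsLocalization.mk'_surjective p.primeCompl x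
    rw [IsLocalization.AtPrime.isUnit_mk'_iff Rp p]
    intro hr
    have h1 := hx.mul ((IsLocalization.map_units Rp s).map (algebraMap Rp Sq))
    rw [← map_mul, IsLocalization.mk'_spec, ← IsScalarTower.algebraMap_apply, IsScalarTower.algebraMap_apply R S Sq,
      IsLocalization.AtPrime.isUnit_to_map_iff Sq q] at h1
    exact h1 ((hpq r).1 hr)
  haveI : Algebra.EssFiniteType Rp Sq := by
    haveI : Algebra.EssFiniteType R Sq := Algebra.EssFiniteType.comp R S Sq
    exact Algebra.EssFiniteType.of_comp R Rp Sq
  let L := LocalizedModule q.primeCompl N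
  let LM := LocalizedModule q.primeCompl M
  letI : Module Rp L := Module.compHom L (algebraMap Rp Sq)
  haveI : IsScalarTower Rp Sq L := IsScalarTower.of_algebraMap_smul fun _ _ => rfl
  haveI : IsScalarTower R Rp L := IsScalarTower.of_algebraMap_smul fun r x => by
    show algebraMap Rp Sq (algebraMap R Rp r) • x = r • x
    rw [← IsScalarTower.algebraMap_apply, IsScalarTower.algebraMap_apply R S Sq, algebraMap_smul, algebraMap_smul]
  letI : Module Rp LM := Module.compHom LM (algebraMap Rp Sq)
  haveI : IsScalarTower Rp Sq LM := IsScalarTower.of_algebraMap_smul fun _ _ => rfl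
  haveI : IsScalarTower R Rp LM := IsScalarTower.of_algebraMap_smul fun r x => by
    show algebraMap Rp Sq (algebraMap R Rp r) • x = r • x
    rw [← IsScalarTower.algebraMap_apply, IsScalarTower.algebraMap_apply R S Sq, algebraMap_smul, algebraMap_smul]
  haveI : Module.Flat R LM := by
    haveI : Module.Flat S Sq := IsLocalization.flat _ q.primeCompl
    haveI : Module.Flat R (Sq ⊗[S] M) := flat_tensor_left R S M Sq
    exact Module.Flat.of_linearEquiv ((LocalizedModule.equivTensorProduct q.primeCompl M).restrictScalars R)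
  haveI : Module.Flat Rp LM := (Module.flat_iff_of_isLocalization (R := R) Rp p.primeCompl (M := LM)).2 ‹_›
  let uq : L →ₗ[Sq] LM := LocalizedModule.map q.primeCompl u
  have huq : ∀ n s, uq (LocalizedModule.mk n s) = LocalizedModule.mk (u n) s := fun n s =>
    LocalizedModule.map_mk _ _ _ _
  have hfib : ∀ x, uq x ∈ maximalIdeal Rp • (⊤ : Submodule Rp LM) →
      x ∈ maximalIdeal Rp • (⊤ : Submodule Rp L) := by
    intro x hx
    induction x using LocalizedModule.induction_on with
    | _ n s =>
    haveI : SMulCommClass S Rp LM := ⟨fun t r z => by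
      rw [← algebraMap_smul Sq t (r • z), ← algebraMap_smul Sq t z]
      show algebraMap S Sq t • algebraMap Rp Sq r • z = algebraMap Rp Sq r • algebraMap S Sq t • z
      rw [smul_comm]⟩
    have hT : ∀ w : LM, w ∈ maximalIdeal Rp • (⊤ : Submodule Rp LM) →
        ∃ t ∉ q, ∃ m' ∈ AssFiber.pN p (S := S) M, t • w = LocalizedModule.mkLinearMap q.primeCompl M m' := by
      intro w hw
      refine Submodule.smul_induction_on hw (fun r hr v _ => ?_) fun u v hu hv => ?_
      · induction v using LocalizedModule.induction_on with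
        | _ m t =>
        obtain ⟨⟨r, s'⟩, rfl⟩ := IsLocalization.mk'_surjective p.primeCompl r
        have hr' : r ∈ p := (IsLocalization.AtPrime.mk'_mem_maximal_iff Rp p r s').1 hr
        refine ⟨algebraMap R S s' * t, fun h => (hq.mem_or_mem h).elim (fun h' => s'.2 ((hpq _).2 h')) t.2, algebraMap R S r • m,
          Submodule.smul_mem_smul (Ideal.mem_map_of_mem _ hr') trivial, ?_⟩
        rw [algebraMap_smul, mul_smul, algebraMap_smul, ← algebraMap_smul Rp (s' : R), smul_comm (t : S),
          smul_smul, mul_comm, IsLocalization.mk'_spec, algebraMap_smul, LinearMap.map_smul_of_tower]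
        refine congrArg (r • ·) ?_
        rw [LocalizedModule.mkLinearMap_apply, LocalizedModule.smul'_mk]
        exact LocalizedModule.mk_cancel t m
      · obtain ⟨t, ht, n₁, hn₁, e₁⟩ := hu
        obtain ⟨t', ht', n₂, hn₂, e₂⟩ := hv
        refine ⟨t * t', fun h => (hq.mem_or_mem h).elim ht ht', t' • n₁ + t • n₂,
          add_mem (Submodule.smul_mem _ _ hn₁) (Submodule.smul_mem _ _ hn₂), ?_⟩
        rw [smul_add, map_add, map_smul, map_smul, ← e₁, ← e₂, smul_smul, smul_smul, mul_comm t t']
    obtain ⟨t, ht, m', hm', hte⟩ := hT _ hx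
    change t • uq (LocalizedModule.mk n s) = _ at hte
    rw [huq, LocalizedModule.smul'_mk, LocalizedModule.mkLinearMap_apply, LocalizedModule.mk_eq] at hte
    obtain ⟨v, hv⟩ := hte
    simp only [Submonoid.smul_def, Submonoid.coe_one, one_smul] at hv
    have h2 : u (((v : S) * t) • n) ∈ AssFiber.pN p (S := S) M := by
      rw [map_smul, mul_smul, hv]
      exact Submodule.smul_mem _ _ (Submodule.smul_mem _ _ hm')
    obtain ⟨c, hc, hrn⟩ := hu _ h2
    rw [smul_smul] at hrn
    have hd : c * ((v : S) * t) ∈ q.primeCompl :=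
      mul_mem hc (mul_mem v.2 ht)
    have hmem : ∀ m ∈ AssFiber.pN p (S := S) N, LocalizedModule.mkLinearMap q.primeCompl N m ∈
        maximalIdeal Rp • (⊤ : Submodule Rp L) := fun m hm => by
      have hm' := AssFiber.mem_smul_top_of_mem_pN p N hm
      refine Submodule.smul_induction_on hm' (fun r hr v _ => ?_) fun u v hu hv => by rw [map_add]; exact add_mem hu hv
      rw [LinearMap.map_smul_of_tower, ← algebraMap_smul Rp r]
      exact Submodule.smul_mem_smul ((IsLocalization.AtPrime.to_map_mem_maximal_iff Rp p r).2 hr) trivial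
    have h1 := hmem _ hrn
    let a : Sq := IsLocalization.mk' Sq 1 (s * ⟨_, hd⟩ : q.primeCompl)
    have h2 : (LocalizedModule.mk n s : L) =
        a • LocalizedModule.mkLinearMap q.primeCompl N ((c * ((v : S) * t)) • n) := by
      rw [LocalizedModule.mkLinearMap_apply]
      show _ = IsLocalization.mk' (Localization q.primeCompl) (1 : S) (s * ⟨_, hd⟩ : q.primeCompl) • _
      rw [← Localization.mk_eq_mk', LocalizedModule.mk_smul_mk, LocalizedModule.mk_eq]
      exact ⟨1, by simp [Submonoid.smul_def, smul_smul, mul_comm, mul_assoc]⟩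
    rw [h2]
    exact Submodule.smul_induction_on h1
      (fun r hr v _ => by rw [smul_comm]; exact Submodule.smul_mem_smul hr trivial)
      fun a b ha hb => by rw [smul_add]; exact add_mem ha hb
  let lN := TensorProduct.AlgebraTensorModule.rTensor R Q (LocalizedModule.mkLinearMap q.primeCompl N)
  have hzero : lN z = 0 := by
    refine rTensor_injective_of_reflects (A := Rp) uq hfib Q (lN z) ?_
    have hsq : ((uq.restrictScalars Rp).restrictScalars R).rTensor Q (lN z) =
        TensorProduct.AlgebraTensorModule.rTensor R Q (LocalizedModule.mkLinearMap q.primeCompl M) (u' z) := by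
      clear hz
      induction z using TensorProduct.induction_on with
      | zero => simp only [map_zero]
      | add a b ha hb => simp only [map_add, ha, hb]
      | tmul a b => exact congrArg (· ⊗ₜ[R] b) (huq a 1)
    rw [hsq, hz, map_zero]
  obtain ⟨d, hd⟩ := (IsLocalizedModule.eq_zero_iff q.primeCompl lN).1 hzero
  exact ⟨d, d.2, hd⟩

end Localisation

variable {R S S' : Type u} [CommRing R] [CommRing S] [CommRing S'] [Algebra R S] [Algebra S S'] [Algebra R S']
  [IsScalarTower R S S'] [Algebra.EssFiniteType R S] [Module.Flat S S']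

/-- The base change map is universally injective when the flat algebra covers all associated points of
the fibres. -/
theorem univInj_mk_of_covering (N : Type u) [AddCommGroup N] [Module S N] [Module R N] [IsScalarTower R S N]
    [Module.Finite S N] [Module.Flat R N]
    (h : ∀ (p : Ideal R) [p.IsPrime], ∀ P ∈ associatedPrimes (p.Fiber S) (FlatCA.fiberMod p S N),
      (∃ q : Ideal S, q.IsMaximal ∧ q.comap (algebraMap R S) = p ∧ P.comap (algebraMap S (p.Fiber S)) ≤ q) →
      ∃ q' : Ideal S', q'.IsPrime ∧ q'.comap (algebraMap S S') = P.comap (algebraMap S (p.Fiber S)))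
    (Q : Type u) [AddCommGroup Q] [Module R Q] :
    Function.Injective (((TensorProduct.mk S S' N 1).restrictScalars R).lTensor Q) := by
  classical
  rw [LinearMap.lTensor_inj_iff_rTensor_inj, injective_iff_map_eq_zero]
  intro z hz
  let u : N →ₗ[S] S' ⊗[S] N := TensorProduct.mk S S' N 1
  haveI : Module.Flat R (S' ⊗[S] N) := flat_tensor_left R S N S'
  let u' := TensorProduct.AlgebraTensorModule.rTensor R Q u
  change u' z = 0 at hz
  -- it suffices to find killers outside each maximal ideal
  suffices hsuf : ∀ q : Ideal S, q.IsMaximal → ∃ d ∉ q, d • z = 0 by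
    by_contra hne
    have hann : (Submodule.span S {z}).annihilator ≠ ⊤ := fun h => hne (by
      simpa using (Submodule.mem_annihilator_span_singleton z (1 : S)).1 (by rw [h]; trivial))
    obtain ⟨q, hq, hle⟩ := Ideal.exists_le_maximal _ hann
    obtain ⟨d, hd, hdz⟩ := hsuf q hq
    exact hd (hle ((Submodule.mem_annihilator_span_singleton z d).2 hdz))
  intro q hq
  haveI := hq.isPrime
  let p := q.comap (algebraMap R S)
  haveI : p.IsPrime := Ideal.IsPrime.comap _
  refine exists_killer_of_fibre_reflects u q p (fun r => Iff.rfl) (fun n hn => ?_) Q z hz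
  let w := FlatCA.toFiberMod p (S := S) N n
  have h1w : (1 : S') ⊗ₜ[S] w = 0 := by
    have hle : AssFiber.pN p (S := S) (S' ⊗[S] N) ≤ LinearMap.ker ((FlatCA.toFiberMod p (S := S) N).lTensor S') := by
      refine Submodule.smul_le.2 fun c hc y _ => ?_
      rw [LinearMap.mem_ker, map_smul]
      induction y using TensorProduct.induction_on with
      | zero => rw [map_zero, smul_zero]
      | add a b ha hb => rw [map_add, smul_add, ha trivial, hb trivial, add_zero]
      | tmul a b =>
        rw [LinearMap.lTensor_tmul, ← tmul_smul, ← map_smul,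
          AssFiber.toFiberMod_eq_zero_of_mem p N (Submodule.smul_mem_smul hc (Submodule.mem_top (x := b))), tmul_zero]
    exact LinearMap.mem_ker.1 (hle hn)
  obtain ⟨c, hc, hc0⟩ : ∃ c ∉ q, c • w = 0 := by
    by_contra hne
    push Not at hne
    haveI : IsNoetherianRing (p.Fiber S) := isNoetherianRing_fiber p
    let I := (⊥ : Submodule (p.Fiber S) (FlatCA.fiberMod p S N)).colon {w}
    have hdis : Disjoint (I : Set (p.Fiber S)) (q.primeCompl.map (algebraMap S (p.Fiber S)) : Set (p.Fiber S)) := by
      rw [Set.disjoint_right]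
      rintro _ ⟨d, hd, rfl⟩ hdI
      rw [SetLike.mem_coe, Submodule.mem_colon_singleton, Submodule.mem_bot, AssFiber.algebraMap_smul_fiberMod] at hdI
      exact hne d hd hdI
    obtain ⟨P', hP', hIP', hdisP'⟩ := Ideal.exists_le_prime_disjoint I _ hdis
    obtain ⟨P, hP, hle⟩ := Ideal.exists_minimalPrimes_le hIP'
    have hass : P ∈ associatedPrimes (p.Fiber S) (FlatCA.fiberMod p S N) :=
      isAssociatedPrime_iff.2 ⟨hP.1.1, Submodule.exists_eq_colon_of_mem_minimalPrimes (x := w) hP⟩
    have hPq : P.comap (algebraMap S (p.Fiber S)) ≤ q := fun d hd => by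
      by_contra hdQ
      exact Set.disjoint_left.1 hdisP' (hle hd) ⟨d, hdQ, rfl⟩
    obtain ⟨q', hq', hq'c⟩ := h p P hass ⟨q, hq, rfl, hPq⟩
    refine one_tmul_ne_zero (S' := S') w q' hq' (fun c hc => ?_) h1w
    have : c ∈ q'.comap (algebraMap S S') := by
      rw [hq'c, Ideal.mem_comap]
      refine hP.1.2 ?_
      rw [Submodule.mem_colon_singleton, Submodule.mem_bot, AssFiber.algebraMap_smul_fiberMod]
      exact hc
    exact this
  rw [← map_smul] at hc0
  obtain ⟨r, hr, hrn⟩ := AssFiber.exists_smul_mem_of_toFiberMod_eq_zero p (S := S) N hc0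
  rw [smul_smul] at hrn
  exact ⟨algebraMap R S r * c, q.primeCompl.mul_mem (show algebraMap R S r ∈ q.primeCompl from hr) hc, hrn⟩

end Groth.Agent.RGLib

end
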