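import Groth.Agent.RGLib.Main

/-!
# First consequences of the universal injectivity criterion
-/

universe u

noncomputable section

open TensorProduct IsLocalRing

set_option linter.style.haveILetI false

namespace Groth.Agent.RGLib

/-- A map which reflects membership in `m • ⊤` is injective after tensoring with the residue field. -/
theorem lTensor_residue_injective {A N M : Type u} [CommRing A] [IsLocalRing A] [AddCommGroup N] [Module A N]
    [AddCommGroup M] [Module A M] (u : N →ₗ[A] M)
    (h : ∀ x, u x ∈ maximalIdeal A • (⊤ : Submodule A M) → x ∈ maximalIdeal A • (⊤ : Submodule A N)) :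
    Function.Injective (u.lTensor (ResidueField A)) := by
  rw [injective_iff_map_eq_zero]
  intro z hz
  change ((A ⧸ maximalIdeal A) ⊗[A] N) at z
  obtain ⟨x, rfl⟩ := TensorProduct.mk_surjective A _ (A ⧸ maximalIdeal A) Ideal.Quotient.mk_surjective z
  change u.lTensor (A ⧸ maximalIdeal A) ((1 : A ⧸ maximalIdeal A) ⊗ₜ x) = 0 at hz
  have h1 := congrArg (TensorProduct.quotTensorEquivQuotSMul M (maximalIdeal A)) hz
  rw [LinearMap.lTensor_tmul, map_zero, show (1 : A ⧸ maximalIdeal A) = Ideal.Quotient.mk _ 1 from rfl,
    TensorProduct.quotTensorEquivQuotSMul_mk_tmul, one_smul, Submodule.Quotient.mk_eq_zero] at h1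
  show (1 : A ⧸ maximalIdeal A) ⊗ₜ[A] x = 0
  refine (TensorProduct.quotTensorEquivQuotSMul N (maximalIdeal A)).injective ?_
  rw [map_zero, show (1 : A ⧸ maximalIdeal A) = Ideal.Quotient.mk _ 1 from rfl,
    TensorProduct.quotTensorEquivQuotSMul_mk_tmul, one_smul, Submodule.Quotient.mk_eq_zero]
  exact h x h1

/-- The cokernel of a universally injective map into a flat module is flat. -/
theorem flat_coker_of_lTensor_injective {A N M C : Type u} [CommRing A] [AddCommGroup N] [Module A N]
    [AddCommGroup M] [Module A M] [AddCommGroup C] [Module A C] [Module.Flat A M] (f : N →ₗ[A] M)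
    (g : M →ₗ[A] C) (hfg : Function.Exact f g) (hg : Function.Surjective g)
    (hf : ∀ (Q : Type u) [AddCommGroup Q] [Module A Q], Function.Injective (f.lTensor Q)) : Module.Flat A C := by
  refine Module.Flat.iff_rTensor_injective'.2 fun I => ?_
  rw [injective_iff_map_eq_zero]
  intro z hz
  obtain ⟨z', rfl⟩ := LinearMap.lTensor_surjective I hg z
  have hw1 : g.lTensor A (LinearMap.rTensor M I.subtype z') = 0 := by
    rw [← hz, ← LinearMap.comp_apply, LinearMap.lTensor_comp_rTensor, ← LinearMap.rTensor_comp_lTensor,
      LinearMap.comp_apply]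
  obtain ⟨n, hn⟩ := (lTensor_exact A hfg hg _).1 hw1
  have hn0 : (Submodule.mkQ I).rTensor N n = 0 := by
    refine hf (A ⧸ I) ?_
    rw [map_zero, ← LinearMap.comp_apply, LinearMap.lTensor_comp_rTensor, ← LinearMap.rTensor_comp_lTensor,
      LinearMap.comp_apply, hn, ← LinearMap.comp_apply, ← LinearMap.rTensor_comp,
      show (Submodule.mkQ I).comp I.subtype = 0 from LinearMap.ext fun x => (Submodule.Quotient.mk_eq_zero I).2 x.2,
      LinearMap.rTensor_zero, LinearMap.zero_apply]
  obtain ⟨w, rfl⟩ := (rTensor_exact N (LinearMap.exact_subtype_mkQ I) (Submodule.mkQ_surjective I) n).1 hn0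
  have h3 : f.lTensor I w = z' := by
    refine Module.Flat.rTensor_preserves_injective_linearMap (M := M) I.subtype I.injective_subtype ?_
    rw [← hn, ← LinearMap.comp_apply, LinearMap.rTensor_comp_lTensor, ← LinearMap.lTensor_comp_rTensor,
      LinearMap.comp_apply]
  rw [← h3, ← LinearMap.comp_apply, ← LinearMap.lTensor_comp, hfg.linearMap_comp_eq_zero, LinearMap.lTensor_zero,
    LinearMap.zero_apply]

/-- A finite module, flat over the base, over a local algebra essentially of finite type is finitely
presented. -/
theorem finitePresentation_of_flat_local {R B : Type u} [CommRing R] [CommRing B] [IsLocalRing B] [Algebra R B]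
    [Algebra.EssFiniteType R B] (N : Type u) [AddCommGroup N] [Module B N] [Module R N] [IsScalarTower R B N]
    [Module.Finite B N] [Module.Flat R N] : Module.FinitePresentation B N := by
  let p : Ideal R := (maximalIdeal B).comap (algebraMap R B)
  haveI : p.IsPrime := Ideal.IsPrime.comap _
  let A := Localization.AtPrime p
  letI : Algebra A B := (IsLocalization.lift (M := p.primeCompl) (g := algebraMap R B)
    fun s => IsLocalRing.notMem_maximalIdeal.1 s.2).toAlgebra
  haveI : IsScalarTower R A B := IsScalarTower.of_algebraMap_eq fun r => (IsLocalization.lift_eq _ r).symm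
  haveI : IsLocalHom (algebraMap A B) := by
    refine ⟨fun x hx => ?_⟩
    obtain ⟨⟨r, s⟩, rfl⟩ := IsLocalization.mk'_surjective p.primeCompl x
    rw [IsLocalization.AtPrime.isUnit_mk'_iff A p]
    intro hr
    have h1 := hx.mul ((IsLocalization.map_units A s).map (algebraMap A B))
    rw [← map_mul, IsLocalization.mk'_spec, ← IsScalarTower.algebraMap_apply] at h1
    exact (mem_maximalIdeal _).1 hr h1
  haveI : Algebra.EssFiniteType A B := Algebra.EssFiniteType.of_comp R A B
  letI : Module A N := Module.compHom N (algebraMap A B)
  haveI : IsScalarTower A B N := IsScalarTower.of_algebraMap_smul fun _ _ => rfl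
  haveI : IsScalarTower R A N := IsScalarTower.of_algebraMap_smul fun r x => by
    show algebraMap A B (algebraMap R A r) • x = r • x
    rw [← IsScalarTower.algebraMap_apply, algebraMap_smul]
  haveI : Module.Flat A N := (Module.flat_iff_of_isLocalization (R := R) A p.primeCompl (M := N)).2 ‹Module.Flat R N›
  refine (main (A := A) (LinearMap.id (R := B) (M := N)) ?_).2.1
  rw [show (LinearMap.id (R := B) (M := N)).restrictScalars A = LinearMap.id from rfl, LinearMap.lTensor_id]
  exact Function.injective_id

/-- The localisation at a prime where a finite module is flat is finitely presented. -/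
theorem finitePresentation_localization_of_flatAt {R S : Type u} [CommRing R] [CommRing S] [Algebra R S]
    [Algebra.FiniteType R S] (N : Type u) [AddCommGroup N] [Module S N] [Module R N] [IsScalarTower R S N]
    [Module.Finite S N] (q : Ideal S) [q.IsPrime] [Module.Flat R (LocalizedModule q.primeCompl N)] :
    Module.FinitePresentation (Localization.AtPrime q) (LocalizedModule q.primeCompl N) := by
  haveI : Algebra.EssFiniteType S (Localization.AtPrime q) := Algebra.EssFiniteType.of_isLocalization _ q.primeCompl
  haveI : Algebra.EssFiniteType R (Localization.AtPrime q) := Algebra.EssFiniteType.comp R S _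
  haveI : IsScalarTower R (Localization.AtPrime q) (LocalizedModule q.primeCompl N) :=
    IsScalarTower.of_algebraMap_smul fun r x => by
      rw [IsScalarTower.algebraMap_apply R S (Localization.AtPrime q), algebraMap_smul, algebraMap_smul]
  exact finitePresentation_of_flat_local (R := R) _

end Groth.Agent.RGLib

end
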