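import Groth.Agent.RGLib.GeomIntegral
import Groth.Agent.RGLib.Consequences
import Groth.Agent.CAlgUI.Flat

/-!
# Bases along the generic point of a fibre with integral fibres
-/

universe u

noncomputable section

open TensorProduct

set_option linter.style.haveILetI false

namespace Groth.Agent.RGLib

attribute [local instance] Algebra.TensorProduct.rightAlgebra

variable {R S : Type u} [CommRing R] [CommRing S] [Algebra R S]

/-- With integral fibres and flatness the extension of a prime is prime over it. -/
theorem isPrime_map_and_comap [Module.Flat R S] (hgi : FlatCA.GeomIntegralFibres R S) (p : Ideal R) [p.IsPrime] :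
    (p.map (algebraMap R S)).IsPrime ∧ (p.map (algebraMap R S)).comap (algebraMap R S) = p := by
  haveI := isDomain_tensor_field hgi p.ResidueField
  haveI : IsDomain (p.Fiber S) := isDomain_tensor_field hgi p.ResidueField
  haveI : (⊥ : Ideal (p.Fiber S)).IsPrime := Ideal.isPrime_bot
  have he : (⊥ : Ideal (p.Fiber S)).comap (algebraMap S (p.Fiber S)) = p.map (algebraMap R S) := by
    refine le_antisymm (fun s hs => ?_) (Ideal.map_le_iff_le_comap.2 fun r hr =>
      (SetLike.ext_iff.1 (comap_comap_fiber p (⊥ : Ideal (p.Fiber S))) r).2 hr)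
    have h0 : algebraMap S (p.Fiber S) s ∈ FlatCA.fiberIdeal p (⊥ : Ideal S) := by
      rw [FlatCA.fiberIdeal, Ideal.map_bot]
      exact hs
    obtain ⟨r, hr, hmem⟩ := exists_mul_mem_sup_of_mem_fiberIdeal p ⊥ h0
    rw [bot_sup_eq] at hmem
    have h2 := (AssFiber.isSMulRegular_quot p (S := S) S (s := algebraMap R S r) ⟨r, hr, rfl⟩).right_eq_zero_of_smul
      (x := Submodule.Quotient.mk s) (by
        rw [← Submodule.Quotient.mk_smul, Submodule.Quotient.mk_eq_zero, smul_eq_mul, AssFiber.pN, Ideal.smul_eq_mul,
          Ideal.mul_top]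
        exact hmem)
    rwa [Submodule.Quotient.mk_eq_zero, AssFiber.pN, Ideal.smul_eq_mul, Ideal.mul_top] at h2
  rw [← he]
  exact ⟨Ideal.IsPrime.comap _, comap_comap_fiber p _⟩

theorem flat_localizedModule {N : Type u} [AddCommGroup N] [Module S N] [Module R N] [IsScalarTower R S N]
    [Module.Flat R N] (U : Submonoid S) : Module.Flat R (LocalizedModule U N) := by
  haveI : Module.Flat S (Localization U) := IsLocalization.flat _ U
  haveI : Module.Flat R (Localization U ⊗[S] N) := flat_tensor_left R S N (Localization U)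
  exact Module.Flat.of_linearEquiv ((LocalizedModule.equivTensorProduct U N).restrictScalars R)

theorem flat_localized_of_le {N : Type u} [AddCommGroup N] [Module S N] [Module R N] [IsScalarTower R S N]
    (U U' : Submonoid S) (h : U ≤ U') [Module.Flat R (LocalizedModule U N)] : Module.Flat R (LocalizedModule U' N) := by
  haveI : Module.Flat R (LocalizedModule U' (LocalizedModule U N)) := flat_localizedModule U'
  let g := IsLocalizedModule.liftOfLE U U' h (LocalizedModule.mkLinearMap U N) (LocalizedModule.mkLinearMap U' N)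
  exact Module.Flat.of_linearEquiv ((IsLocalizedModule.iso U' g).symm.restrictScalars R)

theorem mem_map_of_mem_pN_pi {p : Ideal R} {r : ℕ} {x : Fin r → S} (hx : x ∈ AssFiber.pN p (S := S) (Fin r → S))
    (i : Fin r) : x i ∈ p.map (algebraMap R S) := by
  have h := (Submodule.map_le_iff_le_comap (f := (LinearMap.proj i : (Fin r → S) →ₗ[S] S))
    (q := AssFiber.pN p (S := S) S)).1 (by
      rw [AssFiber.pN, Submodule.map_smul'']
      exact Submodule.smul_mono le_rfl le_top) hx
  rwa [Submodule.mem_comap, LinearMap.proj_apply, AssFiber.pN, Ideal.smul_eq_mul, Ideal.mul_top] at h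

theorem mem_pN_pi_of_forall {p : Ideal R} {r : ℕ} {x : Fin r → S} (hx : ∀ i, x i ∈ p.map (algebraMap R S)) :
    x ∈ AssFiber.pN p (S := S) (Fin r → S) := by
  rw [pi_eq_sum_univ' x]
  exact Submodule.sum_mem _ fun i _ => Submodule.smul_mem_smul (hx i) trivial

variable [Algebra.FiniteType R S] [Module.Flat R S]

/-- Elements of a free module killed by elements generic in all relevant fibres. -/
theorem exists_kill_of_kill (hgi : FlatCA.GeomIntegralFibres R S) (U W : Submonoid S)
    (hU : ∀ (q : Ideal S), q.IsPrime → Disjoint (W : Set S) q → ∀ d ∈ U, d ∉ (q.comap (algebraMap R S)).map (algebraMap R S))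
    (r : ℕ) (Q : Type u) [AddCommGroup Q] [Module R Q] (z : (Fin r → S) ⊗[R] Q) (d : S) (hd : d ∈ U) (hdz : d • z = 0) :
    ∃ w ∈ W, w • z = 0 := by
  by_contra hne
  push Not at hne
  obtain ⟨q, hq, hle, hdis⟩ := Ideal.exists_le_prime_disjoint (Submodule.span S {z}).annihilator W
    (by
      rw [Set.disjoint_right]
      exact fun w hw h => hne w hw ((Submodule.mem_annihilator_span_singleton z w).1 h))
  haveI := hq
  let p := q.comap (algebraMap R S)
  haveI : p.IsPrime := Ideal.IsPrime.comap _
  obtain ⟨hpr, -⟩ := isPrime_map_and_comap hgi p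
  haveI : Module.Flat R (Fin r → S) := Module.Flat.trans R S (Fin r → S)
  haveI : Module.Flat R (LocalizedModule U (Fin r → S)) := flat_localizedModule U
  let l := LocalizedModule.mkLinearMap U (Fin r → S)
  have hu : ∀ n, l n ∈ AssFiber.pN p (S := S) (LocalizedModule U (Fin r → S)) →
      ∃ c ∉ q, c • n ∈ AssFiber.pN p (S := S) (Fin r → S) := by
    intro n hn
    refine ⟨1, fun h => hq.ne_top ((Ideal.eq_top_iff_one _).2 h), ?_⟩
    rw [one_smul]
    have hloc : ∀ y, y ∈ AssFiber.pN p (S := S) (LocalizedModule U (Fin r → S)) →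
        ∃ e ∈ U, ∃ m ∈ AssFiber.pN p (S := S) (Fin r → S), e • y = l m := by
      intro y hy
      refine Submodule.smul_induction_on hy (fun a ha v _ => ?_) fun y y' hy hy' => ?_
      · obtain ⟨⟨m, e⟩, hm⟩ := IsLocalizedModule.surj U l v
        refine ⟨e, e.2, a • m, Submodule.smul_mem_smul ha trivial, ?_⟩
        rw [map_smul, smul_comm]
        exact congrArg (a • ·) hm
      · obtain ⟨e, he, m, hm, h⟩ := hy
        obtain ⟨e', he', m', hm', h'⟩ := hy'
        refine ⟨e * e', mul_mem he he', e' • m + e • m',
          add_mem (Submodule.smul_mem _ _ hm) (Submodule.smul_mem _ _ hm'), ?_⟩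
        rw [smul_add, map_add, map_smul, map_smul, ← h, ← h', smul_smul, smul_smul, mul_comm e e']
    obtain ⟨e, he, m, hm, h⟩ := hloc _ hn
    rw [← map_smul] at h
    obtain ⟨⟨v, hv⟩, hve⟩ := IsLocalizedModule.exists_of_eq (S := U) h
    change v • e • n = v • m at hve
    have hmem : (v * e) • n ∈ AssFiber.pN p (S := S) (Fin r → S) := by
      rw [mul_smul, hve]
      exact Submodule.smul_mem _ _ hm
    refine mem_pN_pi_of_forall fun i => ?_
    exact (hpr.mem_or_mem (mem_map_of_mem_pN_pi hmem i)).resolve_left (hU q hq hdis.symm _ (mul_mem hv he))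
  obtain ⟨c, hc, hcz⟩ := exists_killer_of_fibre_reflects l q p (fun a => Iff.rfl) hu Q z
    ((IsLocalizedModule.eq_zero_iff U (TensorProduct.AlgebraTensorModule.rTensor R Q l)).2 ⟨⟨d, hd⟩, hdz⟩)
  exact hc (hle ((Submodule.mem_annihilator_span_singleton z c).2 hcz))

/-- The complement of a fibre's generic point is generic in all fibres below. -/
theorem exists_kill_of_kill_prime (hgi : FlatCA.GeomIntegralFibres R S) (rr : Ideal R) [rr.IsPrime]
    [(rr.map (algebraMap R S)).IsPrime] (r : ℕ) (Q : Type u) [AddCommGroup Q] [Module R Q] (z : (Fin r → S) ⊗[R] Q)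
    (d : S) (hd : d ∉ rr.map (algebraMap R S)) (hdz : d • z = 0) :
    ∃ w ∈ Algebra.algebraMapSubmonoid S rr.primeCompl, w • z = 0 := by
  refine exists_kill_of_kill hgi (rr.map (algebraMap R S)).primeCompl _ (fun q hq hdis c hc hmem => hc ?_) r Q z d hd hdz
  refine Ideal.map_mono (fun a ha => ?_) hmem
  by_contra har
  exact Set.disjoint_left.1 hdis ⟨a, har, rfl⟩ ha

variable {N : Type u} [AddCommGroup N] [Module S N] [Module R N] [IsScalarTower R S N] [Module.Finite S N]

omit [Module.Flat R S] [Module.Finite S N] in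
/-- A kernel element of the tensored basis map dies generically. -/
theorem exists_kill_of_basis (rr : Ideal R) [rr.IsPrime] [hpp : (rr.map (algebraMap R S)).IsPrime]
    (hover : (rr.map (algebraMap R S)).comap (algebraMap R S) = rr)
    [Module.Flat R (LocalizedModule (rr.map (algebraMap R S)).primeCompl N)]
    (r : ℕ) (α : (Fin r → S) →ₗ[S] N)
    (hα : Function.Injective (α.baseChange (rr.map (algebraMap R S)).ResidueField))
    (Q : Type u) [AddCommGroup Q] [Module R Q] (z : (Fin r → S) ⊗[R] Q)
    (hz : TensorProduct.AlgebraTensorModule.rTensor R Q α z = 0) : ∃ d ∉ rr.map (algebraMap R S), d • z = 0 := by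
  let pp := rr.map (algebraMap R S)
  let l := LocalizedModule.mkLinearMap pp.primeCompl N
  have hpq : ∀ a, a ∈ rr ↔ algebraMap R S a ∈ pp := fun a => (SetLike.ext_iff.1 hover a).symm
  refine exists_killer_of_fibre_reflects (l ∘ₗ α) pp rr hpq (fun n hn => ?_) Q z ?_
  · refine ⟨1, fun h => hpp.ne_top ((Ideal.eq_top_iff_one _).2 h), ?_⟩
    rw [one_smul]
    refine mem_pN_pi_of_forall fun i => ?_
    let κ := pp.ResidueField
    have hkill : ∀ (x : N), x ∈ AssFiber.pN rr (S := S) N → (1 : κ) ⊗ₜ[S] x = 0 := by
      intro x hx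
      refine Submodule.smul_induction_on hx (fun a ha v _ => ?_) fun a b ha hb => by rw [tmul_add, ha, hb, add_zero]
      rw [tmul_smul, smul_tmul', Algebra.smul_def, Ideal.algebraMap_residueField_eq_zero.2 ha, zero_mul, zero_tmul]
    obtain ⟨d, hd, hdn⟩ : ∃ d ∉ pp, d • α n ∈ AssFiber.pN rr (S := S) N := by
      have hloc : ∀ y, y ∈ AssFiber.pN rr (S := S) (LocalizedModule pp.primeCompl N) →
          ∃ e ∉ pp, ∃ m ∈ AssFiber.pN rr (S := S) N, e • y = l m := by
        intro y hy
        refine Submodule.smul_induction_on hy (fun a ha v _ => ?_) fun y y' hy hy' => ?_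
        · obtain ⟨⟨m, e⟩, hm⟩ := IsLocalizedModule.surj pp.primeCompl l v
          refine ⟨e, e.2, a • m, Submodule.smul_mem_smul ha trivial, ?_⟩
          rw [map_smul, smul_comm]
          exact congrArg (a • ·) hm
        · obtain ⟨e, he, m, hm, h⟩ := hy
          obtain ⟨e', he', m', hm', h'⟩ := hy'
          refine ⟨e * e', fun h => (hpp.mem_or_mem h).elim he he', e' • m + e • m',
            add_mem (Submodule.smul_mem _ _ hm) (Submodule.smul_mem _ _ hm'), ?_⟩
          rw [smul_add, map_add, map_smul, map_smul, ← h, ← h', smul_smul, smul_smul, mul_comm e e']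
      obtain ⟨e, he, m, hm, h⟩ := hloc _ hn
      rw [LinearMap.comp_apply, ← map_smul] at h
      obtain ⟨⟨v, hv⟩, hve⟩ := IsLocalizedModule.exists_of_eq (S := pp.primeCompl) h
      refine ⟨v * e, fun h => (hpp.mem_or_mem h).elim hv he, ?_⟩
      rw [mul_smul]
      change v • e • α n = v • m at hve
      rw [hve]
      exact Submodule.smul_mem _ _ hm
    have h0 : α.baseChange κ ((1 : κ) ⊗ₜ[S] (d • n)) = 0 := by
      rw [LinearMap.baseChange_tmul, map_smul]
      exact hkill _ hdn
    have h1 := congrArg (TensorProduct.piScalarRight S κ κ (Fin r)) (hα (h0.trans (map_zero _).symm))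
    rw [map_zero] at h1
    have h2 := congr_fun h1 i
    simp only [TensorProduct.piScalarRight_apply, TensorProduct.piScalarRightHom_tmul, Pi.smul_apply, smul_eq_mul,
      Pi.zero_apply, Algebra.smul_def, mul_one] at h2
    exact (hpp.mem_or_mem (Ideal.algebraMap_residueField_eq_zero.1 h2)).resolve_left hd
  · have hc : TensorProduct.AlgebraTensorModule.rTensor R Q (l ∘ₗ α) z =
        TensorProduct.AlgebraTensorModule.rTensor R Q l (TensorProduct.AlgebraTensorModule.rTensor R Q α z) := by
      rw [TensorProduct.AlgebraTensorModule.rTensor_comp, LinearMap.comp_apply]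
    rw [hc, hz, map_zero]

omit [Algebra R S] [Algebra.FiniteType R S] [Module.Flat R S] [Module R N] [IsScalarTower R S N] in
/-- A basis of the residue space lifts. -/
theorem exists_basis_lift (P : Ideal S) [P.IsPrime] :
    ∃ (r : ℕ) (α : (Fin r → S) →ₗ[S] N), Function.Bijective (α.baseChange P.ResidueField) := by
  classical
  let κ := P.ResidueField
  let f : N → κ ⊗[S] N := fun n => (1 : κ) ⊗ₜ n
  have hspan : (⊤ : Submodule κ (κ ⊗[S] N)) ≤ Submodule.span κ (Set.range f) := by
    intro x _
    induction x using TensorProduct.induction_on with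
    | zero => exact zero_mem _
    | add a b ha hb => exact add_mem (ha trivial) (hb trivial)
    | tmul k n =>
      rw [show k ⊗ₜ[S] n = k • f n by simp [f, smul_tmul']]
      exact Submodule.smul_mem _ _ (Submodule.subset_span ⟨n, rfl⟩)
  obtain ⟨b, hb, hsp, hli⟩ := exists_linearIndependent κ (Set.range f)
  let B : Module.Basis b κ (κ ⊗[S] N) := Module.Basis.mk hli (by
    rw [Subtype.range_coe]
    exact hspan.trans hsp.ge)
  haveI : Fintype b := FiniteDimensional.fintypeBasisIndex B
  let e := Fintype.equivFin b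
  choose n hn using fun i : b => hb i.2
  let v : Fin (Fintype.card b) → N := fun j => n (e.symm j)
  let B' := B.reindex e
  refine ⟨Fintype.card b, Fintype.linearCombination S v, ?_⟩
  let E := (TensorProduct.piScalarRight S κ κ (Fin (Fintype.card b))).trans B'.equivFun.symm
  have hE : ∀ x, (Fintype.linearCombination S v).baseChange κ x = E x := by
    intro x
    induction x using TensorProduct.induction_on with
    | zero => simp only [map_zero]
    | add a c ha hc => simp only [map_add, ha, hc]
    | tmul k y =>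
      rw [LinearMap.baseChange_tmul, Fintype.linearCombination_apply, tmul_sum, LinearEquiv.trans_apply,
        Module.Basis.equivFun_symm_apply]
      refine Finset.sum_congr rfl fun j _ => ?_
      rw [tmul_smul, TensorProduct.piScalarRight_apply, TensorProduct.piScalarRightHom_tmul,
        Module.Basis.reindex_apply, Module.Basis.coe_mk, ← hn (e.symm j)]
      show y j • (k ⊗ₜ[S] v j) = (y j • k) • ((1 : κ) ⊗ₜ[S] n (e.symm j))
      rw [smul_tmul', smul_tmul', smul_eq_mul, mul_one]
  rw [show ⇑((Fintype.linearCombination S v).baseChange κ) = ⇑E from funext hE]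
  exact E.bijective

section Items

omit [Algebra.FiniteType R S] [Module.Flat R S] [Module.Finite S N] in
/-- Kernels dying on a localisation give universal injectivity of the localised map. -/
theorem lTensor_map_injective_of_kill {M : Type u} [AddCommGroup M] [Module S M] [Module R M] [IsScalarTower R S M]
    (U : Submonoid S) (f : M →ₗ[S] N) (Q : Type u) [AddCommGroup Q] [Module R Q]
    (h : ∀ z, TensorProduct.AlgebraTensorModule.rTensor R Q f z = 0 → ∃ w ∈ U, w • z = 0) :
    Function.Injective (((LocalizedModule.map U f).restrictScalars R).lTensor Q) := by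
  rw [LinearMap.lTensor_inj_iff_rTensor_inj, injective_iff_map_eq_zero]
  intro x hx
  let lM := LocalizedModule.mkLinearMap U M
  let lN := LocalizedModule.mkLinearMap U N
  let F : LocalizedModule U M →ₗ[S] LocalizedModule U N := (LocalizedModule.map U f).restrictScalars S
  let lM' := TensorProduct.AlgebraTensorModule.rTensor R Q lM
  let lN' := TensorProduct.AlgebraTensorModule.rTensor R Q lN
  let F' := TensorProduct.AlgebraTensorModule.rTensor R Q F
  change F' x = 0 at hx
  obtain ⟨⟨z, s⟩, hs⟩ := IsLocalizedModule.surj U lM' x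
  change (s : S) • x = lM' z at hs
  have hsq : F' (lM' z) = lN' (TensorProduct.AlgebraTensorModule.rTensor R Q f z) := by
    clear hs
    induction z using TensorProduct.induction_on with
    | zero => simp only [map_zero]
    | add a b ha hb => simp only [map_add, ha, hb]
    | tmul a b =>
      show F (lM a) ⊗ₜ[R] b = lN (f a) ⊗ₜ[R] b
      rw [show F (lM a) = lN (f a) from LocalizedModule.map_mk _ _ _ _]
  have h0 : lN' (TensorProduct.AlgebraTensorModule.rTensor R Q f z) = 0 := by
    rw [← hsq, ← hs, map_smul, hx, smul_zero]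
  obtain ⟨⟨e, he⟩, he0⟩ := (IsLocalizedModule.eq_zero_iff U lN').1 h0
  change e • (TensorProduct.AlgebraTensorModule.rTensor R Q f z) = 0 at he0
  rw [← map_smul] at he0
  obtain ⟨w, hw, hw0⟩ := h _ he0
  have hz : lM' z = 0 := (IsLocalizedModule.eq_zero_iff U lM').2 ⟨⟨w * e, mul_mem hw he⟩, by
    rw [Submonoid.smul_def, mul_smul]; exact hw0⟩
  exact ((Module.End.isUnit_iff _).1 (IsLocalizedModule.map_units lM' s)).1
    (show (s : S) • x = (s : S) • 0 by rw [hs, hz, smul_zero])

omit [Algebra R S] [Algebra.FiniteType R S] [Module.Flat R S] [Module R N] [IsScalarTower R S N] [Module.Finite S N] in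
theorem map_injective_of_kill {M : Type u} [AddCommGroup M] [Module S M] (U : Submonoid S) (f : M →ₗ[S] N)
    (h : ∀ x, f x = 0 → ∃ w ∈ U, w • x = 0) : Function.Injective (LocalizedModule.map U f) := by
  rw [injective_iff_map_eq_zero]
  intro x hx
  induction x using LocalizedModule.induction_on with
  | _ m s =>
  rw [LocalizedModule.map_mk, ← LocalizedModule.zero_mk (1 : U), LocalizedModule.mk_eq] at hx
  obtain ⟨e, he⟩ := hx
  simp only [one_smul, smul_zero] at he
  rw [Submonoid.smul_def, ← map_smul] at he
  obtain ⟨w, hw, hw0⟩ := h _ he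
  rw [← LocalizedModule.zero_mk (1 : U), LocalizedModule.mk_eq]
  exact ⟨⟨w, hw⟩ * e, by simp [Submonoid.smul_def, mul_smul, hw0]⟩

omit [Algebra R S] [Algebra.FiniteType R S] [Module.Flat R S] [Module R N] [IsScalarTower R S N] in
/-- Surjective on the residue field gives surjective at the prime. -/
theorem exists_smul_mem_range (P : Ideal S) [P.IsPrime] (r : ℕ) (α : (Fin r → S) →ₗ[S] N)
    (hα : Function.Surjective (α.baseChange P.ResidueField)) (n : N) : ∃ d ∉ P, d • n ∈ LinearMap.range α := by
  let C := N ⧸ LinearMap.range α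
  have hzero : Subsingleton (P.ResidueField ⊗[S] C) := by
    refine subsingleton_of_forall_eq 0 fun x => ?_
    obtain ⟨y, rfl⟩ := LinearMap.lTensor_surjective P.ResidueField (LinearMap.range α).mkQ_surjective x
    obtain ⟨z, rfl⟩ := hα y
    clear hα
    induction z using TensorProduct.induction_on with
    | zero => simp only [map_zero]
    | add a b ha hb => simp only [map_add, ha, hb, add_zero]
    | tmul k v =>
      rw [LinearMap.baseChange_tmul, LinearMap.lTensor_tmul, Submodule.mkQ_apply,
        (Submodule.Quotient.mk_eq_zero _).2 (LinearMap.mem_range_self α v), tmul_zero]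
  have hsupp : (⟨P, inferInstance⟩ : PrimeSpectrum S) ∉ Module.support S C := by
    intro h
    have h' : Nontrivial ((⟨P, inferInstance⟩ : PrimeSpectrum S).asIdeal.ResidueField ⊗[S] C) :=
      (Module.mem_support_iff_nontrivial_residueField_tensorProduct (⟨P, inferInstance⟩ : PrimeSpectrum S)).1 h
    exact (@not_nontrivial _ hzero) h'
  obtain ⟨d, hd, hd0⟩ := Module.notMem_support_iff'.1 hsupp (Submodule.Quotient.mk n : C)
  exact ⟨d, hd, (Submodule.Quotient.mk_eq_zero _).1 hd0⟩

omit [Algebra R S] [Algebra.FiniteType R S] [Module.Flat R S] [Module R N] [IsScalarTower R S N] in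
theorem bijective_map_of_kill (P : Ideal S) [P.IsPrime] (r : ℕ) (α : (Fin r → S) →ₗ[S] N)
    (hα : Function.Surjective (α.baseChange P.ResidueField)) (h : ∀ x, α x = 0 → ∃ w ∈ P.primeCompl, w • x = 0) :
    Function.Bijective (LocalizedModule.map P.primeCompl α) := by
  refine ⟨map_injective_of_kill _ _ h, fun y => ?_⟩
  induction y using LocalizedModule.induction_on with
  | _ n s =>
  obtain ⟨d, hd, v, hv⟩ := exists_smul_mem_range P r α hα n
  refine ⟨LocalizedModule.mk v (⟨d, hd⟩ * s), ?_⟩
  rw [LocalizedModule.map_mk, hv, LocalizedModule.mk_eq]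
  exact ⟨1, by simp [Submonoid.smul_def, smul_smul, mul_comm]⟩

omit [Algebra R S] [Algebra.FiniteType R S] [Module.Flat R S] [Module R N] [IsScalarTower R S N] [Module.Finite S N] in
theorem exact_map_mkQ (U : Submonoid S) {r : ℕ} (α : (Fin r → S) →ₗ[S] N) :
    Function.Exact (LocalizedModule.map U α) (LocalizedModule.map U (LinearMap.range α).mkQ) ∧
      Function.Surjective (LocalizedModule.map U (LinearMap.range α).mkQ) :=
  ⟨LocalizedModule.map_exact U α _ (LinearMap.exact_map_mkQ_range α),
    LocalizedModule.map_surjective U _ (LinearMap.range α).mkQ_surjective⟩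

omit [Algebra.FiniteType R S] [Module.Finite S N] in
theorem flat_of_injective (q : Ideal S) [q.IsPrime] (r : ℕ) (α : (Fin r → S) →ₗ[S] N)
    (hinj : Function.Injective (LocalizedModule.map q.primeCompl α))
    (hC : FlatCA.FlatAt R q (N ⧸ LinearMap.range α)) : FlatCA.FlatAt R q N := by
  obtain ⟨hex, hsurj⟩ := exact_map_mkQ q.primeCompl α
  haveI : Module.Flat R (Fin r → S) := Module.Flat.trans R S (Fin r → S)
  haveI : Module.Flat R (LocalizedModule q.primeCompl (Fin r → S)) := flat_localizedModule _
  haveI : Module.Flat R (LocalizedModule q.primeCompl (N ⧸ LinearMap.range α)) := hC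
  exact CAlgUI.flat_middle (f := (LocalizedModule.map q.primeCompl α).restrictScalars R)
    (g := (LocalizedModule.map q.primeCompl (LinearMap.range α).mkQ).restrictScalars R) hinj hex hsurj

omit [Algebra.FiniteType R S] [Module.Flat R S] [Module.Finite S N] in
theorem flat_coker_of_kill (q : Ideal S) [q.IsPrime] (r : ℕ) (α : (Fin r → S) →ₗ[S] N) (hN : FlatCA.FlatAt R q N)
    (h : ∀ (Q : Type u) [AddCommGroup Q] [Module R Q] (z : (Fin r → S) ⊗[R] Q),
      TensorProduct.AlgebraTensorModule.rTensor R Q α z = 0 → ∃ w ∈ q.primeCompl, w • z = 0) :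
    FlatCA.FlatAt R q (N ⧸ LinearMap.range α) := by
  obtain ⟨hex, hsurj⟩ := exact_map_mkQ q.primeCompl α
  haveI : Module.Flat R (LocalizedModule q.primeCompl N) := hN
  exact flat_coker_of_lTensor_injective ((LocalizedModule.map q.primeCompl α).restrictScalars R)
    ((LocalizedModule.map q.primeCompl (LinearMap.range α).mkQ).restrictScalars R) hex hsurj
    fun Q _ _ => lTensor_map_injective_of_kill q.primeCompl α Q (h Q)

/-- Flatness at a point of the fibre makes the basis map universally injective up to the base prime. -/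
theorem exists_kill_of_flatAt (hgi : FlatCA.GeomIntegralFibres R S) (rr : Ideal R) [rr.IsPrime]
    [hpp : (rr.map (algebraMap R S)).IsPrime] (q : Ideal S) [q.IsPrime] (hq : rr.map (algebraMap R S) ≤ q)
    (hN : FlatCA.FlatAt R q N) (r : ℕ) (α : (Fin r → S) →ₗ[S] N)
    (hα : Function.Injective (α.baseChange (rr.map (algebraMap R S)).ResidueField))
    (Q : Type u) [AddCommGroup Q] [Module R Q] (z : (Fin r → S) ⊗[R] Q)
    (hz : TensorProduct.AlgebraTensorModule.rTensor R Q α z = 0) :
    ∃ w ∈ Algebra.algebraMapSubmonoid S rr.primeCompl, w • z = 0 := by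
  haveI : Module.Flat R (LocalizedModule q.primeCompl N) := hN
  haveI : Module.Flat R (LocalizedModule (rr.map (algebraMap R S)).primeCompl N) :=
    flat_localized_of_le q.primeCompl _ fun x hx h => hx (hq h)
  obtain ⟨d, hd, hdz⟩ := exists_kill_of_basis rr (isPrime_map_and_comap hgi rr).2 r α hα Q z hz
  exact exists_kill_of_kill_prime hgi rr r Q z d hd hdz

omit [Module.Finite S N] in
/-- Generic injectivity gives injectivity up to the base prime. -/
theorem exists_kill_of_injective_prime (hgi : FlatCA.GeomIntegralFibres R S) (rr : Ideal R) [rr.IsPrime]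
    [(rr.map (algebraMap R S)).IsPrime] (r : ℕ) (α : (Fin r → S) →ₗ[S] N)
    (h : Function.Injective (LocalizedModule.map (rr.map (algebraMap R S)).primeCompl α)) (x : Fin r → S) (hx : α x = 0) :
    ∃ w ∈ Algebra.algebraMapSubmonoid S rr.primeCompl, w • x = 0 := by
  have h0 : LocalizedModule.mkLinearMap (rr.map (algebraMap R S)).primeCompl (Fin r → S) x = 0 := h (by
    rw [LocalizedModule.mkLinearMap_apply, LocalizedModule.map_mk, hx, map_zero, LocalizedModule.zero_mk])
  obtain ⟨⟨d, hd⟩, hd0⟩ := (IsLocalizedModule.eq_zero_iff (rr.map (algebraMap R S)).primeCompl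
    (LocalizedModule.mkLinearMap _ (Fin r → S))).1 h0
  change d • x = 0 at hd0
  obtain ⟨w, hw, hw0⟩ := exists_kill_of_kill_prime hgi rr r R (x ⊗ₜ[R] (1 : R)) d hd (by
    rw [smul_tmul', hd0, zero_tmul])
  refine ⟨w, hw, ?_⟩
  have := congrArg (TensorProduct.rid R (Fin r → S)) hw0
  rwa [smul_tmul', TensorProduct.rid_tmul, one_smul, map_zero] at this

end Items

end Groth.Agent.RGLib

end
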