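import Groth.Agent.RGLib.Nhd

/-!
# Flat modules over finite type algebras over rings with finitely many weakly associated primes
-/

universe u

noncomputable section

open TensorProduct IsLocalRing

set_option linter.style.haveILetI false

namespace Groth.Agent.RGLib

/-- A domain has only one weakly associated prime. -/
theorem weakAss_finite_of_isDomain (A : Type u) [CommRing A] [IsDomain A] : (FlatCA.weakAss A A).Finite := by
  refine (Set.finite_singleton (⊥ : Ideal A)).subset fun p hp => ?_
  obtain ⟨m, hm⟩ := hp
  by_cases hm0 : m = 0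
  · refine absurd (top_le_iff.1 ?_) hm.1.1.ne_top
    refine le_trans ?_ hm.1.2
    simp [hm0, Submodule.annihilator_bot]
  · have h0 : (Submodule.span A {m}).annihilator = ⊥ := eq_bot_iff.2 fun c hc => by
      rw [Submodule.mem_annihilator_span_singleton, smul_eq_mul, mul_eq_zero] at hc
      exact hc.resolve_right hm0
    rw [h0] at hm
    exact le_antisymm (hm.2 ⟨Ideal.isPrime_bot, le_rfl⟩ bot_le) bot_le

/-- Finite presentation over a polynomial algebra gives finite presentation over a quotient. -/
theorem finitePresentation_of_surjective_algebraMap {P S N : Type u} [CommRing P] [CommRing S] [Algebra P S]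
    (hS : Function.Surjective (algebraMap P S)) [AddCommGroup N] [Module S N] [Module P N] [IsScalarTower P S N]
    [Module.FinitePresentation P N] : Module.FinitePresentation S N := by
  let mu : S ⊗[P] N →ₗ[S] N := LinearMap.liftBaseChange S (LinearMap.id (R := P) (M := N))
  have hmu : Function.Bijective mu := by
    refine Function.bijective_iff_has_inverse.2 ⟨fun x => 1 ⊗ₜ x, fun x => ?_, fun x => by simp [mu]⟩
    induction x using TensorProduct.induction_on with
    | zero => simp
    | add x y hx hy =>
      exact ((congrArg (fun z => (1 : S) ⊗ₜ[P] z) (map_add mu x y)).trans (tmul_add _ _ _)).trans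
        (congrArg₂ (· + ·) hx hy)
    | tmul c x =>
      obtain ⟨s, rfl⟩ := hS c
      rw [LinearMap.liftBaseChange_tmul, LinearMap.id_apply]
      show (1 : S) ⊗ₜ[P] (algebraMap P S s • x) = _
      rw [algebraMap_smul, tmul_smul, smul_tmul', Algebra.smul_def, mul_one]
  exact Module.FinitePresentation.of_equiv (LinearEquiv.ofBijective mu hmu)

/-- Localisation at a prime can be computed along a surjection. -/
theorem flat_localized_comap_iff {A P S N : Type u} [CommRing A] [CommRing P] [CommRing S] [Algebra A P]
    [Algebra P S] [AddCommGroup N] [Module S N] [Module P N] [IsScalarTower P S N]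
    [Module A N] [IsScalarTower A P N] [Algebra A S] [IsScalarTower A P S] [IsScalarTower A S N]
    (hS : Function.Surjective (algebraMap P S)) (q : Ideal S) [q.IsPrime] :
    Module.Flat A (LocalizedModule (q.comap (algebraMap P S)).primeCompl N) ↔
      Module.Flat A (LocalizedModule q.primeCompl N) := by
  have hT : Algebra.algebraMapSubmonoid S (q.comap (algebraMap P S)).primeCompl = q.primeCompl := by
    ext s
    constructor
    · rintro ⟨x, hx, rfl⟩
      exact hx
    · intro hs
      obtain ⟨x, rfl⟩ := hS s
      exact ⟨x, hs, rfl⟩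
  haveI : IsLocalizedModule (Algebra.algebraMapSubmonoid S (q.comap (algebraMap P S)).primeCompl)
      (LocalizedModule.mkLinearMap q.primeCompl N) := by rw [hT]; infer_instance
  haveI : IsLocalizedModule (q.comap (algebraMap P S)).primeCompl
      ((LocalizedModule.mkLinearMap q.primeCompl N).restrictScalars P) := IsLocalizedModule.restrictScalars _ _
  let e := (IsLocalizedModule.iso (q.comap (algebraMap P S)).primeCompl
      ((LocalizedModule.mkLinearMap q.primeCompl N).restrictScalars P)).restrictScalars A
  exact ⟨fun _ => Module.Flat.of_linearEquiv e.symm, fun _ => Module.Flat.of_linearEquiv e⟩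

/-- The flat locus of a finite module over a finite type algebra is open. -/
theorem isOpen_flatLocus_finiteType {A S : Type u} [CommRing A] [CommRing S] [Algebra A S] [Algebra.FiniteType A S]
    (hA : (FlatCA.weakAss A A).Finite) (N : Type u) [AddCommGroup N] [Module S N] [Module A N] [IsScalarTower A S N]
    [Module.Finite S N] :
    IsOpen {q : PrimeSpectrum S | Module.Flat A (LocalizedModule q.asIdeal.primeCompl N)} := by
  obtain ⟨n, f, hf⟩ := Algebra.FiniteType.iff_quotient_mvPolynomial''.mp ‹Algebra.FiniteType A S›
  let P := MvPolynomial (Fin n) A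
  letI : Algebra P S := f.toRingHom.toAlgebra
  haveI : IsScalarTower A P S := IsScalarTower.of_algebraMap_eq fun r => (f.commutes r).symm
  letI : Module P N := Module.compHom N (algebraMap P S)
  haveI : IsScalarTower P S N := IsScalarTower.of_algebraMap_smul fun _ _ => rfl
  haveI : IsScalarTower A P N := IsScalarTower.of_algebraMap_smul fun r x => by
    show algebraMap P S (algebraMap A P r) • x = r • x
    rw [← IsScalarTower.algebraMap_apply, algebraMap_smul]
  haveI : Module.Finite P S := Module.Finite.of_surjective (Algebra.linearMap P S) hf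
  haveI : Module.Finite P N := Module.Finite.trans S N
  have hset : {q : PrimeSpectrum S | Module.Flat A (LocalizedModule q.asIdeal.primeCompl N)} =
      PrimeSpectrum.comap (algebraMap P S) ⁻¹' {q : PrimeSpectrum P | Module.Flat A (LocalizedModule q.asIdeal.primeCompl N)} := by
    ext q
    exact (flat_localized_comap_iff (A := A) hf q.asIdeal).symm
  rw [hset]
  exact (isOpen_flatLocus_of_weakAss N hA).preimage (PrimeSpectrum.continuous_comap _)

/-- A finite module flat at all points of a basic open is finitely presented and flat there. -/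
theorem fp_flat_basicOpen {A P : Type u} [CommRing A] [CommRing P] [Algebra A P] [Algebra.FinitePresentation A P]
    (hA : (FlatCA.weakAss A A).Finite) (N : Type u) [AddCommGroup N] [Module P N] [Module A N] [IsScalarTower A P N]
    [Module.Finite P N] (g : P)
    (hg : ∀ (Q : Ideal P) [Q.IsPrime], g ∉ Q → Module.Flat A (LocalizedModule Q.primeCompl N)) :
    Module.FinitePresentation (Localization.Away g) (LocalizedModule (Submonoid.powers g) N) ∧
      Module.Flat A (LocalizedModule (Submonoid.powers g) N) := by
  let Pg := Localization.Away g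
  let L := LocalizedModule (Submonoid.powers g) N
  haveI : Algebra.FinitePresentation A Pg :=
    haveI : Algebra.FinitePresentation P Pg := IsLocalization.Away.finitePresentation g
    Algebra.FinitePresentation.trans A P Pg
  haveI : IsScalarTower A Pg L := IsScalarTower.of_algebraMap_smul fun r x => by
    rw [IsScalarTower.algebraMap_apply A P Pg, algebraMap_smul, algebraMap_smul]
  haveI : Module.Finite Pg L := inferInstance
  have hflat : ∀ (Q : Ideal Pg) [Q.IsPrime], Module.Flat A (LocalizedModule Q.primeCompl L) := by
    intro Q _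
    let Q₀ := Q.comap (algebraMap P Pg)
    have hgQ : g ∉ Q₀ := fun h => (‹Q.IsPrime›).ne_top
      (Ideal.eq_top_of_isUnit_mem _ h (IsLocalization.Away.algebraMap_isUnit g))
    haveI := hg Q₀ hgQ
    let φ : N →ₗ[P] LocalizedModule Q.primeCompl L :=
      ((LocalizedModule.mkLinearMap Q.primeCompl L).restrictScalars P).comp (LocalizedModule.mkLinearMap (Submonoid.powers g) N)
    haveI : IsLocalizedModule Q₀.primeCompl φ := by
      refine ⟨fun x => ?_, fun z => ?_, fun {x y} hxy => ?_⟩
      · refine (Module.End.isUnit_iff _).2 ?_
        have h1 := (Module.End.isUnit_iff _).1 (IsLocalizedModule.map_units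
          (LocalizedModule.mkLinearMap Q.primeCompl L) (⟨algebraMap P Pg x, x.2⟩ : Q.primeCompl))
        convert h1 using 1
        funext z
        exact (algebraMap_smul Pg (x : P) z).symm
      · obtain ⟨⟨l, s⟩, hs⟩ := IsLocalizedModule.surj Q.primeCompl (LocalizedModule.mkLinearMap Q.primeCompl L) z
        obtain ⟨⟨n, c⟩, hc⟩ := IsLocalizedModule.surj (Submonoid.powers g) (LocalizedModule.mkLinearMap (Submonoid.powers g) N) l
        obtain ⟨⟨s₁, c'⟩, hs₁⟩ := IsLocalization.surj (Submonoid.powers g) (s : Pg)
        have hs₁Q : s₁ ∈ Q₀.primeCompl := fun h => by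
          have h' : algebraMap P Pg s₁ ∈ Q := h
          rw [← hs₁] at h'
          exact ((‹Q.IsPrime›).mem_or_mem h').elim s.2
            fun h'' => (‹Q.IsPrime›).ne_top (Ideal.eq_top_of_isUnit_mem _ h'' (IsLocalization.map_units Pg c'))
        have hcQ : (c : P) ∈ Q₀.primeCompl := fun h =>
          (‹Q.IsPrime›).ne_top (Ideal.eq_top_of_isUnit_mem _ h (IsLocalization.map_units Pg c))
        refine ⟨⟨(c' : P) • n, ⟨s₁ * c, mul_mem hs₁Q hcQ⟩⟩, ?_⟩
        show (s₁ * (c : P)) • z = φ ((c' : P) • n)
        rw [map_smul, ← algebraMap_smul Pg (s₁ * (c : P)), ← algebraMap_smul Pg (c' : P) (φ n), map_mul, ← hs₁,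
          show (s : Pg) * algebraMap P Pg c' * algebraMap P Pg c = algebraMap P Pg c' * (algebraMap P Pg c * s) by ring,
          mul_smul, mul_smul]
        refine congrArg (algebraMap P Pg c' • ·) ?_
        show algebraMap P Pg c • ((s : Pg) • z) = LocalizedModule.mkLinearMap Q.primeCompl L _
        have hc' : LocalizedModule.mkLinearMap (Submonoid.powers g) N n = (c : P) • l := hc.symm
        rw [hc', LinearMap.map_smul_of_tower, algebraMap_smul]
        exact congrArg ((c : P) • ·) hs
      · obtain ⟨c, hc⟩ := IsLocalizedModule.exists_of_eq (S := Q.primeCompl) (f := LocalizedModule.mkLinearMap Q.primeCompl L) hxy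
        obtain ⟨⟨c₁, d⟩, hc₁⟩ := IsLocalization.surj (Submonoid.powers g) (c : Pg)
        have hc₁Q : c₁ ∈ Q₀.primeCompl := fun h => by
          have h' : algebraMap P Pg c₁ ∈ Q := h
          rw [← hc₁] at h'
          exact ((‹Q.IsPrime›).mem_or_mem h').elim c.2
            fun h'' => (‹Q.IsPrime›).ne_top (Ideal.eq_top_of_isUnit_mem _ h'' (IsLocalization.map_units Pg d))
        have h2 : LocalizedModule.mkLinearMap (Submonoid.powers g) N (c₁ • x) =
            LocalizedModule.mkLinearMap (Submonoid.powers g) N (c₁ • y) := by
          rw [map_smul, map_smul, ← algebraMap_smul Pg c₁, ← algebraMap_smul Pg c₁, ← hc₁, mul_comm, mul_smul, mul_smul]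
          exact congrArg _ hc
        obtain ⟨e, he⟩ := IsLocalizedModule.exists_of_eq (S := Submonoid.powers g) h2
        have heQ : (e : P) ∈ Q₀.primeCompl := fun h =>
          (‹Q.IsPrime›).ne_top (Ideal.eq_top_of_isUnit_mem _ h (IsLocalization.map_units Pg e))
        refine ⟨⟨(e : P) * c₁, mul_mem heQ hc₁Q⟩, ?_⟩
        show ((e : P) * c₁) • x = ((e : P) * c₁) • y
        rw [mul_smul, mul_smul]
        exact he
    exact Module.Flat.of_linearEquiv ((IsLocalizedModule.iso Q₀.primeCompl φ).restrictScalars A).symm
  -- finite presentation is local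
  have hloc : ∀ Q : PrimeSpectrum Pg, ∃ h ∉ Q.asIdeal,
      Module.FinitePresentation (Localization.Away h) (LocalizedModule (Submonoid.powers h) L) ∧
      Module.Flat A (LocalizedModule (Submonoid.powers h) L) := fun Q => by
    obtain ⟨h, hh, h1, h2, -⟩ := exists_nhd L hA Q.asIdeal (hflat _)
    exact ⟨h, hh, h1, h2⟩
  choose h hh hfp hfl using hloc
  have hspan : Ideal.span (Set.range h) = ⊤ := by
    by_contra hne
    obtain ⟨M, hM, hle⟩ := Ideal.exists_le_maximal _ hne
    exact hh ⟨M, hM.isPrime⟩ (hle (Ideal.subset_span ⟨_, rfl⟩))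
  refine ⟨Module.FinitePresentation.of_localizationSpan (Set.range h) hspan fun r => ?_, ?_⟩
  · obtain ⟨Q, hQ⟩ := r.2
    rw [← hQ]
    exact hfp Q
  · refine Module.flat_of_isLocalized_maximal (R := A) Pg L (fun Q => LocalizedModule Q.primeCompl L)
      (fun Q _ => LocalizedModule.mkLinearMap Q.primeCompl L) fun Q _ => hflat Q

/-- A flat finite module over a finite type algebra is finitely presented. -/
theorem finitePresentation_of_flat {A S : Type u} [CommRing A] [CommRing S] [Algebra A S] [Algebra.FiniteType A S]
    (hA : (FlatCA.weakAss A A).Finite) (N : Type u) [AddCommGroup N] [Module S N] [Module A N] [IsScalarTower A S N]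
    [Module.Finite S N] [Module.Flat A N] :
    ∃ (n : ℕ) (f : MvPolynomial (Fin n) A →ₐ[A] S), Function.Surjective f ∧
      letI := Module.compHom N f.toRingHom
      Module.FinitePresentation (MvPolynomial (Fin n) A) N := by
  obtain ⟨n, f, hf⟩ := Algebra.FiniteType.iff_quotient_mvPolynomial''.mp ‹Algebra.FiniteType A S›
  refine ⟨n, f, hf, ?_⟩
  let P := MvPolynomial (Fin n) A
  letI : Module P N := Module.compHom N f.toRingHom
  letI : Algebra P S := f.toRingHom.toAlgebra
  haveI : IsScalarTower A P S := IsScalarTower.of_algebraMap_eq fun r => (f.commutes r).symm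
  haveI : IsScalarTower P S N := IsScalarTower.of_algebraMap_smul fun _ _ => rfl
  haveI : IsScalarTower A P N := IsScalarTower.of_algebraMap_smul fun r x => by
    show f (algebraMap A P r) • x = r • x
    rw [f.commutes, algebraMap_smul]
  haveI : Module.Finite P S := Module.Finite.of_surjective (Algebra.linearMap P S) hf
  haveI : Module.Finite P N := Module.Finite.trans S N
  have hflat : ∀ (Q : Ideal P) [Q.IsPrime], (1 : P) ∉ Q → Module.Flat A (LocalizedModule Q.primeCompl N) := by
    intro Q _ _
    haveI : Module.Flat P (Localization.AtPrime Q) := IsLocalization.flat _ Q.primeCompl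
    haveI : Module.Flat A (Localization.AtPrime Q ⊗[P] N) := flat_tensor_left A P N (Localization.AtPrime Q)
    exact Module.Flat.of_linearEquiv ((LocalizedModule.equivTensorProduct Q.primeCompl N).restrictScalars A)
  obtain ⟨h1, -⟩ := fp_flat_basicOpen hA N (1 : P) hflat
  refine Module.FinitePresentation.of_localizationSpan {(1 : P)} (Ideal.span_singleton_one) fun r => ?_
  obtain ⟨_, rfl⟩ := r
  exact h1

end Groth.Agent.RGLib

end
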