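import Groth.Agent.RGLib.DescProper

/-!
# Descent data seen on geometric stalks and refinements
-/

set_option autoImplicit false

universe u

open CategoryTheory CategoryTheory.Limits AlgebraicGeometry Opposite TopologicalSpace
open Groth.Agent.BigSiteLib.DescSec Groth.Agent.EtPBC0

namespace Groth.Agent.RGLib.DescRefine

set_option backward.isDefEq.respectTransparency false
set_option backward.isDefEq.respectTransparency.types false

/-- A geometric point through a point. -/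
theorem exists_geom_point {Q : Scheme.{u}} (z : Q) :
    ∃ (Ω : Type u) (_ : Field Ω) (_ : IsSepClosed Ω) (τ : Spec (CommRingCat.of Ω) ⟶ Q),
      τ.base (default : Spec (CommRingCat.of Ω)) = z := by
  refine ⟨SeparableClosure (Q.residueField z), inferInstance, inferInstance,
    Spec.map (CommRingCat.ofHom (algebraMap (Q.residueField z) (SeparableClosure (Q.residueField z)))) ≫
      Q.fromSpecResidueField z, ?_⟩
  exact (Scheme.Hom.comp_apply _ _ _).trans (Scheme.fromSpecResidueField_apply z _)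

variable {Ω : Type u} [Field Ω] [IsSepClosed Ω]

/-- A point seen in the final etale scheme. -/
noncomputable def topPt {Q : Scheme.{u}} (τ : Spec (CommRingCat.of Ω) ⟶ Q) :
    (Scheme.pointSmallEtale τ).fiber.obj (EtCoh.top Q) :=
  CategoryTheory.Over.homMk τ (Category.comp_id τ)

/-- The germ of a global section. -/
noncomputable abbrev gtop {Q : Scheme.{u}} (G : EtDesc.Sh Q) (τ : Spec (CommRingCat.of Ω) ⟶ Q)
    (a : G.obj.obj (op (EtCoh.top Q))) : St G τ := germ G τ (EtCoh.top Q) (topPt τ) a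

/-- The germ of a section pulled back along a lift. -/
theorem germ_atPt {X P : Scheme.{u}} (k : P ⟶ X) (F : EtDesc.Sh X) (U : X.Etale) (σ : P ⟶ U.left)
    (w : σ ≫ U.hom = k) (x : ToType (F.obj.obj (op U))) (τ : Spec (CommRingCat.of Ω) ⟶ P)
    (ξ : Spec (CommRingCat.of Ω) ⟶ X) (hξ : τ ≫ k = ξ) (u : (Scheme.pointSmallEtale ξ).fiber.obj U)
    (hu : τ ≫ σ = (u.left : Spec (CommRingCat.of Ω) ⟶ U.left)) :
    tr F hξ (stI k τ F (gtop _ τ (atPt k F U σ w x))) = germ F ξ U u x := by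
  rw [gtop, atPt, germ_map, stI_germ]
  refine tr_germ F hξ U _ u ?_ x
  rw [bcFiberEquiv_left]
  show (τ ≫ (secHom k U σ w).left) ≫ pullback.fst U.hom k = _
  rw [Category.assoc, secHom_fst]
  exact hu

/-- Morphisms agreeing on all geometric stalks agree. -/
theorem hom_ext_stalk {X : Scheme.{u}} {A B : EtDesc.Sh X} (a b : A ⟶ B)
    (h : ∀ (Ω : Type u) [Field Ω] [IsSepClosed Ω] (ξ : Spec (CommRingCat.of Ω) ⟶ X) (c : St A ξ),
      (Scheme.pointSmallEtale ξ).presheafFiber.map a.hom c = (Scheme.pointSmallEtale ξ).presheafFiber.map b.hom c) :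
    a = b := by
  refine Sheaf.hom_ext (NatTrans.ext (funext fun U => ConcreteCategory.hom_ext _ _ fun x => eq_of_locEq B fun z => ?_))
  obtain ⟨Ω, _, _, ξ, t, ht⟩ := EtFound.exists_point_through U.unop z
  refine locEq_of_germ ξ t ?_ z (ht _)
  have e := h Ω ξ (germ A ξ U.unop t x)
  rwa [germ_natural, germ_natural] at e

/-- A section with the same germs at all geometric points is unique. -/
theorem eq_of_germs {X : Scheme.{u}} (G : EtDesc.Sh X) {U : X.Etale} (a b : G.obj.obj (op U))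
    (h : ∀ (Ω : Type u) [Field Ω] [IsSepClosed Ω] (ξ : Spec (CommRingCat.of Ω) ⟶ X)
      (t : (Scheme.pointSmallEtale ξ).fiber.obj U), germ G ξ U t a = germ G ξ U t b) : a = b :=
  eq_of_locEq G fun z => by
    obtain ⟨Ω, _, _, ξ, t, ht⟩ := EtFound.exists_point_through U z
    exact locEq_of_germ ξ t (h Ω ξ t) z (ht _)

/-- Sections equal near a point have equal germs there. -/
theorem germ_eq_of_locEq' {S : Scheme.{u}} (G : EtDesc.Sh S) {U : S.Etale} {a a' : G.obj.obj (op U)} {z : U.left}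
    (h : LocEq G.obj a a' z) (ξ : Spec (CommRingCat.of Ω) ⟶ S) (t : (Scheme.pointSmallEtale ξ).fiber.obj U)
    (hz : (t.left : Spec (CommRingCat.of Ω) ⟶ U.left).base (default : Spec (CommRingCat.of Ω)) = z) :
    germ G ξ U t a = germ G ξ U t a' := by
  obtain ⟨W, k, ⟨w, hw⟩, e⟩ := h
  obtain ⟨t', ht', -⟩ := EtFound.exists_lift_point k t w (hw.trans hz.symm)
  rw [← ht']
  exact (germ_map G ξ k t' a).symm.trans ((congrArg (germ G ξ W t') e).trans (germ_map G ξ k t' a'))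

theorem stI_tr {S T : Scheme.{u}} (r : T ⟶ S) (G : EtDesc.Sh S) {τ τ' : Spec (CommRingCat.of Ω) ⟶ T} (h : τ = τ')
    (c : St ((EtDesc.pullSh r).obj G) τ) :
    stI r τ' G (tr _ h c) = tr G (congrArg (· ≫ r) h) (stI r τ G c) := by
  subst h
  rfl

/-- The stalks of a double pullback. -/
theorem via_stalk_inv {X S T : Scheme.{u}} (g : T ⟶ S) (a : S ⟶ X) (b : T ⟶ X) (w : g ≫ a = b) (F : EtDesc.Sh X)
    (τ : Spec (CommRingCat.of Ω) ⟶ T) (h : (τ ≫ g) ≫ a = τ ≫ b) (y : St ((EtDesc.pullSh b).obj F) τ) :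
    stI a (τ ≫ g) F (stI g τ ((EtDesc.pullSh a).obj F)
      ((Scheme.pointSmallEtale τ).presheafFiber.map (EtDesc.pullVia g a b w F).inv.hom y)) =
      tr F h.symm (stI b τ F y) := by
  have e := via_stalk g a b w F τ h
    ((Scheme.pointSmallEtale τ).presheafFiber.map (EtDesc.pullVia g a b w F).inv.hom y)
  rw [map_inv_hom_apply] at e
  rw [e, tr_tr, tr_rfl]

/-- The germ of a transported global section. -/
theorem germ_tau {X S T : Scheme.{u}} (g : T ⟶ S) (a : S ⟶ X) (b : T ⟶ X) (w : g ≫ a = b) (F : EtDesc.Sh X)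
    (σ : ((EtDesc.pullSh a).obj F).obj.obj (op (EtCoh.top S))) (τ : Spec (CommRingCat.of Ω) ⟶ T)
    (h : (τ ≫ g) ≫ a = τ ≫ b) :
    stI b τ F (gtop _ τ (EtH0Lib.tau g a b w σ)) = tr F h (stI a (τ ≫ g) F (gtop _ (τ ≫ g) σ)) := by
  rw [gtop, EtH0Lib.tau, ← germ_natural]
  refine (via_stalk g a b w F τ h _).trans (congrArg (fun c => tr F h (stI a (τ ≫ g) F c)) ?_)
  have e : EtDesc.secPull g ((EtDesc.pullSh a).obj F) σ =
      atPt g ((EtDesc.pullSh a).obj F) (EtCoh.top S) g (Category.comp_id g) σ := by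
    show ((EtDesc.pullSh g).obj _).obj.map (EtCore.bcTopIso g).inv.op (up g _ (EtCoh.top S) σ) = _
    exact congrArg (fun k : EtCoh.top T ⟶ (EtCoh.bc g).obj (EtCoh.top S) =>
      ((EtDesc.pullSh g).obj ((EtDesc.pullSh a).obj F)).obj.map k.op (up g _ (EtCoh.top S) σ))
      ((EtCore.bcTopIsTerminal g).hom_ext _ _)
  rw [e]
  exact (tr_rfl _ _).symm.trans (germ_atPt g _ (EtCoh.top S) g (Category.comp_id g) σ τ (τ ≫ g) rfl (topPt (τ ≫ g)) rfl)

variable {X' X : Scheme.{u}} {f : X' ⟶ X} {F' : EtDesc.Sh X'}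
  (φ : (EtDesc.pullSh (pullback.fst f f)).obj F' ≅ (EtDesc.pullSh (pullback.snd f f)).obj F')

local notation "PhiF" => Phi φ.hom (IsPullback.of_hasPullback f f)

/-- The germ of a section transported by the datum. -/
theorem germ_transport {P : Scheme.{u}} (m : P ⟶ pullback f f) (σ k : P ⟶ X')
    (w₁ : m ≫ pullback.fst f f = σ) (w₂ : m ≫ pullback.snd f f = k)
    (sσ : ((EtDesc.pullSh σ).obj F').obj.obj (op (EtCoh.top P))) (τ : Spec (CommRingCat.of Ω) ⟶ P)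
    {ξ₁ ξ₂ : Spec (CommRingCat.of Ω) ⟶ X'} (h₁ : τ ≫ σ = ξ₁) (h₂ : τ ≫ k = ξ₂) (h : ξ₁ ≫ f = ξ₂ ≫ f) :
    tr F' h₂ (stI k τ F' (gtop _ τ
      (((EtDesc.pullVia m (pullback.fst f f) σ w₁ F').symm ≪≫ (EtDesc.pullSh m).mapIso φ ≪≫
        EtDesc.pullVia m (pullback.snd f f) k w₂ F').hom.hom.app (op (EtCoh.top P)) sσ))) =
    PhiF ξ₁ ξ₂ h (tr F' h₁ (stI σ τ F' (gtop _ τ sσ))) := by
  subst h₁ h₂
  unfold gtop
  rw [← germ_natural]
  obtain ⟨d, hd⟩ : ∃ d, d = stI σ τ F' (germ ((EtDesc.pullSh σ).obj F') τ (EtCoh.top P) (topPt τ) sσ) := ⟨_, rfl⟩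
  rw [(Equiv.eq_symm_apply _).2 hd.symm, Equiv.apply_symm_apply,
    pullIso_stalk φ m σ k w₁ w₂ τ ((Category.assoc _ _ _).trans (congrArg (τ ≫ ·) w₁))
      ((Category.assoc _ _ _).trans (congrArg (τ ≫ ·) w₂)) d,
    Phi_eq φ.hom (IsPullback.of_hasPullback f f) h (τ ≫ m) ((Category.assoc _ _ _).trans (congrArg (τ ≫ ·) w₁))
      ((Category.assoc _ _ _).trans (congrArg (τ ≫ ·) w₂))]
  simp only [tr_rfl]

/-- Descent data satisfying the cocycle identity on geometric stalks. -/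
theorem isCocycle_of_Phi
    (h : ∀ (Ω : Type u) [Field Ω] [IsSepClosed Ω] (ξ₁ ξ₂ ξ₃ : Spec (CommRingCat.of Ω) ⟶ X')
      (h₁₂ : ξ₁ ≫ f = ξ₂ ≫ f) (h₂₃ : ξ₂ ≫ f = ξ₃ ≫ f) (c : St F' ξ₁),
      Phi φ.hom (IsPullback.of_hasPullback f f) ξ₂ ξ₃ h₂₃ (Phi φ.hom (IsPullback.of_hasPullback f f) ξ₁ ξ₂ h₁₂ c) =
        Phi φ.hom (IsPullback.of_hasPullback f f) ξ₁ ξ₃ (h₁₂.trans h₂₃) c) :
    EtDesc.IsCocycle F' φ := by
  refine hom_ext_stalk _ _ fun Ω _ _ τ c => ?_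
  obtain ⟨d, rfl⟩ := (stI _ τ F').symm.surjective c
  have hk : ∀ (g : EtDesc.X3 f ⟶ EtDesc.X2 f) (b₁ b₂ : EtDesc.X3 f ⟶ X') (w₁ : g ≫ pullback.fst f f = b₁)
      (w₂ : g ≫ pullback.snd f f = b₂) (h : (τ ≫ b₁) ≫ f = (τ ≫ b₂) ≫ f) (d : St F' (τ ≫ b₁)),
      stI b₂ τ F' ((Scheme.pointSmallEtale τ).presheafFiber.map (EtDesc.pullIsoVia g b₁ b₂ w₁ w₂ F' φ).hom.hom
        ((stI b₁ τ F').symm d)) = PhiF (τ ≫ b₁) (τ ≫ b₂) h d := fun g b₁ b₂ w₁ w₂ h d => by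
    rw [EtDesc.pullIsoVia, pullIso_stalk φ g b₁ b₂ w₁ w₂ τ ((Category.assoc _ _ _).trans (congrArg (τ ≫ ·) w₁))
        ((Category.assoc _ _ _).trans (congrArg (τ ≫ ·) w₂)),
      Phi_eq φ.hom _ h (τ ≫ g) ((Category.assoc _ _ _).trans (congrArg (τ ≫ ·) w₁))
        ((Category.assoc _ _ _).trans (congrArg (τ ≫ ·) w₂))]
  have e₁₂ : EtDesc.q1 (f := f) ≫ f = EtDesc.q2 (f := f) ≫ f :=
    (Category.assoc _ _ _).trans ((congrArg (EtDesc.p12 f ≫ ·) pullback.condition).trans (Category.assoc _ _ _).symm)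
  have e₂₃ : EtDesc.q2 (f := f) ≫ f = EtDesc.q3 (f := f) ≫ f :=
    (congrArg (· ≫ f) EtDesc.p23_fst.symm).trans
      ((Category.assoc _ _ _).trans ((congrArg (EtDesc.p23 f ≫ ·) pullback.condition).trans (Category.assoc _ _ _).symm))
  have h₁₂ : (τ ≫ EtDesc.q1 (f := f)) ≫ f = (τ ≫ EtDesc.q2 (f := f)) ≫ f :=
    (Category.assoc _ _ _).trans ((congrArg (τ ≫ ·) e₁₂).trans (Category.assoc _ _ _).symm)
  have h₂₃ : (τ ≫ EtDesc.q2 (f := f)) ≫ f = (τ ≫ EtDesc.q3 (f := f)) ≫ f :=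
    (Category.assoc _ _ _).trans ((congrArg (τ ≫ ·) e₂₃).trans (Category.assoc _ _ _).symm)
  refine (stI _ τ F').injective ?_
  rw [map_comp_apply']
  obtain ⟨y, hy⟩ : ∃ y, y = stI _ τ F' ((Scheme.pointSmallEtale τ).presheafFiber.map
      (EtDesc.pullIsoVia (EtDesc.p12 f) EtDesc.q1 EtDesc.q2 rfl rfl F' φ).hom.hom ((stI _ τ F').symm d)) := ⟨_, rfl⟩
  rw [(Equiv.eq_symm_apply _).2 hy.symm, hk _ _ _ _ _ h₂₃, hy, hk _ _ _ _ _ h₁₂, hk _ _ _ _ _ (h₁₂.trans h₂₃),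
    h Ω _ _ _ h₁₂ h₂₃]

variable {B W : Scheme.{u}} (q : W ⟶ B) (p : B ⟶ X) (r : W ⟶ X') (w : r ≫ f = q ≫ p)

/-- The map of double products. -/
noncomputable def mapX2 : pullback q q ⟶ pullback f f :=
  pullback.lift (pullback.fst q q ≫ r) (pullback.snd q q ≫ r) (by
    rw [Category.assoc, Category.assoc, w, ← Category.assoc, pullback.condition, Category.assoc])

/-- The pulled back descent datum. -/
noncomputable def pullDatum :
    (EtDesc.pullSh (pullback.fst q q)).obj ((EtDesc.pullSh r).obj F') ≅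
      (EtDesc.pullSh (pullback.snd q q)).obj ((EtDesc.pullSh r).obj F') :=
  (EtDesc.pullVia (pullback.fst q q) r (pullback.fst q q ≫ r) rfl F' ≪≫
    ((EtDesc.pullVia (mapX2 q p r w) (pullback.fst f f) (pullback.fst q q ≫ r) (pullback.lift_fst _ _ _) F').symm ≪≫
      (EtDesc.pullSh (mapX2 q p r w)).mapIso φ ≪≫
      EtDesc.pullVia (mapX2 q p r w) (pullback.snd f f) (pullback.snd q q ≫ r) (pullback.lift_snd _ _ _) F')) ≪≫
    (EtDesc.pullVia (pullback.snd q q) r (pullback.snd q q ≫ r) rfl F').symm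

/-- The stalks of a morphism conjugated by the comparison of pullbacks. -/
theorem phiSt_conj {T Z : Scheme.{u}} {r : Z ⟶ X'} (a₁ a₂ : T ⟶ Z) (b₁ b₂ : T ⟶ X') (w₁ : a₁ ≫ r = b₁) (w₂ : a₂ ≫ r = b₂)
    (M : (EtDesc.pullSh b₁).obj F' ≅ (EtDesc.pullSh b₂).obj F') (ζ : Spec (CommRingCat.of Ω) ⟶ T)
    (h₁ : (ζ ≫ a₁) ≫ r = ζ ≫ b₁) (h₂ : (ζ ≫ a₂) ≫ r = ζ ≫ b₂)
    (c : St ((EtDesc.pullSh r).obj F') (ζ ≫ a₁)) :
    stI r (ζ ≫ a₂) F' (phiSt ((EtDesc.pullVia a₁ r b₁ w₁ F' ≪≫ M) ≪≫ (EtDesc.pullVia a₂ r b₂ w₂ F').symm).hom ζ c) =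
      tr F' h₂.symm (stI b₂ ζ F' ((Scheme.pointSmallEtale ζ).presheafFiber.map M.hom.hom
        ((stI b₁ ζ F').symm (tr F' h₁ (stI r (ζ ≫ a₁) F' c))))) := by
  have k₁ := via_stalk a₁ r b₁ w₁ F' ζ h₁ ((stI a₁ ζ ((EtDesc.pullSh r).obj F')).symm c)
  rw [Equiv.apply_symm_apply] at k₁
  rw [phiSt]
  simp only [Iso.trans_hom, Iso.symm_hom, map_comp_apply']
  rw [via_stalk_inv a₂ r b₂ w₂ F' ζ h₂, ← k₁, Equiv.symm_apply_apply]

theorem Phi_pullDatum (ω₁ ω₂ : Spec (CommRingCat.of Ω) ⟶ W) (h : ω₁ ≫ q = ω₂ ≫ q)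
    (h' : (ω₁ ≫ r) ≫ f = (ω₂ ≫ r) ≫ f) (c : St ((EtDesc.pullSh r).obj F') ω₁) :
    stI r ω₂ F' (Phi (pullDatum φ q p r w).hom (IsPullback.of_hasPullback q q) ω₁ ω₂ h c) =
      PhiF (ω₁ ≫ r) (ω₂ ≫ r) h' (stI r ω₁ F' c) := by
  obtain ⟨ζ, h₁, h₂⟩ : ∃ ζ : Spec (CommRingCat.of Ω) ⟶ pullback q q,
      ζ ≫ pullback.fst q q = ω₁ ∧ ζ ≫ pullback.snd q q = ω₂ :=
    ⟨pullback.lift ω₁ ω₂ h, pullback.lift_fst _ _ _, pullback.lift_snd _ _ _⟩
  subst h₁ h₂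
  rw [Phi_eq _ _ h ζ rfl rfl, tr_rfl, tr_rfl]
  refine (phiSt_conj (pullback.fst q q) (pullback.snd q q) _ _ rfl rfl _ ζ (Category.assoc _ _ _) (Category.assoc _ _ _) c).trans ?_
  rw [pullIso_stalk φ (mapX2 q p r w) _ _ (pullback.lift_fst _ _ _) (pullback.lift_snd _ _ _) ζ
    ((Category.assoc _ _ _).trans (congrArg (ζ ≫ ·) (pullback.lift_fst _ _ _)))
    ((Category.assoc _ _ _).trans (congrArg (ζ ≫ ·) (pullback.lift_snd _ _ _)))]
  rw [Phi_eq φ.hom _ h' (ζ ≫ mapX2 q p r w)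
    (((Category.assoc _ _ _).trans (congrArg (ζ ≫ ·) (pullback.lift_fst _ _ _))).trans (Category.assoc _ _ _).symm)
    (((Category.assoc _ _ _).trans (congrArg (ζ ≫ ·) (pullback.lift_snd _ _ _))).trans (Category.assoc _ _ _).symm)]
  simp only [tr_tr]

theorem isCocycle_pullDatum (hφ : EtDesc.IsCocycle F' φ) : EtDesc.IsCocycle _ (pullDatum φ q p r w) :=
  isCocycle_of_Phi _ fun Ω _ _ ω₁ ω₂ ω₃ h₁₂ h₂₃ c => by
    have hb : ∀ {ω ω' : Spec (CommRingCat.of Ω) ⟶ W}, ω ≫ q = ω' ≫ q → (ω ≫ r) ≫ f = (ω' ≫ r) ≫ f := fun e => by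
      rw [Category.assoc, Category.assoc, w, ← Category.assoc, e, Category.assoc]
    refine (stI r ω₃ F').injective ?_
    rw [Phi_pullDatum φ q p r w _ _ _ (hb h₂₃), Phi_pullDatum φ q p r w _ _ _ (hb h₁₂),
      Phi_pullDatum φ q p r w _ _ _ (hb (h₁₂.trans h₂₃))]
    exact Phi_trans f φ hφ _ _ _ _ _ _

end Groth.Agent.RGLib.DescRefine
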