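import Groth.Agent.RGLib.DescFppf
import Groth.Agent.GeomSep.Basic
import Mathlib.RingTheory.Etale.StandardEtale
import Mathlib.FieldTheory.SeparableClosure

/-!
# Effective descent of etale sheaves of sets over a discrete base
-/

set_option autoImplicit false

universe u

open CategoryTheory CategoryTheory.Limits AlgebraicGeometry Opposite TopologicalSpace
open Groth.Agent.BigSiteLib.DescSec Groth.Agent.EtPBC0
open scoped TensorProduct

namespace Groth.Agent.RGLib.DescRefine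

set_option backward.isDefEq.respectTransparency false
set_option backward.isDefEq.respectTransparency.types false

/-- Over a separably closed field global sections are the stalk at any geometric point. -/
theorem gtop_bijective {Ω : Type u} [Field Ω] [IsSepClosed Ω] (G : EtDesc.Sh (Spec (CommRingCat.of Ω)))
    {Ω' : Type u} [Field Ω'] [IsSepClosed Ω'] (τ : Spec (CommRingCat.of Ω') ⟶ Spec (CommRingCat.of Ω)) :
    Function.Bijective (gtop G τ) := by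
  refine ⟨fun a b h => ?_, fun c => ?_⟩
  · obtain ⟨W, m, w, hw, e⟩ := ((Scheme.pointSmallEtale τ).toPresheafFiber_eq_iff' (P := G.obj) _ _ a b).1 h
    haveI : Etale W.hom := W.prop
    obtain ⟨σ, hσ, -⟩ := Scheme.exists_fac_of_etale_of_isSepClosed W.hom (𝟙 (Spec (CommRingCat.of Ω)))
      ((w.left : Spec (CommRingCat.of Ω') ⟶ W.left).base (default : Spec (CommRingCat.of Ω')))
      (Subsingleton.elim (α := ↥(Spec (CommRingCat.of Ω))) _ _)
    let g : EtCoh.top (Spec (CommRingCat.of Ω)) ⟶ W := MorphismProperty.Over.homMk σ hσ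
    have e' := congrArg (G.obj.map g.op) e
    have hid : g ≫ m = 𝟙 _ := (EtCore.topIsTerminal _).hom_ext _ _
    have hc : ∀ x : ToType (G.obj.obj (op (EtCoh.top (Spec (CommRingCat.of Ω))))),
        G.obj.map g.op (G.obj.map m.op x) = x := fun x => by
      rw [mapF, hid, op_id, CategoryTheory.Functor.map_id]
      rfl
    exact (hc a).symm.trans (e'.trans (hc b))
  · obtain ⟨U, t, s, rfl⟩ := germ_surjective G τ c
    haveI : Etale U.hom := U.prop
    let y := (t.left : Spec (CommRingCat.of Ω') ⟶ U.left).base (default : Spec (CommRingCat.of Ω'))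
    obtain ⟨σ, hσ, hy⟩ := Scheme.exists_fac_of_etale_of_isSepClosed U.hom (𝟙 (Spec (CommRingCat.of Ω))) y
      (Subsingleton.elim (α := ↥(Spec (CommRingCat.of Ω))) _ _)
    haveI : Etale (σ ≫ U.hom) := by rw [hσ]; infer_instance
    haveI : Etale σ := MorphismProperty.of_postcomp (W := @Etale) (W' := @Etale) σ U.hom inferInstance inferInstance
    haveI : Mono σ := (SplitMono.mk U.hom hσ).mono
    haveI : IsOpenImmersion σ := IsOpenImmersion.of_flat_of_mono σ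
    have hr : Set.range (t.left : Spec (CommRingCat.of Ω') ⟶ U.left).base ⊆ Set.range σ.base := by
      rintro _ ⟨x, rfl⟩
      exact ⟨default, hy.trans (congrArg (t.left : Spec (CommRingCat.of Ω') ⟶ U.left).base
        (Subsingleton.elim (α := ↥(Spec (CommRingCat.of Ω'))) default x))⟩
    refine ⟨G.obj.map (MorphismProperty.Over.homMk σ hσ : EtCoh.top _ ⟶ U).op s,
      (germ_map G τ _ _ s).trans (congrArg (fun v => germ G τ U v s) (fib_ext ?_))⟩
    show τ ≫ σ = (t.left : Spec (CommRingCat.of Ω') ⟶ U.left)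
    have hl := IsOpenImmersion.lift_fac σ (t.left : Spec (CommRingCat.of Ω') ⟶ U.left) hr
    have e : IsOpenImmersion.lift σ (t.left : Spec (CommRingCat.of Ω') ⟶ U.left) hr = τ := by
      refine Eq.trans ?_ (CategoryTheory.Over.w t)
      show _ = (t.left : Spec (CommRingCat.of Ω') ⟶ U.left) ≫ U.hom
      conv_rhs => rw [← hl, Category.assoc, hσ, Category.comp_id]
    exact (congrArg (· ≫ σ) e.symm).trans hl

/-- A morphism from the spectrum of a field to a scheme with one point is universally open. -/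
theorem universallyOpen_of_subsingleton {Ω : Type u} [Field Ω] {U : Scheme.{u}} [Subsingleton U]
    (q : Spec (CommRingCat.of Ω) ⟶ U) : UniversallyOpen q := by
  obtain ⟨⟨y, g⟩, rfl⟩ := (Scheme.SpecToEquivOfField Ω U).symm.surjective q
  haveI : IsClosedImmersion (U.fromSpecResidueField y) := by
    refine IsClosedImmersion.of_isPreimmersion _ ?_
    have : Set.range (U.fromSpecResidueField y).base = Set.univ :=
      Set.eq_univ_of_forall fun z => ⟨default, Subsingleton.elim _ _⟩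
    exact this ▸ isClosed_univ
  haveI : Surjective (U.fromSpecResidueField y) := ⟨fun z => ⟨default, Subsingleton.elim _ _⟩⟩
  haveI : UniversallyOpen (U.fromSpecResidueField y) := ⟨fun X' Y' i₁ i₂ h' hsq => by
    haveI : IsClosedImmersion h' := MorphismProperty.of_isPullback (P := @IsClosedImmersion) hsq.flip inferInstance
    haveI : Surjective h' := MorphismProperty.of_isPullback (P := @Surjective) hsq.flip inferInstance
    intro O hO
    have e : IsHomeomorph h'.base :=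
      isHomeomorph_iff_isEmbedding_surjective.2 ⟨h'.isClosedEmbedding.isEmbedding, h'.surjective⟩
    exact e.isOpenMap O hO⟩
  haveI : UniversallyOpen (Spec.map g) := inferInstance
  show UniversallyOpen (Spec.map g ≫ U.fromSpecResidueField y)
  infer_instance

variable {X' X : Scheme.{u}} (f : X' ⟶ X) {F' : EtDesc.Sh X'}
  (φ : (EtDesc.pullSh (pullback.fst f f)).obj F' ≅ (EtDesc.pullSh (pullback.snd f f)).obj F')
  (hφ : EtDesc.IsCocycle F' φ) {Ω : Type u} [Field Ω] [IsSepClosed Ω] (ξ₀ : Spec (CommRingCat.of Ω) ⟶ X')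
  (s : ((EtDesc.pullSh ξ₀).obj F').obj.obj (op (EtCoh.top (Spec (CommRingCat.of Ω)))))

/-- The section is preserved between two points. -/
def Agree {Ω' : Type u} [Field Ω'] [IsSepClosed Ω'] (ω₁ ω₂ : Spec (CommRingCat.of Ω') ⟶ Spec (CommRingCat.of Ω)) :
    Prop :=
  ∀ h : (ω₁ ≫ ξ₀) ≫ f = (ω₂ ≫ ξ₀) ≫ f,
    Phi φ.hom (IsPullback.of_hasPullback f f) (ω₁ ≫ ξ₀) (ω₂ ≫ ξ₀) h (gv ξ₀ s ω₁) = gv ξ₀ s ω₂

/-- The transported section and the candidates on a scheme with two maps to the point. -/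
theorem exists_comparison {Q : Scheme.{u}} (σ₁ σ₂ : Q ⟶ Spec (CommRingCat.of Ω))
    (hσ : (σ₁ ≫ ξ₀) ≫ f = (σ₂ ≫ ξ₀) ≫ f) :
    ∃ A : ((EtDesc.pullSh (σ₂ ≫ ξ₀)).obj F').obj.obj (op (EtCoh.top Q)),
      ∀ (a : ((EtDesc.pullSh ξ₀).obj F').obj.obj (op (EtCoh.top (Spec (CommRingCat.of Ω)))))
        (Ω' : Type u) [Field Ω'] [IsSepClosed Ω'] (τ : Spec (CommRingCat.of Ω') ⟶ Q)
        (h : ((τ ≫ σ₁) ≫ ξ₀) ≫ f = ((τ ≫ σ₂) ≫ ξ₀) ≫ f),
        (gtop _ τ A = gtop _ τ (EtH0Lib.tau σ₂ ξ₀ (σ₂ ≫ ξ₀) rfl a) ↔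
          Phi φ.hom (IsPullback.of_hasPullback f f) ((τ ≫ σ₁) ≫ ξ₀) ((τ ≫ σ₂) ≫ ξ₀) h (gv ξ₀ s (τ ≫ σ₁)) =
            gv ξ₀ a (τ ≫ σ₂)) := by
  refine ⟨((EtDesc.pullVia (pullback.lift (σ₁ ≫ ξ₀) (σ₂ ≫ ξ₀) hσ) (pullback.fst f f) (σ₁ ≫ ξ₀)
      (pullback.lift_fst _ _ _) F').symm ≪≫ (EtDesc.pullSh _).mapIso φ ≪≫
      EtDesc.pullVia _ (pullback.snd f f) (σ₂ ≫ ξ₀) (pullback.lift_snd _ _ _) F').hom.hom.app (op (EtCoh.top Q))
    (EtH0Lib.tau σ₁ ξ₀ (σ₁ ≫ ξ₀) rfl s), fun a Ω' _ _ τ h => ?_⟩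
  have h₁ : τ ≫ σ₁ ≫ ξ₀ = (τ ≫ σ₁) ≫ ξ₀ := (Category.assoc _ _ _).symm
  have h₂ : τ ≫ σ₂ ≫ ξ₀ = (τ ≫ σ₂) ≫ ξ₀ := (Category.assoc _ _ _).symm
  have eA := germ_transport φ (pullback.lift (σ₁ ≫ ξ₀) (σ₂ ≫ ξ₀) hσ) (σ₁ ≫ ξ₀) (σ₂ ≫ ξ₀)
    (pullback.lift_fst _ _ _) (pullback.lift_snd _ _ _) (EtH0Lib.tau σ₁ ξ₀ (σ₁ ≫ ξ₀) rfl s) τ h₁ h₂ h
  have eg : ∀ (σ : Q ⟶ Spec (CommRingCat.of Ω))
      (b : ((EtDesc.pullSh ξ₀).obj F').obj.obj (op (EtCoh.top (Spec (CommRingCat.of Ω))))),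
      tr F' (Category.assoc τ σ ξ₀).symm (stI (σ ≫ ξ₀) τ F' (gtop _ τ (EtH0Lib.tau σ ξ₀ (σ ≫ ξ₀) rfl b))) =
        gv ξ₀ b (τ ≫ σ) := fun σ b => by
    rw [germ_tau σ ξ₀ (σ ≫ ξ₀) rfl F' b τ (Category.assoc _ _ _), tr_tr, tr_rfl]
  rw [eg σ₁ s] at eA
  rw [← eA, ← eg σ₂ a]
  refine ⟨fun e => by rw [e], fun e => (stI (σ₂ ≫ ξ₀) τ F').injective ?_⟩
  have e' := congrArg (tr F' h₂.symm) e
  rwa [tr_tr, tr_tr, tr_rfl, tr_rfl] at e'

variable {B : Type u} [CommRing B] (e : Spec (CommRingCat.of B) ⟶ X) (φ₀ : B →+* Ω)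
  (hη : Spec.map (CommRingCat.ofHom φ₀) ≫ e = ξ₀ ≫ f)

include hη in
theorem comp_eq {R : Type u} [CommRing R] (χ₁ χ₂ : Ω →+* R) (h : χ₁.comp φ₀ = χ₂.comp φ₀) :
    (Spec.map (CommRingCat.ofHom χ₁) ≫ ξ₀) ≫ f = (Spec.map (CommRingCat.ofHom χ₂) ≫ ξ₀) ≫ f := by
  rw [Category.assoc, Category.assoc, ← hη, ← Spec.map_comp_assoc, ← Spec.map_comp_assoc,
    ← CommRingCat.ofHom_comp, ← CommRingCat.ofHom_comp, h]

include hη hφ in
/-- Agreement for embeddings agreeing on a separably closed subfield. -/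
theorem agree_of_eq_sepClosed {K : Type u} [Field K] [IsSepClosed K] [Algebra K Ω] (j : B →+* K)
    (hj : (algebraMap K Ω).comp j = φ₀) {Ω' : Type u} [Field Ω'] [IsSepClosed Ω'] (χ₁ χ₂ : Ω →+* Ω')
    (hK : χ₁.comp (algebraMap K Ω) = χ₂.comp (algebraMap K Ω)) :
    Agree f φ ξ₀ s (Spec.map (CommRingCat.ofHom χ₁)) (Spec.map (CommRingCat.ofHom χ₂)) := by
  intro h
  letI : Algebra K Ω' := (χ₁.comp (algebraMap K Ω)).toAlgebra
  let a₁ : Ω →ₐ[K] Ω' := { χ₁ with commutes' := fun _ => rfl }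
  let a₂ : Ω →ₐ[K] Ω' := { χ₂ with commutes' := fun k => (RingHom.congr_fun hK k).symm }
  let i₁ : Ω →+* (Ω ⊗[K] Ω) := (Algebra.TensorProduct.includeLeft : Ω →ₐ[K] Ω ⊗[K] Ω).toRingHom
  let i₂ : Ω →+* (Ω ⊗[K] Ω) := (Algebra.TensorProduct.includeRight : Ω →ₐ[K] Ω ⊗[K] Ω).toRingHom
  have hi : i₁.comp φ₀ = i₂.comp φ₀ := by
    rw [← hj]
    ext b
    exact ((Algebra.TensorProduct.includeLeft : Ω →ₐ[K] Ω ⊗[K] Ω).commutes (j b)).trans
      ((Algebra.TensorProduct.includeRight : Ω →ₐ[K] Ω ⊗[K] Ω).commutes (j b)).symm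
  let σ₁ := Spec.map (CommRingCat.ofHom i₁)
  let σ₂ := Spec.map (CommRingCat.ofHom i₂)
  have hσ := comp_eq f ξ₀ e φ₀ hη i₁ i₂ hi
  obtain ⟨A, hA⟩ := exists_comparison f φ ξ₀ s σ₁ σ₂ hσ
  let Q := Spec (CommRingCat.of (Ω ⊗[K] Ω))
  haveI : ConnectedSpace (PrimeSpectrum Ω) := inferInstance
  haveI : ConnectedSpace Q := GeomSep.connectedSpace_tensor (k := K) Ω Ω
  have hb : ∀ (Ω' : Type u) [Field Ω'] [IsSepClosed Ω'] (τ : Spec (CommRingCat.of Ω') ⟶ Q),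
      ((τ ≫ σ₁) ≫ ξ₀) ≫ f = ((τ ≫ σ₂) ≫ ξ₀) ≫ f := fun Ω' _ _ τ => by
    simp only [Category.assoc] at hσ ⊢
    rw [hσ]
  let O : ((EtDesc.pullSh ξ₀).obj F').obj.obj (op (EtCoh.top (Spec (CommRingCat.of Ω)))) → Set Q := fun a =>
    {z : Q | LocEq ((EtDesc.pullSh (σ₂ ≫ ξ₀)).obj F').obj A (EtH0Lib.tau σ₂ ξ₀ (σ₂ ≫ ξ₀) rfl a)
      (show (EtCoh.top Q).left from z)}
  have hpt : ∀ a (Ω' : Type u) [Field Ω'] [IsSepClosed Ω'] (τ : Spec (CommRingCat.of Ω') ⟶ Q),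
      (τ.base (default : Spec (CommRingCat.of Ω')) ∈ O a ↔
        Phi φ.hom (IsPullback.of_hasPullback f f) _ _ (hb Ω' τ) (gv ξ₀ s (τ ≫ σ₁)) = gv ξ₀ a (τ ≫ σ₂)) :=
    fun a Ω' _ _ τ => ⟨fun hz => (hA a Ω' τ (hb Ω' τ)).1 (germ_eq_of_locEq' _ hz τ (topPt τ) rfl),
      fun e => locEq_of_germ τ (topPt τ) ((hA a Ω' τ (hb Ω' τ)).2 e) _ rfl⟩
  have hex : ∀ z : Q, ∃ a, z ∈ O a ∧ ∀ a', z ∈ O a' → a' = a := fun z => by
    obtain ⟨Ω'', _, _, τ, hτ⟩ := exists_geom_point z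
    obtain ⟨c, hc⟩ := (stI ξ₀ (τ ≫ σ₂) F').surjective
      (Phi φ.hom (IsPullback.of_hasPullback f f) _ _ (hb Ω'' τ) (gv ξ₀ s (τ ≫ σ₁)))
    obtain ⟨a, ha⟩ := (gtop_bijective _ (τ ≫ σ₂)).2 c
    refine ⟨a, hτ ▸ (hpt a Ω'' τ).2 ?_, fun a' ha' => (gtop_bijective _ (τ ≫ σ₂)).1 ?_⟩
    · show _ = stI ξ₀ (τ ≫ σ₂) F' (gtop _ (τ ≫ σ₂) a)
      rw [ha, hc]
    · have e := (hpt a' Ω'' τ).1 (hτ.symm ▸ ha')
      rw [← hc] at e
      exact ((stI ξ₀ (τ ≫ σ₂) F').injective e).symm.trans ha.symm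
  choose g hg hg' using hex
  have hloc : IsLocallyConstant g := by
    refine (IsLocallyConstant.iff_exists_open g).2 fun z => ⟨O (g z),
      (isOpen_locEq A (EtH0Lib.tau σ₂ ξ₀ (σ₂ ≫ ξ₀) rfl (g z)) : IsOpen (O (g z))), hg z, fun z' hz' => ?_⟩
    exact (hg' z' (g z) hz').symm
  let μ : Spec (CommRingCat.of Ω) ⟶ Q :=
    Spec.map (CommRingCat.ofHom (Algebra.TensorProduct.lmul' K : Ω ⊗[K] Ω →ₐ[K] Ω).toRingHom)
  have hμ₁ : μ ≫ σ₁ = 𝟙 _ := by
    rw [← Spec.map_comp, ← CommRingCat.ofHom_comp, ← Spec.map_id]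
    refine congrArg Spec.map (CommRingCat.hom_ext (RingHom.ext fun x => ?_))
    simp [i₁]
  have hμ₂ : μ ≫ σ₂ = 𝟙 _ := by
    rw [← Spec.map_comp, ← CommRingCat.ofHom_comp, ← Spec.map_id]
    refine congrArg Spec.map (CommRingCat.hom_ext (RingHom.ext fun x => ?_))
    simp [i₂]
  have hs0 : g (μ.base (default : Spec (CommRingCat.of Ω))) = s := by
    refine (hg' _ s ((hpt s Ω μ).2 ?_)).symm
    have : ∀ (ω₁ ω₂ : Spec (CommRingCat.of Ω) ⟶ Spec (CommRingCat.of Ω)) (_ : ω₁ = ω₂)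
        (h : (ω₁ ≫ ξ₀) ≫ f = (ω₂ ≫ ξ₀) ≫ f),
        Phi φ.hom (IsPullback.of_hasPullback f f) (ω₁ ≫ ξ₀) (ω₂ ≫ ξ₀) h (gv ξ₀ s ω₁) = gv ξ₀ s ω₂ := by
      rintro ω₁ _ rfl h
      exact Phi_self f φ hφ _ _
    exact this _ _ (hμ₁.trans hμ₂.symm) _
  let τ : Spec (CommRingCat.of Ω') ⟶ Q :=
    Spec.map (CommRingCat.ofHom (Algebra.TensorProduct.productMap a₁ a₂).toRingHom)
  have hτ₁ : τ ≫ σ₁ = Spec.map (CommRingCat.ofHom χ₁) := by
    rw [← Spec.map_comp, ← CommRingCat.ofHom_comp]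
    refine congrArg Spec.map (CommRingCat.hom_ext (RingHom.ext fun x => ?_))
    exact (Algebra.TensorProduct.productMap_left_apply a₁ a₂ x).trans rfl
  have hτ₂ : τ ≫ σ₂ = Spec.map (CommRingCat.ofHom χ₂) := by
    rw [← Spec.map_comp, ← CommRingCat.ofHom_comp]
    refine congrArg Spec.map (CommRingCat.hom_ext (RingHom.ext fun x => ?_))
    exact (Algebra.TensorProduct.productMap_right_apply a₁ a₂ x).trans rfl
  have e := (hpt s Ω' τ).1 (by
    have := hg (τ.base (default : Spec (CommRingCat.of Ω')))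
    rwa [hloc.apply_eq_of_preconnectedSpace _ (μ.base (default : Spec (CommRingCat.of Ω))), hs0] at this)
  have : ∀ (ω₁ ω₂ : Spec (CommRingCat.of Ω') ⟶ Spec (CommRingCat.of Ω)) (_ : τ ≫ σ₁ = ω₁) (_ : τ ≫ σ₂ = ω₂)
      (h : (ω₁ ≫ ξ₀) ≫ f = (ω₂ ≫ ξ₀) ≫ f),
      Phi φ.hom (IsPullback.of_hasPullback f f) (ω₁ ≫ ξ₀) (ω₂ ≫ ξ₀) h (gv ξ₀ s ω₁) = gv ξ₀ s ω₂ := by
    rintro _ _ rfl rfl h
    exact e
  exact this _ _ hτ₁ hτ₂ h

variable {K : Type u} [Field K] [Algebra K Ω] (j : B →+* K) (hj : (algebraMap K Ω).comp j = φ₀)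

include hη hφ hj in
/-- Agreement only depends on finitely many separable elements. -/
theorem exists_finset_agree (hjs : Function.Surjective j) :
    ∃ F : Finset Ω, (∀ a ∈ F, IsSeparable K a) ∧ ∀ (Ω' : Type u) [Field Ω'] [IsSepClosed Ω'] (χ₁ χ₂ : Ω →+* Ω'),
      χ₁.comp φ₀ = χ₂.comp φ₀ → (∀ a ∈ F, χ₁ a = χ₂ a) →
      Agree f φ ξ₀ s (Spec.map (CommRingCat.ofHom χ₁)) (Spec.map (CommRingCat.ofHom χ₂)) := by
  let i₁ : Ω →+* (Ω ⊗[K] Ω) := (Algebra.TensorProduct.includeLeft : Ω →ₐ[K] Ω ⊗[K] Ω).toRingHom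
  let i₂ : Ω →+* (Ω ⊗[K] Ω) := (Algebra.TensorProduct.includeRight : Ω →ₐ[K] Ω ⊗[K] Ω).toRingHom
  have hi : i₁.comp φ₀ = i₂.comp φ₀ := by
    rw [← hj]
    ext b
    exact ((Algebra.TensorProduct.includeLeft : Ω →ₐ[K] Ω ⊗[K] Ω).commutes (j b)).trans
      ((Algebra.TensorProduct.includeRight : Ω →ₐ[K] Ω ⊗[K] Ω).commutes (j b)).symm
  let σ₁ := Spec.map (CommRingCat.ofHom i₁)
  let σ₂ := Spec.map (CommRingCat.ofHom i₂)
  have hσ := comp_eq f ξ₀ e φ₀ hη i₁ i₂ hi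
  obtain ⟨A, hA⟩ := exists_comparison f φ ξ₀ s σ₁ σ₂ hσ
  let Q := Spec (CommRingCat.of (Ω ⊗[K] Ω))
  let L := {z : Q | LocEq ((EtDesc.pullSh (σ₂ ≫ ξ₀)).obj F').obj A (EtH0Lib.tau σ₂ ξ₀ (σ₂ ≫ ξ₀) rfl s)
      (show (EtCoh.top Q).left from z)}
  have hL : IsOpen L := isOpen_locEq A (EtH0Lib.tau σ₂ ξ₀ (σ₂ ≫ ξ₀) rfl s)
  let C : {a : Ω // IsSeparable K a} → Set Q := fun a => PrimeSpectrum.zeroLocus {i₁ a.1 - i₂ a.1}
  have hb : ∀ (Ω' : Type u) [Field Ω'] [IsSepClosed Ω'] (τ : Spec (CommRingCat.of Ω') ⟶ Q),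
      ((τ ≫ σ₁) ≫ ξ₀) ≫ f = ((τ ≫ σ₂) ≫ ξ₀) ≫ f := fun Ω' _ _ τ => by
    simp only [Category.assoc] at hσ ⊢
    rw [hσ]
  have hker : ∀ {Ω' : Type u} [Field Ω'] (χ : Ω ⊗[K] Ω →+* Ω') (x : Ω ⊗[K] Ω),
      x ∈ ((Spec.map (CommRingCat.ofHom χ)).base (default : Spec (CommRingCat.of Ω'))).asIdeal ↔ χ x = 0 := by
    intro Ω' _ χ x
    change χ x ∈ (default : Spec (CommRingCat.of Ω')).asIdeal ↔ _
    rw [show (default : Spec (CommRingCat.of Ω')).asIdeal = ⊥ from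
      ((Ideal.eq_bot_or_top _).resolve_right ((default : Spec (CommRingCat.of Ω')).2.ne_top))]
    rfl
  haveI : CompactSpace Q := inferInstanceAs (CompactSpace (PrimeSpectrum (Ω ⊗[K] Ω)))
  have hemp : Lᶜ ∩ ⋂ a, C a = ∅ := by
    refine Set.eq_empty_of_forall_notMem fun z hz => hz.1 ?_
    obtain ⟨Ω', _, _, τ, hτ⟩ := exists_geom_point z
    obtain ⟨χ, rfl⟩ : ∃ χ : Ω ⊗[K] Ω →+* Ω', Spec.map (CommRingCat.ofHom χ) = τ :=
      ⟨(Spec.preimage τ).hom, Spec.map_preimage τ⟩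
    haveI : IsSepClosed (separableClosure K Ω) := IsSepClosure.sep_closed K
    have hK : (χ.comp i₁).comp (algebraMap (separableClosure K Ω) Ω) =
        (χ.comp i₂).comp (algebraMap (separableClosure K Ω) Ω) := by
      ext a
      have hm := Set.mem_iInter.1 hz.2 ⟨(a : Ω), mem_separableClosure_iff.1 a.2⟩
      rw [← hτ] at hm
      have h0 := (hker χ _).1 (hm (Set.mem_singleton _))
      rw [map_sub, sub_eq_zero] at h0
      exact h0
    have hag := agree_of_eq_sepClosed f φ hφ ξ₀ s e φ₀ hη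
      ((algebraMap K (separableClosure K Ω)).comp j) (by rw [← hj]; rfl) (χ.comp i₁) (χ.comp i₂) hK
    rw [← hτ]
    refine locEq_of_germ _ (topPt _) ((hA s Ω' _ (hb Ω' _)).2 ?_) _ rfl
    have : ∀ (ω₁ ω₂ : Spec (CommRingCat.of Ω') ⟶ Spec (CommRingCat.of Ω))
        (_ : Spec.map (CommRingCat.ofHom (χ.comp i₁)) = ω₁) (_ : Spec.map (CommRingCat.ofHom (χ.comp i₂)) = ω₂),
        Agree f φ ξ₀ s ω₁ ω₂ := by
      rintro _ _ rfl rfl
      exact hag
    exact this _ _ ((congrArg Spec.map (CommRingCat.ofHom_comp i₁ χ)).trans (Spec.map_comp _ _))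
      ((congrArg Spec.map (CommRingCat.ofHom_comp i₂ χ)).trans (Spec.map_comp _ _)) (hb Ω' _)
  classical
  obtain ⟨t, ht⟩ := hL.isClosed_compl.isCompact.elim_finite_subfamily_closed C
    (fun a => PrimeSpectrum.isClosed_zeroLocus _) hemp
  refine ⟨t.map (Function.Embedding.subtype _), fun a ha => ?_, fun Ω' _ _ χ₁ χ₂ h₀ hF => ?_⟩
  · obtain ⟨b, -, rfl⟩ := Finset.mem_map.1 ha
    exact b.2
  · intro h
    letI : Algebra K Ω' := (χ₁.comp (algebraMap K Ω)).toAlgebra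
    let a₁ : Ω →ₐ[K] Ω' := { χ₁ with commutes' := fun _ => rfl }
    have hk : ∀ k : K, χ₂ (algebraMap K Ω k) = χ₁ (algebraMap K Ω k) := fun k => by
      obtain ⟨b, rfl⟩ := hjs k
      have := RingHom.congr_fun h₀ b
      rw [← hj] at this
      exact this.symm
    let a₂ : Ω →ₐ[K] Ω' := { χ₂ with commutes' := hk }
    let χ : Ω ⊗[K] Ω →+* Ω' := (Algebra.TensorProduct.productMap a₁ a₂).toRingHom
    let τ : Spec (CommRingCat.of Ω') ⟶ Q := Spec.map (CommRingCat.ofHom χ)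
    have hc₁ : χ.comp i₁ = χ₁ := RingHom.ext fun x =>
      (Algebra.TensorProduct.productMap_left_apply a₁ a₂ x).trans rfl
    have hc₂ : χ.comp i₂ = χ₂ := RingHom.ext fun x =>
      (Algebra.TensorProduct.productMap_right_apply a₁ a₂ x).trans rfl
    have hz : τ.base (default : Spec (CommRingCat.of Ω')) ∈ L := by
      by_contra hzL
      refine Set.notMem_empty (τ.base (default : Spec (CommRingCat.of Ω'))) (ht ▸ ⟨hzL, Set.mem_iInter₂.2 fun a ha => ?_⟩)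
      rintro x (rfl : x = _)
      refine (hker χ _).2 ?_
      rw [map_sub, sub_eq_zero]
      exact (RingHom.congr_fun hc₁ a.1).trans
        ((hF a.1 (Finset.mem_map.2 ⟨a, ha, rfl⟩)).trans (RingHom.congr_fun hc₂ a.1).symm)
    have e' := (hA s Ω' τ (hb Ω' τ)).1 (germ_eq_of_locEq' _ hz τ (topPt τ) rfl)
    have : ∀ (ω₁ ω₂ : Spec (CommRingCat.of Ω') ⟶ Spec (CommRingCat.of Ω)) (_ : τ ≫ σ₁ = ω₁) (_ : τ ≫ σ₂ = ω₂),
        Agree f φ ξ₀ s ω₁ ω₂ := by
      rintro _ _ rfl rfl h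
      exact e'
    exact this _ _ (by rw [← Spec.map_comp, ← CommRingCat.ofHom_comp, hc₁])
      (by rw [← Spec.map_comp, ← CommRingCat.ofHom_comp, hc₂]) h

omit [IsSepClosed Ω] in
include hj in
/-- An etale algebra whose image contains given separable elements. -/
theorem exists_etale_algebra (hjs : Function.Surjective j) [Algebra B Ω] (hB : algebraMap B Ω = φ₀)
    (F : Finset Ω) (hF : ∀ a ∈ F, IsSeparable K a) :
    ∃ (R : Type u) (_ : CommRing R) (_ : Algebra B R) (_ : Algebra.Etale B R) (χ : R →ₐ[B] Ω),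
      ∀ a ∈ F, a ∈ Set.range χ := by
  classical
  induction F using Finset.induction_on with
  | empty => exact ⟨B, inferInstance, inferInstance, inferInstance, Algebra.ofId B Ω, by simp⟩
  | @insert a F _ ih =>
    obtain ⟨R, _, _, _, χ, hχ⟩ := ih fun b hb => hF b (Finset.mem_insert_of_mem hb)
    have ha := hF a (Finset.mem_insert_self a F)
    have hint : IsIntegral K a := ha.isIntegral
    obtain ⟨P, hP, -, hPm⟩ := Polynomial.lifts_and_degree_eq_and_monic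
      ((Polynomial.lifts_iff_coeff_lifts _).2 fun n => hjs _) (minpoly.monic hint)
    let S : StandardEtalePair B := ⟨P, hPm, P.derivative, ⟨1, 0, 1, by simp⟩⟩
    have hev : ∀ Q : Polynomial B, Polynomial.aeval a Q = Polynomial.aeval a (Q.map j) := fun Q => by
      rw [Polynomial.aeval_def, Polynomial.aeval_def, Polynomial.eval₂_map, hB, hj]
    have hmap : S.HasMap a := by
      refine ⟨?_, ?_⟩
      · show Polynomial.aeval a P = 0
        rw [hev, hP, minpoly.aeval]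
      · show IsUnit (Polynomial.aeval a P.derivative)
        rw [hev, ← Polynomial.derivative_map, hP]
        exact Ne.isUnit (ha.aeval_derivative_ne_zero (minpoly.aeval K a))
    haveI : Algebra.Etale B (R ⊗[B] S.Ring) := Algebra.Etale.comp B R (R ⊗[B] S.Ring)
    refine ⟨R ⊗[B] S.Ring, inferInstance, inferInstance, inferInstance,
      Algebra.TensorProduct.productMap χ (S.lift a hmap), fun b hb => ?_⟩
    rcases Finset.mem_insert.1 hb with rfl | hb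
    · exact ⟨1 ⊗ₜ S.X, by simp⟩
    · obtain ⟨r, hr⟩ := hχ b hb
      exact ⟨r ⊗ₜ 1, by simp [hr]⟩

include hη hφ in
/-- The data over a one point base. -/
theorem locData_of_point [IsOpenImmersion e] [Subsingleton (PrimeSpectrum B)] [DiscreteTopology X]
    (c₀ : St F' ξ₀) : LocData f φ ξ₀ c₀ := by
  obtain ⟨c, hc⟩ := (stI ξ₀ (𝟙 _) F').surjective
    (Phi φ.hom (IsPullback.of_hasPullback f f) ξ₀ (𝟙 _ ≫ ξ₀) (by rw [Category.id_comp]) c₀)
  obtain ⟨s, rfl⟩ := (gtop_bijective _ (𝟙 (Spec (CommRingCat.of Ω)))).2 c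
  haveI : (RingHom.ker φ₀).IsPrime := RingHom.ker_isPrime φ₀
  haveI : (RingHom.ker φ₀).IsMaximal := by
    obtain ⟨M, hM, hle⟩ := Ideal.exists_le_maximal _ (Ideal.IsPrime.ne_top (inferInstance : (RingHom.ker φ₀).IsPrime))
    haveI := hM
    have : (⟨M, hM.isPrime⟩ : PrimeSpectrum B) = ⟨RingHom.ker φ₀, inferInstance⟩ := Subsingleton.elim _ _
    have e' : M = RingHom.ker φ₀ := congrArg PrimeSpectrum.asIdeal this
    exact e' ▸ hM
  letI : Field (B ⧸ RingHom.ker φ₀) := Ideal.Quotient.field _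
  let j : B →+* B ⧸ RingHom.ker φ₀ := Ideal.Quotient.mk _
  letI : Algebra (B ⧸ RingHom.ker φ₀) Ω := (Ideal.Quotient.lift (RingHom.ker φ₀) φ₀ fun _ h => h).toAlgebra
  letI : Algebra B Ω := φ₀.toAlgebra
  have hj : (algebraMap (B ⧸ RingHom.ker φ₀) Ω).comp j = φ₀ := RingHom.ext fun _ => rfl
  obtain ⟨F, hF, hag⟩ := exists_finset_agree f φ hφ ξ₀ s e φ₀ hη j hj Ideal.Quotient.mk_surjective
  obtain ⟨R, _, _, _, χ, hχ⟩ := exists_etale_algebra φ₀ j hj Ideal.Quotient.mk_surjective rfl F hF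
  let eR : Spec (CommRingCat.of R) ⟶ X := Spec.map (CommRingCat.ofHom (algebraMap B R)) ≫ e
  haveI : Etale (Spec.map (CommRingCat.ofHom (algebraMap B R))) := by
    rw [HasRingHomProperty.Spec_iff (P := @Etale), CommRingCat.hom_ofHom, RingHom.etale_algebraMap]
    infer_instance
  haveI : Etale eR := inferInstance
  let vR : Spec (CommRingCat.of Ω) ⟶ Spec (CommRingCat.of R) := Spec.map (CommRingCat.ofHom χ.toRingHom)
  let y := vR.base (default : Spec (CommRingCat.of Ω))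
  have hdisc : DiscreteTopology (Spec (CommRingCat.of R)) := by
    have := (Scheme.Hom.isDiscrete_preimage eR (s := Set.univ) (isDiscrete_univ_iff.2 inferInstance))
    rw [Set.preimage_univ] at this
    exact isDiscrete_univ_iff.1 this
  let N : (Spec (CommRingCat.of R)).Opens := ⟨{y}, isOpen_discrete _⟩
  haveI : Subsingleton N.toScheme := ⟨fun a b => Subtype.ext ((a.2 : _ = y).trans (b.2 : _ = y).symm)⟩
  have hr : Set.range vR.base ⊆ Set.range N.ι.base := by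
    rintro _ ⟨x, rfl⟩
    rw [Scheme.Opens.range_ι]
    exact (congrArg vR.base (Subsingleton.elim x default) : vR.base x = y)
  let q : Spec (CommRingCat.of Ω) ⟶ N.toScheme := IsOpenImmersion.lift N.ι vR hr
  have hq : q ≫ N.ι = vR := IsOpenImmersion.lift_fac _ _ _
  let V : X.Etale := MorphismProperty.Over.mk ⊤ (N.ι ≫ eR) (inferInstanceAs (Etale (N.ι ≫ eR)))
  have hqe : q ≫ N.ι ≫ eR = ξ₀ ≫ f := by
    rw [← Category.assoc, hq, ← Spec.map_comp_assoc, ← CommRingCat.ofHom_comp,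
      show χ.toRingHom.comp (algebraMap B R) = φ₀ from RingHom.ext χ.commutes, hη]
  refine ⟨V, CategoryTheory.Over.homMk q hqe, Spec (CommRingCat.of Ω), q, ξ₀, hqe.symm, s,
    ⟨fun z => ⟨default, (Subsingleton.elim _ _ : q.base default = (show N.toScheme from z))⟩⟩,
    universallyOpen_of_subsingleton q, fun Ω' _ _ ω₁ ω₂ hω h => ?_, 𝟙 _, Category.id_comp _,
    by rw [Category.id_comp], hc.symm⟩
  obtain ⟨χ₁, rfl⟩ : ∃ χ₁ : Ω →+* Ω', Spec.map (CommRingCat.ofHom χ₁) = ω₁ :=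
    ⟨(Spec.preimage ω₁).hom, Spec.map_preimage ω₁⟩
  obtain ⟨χ₂, rfl⟩ : ∃ χ₂ : Ω →+* Ω', Spec.map (CommRingCat.ofHom χ₂) = ω₂ :=
    ⟨(Spec.preimage ω₂).hom, Spec.map_preimage ω₂⟩
  have hR : χ₁.comp χ.toRingHom = χ₂.comp χ.toRingHom := by
    have e' := congrArg (· ≫ N.ι) hω
    simp only [Category.assoc, hq] at e'
    rw [← Spec.map_comp, ← Spec.map_comp] at e'
    exact congrArg CommRingCat.Hom.hom (Spec.map_injective e')
  refine hag Ω' χ₁ χ₂ ?_ (fun a ha => ?_) h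
  · rw [← show χ.toRingHom.comp (algebraMap B R) = φ₀ from RingHom.ext χ.commutes, ← RingHom.comp_assoc,
      ← RingHom.comp_assoc, hR]
  · obtain ⟨r, rfl⟩ := hχ a ha
    exact RingHom.congr_fun hR r

omit ξ₀ s in
include hφ in
/-- Effective descent over a discrete base. -/
theorem isEffective_of_discrete [DiscreteTopology X] : EtDesc.IsEffective f F' φ := by
  have hd : ∀ V : X.Etale, DiscreteTopology V.left := fun V => by
    haveI : Etale V.hom := V.prop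
    have := (Scheme.Hom.isDiscrete_preimage V.hom (s := Set.univ) (isDiscrete_univ_iff.2 (inferInstanceAs (DiscreteTopology X))))
    rw [Set.preimage_univ] at this
    exact isDiscrete_univ_iff.1 this
  refine isEffective_of_locData f φ hφ (fun V O _ => isOpen_discrete (α := V.left) _) fun Ω _ _ ξ₀ c₀ => ?_
  let x := (ξ₀ ≫ f).base (default : Spec (CommRingCat.of Ω))
  obtain ⟨D, hD, hxD, hsub⟩ := exists_isAffineOpen_mem_and_subset (X := X) (x := x)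
    (U := ⟨{x}, isOpen_discrete _⟩) rfl
  haveI : IsOpenImmersion hD.fromSpec := hD.isOpenImmersion_fromSpec
  haveI : Subsingleton (PrimeSpectrum Γ(X, D)) := ⟨fun a b => hD.fromSpec.isOpenEmbedding.injective (by
    have : ∀ z : Spec Γ(X, D), hD.fromSpec z = x := fun z =>
      hsub (hD.range_fromSpec.le (Set.mem_range_self z))
    exact (this a).trans (this b).symm)⟩
  have hr : Set.range (ξ₀ ≫ f).base ⊆ Set.range hD.fromSpec.base := by
    rintro _ ⟨z, rfl⟩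
    rw [hD.range_fromSpec, Subsingleton.elim z default]
    exact hxD
  let l := IsOpenImmersion.lift hD.fromSpec (ξ₀ ≫ f) hr
  exact locData_of_point f φ hφ ξ₀ hD.fromSpec (Spec.preimage l).hom
    (by rw [CommRingCat.ofHom_hom, Spec.map_preimage]; exact IsOpenImmersion.lift_fac _ _ _) c₀

end Groth.Agent.RGLib.DescRefine
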