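import Groth.Agent.ChowX.Main
import Groth.Agent.S7395
import Groth.Agent.S0590
import Groth.Agent.S0591
import Groth.Agent.S9190

/-!
# Chow's lemma for finite type morphisms over quasi-compact quasi-separated bases
-/

set_option autoImplicit false

universe u

open CategoryTheory CategoryTheory.Limits AlgebraicGeometry Opposite

namespace Groth.Agent.RGLib.ChowFT

set_option backward.isDefEq.respectTransparency.types false

theorem chow_finiteType {X S : Scheme.{u}} (f : X ⟶ S) [CompactSpace S] [QuasiSeparatedSpace S]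
    [IsSeparated f] [LocallyOfFiniteType f] [QuasiCompact f] :
    ∃ (n : ℕ) (X' : Scheme.{u}) (π : X' ⟶ X) (j : X' ⟶ CohB1.ProjSpaceOver n S),
      IsImmersion j ∧ j ≫ CohB1.ProjSpaceOver.toBase n S = π ≫ f ∧ IsProper π ∧ Surjective π := by
  obtain ⟨Y, g, k, hgs, hgfp, hgqc, hk, hkg⟩ := Groth.Agent.S7395.result f
  haveI := hgs
  haveI := hgfp
  haveI := hgqc
  haveI := hk
  obtain ⟨I, _, _, _, D, c, hc, hD, hft, ⟨e⟩⟩ := Groth.Agent.S0590.result S
  haveI hD' : ∀ (a b : Iᵒᵖ) (m : a ⟶ b), IsAffineHom (D.map m) := hD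
  haveI : ∀ a, CompactSpace (D.obj a) := fun a => (hft a).1
  haveI : IsNoetherianRing (ULift.{u} ℤ) := isNoetherianRing_of_ringEquiv ℤ ULift.ringEquiv.symm
  have hnoeth : ∀ a, IsLocallyNoetherian (D.obj a) := fun a =>
    haveI := (hft a).2
    LocallyOfFiniteType.isLocallyNoetherian (Limits.IsTerminal.from specULiftZIsTerminal (D.obj a))
  haveI : ∀ a, QuasiSeparatedSpace (D.obj a) := fun a => by
    haveI := hnoeth a
    infer_instance
  obtain ⟨i, Yi, gi, q, hfp, hqc, hqs, hY⟩ := Groth.Agent.S0591.result D c hc Y (g ≫ e.inv)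
  haveI := hfp
  haveI := hqc
  haveI := hqs
  haveI : CompactSpace Yi := QuasiCompact.compactSpace_of_compactSpace gi
  haveI : QuasiSeparatedSpace Yi := quasiSeparatedSpace_of_quasiSeparated gi
  have hY₀ : IsPullback (c.π.app i) (𝟙 c.pt) (𝟙 (D.obj i)) (c.π.app i) := IsPullback.id_vert _
  obtain ⟨i₁, m, Y₁, B₁, g₁, b₁, pB, pY, hB, hY₁, hs⟩ := Groth.Agent.S9190.result D c hc i gi (𝟙 _)
    (g ≫ e.inv) (𝟙 c.pt) (c.π.app i) q hY₀ hY
  haveI := hs
  have sq₁ : IsPullback pY (g₁ ≫ b₁) gi (D.map m) := by simpa using hY₁.paste_vert hB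
  haveI : IsIso b₁ := hB.isIso_snd_of_isIso
  haveI : IsSeparated (g₁ ≫ b₁) := inferInstance
  haveI : LocallyOfFinitePresentation (g₁ ≫ b₁) := MorphismProperty.of_isPullback sq₁ hfp
  haveI : QuasiCompact (g₁ ≫ b₁) := MorphismProperty.of_isPullback sq₁ hqc
  let σ : S ⟶ D.obj i₁ := e.inv ≫ c.π.app i₁
  have wi : q ≫ gi = (g ≫ σ) ≫ D.map m := by
    rw [hY.w]
    simp [σ]
  let q₁ : Y ⟶ Y₁ := sq₁.lift q (g ≫ σ) wi
  have sq₂ : IsPullback q₁ g (g₁ ≫ b₁) σ := by
    refine IsPullback.of_right ?_ (sq₁.lift_snd _ _ _) sq₁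
    rw [sq₁.lift_fst]
    refine IsPullback.of_iso hY (Iso.refl _) (Iso.refl _) e (Iso.refl _) (by simp) (by simp) (by simp) ?_
    simp [σ]
  haveI := hnoeth i₁
  haveI : IsLocallyNoetherian Y₁ := LocallyOfFiniteType.isLocallyNoetherian (g₁ ≫ b₁)
  haveI : CompactSpace Y₁ := QuasiCompact.compactSpace_of_compactSpace (g₁ ≫ b₁)
  haveI : AlgebraicGeometry.IsNoetherian Y₁ := ⟨⟩
  obtain ⟨n, Y', π₀, j₀, -, hj₀, -, hjr, hp, hsur, -⟩ :=
    ChowX.chow_dense (g₁ ≫ b₁) TopologicalSpace.NoetherianSpace.finite_irreducibleComponents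
  haveI := hj₀
  haveI := hp
  haveI := hsur
  let mP : CohB1.ProjSpaceOver n S ⟶ CohB1.ProjSpaceOver n (D.obj i₁) :=
    pullback.lift (pullback.fst _ _) (CohB1.ProjSpaceOver.toBase n S ≫ σ)
      (pullback.condition.trans ((congrArg (CohB1.ProjSpaceOver.toBase n S ≫ ·)
        (specULiftZIsTerminal.hom_ext _ (σ ≫ specULiftZIsTerminal.from (D.obj i₁)))).trans
          (Category.assoc _ _ _).symm))
  have sqP : IsPullback mP (CohB1.ProjSpaceOver.toBase n S) (CohB1.ProjSpaceOver.toBase n (D.obj i₁)) σ := by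
    refine IsPullback.of_right ?_ (pullback.lift_snd _ _ _) (IsPullback.of_hasPullback _ _)
    exact Eq.mpr (congrArg₂ (fun a b => IsPullback a (CohB1.ProjSpaceOver.toBase n S)
        (CohB1.ProjSpace.toSpec n (ULift.{u} ℤ)) b)
        (pullback.lift_fst (pullback.fst (CohB1.ProjSpace.toSpec n (ULift.{u} ℤ)) (specULiftZIsTerminal.from S)) _ _)
      (specULiftZIsTerminal.hom_ext (σ ≫ specULiftZIsTerminal.from (D.obj i₁)) (specULiftZIsTerminal.from S)))
      (IsPullback.of_hasPullback _ _)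
  have sqW : IsPullback (pullback.fst π₀ q₁) (pullback.snd π₀ q₁ ≫ g) (π₀ ≫ g₁ ≫ b₁) σ :=
    (IsPullback.of_hasPullback π₀ q₁).paste_vert sq₂
  rw [← hjr] at sqW
  let jW : pullback π₀ q₁ ⟶ CohB1.ProjSpaceOver n S :=
    sqP.lift (pullback.fst π₀ q₁ ≫ j₀) (pullback.snd π₀ q₁ ≫ g) ((Category.assoc _ _ _).trans sqW.w)
  have sqJ : IsPullback (pullback.fst π₀ q₁) jW j₀ mP := by
    refine IsPullback.of_bot ?_ (sqP.lift_fst _ _ _).symm sqP
    rw [sqP.lift_snd]
    exact sqW
  haveI : IsImmersion jW := MorphismProperty.of_isPullback sqJ hj₀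
  let π₁ := pullback.snd π₀ q₁
  haveI : IsProper π₁ := MorphismProperty.pullback_snd (P := @IsProper) _ _ inferInstance
  haveI : Surjective π₁ := MorphismProperty.pullback_snd (P := @Surjective) _ _ inferInstance
  haveI : IsClosedImmersion (pullback.fst π₁ k) := MorphismProperty.pullback_fst (P := @IsClosedImmersion) _ _ inferInstance
  refine ⟨n, pullback π₁ k, pullback.snd π₁ k, pullback.fst π₁ k ≫ jW, inferInstance, ?_,
    MorphismProperty.pullback_snd (P := @IsProper) _ _ inferInstance,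
    MorphismProperty.pullback_snd (P := @Surjective) _ _ inferInstance⟩
  rw [Category.assoc, sqP.lift_snd, ← hkg]
  exact ((Category.assoc _ _ _).symm.trans (congrArg (· ≫ g) pullback.condition)).trans (Category.assoc _ _ _)

end Groth.Agent.RGLib.ChowFT
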