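import Groth.Agent.AmpleX.BaseChange
import Groth.Agent.AmpleX.Comp
import Groth.Agent.InvX.GenLocusPull
import Groth.Agent.KFlatLib.Scheme.ExtZero
import Groth.Agent.ExistEasy.ChowNR.Basic

/-!
# Sections trivialised by a pullback; domination of two blow-ups
-/

set_option autoImplicit false
set_option linter.style.haveILetI false
set_option backward.isDefEq.respectTransparency false
set_option backward.isDefEq.respectTransparency.types false

universe u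

open CategoryTheory CategoryTheory.Limits AlgebraicGeometry TopologicalSpace

namespace Groth.Agent.RGLib.YBlow

open Groth.Agent

variable {Y Z : Scheme.{u}}

/-- A section invertible after pullback has generating locus containing the image. -/
theorem preimage_genLocus_eq_top (u : Y ⟶ Z) {M : Z.Modules} (ε : Coh.structureModule Z ⟶ M)
    (hM : PicF.IsInvertible M) (hiso : IsIso ((Scheme.Modules.pullback u).map ε)) :
    u ⁻¹ᵁ CohB1.genLocus M ε = ⊤ := by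
  obtain ⟨e⟩ := PicClLib.nonempty_pullback_structureModule u
  rw [← InvX.genLocus_pullback u hM ε e.symm]
  refine top_le_iff.1 (le_sSup ?_)
  show IsIso ((Scheme.Modules.restrictFunctor (⊤ : Y.Opens).ι).map (e.symm.hom ≫ (Scheme.Modules.pullback u).map ε))
  infer_instance

theorem isIso_of_restrict_cover {M N : Y.Modules} (φ : M ⟶ N) (h : ∀ y : Y, ∃ U : Y.Opens, y ∈ U ∧
    IsIso ((Scheme.Modules.restrictFunctor U.ι).map φ)) : IsIso φ := by
  refine KFlatLib.isIso_of_stalk _ fun y => ?_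
  obtain ⟨U, hy, hU⟩ := h y
  haveI := hU
  have hb := ConcreteCategory.bijective_of_isIso ((DerSch.stalkFunctor _ (⟨y, hy⟩ : (U : Scheme.{u}))).map
    ((Scheme.Modules.restrictFunctor U.ι).map φ))
  refine (ConcreteCategory.isIso_iff_bijective ((DerSch.stalkFunctor Y (U.ι.base ⟨y, hy⟩)).map φ)).2
    ⟨KFlatLib.injective_stalk_of_restrict U.ι _ ⟨y, hy⟩ hb.1,
      KFlatLib.surjective_stalk_of_restrict U.ι _ ⟨y, hy⟩ hb.2⟩

/-- A section is invertible after pullback once the image lies in its generating locus. -/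
theorem isIso_pullback_map (u : Y ⟶ Z) {M : Z.Modules} (σ : Coh.structureModule Z ⟶ M)
    (hM : PicF.IsInvertible M) (hσ : u ⁻¹ᵁ CohB1.genLocus M σ = ⊤) :
    IsIso ((Scheme.Modules.pullback u).map σ) := by
  obtain ⟨e⟩ := PicClLib.nonempty_pullback_structureModule u
  rw [← InvX.genLocus_pullback u hM σ e.symm] at hσ
  haveI := isIso_of_restrict_cover (e.symm.hom ≫ (Scheme.Modules.pullback u).map σ) fun y => by
    obtain ⟨U, hU, hy⟩ := Opens.mem_sSup.1 ((SetLike.ext_iff.1 hσ y).2 trivial)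
    exact ⟨U, hy, hU⟩
  exact IsIso.of_isIso_comp_left e.symm.hom _

/-- Ampleness relative to a morphism followed by an isomorphism. -/
theorem isRelAmple_comp_isIso {X S T : Scheme.{u}} (g : X ⟶ S) (q : S ⟶ T) [IsIso q] {L : X.Modules}
    (h : RelAmple.IsRelAmple g L) : RelAmple.IsRelAmple (g ≫ q) L := by
  haveI := h.1
  exact ⟨inferInstance, fun V => h.2 ⟨q ⁻¹ᵁ V.1, V.2.preimage q⟩⟩

/-- Two blow-ups are dominated by a third. -/
theorem exists_dominating {X Y X₁ X₂ : Scheme.{u}} (f : Y ⟶ X) [QuasiCompact f]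
    (f₁ : Y ⟶ X₁) (g₁ : X₁ ⟶ X) (f₂ : Y ⟶ X₂) (g₂ : X₂ ⟶ X) [IsProper g₁] [IsProper g₂]
    (hw₁ : f₁ ≫ g₁ = f) (hw₂ : f₂ ≫ g₂ = f)
    {L₁ : X₁.Modules} (ε₁ : Coh.structureModule X₁ ⟶ L₁) (hL₁ : RelAmple.IsRelAmple g₁ L₁)
    (hε₁ : IsIso ((Scheme.Modules.pullback f₁).map ε₁))
    {L₂ : X₂.Modules} (ε₂ : Coh.structureModule X₂ ⟶ L₂) (hL₂ : RelAmple.IsRelAmple g₂ L₂)
    (hε₂ : IsIso ((Scheme.Modules.pullback f₂).map ε₂)) :
    ∃ (X₃ : Scheme.{u}) (f₃ : Y ⟶ X₃) (g₃ : X₃ ⟶ X) (d₁ : X₃ ⟶ X₁) (d₂ : X₃ ⟶ X₂),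
      (IsSchemeTheoreticallyDominant f₃ ∧ IsProper g₃ ∧ f₃ ≫ g₃ = f ∧
        ∃ (L : X₃.Modules) (ε : Coh.structureModule X₃ ⟶ L),
          RelAmple.IsRelAmple g₃ L ∧ IsIso ((Scheme.Modules.pullback f₃).map ε)) ∧
      f₃ ≫ d₁ = f₁ ∧ d₁ ≫ g₁ = g₃ ∧ f₃ ≫ d₂ = f₂ ∧ d₂ ≫ g₂ = g₃ := by
  let p₁ := pullback.fst (g₁ ≫ 𝟙 X) (g₂ ≫ 𝟙 X)
  let p₂ := pullback.snd (g₁ ≫ 𝟙 X) (g₂ ≫ 𝟙 X)
  let φ := pullback.map (g₁ ≫ 𝟙 X) (g₂ ≫ 𝟙 X) (𝟙 X) (𝟙 X) g₁ g₂ (𝟙 X) (Category.comp_id _) (Category.comp_id _)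
  let q := pullback.fst (𝟙 X) (𝟙 X)
  let l : Y ⟶ pullback (g₁ ≫ 𝟙 X) (g₂ ≫ 𝟙 X) := pullback.lift f₁ f₂ (by rw [Category.comp_id, Category.comp_id, hw₁, hw₂])
  have hl₁ : l ≫ p₁ = f₁ := pullback.lift_fst _ _ _
  have hl₂ : l ≫ p₂ = f₂ := pullback.lift_snd _ _ _
  have hφ : φ ≫ q = p₁ ≫ g₁ := pullback.lift_fst _ _ _
  have hφ₂ : p₂ ≫ g₂ = p₁ ≫ g₁ := by
    have := pullback.condition (f := g₁ ≫ 𝟙 X) (g := g₂ ≫ 𝟙 X)
    rwa [Category.comp_id, Category.comp_id, eq_comm] at this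
  haveI : IsProper (g₂ ≫ 𝟙 X) := inferInstance
  haveI : IsProper p₁ := inferInstance
  haveI : IsProper (p₁ ≫ g₁) := inferInstance
  haveI : QuasiCompact l := by
    haveI : QuasiCompact (l ≫ p₁ ≫ g₁) := by rw [reassoc_of% hl₁, hw₁]; infer_instance
    exact QuasiCompact.of_comp l (p₁ ≫ g₁)
  let i := l.imageι
  let g₃ : l.image ⟶ X := i ≫ p₁ ≫ g₁
  have i₁ := AmpleX.isInvertible_of_isRelAmple hL₁
  have i₂ := AmpleX.isInvertible_of_isRelAmple hL₂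
  have iM := InvX.isInvertible_tensorMod (PicClLib.isInvertible_pullback p₁ i₁) (PicClLib.isInvertible_pullback p₂ i₂)
  have hM := AmpleX.isRelAmple_pullback_embedding φ i i.isEmbedding (AmpleX.isRelAmple_prod (𝟙 X) (𝟙 X) g₁ g₂ hL₁ hL₂)
  obtain ⟨e₁⟩ := PicClLib.nonempty_pullback_structureModule p₁
  obtain ⟨e₂⟩ := PicClLib.nonempty_pullback_structureModule p₂
  obtain ⟨e⟩ := PicClLib.nonempty_pullback_structureModule i
  let σ := InvX.mulHom (e₁.symm.hom ≫ (Scheme.Modules.pullback p₁).map ε₁) (e₂.symm.hom ≫ (Scheme.Modules.pullback p₂).map ε₂)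
  refine ⟨l.image, l.toImage, g₃, i ≫ p₁, i ≫ p₂, ⟨ExistEasy.ChowNR.isSTDom_toImage l, inferInstance, ?_,
    _, e.symm.hom ≫ (Scheme.Modules.pullback i).map σ, ?_, ?_⟩, ?_, ?_, ?_, ?_⟩
  · rw [show l.toImage ≫ g₃ = (l.toImage ≫ i) ≫ p₁ ≫ g₁ from (Category.assoc _ _ _).symm, l.toImage_imageι,
      reassoc_of% hl₁, hw₁]
  · have h := isRelAmple_comp_isIso (i ≫ φ) q hM
    rw [Category.assoc, hφ] at h
    exact h
  · refine isIso_pullback_map _ _ (PicClLib.isInvertible_pullback i iM) ?_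
    rw [InvX.genLocus_pullback i iM σ e.symm, InvX.genLocus_mulHom (PicClLib.isInvertible_pullback p₁ i₁)
        (PicClLib.isInvertible_pullback p₂ i₂), InvX.genLocus_pullback p₁ i₁ ε₁ e₁.symm,
      InvX.genLocus_pullback p₂ i₂ ε₂ e₂.symm, ← Scheme.Hom.comp_preimage, l.toImage_imageι,
      Scheme.Hom.preimage_inf, ← Scheme.Hom.comp_preimage, ← Scheme.Hom.comp_preimage, hl₁, hl₂,
      preimage_genLocus_eq_top f₁ ε₁ i₁ hε₁, preimage_genLocus_eq_top f₂ ε₂ i₂ hε₂, inf_top_eq]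
  · rw [← Category.assoc, l.toImage_imageι, hl₁]
  · rw [Category.assoc]
  · rw [← Category.assoc, l.toImage_imageι, hl₂]
  · rw [Category.assoc, hφ₂]

end Groth.Agent.RGLib.YBlow
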