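import Groth.Agent.RGLib.WeakTensor
import Groth.Prelude.Def_FlatCA

/-!
# Fibres of an algebra with geometrically integral fibres
-/

universe u

noncomputable section

open TensorProduct AlgebraicGeometry CategoryTheory Limits

set_option linter.style.haveILetI false

namespace Groth.Agent.RGLib

theorem isDomain_tensor_field {A B : Type u} [CommRing A] [CommRing B] [Algebra A B]
    (h : FlatCA.GeomIntegralFibres A B) (K : Type u) [Field K] [Algebra A K] : IsDomain (K ⊗[A] B) := by
  haveI := h
  let f := Spec.map (CommRingCat.ofHom (algebraMap A B))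
  let g := Spec.map (CommRingCat.ofHom (algebraMap A K))
  haveI hint : AlgebraicGeometry.IsIntegral (pullback f g) :=
    GeometricallyIntegral.geometrically_isIntegral g _ _ (IsPullback.of_hasPullback f g)
  let e := pullbackSpecIso A B K
  haveI : Nonempty (Spec (CommRingCat.of (B ⊗[A] K))) := ⟨e.hom (Nonempty.some inferInstance)⟩
  haveI := isIntegral_of_isOpenImmersion e.inv
  haveI : IsDomain (B ⊗[A] K) := (affine_isIntegral_iff (CommRingCat.of (B ⊗[A] K))).1 inferInstance
  exact (Algebra.TensorProduct.comm A K B).toRingEquiv.toMulEquiv.isDomain _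

end Groth.Agent.RGLib

end
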