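import Groth.Agent.RGLib.Consequences
import Groth.Agent.S0448

/-!
# Universal injectivity can be checked at maximal ideals
-/

universe u

noncomputable section

open TensorProduct IsLocalRing

set_option linter.style.haveILetI false

namespace Groth.Agent.RGLib

variable {A : Type u} [CommRing A] {P M : Type u} [AddCommGroup P] [Module A P] [AddCommGroup M] [Module A M]

/-- Universal injectivity is local at maximal ideals of the base. -/
theorem lTensor_injective_of_local (u : P →ₗ[A] M)
    (h : ∀ (m : Ideal A) [m.IsMaximal] (Q : Type u) [AddCommGroup Q] [Module (Localization.AtPrime m) Q],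
      Function.Injective ((u.baseChange (Localization.AtPrime m)).lTensor Q))
    (Q : Type u) [AddCommGroup Q] [Module A Q] : Function.Injective (u.lTensor Q) := by
  rw [injective_iff_map_eq_zero]
  intro z hz
  by_contra hne
  have hann : (Submodule.span A {z}).annihilator ≠ ⊤ := fun h => hne (by
    simpa using (Submodule.mem_annihilator_span_singleton z (1 : A)).1 (by rw [h]; trivial))
  obtain ⟨m, hm, hle⟩ := Ideal.exists_le_maximal _ hann
  let L := Localization.AtPrime m
  let e := TensorProduct.AlgebraTensorModule.distribBaseChange A L Q P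
  have h1 : (u.baseChange L).lTensor (L ⊗[A] Q) (e ((1 : L) ⊗ₜ z)) = 0 := by
    have hnat : ∀ w : Q ⊗[A] P, (u.baseChange L).lTensor (L ⊗[A] Q) (e ((1 : L) ⊗ₜ w)) =
        TensorProduct.AlgebraTensorModule.distribBaseChange A L Q M ((1 : L) ⊗ₜ (u.lTensor Q w)) := fun w => by
      induction w using TensorProduct.induction_on with
      | zero => simp only [tmul_zero, map_zero]
      | add a b ha hb => simp only [tmul_add, map_add, ha, hb]
      | tmul a b => rfl
    rw [hnat, hz, tmul_zero, map_zero]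
  have h2 : (1 : L) ⊗ₜ[A] z = 0 := e.injective ((h m (L ⊗[A] Q) (h1.trans (map_zero _).symm)).trans (map_zero _).symm)
  obtain ⟨⟨s, hs⟩, hsz⟩ := (IsLocalizedModule.eq_zero_iff m.primeCompl (TensorProduct.mk A L (Q ⊗[A] P) 1)).1 h2
  exact hs (hle ((Submodule.mem_annihilator_span_singleton z s).2 hsz))

/-- Reflection of `m • ⊤` passes to the localisation at a maximal ideal. -/
theorem baseChange_reflects (u : P →ₗ[A] M) (m : Ideal A) [m.IsMaximal]
    (h : Function.Injective (u.lTensor (A ⧸ m))) (x : Localization.AtPrime m ⊗[A] P)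
    (hx : u.baseChange (Localization.AtPrime m) x ∈
      maximalIdeal (Localization.AtPrime m) • (⊤ : Submodule (Localization.AtPrime m) (Localization.AtPrime m ⊗[A] M))) :
    x ∈ maximalIdeal (Localization.AtPrime m) • (⊤ : Submodule (Localization.AtPrime m) (Localization.AtPrime m ⊗[A] P)) := by
  let L := Localization.AtPrime m
  obtain ⟨⟨π, s⟩, hπ⟩ := IsLocalizedModule.surj m.primeCompl (TensorProduct.mk A L P 1) x
  change (s : A) • x = (1 : L) ⊗ₜ[A] π at hπ
  have hpred : ∀ w ∈ maximalIdeal L • (⊤ : Submodule L (L ⊗[A] M)),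
      ∃ t ∉ m, ∃ μ ∈ m • (⊤ : Submodule A M), t • w = (1 : L) ⊗ₜ[A] μ := by
    intro w hw
    refine Submodule.smul_induction_on hw (fun a ha v _ => ?_) fun v v' hv hv' => ?_
    · obtain ⟨⟨r, u'⟩, rfl⟩ := IsLocalization.mk'_surjective m.primeCompl a
      have hr : r ∈ m := (IsLocalization.AtPrime.mk'_mem_maximal_iff L m r u').1 ha
      obtain ⟨⟨μ, t⟩, hμ⟩ := IsLocalizedModule.surj m.primeCompl (TensorProduct.mk A L M 1) v
      change (t : A) • v = (1 : L) ⊗ₜ[A] μ at hμ
      refine ⟨u' * t, fun h => ((‹m.IsMaximal›).isPrime.mem_or_mem h).elim u'.2 t.2, r • μ,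
        Submodule.smul_mem_smul hr trivial, ?_⟩
      rw [mul_comm, mul_smul, ← algebraMap_smul L (u' : A), smul_smul, mul_comm, IsLocalization.mk'_spec,
        algebraMap_smul, smul_comm, hμ, tmul_smul]
    · obtain ⟨t₁, ht₁, μ₁, hμ₁, e₁⟩ := hv
      obtain ⟨t₂, ht₂, μ₂, hμ₂, e₂⟩ := hv'
      refine ⟨t₁ * t₂, fun h => ((‹m.IsMaximal›).isPrime.mem_or_mem h).elim ht₁ ht₂, t₂ • μ₁ + t₁ • μ₂,
        add_mem (Submodule.smul_mem _ _ hμ₁) (Submodule.smul_mem _ _ hμ₂), ?_⟩
      rw [smul_add, tmul_add, tmul_smul, tmul_smul, ← e₁, ← e₂, smul_smul, smul_smul, mul_comm t₁ t₂]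
  obtain ⟨t, ht, μ, hμ, hw⟩ := hpred _ hx
  have h0 : (1 : L) ⊗ₜ[A] (t • u π - (s : A) • μ) = 0 := by
    rw [tmul_sub, tmul_smul, tmul_smul, ← hw, sub_eq_zero, smul_comm]
    refine congrArg (t • ·) ?_
    rw [← LinearMap.map_smul_of_tower, hπ, LinearMap.baseChange_tmul]
  obtain ⟨⟨r, hr⟩, hr0⟩ := (IsLocalizedModule.eq_zero_iff m.primeCompl (TensorProduct.mk A L M 1)).1 h0
  have huπ : u ((r * t) • π) ∈ m • (⊤ : Submodule A M) := by
    rw [map_smul]
    have h2 : (r * t) • u π = (r * (s : A)) • μ := by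
      rw [Submonoid.smul_def, smul_sub, sub_eq_zero] at hr0
      rw [mul_smul, mul_smul]
      exact hr0
    rw [h2]
    exact Submodule.smul_mem _ _ hμ
  have hπm : (r * t) • π ∈ m • (⊤ : Submodule A P) := by
    have hq : u.lTensor (A ⧸ m) ((Ideal.Quotient.mk m 1) ⊗ₜ[A] ((r * t) • π)) = u.lTensor (A ⧸ m) 0 := by
      apply (TensorProduct.quotTensorEquivQuotSMul M m).injective
      rw [LinearMap.lTensor_tmul, map_zero, map_zero, TensorProduct.quotTensorEquivQuotSMul_mk_tmul, one_smul,
        Submodule.Quotient.mk_eq_zero]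
      exact huπ
    have h3 := congrArg (TensorProduct.quotTensorEquivQuotSMul P m) (h hq)
    rwa [map_zero, TensorProduct.quotTensorEquivQuotSMul_mk_tmul, one_smul, Submodule.Quotient.mk_eq_zero] at h3
  have hgm : ∀ γ ∈ m • (⊤ : Submodule A P), (1 : L) ⊗ₜ[A] γ ∈ maximalIdeal L • (⊤ : Submodule L (L ⊗[A] P)) := by
    intro γ hγ
    refine Submodule.smul_induction_on hγ (fun a ha v _ => ?_) fun a b ha hb => by rw [tmul_add]; exact add_mem ha hb
    rw [tmul_smul, ← algebraMap_smul L a]
    exact Submodule.smul_mem_smul ((IsLocalization.AtPrime.to_map_mem_maximal_iff L m a).2 ha) trivial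
  have h4 := hgm _ hπm
  rw [tmul_smul, ← hπ, smul_smul, ← algebraMap_smul L (r * t * (s : A))] at h4
  exact (Submodule.smul_mem_iff_of_isUnit _ (IsLocalization.map_units L
    (⟨r * t * s, mul_mem (mul_mem hr (show t ∈ m.primeCompl from ht)) s.2⟩ : m.primeCompl))).1 h4

/-- A map from a projective to a flat module, injective modulo all maximal ideals, is universally injective. -/
theorem lTensor_injective_of_projective [Module.Projective A P] [Module.Flat A M] (u : P →ₗ[A] M)
    (h : ∀ (m : Ideal A) [m.IsMaximal], Function.Injective (u.lTensor (A ⧸ m)))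
    (Q : Type u) [AddCommGroup Q] [Module A Q] : Function.Injective (u.lTensor Q) := by
  refine lTensor_injective_of_local u (fun m _ Q _ _ => ?_) Q
  refine (LinearMap.lTensor_inj_iff_rTensor_inj _ _).2 (Groth.Agent.S0448.result _ ?_ Q)
  exact lTensor_residue_injective _ (baseChange_reflects u m (h m))

end Groth.Agent.RGLib

end
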