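import Groth.Agent.RGLib.FreePiece
import Groth.Agent.RGLib.LocalGlobal
import Groth.Agent.FPDescent.Basic
import Groth.Prelude.Def_FlatCA

/-!
# Pure spreadouts after localisation at a point and killing a finitely generated ideal
-/

universe u

noncomputable section

open TensorProduct IsLocalRing

set_option linter.style.haveILetI false

namespace Groth.Agent.RGLib

/-- A finitely presented module over a localisation comes from a finitely presented module. -/
theorem exists_fp_model {B : Type u} [CommRing B] (T : Submonoid B) (N : Type u) [AddCommGroup N] [Module B N]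
    [Module (Localization T) N] [IsScalarTower B (Localization T) N] [Module.FinitePresentation (Localization T) N] :
    ∃ (N0 : Type u) (_ : AddCommGroup N0) (_ : Module B N0) (_ : Module.FinitePresentation B N0)
      (g0 : N0 →ₗ[B] N), IsLocalizedModule T g0 := by
  haveI := isLocalizedModule_id (M := N) T (Localization T)
  let e0 := IsLocalizedModule.iso T (LinearMap.id : N →ₗ[B] N)
  haveI : Module.FinitePresentation (Localization T) (LocalizedModule T N) :=
    Module.FinitePresentation.of_equiv (e0.symm.extendScalarsOfIsLocalization T (Localization T))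
  obtain ⟨n, K, φ, hK, hbij⟩ := FPDescent.exists_fp_descent T N
  let e1 : LocalizedModule T ((Fin n → B) ⧸ K) ≃ₗ[B] N :=
    (LinearEquiv.ofBijective ((LocalizedModule.map T φ).restrictScalars B) hbij).trans e0
  refine ⟨(Fin n → B) ⧸ K, inferInstance, inferInstance,
    Module.finitePresentation_of_surjective K.mkQ K.mkQ_surjective (by rwa [Submodule.ker_mkQ]),
    e1.toLinearMap ∘ₗ LocalizedModule.mkLinearMap T _, IsLocalizedModule.of_linearEquiv T _ e1⟩

section BaseChange

/-- Base change commutes with localisation. -/
theorem isBaseChange_localized {A B A1 B₁ L1 : Type u} [CommRing A] [CommRing B] [Algebra A B] [CommRing A1] [Algebra A A1]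
  [CommRing B₁] [Algebra B B₁] [Algebra A1 B₁] [Algebra A B₁] [IsScalarTower A B B₁] [IsScalarTower A A1 B₁]
  [Algebra.IsPushout A B A1 B₁] (T : Submonoid B)
  [CommRing L1] [Algebra B₁ L1] [IsLocalization (T.map (algebraMap B B₁)) L1]
  [Algebra B L1] [IsScalarTower B B₁ L1] [Algebra A1 L1] [IsScalarTower A1 B₁ L1] [Algebra A L1] [IsScalarTower A A1 L1]
  [IsScalarTower A B L1]
  {N0 N : Type u} [AddCommGroup N0] [Module B N0] [Module A N0] [IsScalarTower A B N0]
  [AddCommGroup N] [Module B N] [Module A N] [IsScalarTower A B N]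
    (lN : N0 →ₗ[B] N) [IsLocalizedModule T lN] (ψ : N →ₗ[B] L1 ⊗[B] N0)
    (hψ : ∀ n, ψ (lN n) = (1 : L1) ⊗ₜ n) :
    IsBaseChange A1 (ψ.restrictScalars A) := by
  haveI : Algebra.IsPushout A A1 B B₁ := Algebra.IsPushout.symm inferInstance
  haveI : IsLocalization (Algebra.algebraMapSubmonoid B₁ T) L1 :=
    inferInstanceAs (IsLocalization (T.map (algebraMap B B₁)) L1)
  haveI : SMulCommClass B A1 L1 := ⟨fun b a l => by
    rw [← algebraMap_smul L1 b, ← algebraMap_smul L1 a, ← algebraMap_smul L1 a, ← algebraMap_smul L1 b, smul_comm]⟩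
  haveI : SMulCommClass B A1 B₁ := ⟨fun b a l => by
    rw [← algebraMap_smul B₁ b, ← algebraMap_smul B₁ a, ← algebraMap_smul B₁ a, ← algebraMap_smul B₁ b, smul_comm]⟩
  let E := Algebra.IsPushout.cancelBaseChange A A1 B B₁ N0
  let m : N0 ⊗[A] A1 →ₗ[B] B₁ ⊗[B] N0 :=
    AlgebraTensorModule.lift
      { toFun := fun n => (LinearMap.toSpanSingleton A1 (B₁ ⊗[B] N0) ((1 : B₁) ⊗ₜ n)).restrictScalars A
        map_add' := fun x y => by
          ext a
          simp [tmul_add]
        map_smul' := fun b x => by
          ext a
          simp [smul_comm b a] }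
  have hm : ∀ w, m w = E.symm (TensorProduct.comm A N0 A1 w) := by
    intro w
    induction w using TensorProduct.induction_on with
    | zero => rw [map_zero, map_zero, map_zero]
    | add x y hx hy => rw [map_add, map_add, map_add, hx, hy]
    | tmul n a =>
      show a • ((1 : B₁) ⊗ₜ[B] n) = E.symm (a ⊗ₜ n)
      rw [Algebra.IsPushout.cancelBaseChange_symm_tmul, smul_tmul', Algebra.smul_def, mul_one]
  have hmb : Function.Bijective m := by
    rw [show ⇑m = E.symm ∘ TensorProduct.comm A N0 A1 from funext hm]
    exact E.symm.bijective.comp (TensorProduct.comm A N0 A1).bijective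
  let ιB := AlgebraTensorModule.rTensor B N0 (IsScalarTower.toAlgHom B B₁ L1).toLinearMap
  haveI h1 : IsLocalizedModule T (ιB ∘ₗ (LinearEquiv.ofBijective m hmb).toLinearMap) :=
    IsLocalizedModule.of_linearEquiv_right T ιB _
  let Φ : N ⊗[A] A1 →ₗ[B] L1 ⊗[B] N0 :=
    AlgebraTensorModule.lift
      { toFun := fun x => (LinearMap.toSpanSingleton A1 (L1 ⊗[B] N0) (ψ x)).restrictScalars A
        map_add' := fun x y => by
          ext a
          simp
        map_smul' := fun b x => by
          ext a
          simp [smul_comm b a] }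
  let lN' := AlgebraTensorModule.rTensor A A1 lN
  have hΦ : Φ = (IsLocalizedModule.linearEquiv T lN' (ιB ∘ₗ (LinearEquiv.ofBijective m hmb).toLinearMap)).toLinearMap := by
    refine IsLocalizedModule.linearMap_ext T lN' (ιB ∘ₗ (LinearEquiv.ofBijective m hmb).toLinearMap) ?_
    refine LinearMap.ext fun w => ?_
    rw [LinearMap.comp_apply, LinearMap.comp_apply, LinearEquiv.coe_coe, IsLocalizedModule.linearEquiv_apply]
    induction w using TensorProduct.induction_on with
    | zero => simp only [map_zero]
    | add x y hx hy => simp only [map_add, hx, hy]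
    | tmul n a =>
      show a • ψ (lN n) = ιB (m (n ⊗ₜ a))
      rw [hm, hψ]
      show _ = ιB (E.symm (a ⊗ₜ n))
      rw [Algebra.IsPushout.cancelBaseChange_symm_tmul, smul_tmul', Algebra.smul_def, mul_one,
        IsScalarTower.algebraMap_apply A1 B₁ L1]
      rfl
  let Φ0 : A1 ⊗[A] N →ₗ[A1] L1 ⊗[B] N0 := (ψ.restrictScalars A).liftBaseChange A1
  have hΦ0 : ∀ w, Φ0 w = Φ (TensorProduct.comm A A1 N w) := by
    intro w
    induction w using TensorProduct.induction_on with
    | zero => rw [map_zero, map_zero, map_zero]
    | add x y hx hy => rw [map_add, map_add, map_add, hx, hy]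
    | tmul a n => rfl
  have hb : Function.Bijective Φ0 := by
    rw [show ⇑Φ0 = Φ ∘ TensorProduct.comm A A1 N from funext hΦ0, hΦ]
    exact (LinearEquiv.bijective _).comp (TensorProduct.comm A A1 N).bijective
  exact IsBaseChange.of_equiv (LinearEquiv.ofBijective Φ0 hb) fun x => LinearMap.liftBaseChange_one_tmul _ _ _

end BaseChange

section UnivInj

variable {A A1 : Type u} [CommRing A] [CommRing A1] [Algebra A A1]
  {G N : Type u} [AddCommGroup G] [Module A G] [AddCommGroup N] [Module A N]

/-- Tensoring a base change. -/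
theorem lTensor_baseChange_iff (u : G →ₗ[A] N) (X : Type u) [AddCommGroup X] [Module A1 X] [Module A X]
    [IsScalarTower A A1 X] :
    Function.Injective ((u.baseChange A1).lTensor X) ↔ Function.Injective (u.lTensor X) := by
  let eG := AlgebraTensorModule.cancelBaseChange A A1 A1 X G
  let eN := AlgebraTensorModule.cancelBaseChange A A1 A1 X N
  have h : ∀ w, eN ((u.baseChange A1).lTensor X w) = u.lTensor X (eG w) := by
    intro w
    induction w using TensorProduct.induction_on with
    | zero => simp only [map_zero]
    | add x y hx hy => simp only [map_add, hx, hy]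
    | tmul x v =>
      induction v using TensorProduct.induction_on with
      | zero => simp only [tmul_zero, map_zero]
      | add v v' hv hv' => simp only [tmul_add, map_add, hv, hv']
      | tmul a g =>
        simp only [eG, eN, LinearMap.lTensor_tmul, LinearMap.baseChange_tmul,
          AlgebraTensorModule.cancelBaseChange_tmul]
  rw [← eN.injective.of_comp_iff, show eN ∘ (u.baseChange A1).lTensor X = u.lTensor X ∘ eG from funext h]
  exact Function.Injective.of_comp_iff' _ eG.bijective

variable {B : Type u} [CommRing B] [Algebra A B] [Module B G] [IsScalarTower A B G] [Module B N] [IsScalarTower A B N]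

/-- A localisation at elements acting universally injectively is universally injective. -/
theorem lTensor_baseChange_injective_of_localized (T : Submonoid B) (gG : G →ₗ[B] N) [IsLocalizedModule T gG]
    (h : ∀ t ∈ T, ∀ (X : Type u) [AddCommGroup X] [Module A1 X],
      Function.Injective ((((LinearMap.lsmul B G t).restrictScalars A).baseChange A1).rTensor X))
    (X : Type u) [AddCommGroup X] [Module A1 X] :
    Function.Injective (((gG.restrictScalars A).baseChange A1).lTensor X) := by
  let : Module A X := Module.compHom X (algebraMap A A1)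
  haveI : IsScalarTower A A1 X := IsScalarTower.of_algebraMap_smul fun _ _ => rfl
  rw [lTensor_baseChange_iff, LinearMap.lTensor_inj_iff_rTensor_inj, injective_iff_map_eq_zero]
  intro w hw
  obtain ⟨t, ht⟩ := (IsLocalizedModule.eq_zero_iff T (AlgebraTensorModule.rTensor A X gG) (m := w)).1 hw
  have hsm : ∀ v : G ⊗[A] X, ((LinearMap.lsmul B G t).restrictScalars A).rTensor X v = (t : B) • v := by
    intro v
    induction v using TensorProduct.induction_on with
    | zero => simp
    | add x y hx hy => rw [map_add, smul_add, hx, hy]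
    | tmul a b => rfl
  have hinj := h t t.2 X
  rw [← LinearMap.lTensor_inj_iff_rTensor_inj, lTensor_baseChange_iff, LinearMap.lTensor_inj_iff_rTensor_inj] at hinj
  exact hinj ((hsm w).trans (ht.trans (map_zero _).symm))

end UnivInj

section Main

/-- A free piece all of whose denominators act universally injectively is a pure spreadout. -/
theorem hasPureSpreadout_of_free {A B A1 B₁ : Type u} [CommRing A] [CommRing B] [Algebra A B] [CommRing A1] [Algebra A A1]
    [CommRing B₁] [Algebra B B₁] [Algebra A1 B₁] [Algebra A B₁] [IsScalarTower A B B₁] [IsScalarTower A A1 B₁]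
    [Algebra.IsPushout A B A1 B₁] (T : Submonoid B)
    {N0 N : Type u} [AddCommGroup N0] [Module B N0] [Module A N0] [IsScalarTower A B N0] [Module.FinitePresentation B N0]
    [AddCommGroup N] [Module B N] [Module A N] [IsScalarTower A B N] (g0 : N0 →ₗ[B] N) [IsLocalizedModule T g0]
    (g1 : B) (hg1 : g1 ∈ T)
    [Module.Free A1 (A1 ⊗[A] LocalizedModule (Submonoid.powers g1) N0)]
    (hinj : ∀ t ∈ T, ∀ (X : Type u) [AddCommGroup X] [Module A1 X], Function.Injective
      ((((LinearMap.lsmul B (LocalizedModule (Submonoid.powers g1) N0) t).restrictScalars A).baseChange A1).rTensor X))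
    (N₁ : Type u) [AddCommGroup N₁] [Module (Localization (T.map (algebraMap B B₁))) N₁] [Module A1 N₁]
    [IsScalarTower A1 (Localization (T.map (algebraMap B B₁))) N₁]
    [Module B N₁] [IsScalarTower B (Localization (T.map (algebraMap B B₁))) N₁]
    [Module A N₁] [IsScalarTower A A1 N₁] [IsScalarTower A B N₁]
    (h : N →ₗ[B] N₁) (hbc : IsBaseChange A1 (h.restrictScalars A)) :
    FlatCA.HasPureSpreadout A1 B₁ (T.map (algebraMap B B₁)) N₁ := by
  let T₁ := T.map (algebraMap B B₁)
  let L1 := Localization T₁
  let c := algebraMap B B₁ g1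
  let C := Localization.Away c
  have hc : c ∈ T₁ := Submonoid.mem_map_of_mem _ hg1
  let : Algebra C L1 := (IsLocalization.Away.lift c (g := algebraMap B₁ L1) (IsLocalization.map_units L1 ⟨c, hc⟩)).toAlgebra
  haveI : IsScalarTower B₁ C L1 := IsScalarTower.of_algebraMap_eq fun x => (IsLocalization.Away.lift_eq c _ x).symm
  haveI : IsScalarTower B C L1 := IsScalarTower.of_algebraMap_eq fun x => by
    rw [IsScalarTower.algebraMap_apply B B₁ L1, IsScalarTower.algebraMap_apply B₁ C L1, ← IsScalarTower.algebraMap_apply B B₁ C]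
  haveI : IsScalarTower A1 C L1 := IsScalarTower.of_algebraMap_eq fun x => by
    rw [IsScalarTower.algebraMap_apply A1 B₁ L1, IsScalarTower.algebraMap_apply B₁ C L1, ← IsScalarTower.algebraMap_apply A1 B₁ C]
  let : Module C N₁ := Module.compHom N₁ (algebraMap C L1)
  haveI : IsScalarTower C L1 N₁ := IsScalarTower.of_algebraMap_smul fun _ _ => rfl
  haveI : IsScalarTower B C N₁ := IsScalarTower.of_algebraMap_smul fun b x => by
    show algebraMap C L1 (algebraMap B C b) • x = b • x
    rw [← IsScalarTower.algebraMap_apply, algebraMap_smul]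
  haveI : IsScalarTower A1 C N₁ := IsScalarTower.of_algebraMap_smul fun b x => by
    show algebraMap C L1 (algebraMap A1 C b) • x = b • x
    rw [← IsScalarTower.algebraMap_apply, algebraMap_smul]
  haveI : IsLocalization ((Submonoid.powers g1).map (algebraMap B B₁)) C := by
    rw [Submonoid.map_powers]
    exact inferInstanceAs (IsLocalization (Submonoid.powers c) C)
  haveI : IsLocalization (T.map (algebraMap B B₁)) L1 := inferInstanceAs (IsLocalization T₁ L1)
  -- units
  have hu : ∀ t : T, IsUnit (algebraMap B L1 t) := fun t => by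
    rw [IsScalarTower.algebraMap_apply B B₁ L1]
    exact IsLocalization.map_units L1 ⟨_, Submonoid.mem_map_of_mem _ t.2⟩
  have huN : ∀ t : T, IsUnit (algebraMap B (Module.End B N₁) t) := fun t => by
    rw [← (Algebra.lsmul B (A := L1) B N₁).commutes]
    exact (hu t).map _
  have huP : ∀ t : T, IsUnit (algebraMap B (Module.End B (L1 ⊗[B] N0)) t) := fun t => by
    rw [← (Algebra.lsmul B (A := L1) B (L1 ⊗[B] N0)).commutes]
    exact (hu t).map _
  have huC : ∀ t : Submonoid.powers g1, IsUnit (algebraMap B (Module.End B (C ⊗[B] N0)) t) := fun t => by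
    rw [← (Algebra.lsmul B (A := C) B (C ⊗[B] N0)).commutes, IsScalarTower.algebraMap_apply B B₁ C]
    exact (IsLocalization.map_units (M := (Submonoid.powers g1).map (algebraMap B B₁)) C
      ⟨_, Submonoid.mem_map_of_mem _ t.2⟩).map _
  -- the localised target
  let ψ : N →ₗ[B] L1 ⊗[B] N0 := IsLocalizedModule.lift T g0 (TensorProduct.mk B L1 N0 1) huP
  have hψ : ∀ n, ψ (g0 n) = (1 : L1) ⊗ₜ n := fun n => IsLocalizedModule.lift_apply T g0 _ huP n
  have hψbc : IsBaseChange A1 (ψ.restrictScalars A) := isBaseChange_localized (B₁ := B₁) T g0 ψ hψ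
  let φ : L1 ⊗[B] N0 →ₗ[L1] N₁ := (h ∘ₗ g0).liftBaseChange L1
  have hφψ : ∀ x, φ (ψ x) = h x := fun x => by
    refine LinearMap.congr_fun (IsLocalizedModule.ext T g0 huN (j := φ.restrictScalars B ∘ₗ ψ) (k := h) ?_) x
    refine LinearMap.ext fun n => ?_
    show φ (ψ (g0 n)) = h (g0 n)
    rw [hψ, LinearMap.liftBaseChange_one_tmul]
    rfl
  have hφ : Function.Bijective φ := by
    have h1 : ∀ y, φ (hψbc.equiv y) = hbc.equiv y := by
      intro y
      induction y using TensorProduct.induction_on with
      | zero => simp only [map_zero]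
      | add x y hx hy => simp only [map_add, hx, hy]
      | tmul a x =>
        rw [IsBaseChange.equiv_tmul, IsBaseChange.equiv_tmul, LinearMap.map_smul_of_tower]
        exact congrArg (a • ·) (hφψ x)
    have h2 : ⇑φ = hbc.equiv ∘ hψbc.equiv.symm := funext fun y => by
      rw [Function.comp_apply, ← h1, LinearEquiv.apply_symm_apply]
    rw [h2]
    exact hbc.equiv.bijective.comp hψbc.equiv.symm.bijective
  -- the free piece
  let G := LocalizedModule (Submonoid.powers g1) N0
  let lG := LocalizedModule.mkLinearMap (Submonoid.powers g1) N0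
  let jG : G →ₗ[B] C ⊗[B] N0 := IsLocalizedModule.lift (Submonoid.powers g1) lG (TensorProduct.mk B C N0 1) huC
  have hjG : ∀ n, jG (lG n) = (1 : C) ⊗ₜ n := fun n => IsLocalizedModule.lift_apply (Submonoid.powers g1) lG _ huC n
  have hjbc : IsBaseChange A1 (jG.restrictScalars A) :=
    isBaseChange_localized (B₁ := B₁) (Submonoid.powers g1) lG jG hjG
  have hle : Submonoid.powers g1 ≤ T := Submonoid.powers_le.2 hg1
  let gG : G →ₗ[B] N := IsLocalizedModule.liftOfLE (Submonoid.powers g1) T hle lG g0
  let g : C ⊗[B] N0 →ₗ[C] N₁ := (h ∘ₗ g0).liftBaseChange C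
  have hgj : ∀ γ, g (jG γ) = h (gG γ) := fun γ => by
    refine LinearMap.congr_fun (IsLocalizedModule.ext (Submonoid.powers g1) lG (fun t => huN ⟨t, hle t.2⟩)
      (j := g.restrictScalars B ∘ₗ jG) (k := h ∘ₗ gG) ?_) γ
    refine LinearMap.ext fun n => ?_
    show g (jG (lG n)) = h (gG (lG n))
    rw [hjG, LinearMap.liftBaseChange_one_tmul, IsLocalizedModule.liftOfLE_apply]
    rfl
  refine ⟨C, inferInstance, inferInstance, inferInstance, inferInstance, inferInstance, inferInstance, inferInstance,
    inferInstance, inferInstance, inferInstance, C ⊗[B] N0, inferInstance, inferInstance, inferInstance, inferInstance,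
    g, AlgebraicGeometry.IsOpenImmersion.of_isLocalization c, inferInstance, ?_, ?_, ?_⟩
  · refine IsBaseChange.of_comp (TensorProduct.isBaseChange B N0 C) ?_
    refine IsBaseChange.of_equiv (LinearEquiv.ofBijective φ hφ) fun n => ?_
    show φ ((1 : L1) ⊗ₜ n) = g ((1 : C) ⊗ₜ n)
    rw [LinearMap.liftBaseChange_one_tmul, LinearMap.liftBaseChange_one_tmul]
  · exact Module.Projective.of_equiv hjbc.equiv
  · intro X _ _
    haveI : IsLocalizedModule T gG := inferInstanceAs (IsLocalizedModule T (IsLocalizedModule.liftOfLE _ _ hle lG g0))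
    have hI := lTensor_baseChange_injective_of_localized T gG hinj X
    have h1 : ∀ w, g (hjbc.equiv w) = hbc.equiv ((gG.restrictScalars A).baseChange A1 w) := by
      intro w
      induction w using TensorProduct.induction_on with
      | zero => simp only [map_zero]
      | add x y hx hy => simp only [map_add, hx, hy]
      | tmul a γ =>
        rw [IsBaseChange.equiv_tmul, LinearMap.baseChange_tmul, IsBaseChange.equiv_tmul, LinearMap.map_smul_of_tower]
        exact congrArg (a • ·) (hgj γ)
    have h2 : g.restrictScalars A1 =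
        hbc.equiv.toLinearMap ∘ₗ (gG.restrictScalars A).baseChange A1 ∘ₗ hjbc.equiv.symm.toLinearMap :=
      LinearMap.ext fun y => by
        simp only [LinearMap.comp_apply, LinearEquiv.coe_coe, LinearMap.coe_restrictScalars]
        rw [← h1, LinearEquiv.apply_symm_apply]
    rw [h2, LinearMap.lTensor_comp, LinearMap.lTensor_comp]
    exact ((hbc.equiv.lTensor X).injective.comp hI).comp (hjbc.equiv.symm.lTensor X).injective

end Main

section Fibres

theorem isLocalRing_locQuot {A : Type u} [CommRing A] (p : Ideal A) [p.IsPrime] (P : Ideal A) (hP : P ≤ p) :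
    IsLocalRing (LocQuot p P) := by
  let I := P.map (algebraMap A (Localization.AtPrime p))
  have hI : I ≤ maximalIdeal (Localization.AtPrime p) :=
    (Ideal.map_mono hP).trans (Localization.AtPrime.map_eq_maximalIdeal (I := p)).le
  haveI : Nontrivial (LocQuot p P) :=
    Ideal.Quotient.nontrivial_iff.2 fun e => (maximalIdeal.isMaximal _).ne_top (top_le_iff.1 (e.ge.trans hI))
  exact IsLocalRing.of_surjective' (Ideal.Quotient.mk I) Ideal.Quotient.mk_surjective

/-- A free piece on which all denominators act universally injectively. -/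
theorem exists_free_localized {A B : Type u} [CommRing A] [CommRing B] [Algebra A B] [Algebra.FinitePresentation A B]
    (T : Submonoid B) (N0 : Type u) [AddCommGroup N0] [Module B N0] [Module A N0] [IsScalarTower A B N0]
    [Module.FinitePresentation B N0] (p : Ideal A) [p.IsPrime] :
    ∃ g1 ∈ T, ∃ P : Ideal A, P.FG ∧ P ≤ p ∧
      Module.Free (LocQuot p P) (LocQuot p P ⊗[A] LocalizedModule (Submonoid.powers g1) N0) ∧
      ∀ t ∈ T, ∀ (X : Type u) [AddCommGroup X] [Module (LocQuot p P) X], Function.Injective
        ((((LinearMap.lsmul B (LocalizedModule (Submonoid.powers g1) N0) t).restrictScalars A).baseChange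
          (LocQuot p P)).rTensor X) := by
  classical
  let W := {q' // q' ∈ fibreAss p B N0 ∧ ∃ t ∈ T, t ∈ q'}
  haveI : Fintype W := ((fibreAss_finite N0 p).subset fun _ h => h.1).fintype
  choose c hcT hcq using fun i : W => i.2.2
  let g1 := ∏ i, c i
  have hg1 : g1 ∈ T := prod_mem fun i _ => hcT i
  let G := LocalizedModule (Submonoid.powers g1) N0
  let Sg := Localization.Away g1
  haveI : Algebra.FinitePresentation A Sg :=
    haveI : Algebra.FinitePresentation B Sg := IsLocalization.Away.finitePresentation g1
    Algebra.FinitePresentation.trans A B Sg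
  haveI : IsScalarTower A Sg G := IsScalarTower.of_algebraMap_smul fun r x => by
    rw [IsScalarTower.algebraMap_apply A B Sg, algebraMap_smul, algebraMap_smul]
  obtain ⟨P, f, hPfg, hPp, hf, hfree⟩ := FlatSyz5.exists_free_piece (R := A) (S := Sg) G p ‹_›
  haveI := isLocalRing_locQuot p P hPp
  haveI hF : Module.Free (LocQuot p P) (LocQuot p P ⊗[A] G) :=
    hfree (LocQuot p P) (fun x hx => Ideal.Quotient.eq_zero_iff_mem.2 (Ideal.mem_map_of_mem _ hx))
      (isUnit_algebraMap_locQuot p P hf)
  refine ⟨g1, hg1, P, hPfg, hPp, hF, fun t ht X _ _ => ?_⟩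
  refine rTensor_lsmul_injective p P hPp G _ (fun γ s₀ hs₀ hst => ?_) X
  refine reflect_localized_of_notMem p g1 t (fun q' hq' hgq htq => hgq ?_) γ s₀ hs₀ hst
  haveI hq'p : q'.IsPrime := by
    obtain ⟨P₁, hP₁, rfl⟩ := hq'
    haveI : P₁.IsPrime := IsAssociatedPrime.isPrime hP₁
    exact Ideal.IsPrime.comap _
  exact Ideal.prod_mem _ (Finset.mem_univ (⟨q', hq', t, ht, htq⟩ : W)) (hcq ⟨q', hq', t, ht, htq⟩)

/-- Injectivity in all fibres gives universal injectivity out of a flat localised finitely presented module. -/
theorem lTensor_injective_of_fibres {A B : Type u} [CommRing A] [CommRing B] [Algebra A B]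
    [Algebra.FinitePresentation A B] (T : Submonoid B) {N : Type u} [AddCommGroup N] [Module B N] [Module A N]
    [IsScalarTower A B N] [Module (Localization T) N] [IsScalarTower B (Localization T) N]
    [Module.FinitePresentation (Localization T) N] [Module.Flat A N]
    {M : Type u} [AddCommGroup M] [Module A M] [Module.Flat A M] (u : N →ₗ[A] M)
    (h : ∀ (p : Ideal A) [p.IsPrime], Function.Injective (u.lTensor p.ResidueField))
    (Q : Type u) [AddCommGroup Q] [Module A Q] : Function.Injective (u.lTensor Q) := by
  classical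
  obtain ⟨N0, _, _, _, g0, _⟩ := exists_fp_model T N
  let : Module A N0 := Module.compHom N0 (algebraMap A B)
  haveI : IsScalarTower A B N0 := IsScalarTower.of_algebraMap_smul fun _ _ => rfl
  rw [LinearMap.lTensor_inj_iff_rTensor_inj, injective_iff_map_eq_zero]
  intro z hz
  by_contra hne
  -- a prime minimal over the annihilator
  have hann : (Submodule.span A {z}).annihilator ≠ ⊤ := fun e => hne (by
    have := (Submodule.mem_annihilator_span_singleton z 1).1 (e ▸ Submodule.mem_top)
    rwa [one_smul] at this)
  obtain ⟨p, hp⟩ := Ideal.nonempty_minimalPrimes hann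
  haveI := hp.1.1
  obtain ⟨g1, hg1, P, hPfg, hPp, hF, hinj⟩ := exists_free_localized T N0 p
  haveI := isLocalRing_locQuot p P hPp
  haveI := hF
  -- make `z` killed by `P`
  obtain ⟨c, hc1, hc2⟩ := exists_killed_by_fg p P hPfg hPp z
    (fun s hs => WeakAss.smul_ne_zero_of_notMem hp.1.2 hs) (fun a ha => by
      obtain ⟨s, hs, k, hk⟩ := WeakAss.exists_mul_pow_mem hp ha
      exact ⟨s, hs, k, WeakAss.mem_annEl.1 hk⟩)
  -- the part of `Q` killed by `P`
  obtain ⟨S', hS'⟩ := id hPfg
  let f' : Q →ₗ[A] (S' → Q) := LinearMap.pi fun b => LinearMap.lsmul A Q (b : A)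
  let K := LinearMap.ker f'
  have hK : ∀ a ∈ P, ∀ m : K, a • m = 0 := by
    intro a ha m
    rw [← hS'] at ha
    induction ha using Submodule.span_induction with
    | mem x hx => exact Subtype.ext (congr_fun m.2 ⟨x, hx⟩)
    | zero => rw [zero_smul]
    | add x x' _ _ hx hx' => rw [add_smul, hx, hx', add_zero]
    | smul c x _ hx => rw [smul_eq_mul, mul_smul, hx, smul_zero]
  obtain ⟨zK, hzK⟩ := (Module.Flat.lTensor_exact N (LinearMap.exact_subtype_ker_map f') (c • z)).1 (by
    refine (TensorProduct.piRight A A N (fun _ : S' => Q)).injective ?_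
    rw [map_zero]
    funext b
    show _ = (0 : N ⊗[A] Q)
    rw [← hc2 b (hS' ▸ Submodule.subset_span b.2)]
    generalize c • z = w
    induction w using TensorProduct.induction_on with
    | zero => simp
    | add u v hu hv => simp only [map_add, smul_add, Pi.add_apply, hu, hv]
    | tmul u v => simp [f', tmul_smul])
  have hzK0 : u.rTensor K zK = 0 := by
    refine Module.Flat.lTensor_preserves_injective_linearMap (M := M) K.subtype K.injective_subtype ?_
    rw [map_zero, ← LinearMap.comp_apply, LinearMap.lTensor_comp_rTensor, ← LinearMap.rTensor_comp_lTensor,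
      LinearMap.comp_apply, hzK, map_smul, hz, smul_zero]
  -- a numerator
  let G := LocalizedModule (Submonoid.powers g1) N0
  let lG := LocalizedModule.mkLinearMap (Submonoid.powers g1) N0
  let gG : G →ₗ[B] N :=
    IsLocalizedModule.liftOfLE (Submonoid.powers g1) T (Submonoid.powers_le.2 hg1) lG g0
  haveI : IsLocalizedModule T gG :=
    inferInstanceAs (IsLocalizedModule T (IsLocalizedModule.liftOfLE _ _ (Submonoid.powers_le.2 hg1) lG g0))
  obtain ⟨⟨w, t⟩, hw⟩ := IsLocalizedModule.surj T (AlgebraTensorModule.rTensor A K gG) zK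
  change (t : B) • zK = AlgebraTensorModule.rTensor A K gG w at hw
  obtain ⟨e, he⟩ := IsLocalization.map_units (Localization T) t
  haveI : IsScalarTower A (Localization T) N := IsScalarTower.of_algebraMap_smul fun a x => by
    rw [IsScalarTower.algebraMap_apply A B (Localization T), algebraMap_smul, algebraMap_smul]
  let inv : N →ₗ[A] N := (LinearMap.lsmul (Localization T) N (↑e⁻¹ : Localization T)).restrictScalars A
  let mt : N →ₗ[A] N := (LinearMap.lsmul B N (t : B)).restrictScalars A
  have hinvmt : inv ∘ₗ mt = LinearMap.id := LinearMap.ext fun x => by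
    show (↑e⁻¹ : Localization T) • (t : B) • x = x
    rw [← algebraMap_smul (Localization T) (t : B) x, ← he, smul_smul, Units.inv_mul, one_smul]
  have hmtinv : mt ∘ₗ inv = LinearMap.id := LinearMap.ext fun x => by
    show (t : B) • (↑e⁻¹ : Localization T) • x = x
    rw [← algebraMap_smul (Localization T) (t : B), ← he, smul_smul, Units.mul_inv, one_smul]
  have hsm : ∀ v : N ⊗[A] K, mt.rTensor K v = (t : B) • v := fun v => by
    induction v using TensorProduct.induction_on with
    | zero => simp
    | add x y hx hy => rw [map_add, smul_add, hx, hy]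
    | tmul a b => rfl
  have hzw : zK = inv.rTensor K ((gG.restrictScalars A).rTensor K w) := by
    rw [show (gG.restrictScalars A).rTensor K w = mt.rTensor K zK from hw.symm.trans (hsm zK).symm,
      ← LinearMap.comp_apply, ← LinearMap.rTensor_comp, hinvmt, LinearMap.rTensor_id, LinearMap.id_apply]
  let v : G →ₗ[A] M := u ∘ₗ inv ∘ₗ gG.restrictScalars A
  have hv0 : v.rTensor K w = 0 := by
    rw [LinearMap.rTensor_comp, LinearMap.rTensor_comp, LinearMap.comp_apply, LinearMap.comp_apply, ← hzw]
    exact hzK0
  -- the thickened fibre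
  let A1 := LocQuot p P
  let κ := ResidueField A1
  haveI : IsLocalHom (Ideal.Quotient.mk (P.map (algebraMap A (Localization.AtPrime p)))) :=
    IsLocalHom.of_surjective _ Ideal.Quotient.mk_surjective
  let φ : p.ResidueField →+* κ := IsLocalRing.ResidueField.map (Ideal.Quotient.mk (P.map (algebraMap A (Localization.AtPrime p))))
  have hφ : Function.Bijective φ := ⟨φ.injective, fun y => by
    obtain ⟨a, rfl⟩ := IsLocalRing.residue_surjective y
    obtain ⟨b, rfl⟩ := Ideal.Quotient.mk_surjective a
    exact ⟨IsLocalRing.residue _ b, rfl⟩⟩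
  let eκ : κ ≃ₗ[A] p.ResidueField :=
    (LinearEquiv.ofBijective ({ φ with commutes' := fun _ => rfl } : p.ResidueField →ₐ[A] κ).toLinearMap hφ).symm
  have hvres : Function.Injective ((v.baseChange A1).lTensor κ) := by
    rw [lTensor_baseChange_iff]
    show Function.Injective ((u ∘ₗ inv ∘ₗ gG.restrictScalars A).lTensor κ)
    rw [LinearMap.lTensor_comp, LinearMap.lTensor_comp, LinearMap.coe_comp, LinearMap.coe_comp]
    refine Function.Injective.comp ?_ (Function.Injective.comp ?_ ?_)
    · intro x y hxy
      apply (eκ.rTensor N).injective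
      apply h p
      have := congrArg (eκ.rTensor M) hxy
      have hn : ∀ r, eκ.rTensor M (u.lTensor κ r) = u.lTensor p.ResidueField (eκ.rTensor N r) := fun r => by
        induction r using TensorProduct.induction_on with
        | zero => simp only [map_zero]
        | add a b ha hb => simp only [map_add, ha, hb]
        | tmul a b => rfl
      rwa [hn, hn] at this
    · refine Function.LeftInverse.injective (g := mt.lTensor κ) fun x => ?_
      rw [← LinearMap.comp_apply, ← LinearMap.lTensor_comp, hmtinv, LinearMap.lTensor_id, LinearMap.id_apply]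
    · exact (lTensor_baseChange_iff (gG.restrictScalars A) κ).1 (lTensor_baseChange_injective_of_localized T gG hinj κ)
  let : Module A1 (LocQuot p P ⊗[A] K) := inferInstance
  have hvX := Groth.Agent.S0448.result (v.baseChange A1) hvres (A1 ⊗[A] K)
  rw [← LinearMap.lTensor_inj_iff_rTensor_inj, lTensor_baseChange_iff, LinearMap.lTensor_inj_iff_rTensor_inj] at hvX
  -- transfer along `K → A1 ⊗ K`
  let ι : K →ₗ[A] A1 ⊗[A] K := TensorProduct.mk A A1 K 1
  have hι : ι.lTensor G w = 0 := by
    refine hvX ?_
    rw [map_zero, ← LinearMap.comp_apply, LinearMap.rTensor_comp_lTensor, ← LinearMap.lTensor_comp_rTensor,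
      LinearMap.comp_apply, hv0, map_zero]
  have h1 : (1 : A1) ⊗ₜ[A] w = 0 := by
    have hn : ∀ r : G ⊗[A] K, (TensorProduct.leftComm A G A1 K) (ι.lTensor G r) = (1 : A1) ⊗ₜ r := fun r => by
      induction r using TensorProduct.induction_on with
      | zero => simp only [map_zero, tmul_zero]
      | add a b ha hb => simp only [map_add, ha, hb, tmul_add]
      | tmul a b => rfl
    rw [← hn, hι, map_zero]
  obtain ⟨s, hs, hsw⟩ := exists_smul_mem_of_one_tmul_eq_zero p P (G ⊗[A] K) w h1
  have hsw0 : s • w = 0 := by
    refine Submodule.smul_induction_on hsw (fun a ha x hxt => ?_) fun a b ha hb => by rw [ha, hb, add_zero]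
    clear hxt
    induction x using TensorProduct.induction_on with
    | zero => rw [smul_zero]
    | add x y hx hy => rw [smul_add, hx, hy, add_zero]
    | tmul x y => rw [← tmul_smul, hK a ha y, tmul_zero]
  refine hc1 s hs ?_
  rw [← hzK, ← map_smul, hzw, ← map_smul, ← map_smul, hsw0, map_zero, map_zero, map_zero]

end Fibres

end Groth.Agent.RGLib

end
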