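import Groth.Agent.FlatSyz5.NilFree
import Groth.Agent.CAlgUI.Swindle
import Groth.Agent.S0448

/-!
# Completion of a flat module with projective reduction
-/

universe u

noncomputable section

open TensorProduct

namespace Groth.Agent.RGLib

variable {R : Type u} [CommRing R] {I : Ideal R}

/-- A map bijective modulo every power of an ideal is bijective on completions. -/
theorem bijective_completion_map {M N : Type u} [AddCommGroup M] [Module R M] [AddCommGroup N] [Module R N]
    (f : M →ₗ[R] N) (h : ∀ n, Function.Bijective (f.reduceModIdeal (I ^ n))) :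
    Function.Bijective (AdicCompletion.map I f) := by
  constructor
  · intro x y hxy
    refine AdicCompletion.ext fun n => (h n).1 ?_
    have := congrArg (fun z : AdicCompletion I N => z.val n) hxy
    simpa only [AdicCompletion.map_val_apply] using this
  · intro y
    choose x hx using fun n => (h n).2 (y.val n)
    refine ⟨⟨x, fun {m n} hmn => (h m).1 ?_⟩, AdicCompletion.ext fun n => ?_⟩
    · rw [hx m, ← y.2 hmn, ← hx n]
      generalize x n = w
      obtain ⟨w, rfl⟩ := Submodule.mkQ_surjective _ w
      rfl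
    · show f.reduceModIdeal (I ^ n) (x n) = y.val n
      exact hx n

/-- A flat module with free reduction agrees with a free module modulo every power of the ideal. -/
theorem exists_free_bijective_mod_pow (M : Type u) [AddCommGroup M] [Module R M] [Module.Flat R M]
    (hfree : Module.Free (R ⧸ I) ((R ⧸ I) ⊗[R] M)) :
    ∃ (κ : Type u) (f : (κ →₀ R) →ₗ[R] M), ∀ n, Function.Bijective (f.reduceModIdeal (I ^ n)) := by
  classical
  let b := hfree.chooseBasis
  choose v hv using fun k => TensorProduct.mk_surjective R M (R ⧸ I) Ideal.Quotient.mk_surjective (b k)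
  let κ := Module.Free.ChooseBasisIndex (R ⧸ I) ((R ⧸ I) ⊗[R] M)
  let f : (κ →₀ R) →ₗ[R] M := Finsupp.linearCombination R v
  let q : M →ₗ[R] (R ⧸ I) ⊗[R] M := TensorProduct.mk R (R ⧸ I) M 1
  have hqf : ∀ c, q (f c) = Finsupp.linearCombination (R ⧸ I) b (c.mapRange (Ideal.Quotient.mk I) (map_zero _)) := by
    intro c
    induction c using Finsupp.induction_linear with
    | zero => simp
    | add c d hc hd => rw [map_add, map_add, hc, hd, Finsupp.mapRange_add (map_add _), map_add]
    | single k a =>
      rw [Finsupp.mapRange_single, Finsupp.linearCombination_single]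
      rw [map_smul, Finsupp.linearCombination_single, show q (v k) = b k from hv k, ← algebraMap_smul (R ⧸ I) a]
      rfl
  have hqker : ∀ m, q m = 0 ↔ m ∈ I • (⊤ : Submodule R M) := fun m => by
    rw [← (TensorProduct.quotTensorEquivQuotSMul M I).map_eq_zero_iff, TensorProduct.mk_apply,
      show (1 : R ⧸ I) = Ideal.Quotient.mk I 1 from (map_one _).symm,
      TensorProduct.quotTensorEquivQuotSMul_mk_tmul, one_smul, Submodule.Quotient.mk_eq_zero]
  have hker : ∀ c, f c ∈ I • (⊤ : Submodule R M) → c ∈ I • (⊤ : Submodule R (κ →₀ R)) := by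
    intro c hc
    rw [← hqker, hqf] at hc
    have h0 := b.linearIndependent (a₂ := 0) (hc.trans (map_zero _).symm)
    refine FlatSyz5.mem_smul_top_of_forall I fun k => Ideal.Quotient.eq_zero_iff_mem.1 ?_
    simpa using congrArg (· k) h0
  have hspan : LinearMap.range f ⊔ I • ⊤ = ⊤ := by
    refine eq_top_iff.2 fun m _ => ?_
    obtain ⟨c', hc'⟩ : ∃ c', Finsupp.linearCombination (R ⧸ I) b c' = q m := ⟨b.repr (q m), b.linearCombination_repr _⟩
    obtain ⟨c, rfl⟩ := Finsupp.mapRange_surjective _ (map_zero (Ideal.Quotient.mk I)) Ideal.Quotient.mk_surjective c'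
    rw [← hqf, ← sub_eq_zero, ← map_sub, hqker] at hc'
    rw [show m = f c + -(f c - m) by abel]
    exact Submodule.add_mem_sup (LinearMap.mem_range_self f c) (neg_mem hc')
  refine ⟨κ, f, fun n => ?_⟩
  have hsurj : ∀ n : ℕ, LinearMap.range f ⊔ I ^ n • ⊤ = ⊤ := by
    intro n
    induction n with
    | zero => simp
    | succ n ih =>
      refine top_le_iff.1 (ih.ge.trans (sup_le le_sup_left ?_))
      calc I ^ n • (⊤ : Submodule R M) = I ^ n • (LinearMap.range f ⊔ I • ⊤) := by rw [hspan]
        _ = I ^ n • LinearMap.range f ⊔ I ^ (n + 1) • ⊤ := by rw [Submodule.smul_sup, pow_succ, Submodule.mul_smul]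
        _ ≤ LinearMap.range f ⊔ I ^ (n + 1) • ⊤ := sup_le_sup_right Submodule.smul_le_right _
  refine ⟨?_, ?_⟩
  · -- injectivity: base change to `R/I^n`
    let A := R ⧸ I ^ n
    let MA := A ⊗[R] M
    let J : Ideal A := I.map (Ideal.Quotient.mk (I ^ n))
    have hJ : IsNilpotent J := ⟨n, by rw [← Ideal.map_pow]; exact Ideal.map_quotient_self _⟩
    let fA : (κ →₀ A) →ₗ[A] MA := Finsupp.linearCombination A fun k => (1 : A) ⊗ₜ[R] v k
    have hfA : ∀ c, fA (c.mapRange (Ideal.Quotient.mk (I ^ n)) (map_zero _)) = (1 : A) ⊗ₜ[R] f c := by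
      intro c
      induction c using Finsupp.induction_linear with
      | zero => simp
      | add c d hc hd => rw [Finsupp.mapRange_add (map_add _), map_add, map_add, hc, hd, tmul_add]
      | single k a =>
        rw [Finsupp.mapRange_single, Finsupp.linearCombination_single]
        show _ = (1 : A) ⊗ₜ[R] Finsupp.linearCombination R v (Finsupp.single k a)
        rw [Finsupp.linearCombination_single, tmul_smul, ← algebraMap_smul A a]
        rfl
    have hzero : ∀ m : M, (1 : A) ⊗ₜ[R] m = 0 ↔ m ∈ I ^ n • (⊤ : Submodule R M) := fun m => by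
      rw [← (TensorProduct.quotTensorEquivQuotSMul M (I ^ n)).map_eq_zero_iff,
        show (1 : A) = Ideal.Quotient.mk (I ^ n) 1 from (map_one _).symm,
        TensorProduct.quotTensorEquivQuotSMul_mk_tmul, one_smul, Submodule.Quotient.mk_eq_zero]
    have hfs : Function.Surjective fA := by
      intro y
      obtain ⟨m, rfl⟩ := TensorProduct.mk_surjective R M A Ideal.Quotient.mk_surjective y
      obtain ⟨_, ⟨c, rfl⟩, m', hm', rfl⟩ := Submodule.mem_sup.1 ((hsurj n).ge (trivial : m ∈ ⊤))
      exact ⟨_, (hfA c).trans (by rw [TensorProduct.mk_apply, tmul_add, (hzero m').2 hm', add_zero])⟩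
    have hfk : LinearMap.ker fA ≤ J • ⊤ := by
      intro x hx
      obtain ⟨c, rfl⟩ := Finsupp.mapRange_surjective _ (map_zero (Ideal.Quotient.mk (I ^ n))) Ideal.Quotient.mk_surjective x
      rw [LinearMap.mem_ker, hfA, hzero] at hx
      rcases Nat.eq_zero_or_pos n with rfl | hn
      · refine FlatSyz5.mem_smul_top_of_forall J fun k => ?_
        rw [Finsupp.mapRange_apply, show Ideal.Quotient.mk (I ^ 0) (c k) = 0 from
          Ideal.Quotient.eq_zero_iff_mem.2 (by rw [pow_zero, Ideal.one_eq_top]; trivial)]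
        exact zero_mem _
      · have hcI := hker c (Submodule.smul_mono_left (Ideal.pow_le_self hn.ne') hx)
        refine FlatSyz5.mem_smul_top_of_forall J fun k => ?_
        rw [Finsupp.mapRange_apply]
        exact Ideal.mem_map_of_mem _ (FlatSyz5.forall_of_mem_smul_top I hcI k)
    haveI : Module.Flat A MA := inferInstance
    have hinj := FlatSyz5.injective_of_flat J hJ fA hfs hfk
    rw [injective_iff_map_eq_zero]
    intro x hx
    obtain ⟨c, rfl⟩ := Submodule.mkQ_surjective _ x
    change Submodule.Quotient.mk (f c) = 0 at hx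
    rw [Submodule.Quotient.mk_eq_zero, ← hzero, ← hfA] at hx
    have h0 := hinj (hx.trans (map_zero _).symm)
    refine (Submodule.Quotient.mk_eq_zero _).2 (FlatSyz5.mem_smul_top_of_forall _ fun k => Ideal.Quotient.eq_zero_iff_mem.1 ?_)
    simpa using congrArg (· k) h0
  · intro y
    obtain ⟨m, rfl⟩ := Submodule.mkQ_surjective _ y
    obtain ⟨_, ⟨c, rfl⟩, m', hm', rfl⟩ := Submodule.mem_sup.1 ((hsurj n).ge (trivial : m ∈ ⊤))
    refine ⟨Submodule.Quotient.mk c, ?_⟩
    show Submodule.Quotient.mk (f c) = Submodule.Quotient.mk (f c + m')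
    rw [Submodule.Quotient.eq, show f c - (f c + m') = -m' by abel]
    exact neg_mem hm'

/-- The completion of a flat module with projective reduction is a direct summand of the completion of a
free module. -/
theorem exists_completion_retract (M : Type u) [AddCommGroup M] [Module R M] [Module.Flat R M]
    [Module.Projective (R ⧸ I) (M ⧸ (I • ⊤ : Submodule R M))] :
    ∃ (κ : Type u) (s : AdicCompletion I M →ₗ[R] AdicCompletion I (κ →₀ R))
      (r : AdicCompletion I (κ →₀ R) →ₗ[R] AdicCompletion I M), r ∘ₗ s = LinearMap.id := by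
  classical
  obtain ⟨ι, hι⟩ := CAlgUI.exists_free_complement (R := R ⧸ I) (P := M ⧸ (I • ⊤ : Submodule R M))
  let M' := M × (ι →₀ R)
  let e1 : (R ⧸ I) ⊗[R] M ≃ₗ[R ⧸ I] M ⧸ (I • ⊤ : Submodule R M) :=
    (TensorProduct.quotTensorEquivQuotSMul M I).extendScalarsOfSurjective Ideal.Quotient.mk_surjective
  let e : (R ⧸ I) ⊗[R] M' ≃ₗ[R ⧸ I] (M ⧸ (I • ⊤ : Submodule R M)) × (ι →₀ R ⧸ I) :=
    (TensorProduct.prodRight R (R ⧸ I) (R ⧸ I) M (ι →₀ R)).trans
      (e1.prodCongr (TensorProduct.finsuppScalarRight R (R ⧸ I) (R ⧸ I) ι))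
  haveI := hι
  haveI : Module.Flat R M' := Groth.Agent.S0448.flat_prod
  obtain ⟨κ, f, hf⟩ := exists_free_bijective_mod_pow (I := I) M' (Module.Free.of_equiv e.symm)
  let E := LinearEquiv.ofBijective ((AdicCompletion.map I f).restrictScalars R) (bijective_completion_map f hf)
  refine ⟨κ, E.symm.toLinearMap ∘ₗ (AdicCompletion.map I (LinearMap.inl R M (ι →₀ R))).restrictScalars R,
    (AdicCompletion.map I (LinearMap.fst R M (ι →₀ R))).restrictScalars R ∘ₗ E.toLinearMap, ?_⟩
  refine LinearMap.ext fun x => ?_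
  simp only [LinearMap.comp_apply, LinearEquiv.coe_coe, LinearEquiv.apply_symm_apply, LinearMap.coe_restrictScalars,
    AdicCompletion.map_comp_apply, LinearMap.id_apply]
  rw [LinearMap.fst_comp_inl, AdicCompletion.map_id]
  rfl

end Groth.Agent.RGLib

end
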