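import Groth.Agent.RGLib.Inner

/-!
# Universal injectivity from injectivity on the closed fibre (Raynaud–Gruson)

For a local ring map `A → B` essentially of finite type, a finite `B`-module `N` and an `A`-flat
`B`-module `M`, a `B`-linear map `N → M` which is injective on the closed fibre is universally
injective over `A`, and `N` is finitely presented over `B` and flat over `A`.
-/

universe u

noncomputable section

open TensorProduct IsLocalRing MvPolynomial

set_option linter.style.haveILetI false

namespace Groth.Agent.RGLib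

/-- A local algebra essentially of finite type is a quotient of a localised polynomial algebra at a
prime over the maximal ideal. -/
theorem exists_localization_surjection (A B : Type u) [CommRing A] [IsLocalRing A] [CommRing B] [IsLocalRing B]
    [Algebra A B] [IsLocalHom (algebraMap A B)] [Algebra.EssFiniteType A B] :
    ∃ (n : ℕ) (q : Ideal (MvPolynomial (Fin n) A)) (_ : q.IsPrime) (φ : Localization.AtPrime q →ₐ[A] B),
      q.comap C = maximalIdeal A ∧ Function.Surjective φ := by
  classical
  obtain ⟨σ, hσ⟩ := (Algebra.essFiniteType_iff A B).mp inferInstance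
  let e := σ.equivFin
  let φ0 : MvPolynomial (Fin σ.card) A →ₐ[A] B := MvPolynomial.aeval fun i => ((e.symm i : σ) : B)
  have hrange : Algebra.adjoin A (σ : Set B) = φ0.range := by
    rw [← Algebra.adjoin_range_eq_range_aeval]
    congr 1
    ext z
    exact ⟨fun hz => ⟨e ⟨z, hz⟩, by simp⟩, fun ⟨i, hi⟩ => hi ▸ (e.symm i).2⟩
  let q : Ideal (MvPolynomial (Fin σ.card) A) := (maximalIdeal B).comap φ0
  haveI : q.IsPrime := Ideal.IsPrime.comap _
  let φ : Localization.AtPrime q →ₐ[A] B := IsLocalization.liftAlgHom (M := q.primeCompl) (f := φ0)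
    (fun s => IsLocalRing.notMem_maximalIdeal.mp s.2)
  refine ⟨σ.card, q, inferInstance, φ, ?_, fun s => ?_⟩
  · ext x
    show φ0 (C x) ∈ maximalIdeal B ↔ x ∈ maximalIdeal A
    rw [show (C x : MvPolynomial (Fin σ.card) A) = algebraMap A _ x from rfl, φ0.commutes]
    exact map_mem_nonunits_iff (algebraMap A B) x
  · obtain ⟨t, ht, htu, hst⟩ := hσ s
    rw [hrange] at ht hst
    obtain ⟨t', rfl⟩ := ht
    obtain ⟨a', ha'⟩ := hst
    have htq : t' ∈ q.primeCompl := fun h => (mem_maximalIdeal _).mp h htu
    refine ⟨IsLocalization.mk' _ a' ⟨t', htq⟩, ?_⟩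
    apply htu.mul_left_injective
    show φ (IsLocalization.mk' _ a' ⟨t', htq⟩) * φ0 t' = s * φ0 t'
    have hφ : ∀ x, φ (algebraMap _ (Localization.AtPrime q) x) = φ0 x := fun x => IsLocalization.lift_eq _ x
    rw [← hφ t', ← map_mul, IsLocalization.mk'_spec, hφ, hφ]
    exact ha'

/-- Finitely many relations generate all relations modulo the maximal ideal of the base. -/
theorem exists_relations {A : Type u} [CommRing A] [IsLocalRing A] {n a : ℕ}
    (K : Submodule (MvPolynomial (Fin n) A) (Fin a → MvPolynomial (Fin n) A)) :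
    ∃ (b : ℕ) (G : Fin b → Fin a → MvPolynomial (Fin n) A), (∀ j, G j ∈ K) ∧
      ∀ v ∈ K, ∃ w ∈ Submodule.span (MvPolynomial (Fin n) A) (Set.range G),
        ∀ i, v i - w i ∈ (maximalIdeal A).map C := by
  let P := MvPolynomial (Fin n) A
  let π : P →+* MvPolynomial (Fin n) (ResidueField A) := MvPolynomial.map (residue A)
  have hπ : Function.Surjective π := MvPolynomial.map_surjective (residue A) residue_surjective
  haveI : RingHomSurjective π := ⟨hπ⟩
  obtain ⟨b, g, hg⟩ := (Submodule.fg_iff_exists_fin_generating_family.1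
    (IsNoetherian.noetherian (K.map (mapTuple π))) :)
  have hgK : ∀ j, ∃ G ∈ K, mapTuple π G = g j := fun j =>
    Submodule.mem_map.1 (hg ▸ Submodule.subset_span ⟨j, rfl⟩ : g j ∈ K.map (mapTuple π))
  choose G hG hGg using hgK
  refine ⟨b, G, hG, fun v hv => ?_⟩
  have h1 : mapTuple π v ∈ (Submodule.span P (Set.range G)).map (mapTuple π) := by
    rw [Submodule.map_span, ← Set.range_comp, show mapTuple π ∘ G = g from funext hGg, hg]
    exact Submodule.mem_map_of_mem hv
  obtain ⟨w, hw, hwv⟩ := Submodule.mem_map.1 h1
  refine ⟨w, hw, fun i => ?_⟩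
  have h2 : π (v i - w i) = 0 := by
    rw [map_sub, sub_eq_zero]
    exact (congr_fun hwv i).symm
  rw [← RingHom.mem_ker] at h2
  rwa [show RingHom.ker π = RingHom.ker (MvPolynomial.map (σ := Fin n) (residue A)) from rfl,
    MvPolynomial.ker_map, IsLocalRing.ker_residue] at h2

/-- Universal injectivity into a flat module implies flatness. -/
theorem flat_of_lTensor_injective {A N M : Type u} [CommRing A] [AddCommGroup N] [Module A N] [AddCommGroup M]
    [Module A M] [Module.Flat A M] (f : N →ₗ[A] M)
    (hf : ∀ (Q : Type u) [AddCommGroup Q] [Module A Q], Function.Injective (f.lTensor Q)) : Module.Flat A N := by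
  refine Module.Flat.iff_rTensor_injective'.2 fun I => ?_
  have h : Function.Injective ((LinearMap.rTensor M I.subtype).comp (f.lTensor I)) :=
    (Module.Flat.rTensor_preserves_injective_linearMap I.subtype I.injective_subtype).comp (hf I)
  rw [LinearMap.rTensor_comp_lTensor, ← LinearMap.lTensor_comp_rTensor] at h
  exact fun x y hxy => h (show f.lTensor A (LinearMap.rTensor N I.subtype x) = f.lTensor A (LinearMap.rTensor N I.subtype y) by rw [hxy])

theorem main {A B : Type u} [CommRing A] [IsLocalRing A] [CommRing B] [IsLocalRing B] [Algebra A B]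
    [IsLocalHom (algebraMap A B)] [Algebra.EssFiniteType A B] {N M : Type u} [AddCommGroup N] [Module B N]
    [Module A N] [IsScalarTower A B N] [Module.Finite B N] [AddCommGroup M] [Module B M] [Module A M]
    [IsScalarTower A B M] [Module.Flat A M] (u : N →ₗ[B] M)
    (hu : Function.Injective ((u.restrictScalars A).lTensor (ResidueField A))) :
    (∀ (Q : Type u) [AddCommGroup Q] [Module A Q], Function.Injective ((u.restrictScalars A).lTensor Q)) ∧
      Module.FinitePresentation B N ∧ Module.Flat A N := by
  classical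
  obtain ⟨n, q, _, φ, hq, hφ⟩ := exists_localization_surjection A B
  let P := MvPolynomial (Fin n) A
  let S := Localization.AtPrime q
  let m := maximalIdeal A
  letI : Module S N := Module.compHom N φ.toRingHom
  letI : Module S M := Module.compHom M φ.toRingHom
  haveI : IsScalarTower A S N := IsScalarTower.of_algebraMap_smul fun r x => by
    show φ (algebraMap A S r) • x = r • x
    rw [φ.commutes, algebraMap_smul]
  haveI : IsScalarTower A S M := IsScalarTower.of_algebraMap_smul fun r x => by
    show φ (algebraMap A S r) • x = r • x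
    rw [φ.commutes, algebraMap_smul]
  let uS : N →ₗ[S] M :=
    { toFun := u
      map_add' := map_add u
      map_smul' := fun s x => u.map_smul (φ s) x }
  obtain ⟨a, e₀, he₀⟩ := Module.Finite.exists_fin (R := B) (M := N)
  have he : Submodule.span S (Set.range e₀) = ⊤ := by
    refine eq_top_iff.2 fun x _ => ?_
    obtain ⟨c, rfl⟩ := (Submodule.mem_span_range_iff_exists_fun B).1 (he₀ ▸ trivial : x ∈ Submodule.span B (Set.range e₀))
    refine Submodule.sum_mem _ fun i _ => ?_
    obtain ⟨s, hs⟩ := hφ (c i)
    rw [show c i • e₀ i = s • e₀ i from (congrArg (· • e₀ i) hs).symm]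
    exact Submodule.smul_mem _ s (Submodule.subset_span ⟨i, rfl⟩)
  -- finitely many relations, generating modulo the maximal ideal
  let K : Submodule P (Fin a → P) :=
    { carrier := {v | ∑ i, algebraMap P S (v i) • e₀ i = 0}
      zero_mem' := by simp
      add_mem' := by
        intro v w hv hw
        simp only [Set.mem_ofPred_eq, Pi.add_apply, map_add, add_smul, Finset.sum_add_distrib] at hv hw ⊢
        rw [hv, hw, add_zero]
      smul_mem' := by
        intro c v hv
        simp only [Set.mem_ofPred_eq, Pi.smul_apply, smul_eq_mul, map_mul, mul_smul] at hv ⊢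
        rw [← Finset.smul_sum, hv, smul_zero] }
  obtain ⟨b, G, hG, hGK⟩ := exists_relations K
  let R : Submodule S (Fin a → S) := Submodule.span S (Set.range fun j => mapTuple (algebraMap P S) (G j))
  let e : Fin a → (Fin a → S) ⧸ R := fun i => R.mkQ (Pi.single i 1)
  have hsum : ∀ v : Fin a → S, ∑ i, v i • e i = R.mkQ v := fun v => by
    conv_rhs => rw [pi_eq_sum_univ' v]
    rw [map_sum]
    refine Finset.sum_congr rfl fun i _ => ?_
    rw [map_smul]
  have heS : Submodule.span S (Set.range e) = ⊤ := by
    refine eq_top_iff.2 fun x _ => ?_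
    obtain ⟨v, rfl⟩ := R.mkQ_surjective x
    rw [← hsum]
    exact Submodule.sum_mem _ fun i _ => Submodule.smul_mem _ _ (Submodule.subset_span ⟨i, rfl⟩)
  let π : ((Fin a → S) ⧸ R) →ₗ[S] N := cokerDesc (fun j => mapTuple (algebraMap P S) (G j)) e₀ fun j => hG j
  have hπmk : ∀ v, π (R.mkQ v) = ∑ i, v i • e₀ i := fun v => cokerDesc_mk _ _ _ v
  have hπs : Function.Surjective π := fun x => by
    obtain ⟨c, rfl⟩ := (Submodule.mem_span_range_iff_exists_fun S).1 (he ▸ trivial : x ∈ Submodule.span S (Set.range e₀))
    exact ⟨R.mkQ c, hπmk c⟩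
  -- the kernel of `π` lies in the closed fibre's kernel
  let mS : Ideal S := m.map (algebraMap A S)
  have hmP : ∀ r ∈ m.map (C : A →+* P), algebraMap P S r ∈ mS := fun r hr => by
    have : (m.map (C : A →+* P)).map (algebraMap P S) = mS := by
      rw [Ideal.map_map]
      exact congrArg (fun h : A →+* S => m.map h) (IsScalarTower.algebraMap_eq A P S).symm
    exact this ▸ Ideal.mem_map_of_mem _ hr
  have hπk : ∀ x, π x = 0 → x ∈ (m • ⊤ : Submodule A ((Fin a → S) ⧸ R)) := by
    intro x hx
    obtain ⟨v, rfl⟩ := R.mkQ_surjective x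
    obtain ⟨t, ht⟩ := IsLocalization.exist_integer_multiples_of_finite q.primeCompl v
    choose w hw using ht
    have hw' : ∀ i, algebraMap P S (w i) = algebraMap P S t * v i := fun i => (hw i).trans (Algebra.smul_def _ _)
    have hwK : w ∈ K := by
      show ∑ i, algebraMap P S (w i) • e₀ i = 0
      simp only [hw', mul_smul]
      rw [← Finset.smul_sum, ← hπmk, hx, smul_zero]
    obtain ⟨c, hc, hwc⟩ := hGK w hwK
    have h1 : algebraMap P S t • R.mkQ v = R.mkQ (mapTuple (algebraMap P S) (w - c)) := by
      rw [map_sub, map_sub, (Submodule.Quotient.mk_eq_zero R).2 (mapTuple_span _ G hc) |>.trans rfl |> fun h =>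
        (show R.mkQ (mapTuple (algebraMap P S) c) = 0 from h), sub_zero, ← map_smul]
      refine congrArg _ (funext fun i => ?_)
      exact (hw' i).symm
    have h2 : R.mkQ (mapTuple (algebraMap P S) (w - c)) ∈ (mS • ⊤ : Submodule S ((Fin a → S) ⧸ R)) := by
      rw [← hsum]
      exact Submodule.sum_mem _ fun i _ => Submodule.smul_mem_smul (hmP _ (hwc i)) trivial
    rw [← h1, Submodule.smul_mem_iff_of_isUnit _ (IsLocalization.map_units S t), ← Submodule.restrictScalars_mem A,
      show (mS • ⊤ : Submodule S ((Fin a → S) ⧸ R)).restrictScalars A = m • ⊤ from Ideal.smul_restrictScalars m ⊤] at h2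
    exact h2
  let πA := π.restrictScalars A
  have hπinj : Function.Injective (πA.lTensor (ResidueField A)) := by
    rw [injective_iff_map_eq_zero]
    intro z hz
    obtain ⟨z', rfl⟩ := (lTensor_exact (ResidueField A) (LinearMap.exact_subtype_ker_map πA) hπs z).1 hz
    induction z' using TensorProduct.induction_on with
    | zero => exact map_zero _
    | add x y hx hy => rw [map_add] at hz ⊢; rw [hx ?_, hy ?_, add_zero] <;>
        rw [← LinearMap.comp_apply, ← LinearMap.lTensor_comp,
          show πA.comp (LinearMap.ker πA).subtype = 0 from LinearMap.ext fun k => k.2, LinearMap.lTensor_zero,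
          LinearMap.zero_apply]
    | tmul c k =>
      rw [LinearMap.lTensor_tmul, Submodule.subtype_apply]
      refine Submodule.smul_induction_on (hπk k.1 k.2) (fun r hr y _ => ?_)
        (fun x y hx hy => by rw [tmul_add, hx, hy, add_zero])
      rw [tmul_smul, smul_tmul', Algebra.smul_def, show algebraMap A (ResidueField A) r = 0 from
        Ideal.Quotient.eq_zero_iff_mem.2 hr, zero_mul, zero_tmul]
  have hcomp : ∀ (Q : Type u) [AddCommGroup Q] [Module A Q],
      ((uS.comp π).restrictScalars A).lTensor Q = ((u.restrictScalars A).lTensor Q).comp (πA.lTensor Q) := by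
    intro Q _ _
    rw [← LinearMap.lTensor_comp]
    rfl
  have hl : ∀ (Q : Type u) [AddCommGroup Q] [Module A Q], Function.Injective (((uS.comp π).restrictScalars A).lTensor Q) := by
    intro Q _ _
    rw [LinearMap.lTensor_inj_iff_rTensor_inj]
    refine univInj_affine q hq G e heS (fun j => ?_) (fun v hv => ?_) (uS.comp π) ?_ Q
    · refine (hsum (mapTuple (algebraMap P S) (G j))).trans ?_
      exact (Submodule.Quotient.mk_eq_zero R).2 (Submodule.subset_span ⟨j, rfl⟩)
    · rw [hsum] at hv
      exact (Submodule.Quotient.mk_eq_zero R).1 hv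
    · rw [hcomp]
      exact hu.comp hπinj
  have hπbij : Function.Bijective π := by
    refine ⟨fun x y hxy => ?_, hπs⟩
    have h0 : πA.lTensor A ((1 : A) ⊗ₜ x) = πA.lTensor A ((1 : A) ⊗ₜ y) := congrArg (fun z => (1 : A) ⊗ₜ[A] z) hxy
    have h1 := hl A (show ((uS.comp π).restrictScalars A).lTensor A ((1 : A) ⊗ₜ x) =
      ((uS.comp π).restrictScalars A).lTensor A ((1 : A) ⊗ₜ y) by rw [hcomp, LinearMap.comp_apply, h0]; rfl)
    simpa using congrArg (TensorProduct.lid A _) h1
  have hUI : ∀ (Q : Type u) [AddCommGroup Q] [Module A Q], Function.Injective ((u.restrictScalars A).lTensor Q) := by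
    intro Q _ _ x y hxy
    obtain ⟨x, rfl⟩ := LinearMap.lTensor_surjective Q (g := πA) hπs x
    obtain ⟨y, rfl⟩ := LinearMap.lTensor_surjective Q (g := πA) hπs y
    have h := hl Q
    rw [hcomp] at h
    exact congrArg _ (h hxy)
  refine ⟨hUI, ?_, flat_of_lTensor_injective _ hUI⟩
  -- finite presentation over `B`
  haveI : Module.FinitePresentation S ((Fin a → S) ⧸ R) :=
    Module.finitePresentation_of_surjective R.mkQ R.mkQ_surjective (by
      rw [Submodule.ker_mkQ]; exact Submodule.fg_span (Set.finite_range _))
  haveI : Module.FinitePresentation S N :=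
    Module.FinitePresentation.of_equiv (LinearEquiv.ofBijective π hπbij)
  letI : Algebra S B := φ.toRingHom.toAlgebra
  haveI : IsScalarTower S B N := IsScalarTower.of_algebraMap_smul fun _ _ => rfl
  let mu : B ⊗[S] N →ₗ[B] N := LinearMap.liftBaseChange B (LinearMap.id (R := S) (M := N))
  have hmu : Function.Bijective mu := by
    refine Function.bijective_iff_has_inverse.2 ⟨fun x => 1 ⊗ₜ x, fun x => ?_, fun x => by simp [mu]⟩
    induction x using TensorProduct.induction_on with
    | zero => simp
    | add x y hx hy => exact ((congrArg (fun z => (1 : B) ⊗ₜ[S] z) (map_add mu x y)).trans (tmul_add _ _ _)).trans (congrArg₂ (· + ·) hx hy)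
    | tmul c x =>
      obtain ⟨s, rfl⟩ := hφ c
      rw [LinearMap.liftBaseChange_tmul, LinearMap.id_apply]
      show (1 : B) ⊗ₜ[S] (φ s • x) = _
      rw [show φ s • x = s • x from rfl, tmul_smul, smul_tmul', Algebra.smul_def, mul_one]
      rfl
  exact Module.FinitePresentation.of_equiv (LinearEquiv.ofBijective mu hmu)

end Groth.Agent.RGLib

end
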