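import Groth.Agent.RGLib.WeakTensor

/-!
# Associated points of fibres of a flat module along specialisations
-/

universe u

noncomputable section

open TensorProduct IsLocalRing

set_option linter.style.haveILetI false

namespace Groth.Agent.RGLib

attribute [local instance] Algebra.TensorProduct.rightAlgebra

variable {R S : Type u} [CommRing R] [CommRing S] [Algebra R S]
  {N : Type u} [AddCommGroup N] [Module S N] [Module R N] [IsScalarTower R S N]

/-- An element of the fibre which vanishes in the fibre of the localisation. -/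
theorem exists_killer_of_mem_pN_localized (p : Ideal R) [p.IsPrime] (t : Ideal S) [t.IsPrime] (n : N)
    (hn : LocalizedModule.mkLinearMap t.primeCompl N n ∈ AssFiber.pN p (S := S) (LocalizedModule t.primeCompl N)) :
    ∃ d ∉ t, d • n ∈ AssFiber.pN p (S := S) N := by
  let l := LocalizedModule.mkLinearMap t.primeCompl N
  have hloc : ∀ x, x ∈ AssFiber.pN p (S := S) (LocalizedModule t.primeCompl N) →
      ∃ d ∉ t, ∃ m ∈ AssFiber.pN p (S := S) N, d • x = l m := by
    intro x hx
    refine Submodule.smul_induction_on hx (fun a ha v _ => ?_) fun x y hx hy => ?_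
    · obtain ⟨⟨m, d⟩, hm⟩ := IsLocalizedModule.surj t.primeCompl l v
      refine ⟨d, d.2, a • m, Submodule.smul_mem_smul ha trivial, ?_⟩
      rw [map_smul, smul_comm]
      exact congrArg (a • ·) hm
    · obtain ⟨d, hd, m, hm, e⟩ := hx
      obtain ⟨d', hd', m', hm', e'⟩ := hy
      refine ⟨d * d', fun h => (‹t.IsPrime›.mem_or_mem h).elim hd hd', d' • m + d • m',
        add_mem (Submodule.smul_mem _ _ hm) (Submodule.smul_mem _ _ hm'), ?_⟩
      rw [smul_add, map_add, map_smul, map_smul, ← e, ← e', smul_smul, smul_smul, mul_comm d d']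
  obtain ⟨d, hd, m, hm, e⟩ := hloc _ hn
  change d • l n = l m at e
  rw [← map_smul] at e
  obtain ⟨⟨v, hv⟩, hve⟩ := IsLocalizedModule.exists_of_eq (S := t.primeCompl) e
  change v • d • n = v • m at hve
  refine ⟨v * d, fun h => (‹t.IsPrime›.mem_or_mem h).elim hv hd, ?_⟩
  rw [mul_smul, hve]
  exact Submodule.smul_mem _ _ hm

variable [Algebra.FiniteType R S] [Module.Finite S N]

/-- An associated point of a fibre specialising to a flat point over `p` specialises to an associated
point of the fibre over `p` below that point. -/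
theorem exists_assoc_specialization (p p' : Ideal R) [p.IsPrime] [p'.IsPrime] (q' : Ideal S) [q'.IsPrime]
    [hq'p : q'.LiesOver p'] (hass : FlatCA.fiberIdeal p' q' ∈ associatedPrimes (p'.Fiber S) (FlatCA.fiberMod p' S N))
    (t : Ideal S) [t.IsPrime] [htp : t.LiesOver p] (hle : q' ≤ t) (hflat : FlatCA.FlatAt R t N) :
    ∃ P ∈ associatedPrimes (p.Fiber S) (FlatCA.fiberMod p S N),
      q' ≤ P.comap (algebraMap S (p.Fiber S)) ∧ P.comap (algebraMap S (p.Fiber S)) ≤ t := by
  classical
  haveI : IsNoetherianRing (p.Fiber S) := isNoetherianRing_fiber p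
  haveI : Module.Finite (p.Fiber S) (FlatCA.fiberMod p S N) :=
    inferInstanceAs (Module.Finite (p.Fiber S) ((p.Fiber S) ⊗[S] N))
  haveI : Module.Flat R (LocalizedModule t.primeCompl N) := hflat
  by_contra hne
  push Not at hne
  have htp' : ∀ r, r ∈ p ↔ algebraMap R S r ∈ t := fun r => by
    rw [Ideal.over_def t p]
    rfl
  have hq'p' : ∀ r, r ∈ p' ↔ algebraMap R S r ∈ q' := fun r => by
    rw [Ideal.over_def q' p']
    rfl
  let W : Finset (Ideal S) := ((fibreAss_finite N p).toFinset).filter fun i => i ≤ t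
  have hWp : ∀ i ∈ W, i.IsPrime := fun i hi => by
    obtain ⟨P, hP, rfl⟩ := (Set.Finite.mem_toFinset _).1 (Finset.mem_filter.1 hi).1
    haveI : P.IsPrime := IsAssociatedPrime.isPrime hP
    exact Ideal.IsPrime.comap _
  obtain ⟨c, hcq, hcW⟩ : ∃ c ∈ q', ∀ i ∈ W, c ∉ i := by
    by_contra hc
    push Not at hc
    obtain ⟨i, hi, hsub⟩ := (Ideal.subset_union_prime (R := S) (s := W) (f := id) ⊤ ⊤ fun i hi _ _ => hWp i hi).1
      (fun c hcq => by
        obtain ⟨i, hi, hci⟩ := hc c hcq
        exact Set.mem_biUnion hi hci)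
    obtain ⟨P, hP, rfl⟩ := (Set.Finite.mem_toFinset _).1 (Finset.mem_filter.1 hi).1
    exact hne P hP hsub (Finset.mem_filter.1 hi).2
  -- multiplication by `c` into the localisation at `t`
  let l := LocalizedModule.mkLinearMap t.primeCompl N
  let u : N →ₗ[S] LocalizedModule t.primeCompl N := l ∘ₗ LinearMap.lsmul S N c
  have hu : ∀ n, u n ∈ AssFiber.pN p (S := S) (LocalizedModule t.primeCompl N) →
      ∃ d ∉ t, d • n ∈ AssFiber.pN p (S := S) N := by
    intro n hn
    obtain ⟨d, hd, hdn⟩ := exists_killer_of_mem_pN_localized p t (c • n) hn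
    have h0 : (d * c) • FlatCA.toFiberMod p (S := S) N n = 0 := by
      rw [← map_smul, mul_smul]
      exact AssFiber.toFiberMod_eq_zero_of_mem p N hdn
    obtain ⟨e, he, he0⟩ := exists_smul_fibre_eq_zero p t _ _ h0 fun P hP hPt h => by
      haveI : P.IsPrime := IsAssociatedPrime.isPrime hP
      rcases (Ideal.IsPrime.comap (algebraMap S (p.Fiber S)) (K := P)).mem_or_mem h with h | h
      · exact hd (hPt h)
      · exact hcW _ (Finset.mem_filter.2 ⟨(Set.Finite.mem_toFinset _).2 ⟨P, hP, rfl⟩, hPt⟩) h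
    rw [← map_smul] at he0
    obtain ⟨r, hr, hrn⟩ := AssFiber.exists_smul_mem_of_toFiberMod_eq_zero p (S := S) N he0
    exact ⟨algebraMap R S r * e, fun h => (‹t.IsPrime›.mem_or_mem h).elim (fun h' => hr ((htp' r).2 h')) he,
      by rwa [mul_smul]⟩
  -- a witness in the fibre over `p'`
  haveI : IsNoetherianRing (p'.Fiber S) := isNoetherianRing_fiber p'
  obtain ⟨-, w₀, hw₀⟩ := isAssociatedPrime_iff.1 (show IsAssociatedPrime _ _ from hass)
  haveI := AssFiber.isLocalizedModule_quotToFiber p' (S := S) N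
  obtain ⟨⟨n', σ⟩, hσ⟩ := IsLocalizedModule.surj (Algebra.algebraMapSubmonoid S p'.primeCompl)
    (AssFiber.quotToFiber p' (S := S) N) w₀
  obtain ⟨n, rfl⟩ := Submodule.Quotient.mk_surjective _ n'
  change (σ : S) • w₀ = FlatCA.toFiberMod p' (S := S) N n at hσ
  have hσq : (σ : S) ∉ q' := by
    obtain ⟨r, hr, hrσ⟩ := σ.2
    rw [← hrσ]
    exact fun h => hr ((hq'p' r).2 h)
  have hann : ∀ a : S, a • FlatCA.toFiberMod p' (S := S) N n = 0 ↔ a ∈ q' := by
    have h0 : ∀ a : S, a • w₀ = 0 ↔ algebraMap S (p'.Fiber S) a ∈ FlatCA.fiberIdeal p' q' := fun a => by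
      rw [hw₀, Submodule.mem_colon_singleton, Submodule.mem_bot, AssFiber.algebraMap_smul_fiberMod]
    intro a
    rw [← hσ, smul_smul, h0]
    constructor
    · intro h
      obtain ⟨r, hr, hmem⟩ := exists_mul_mem_sup_of_mem_fiberIdeal p' q' h
      rw [sup_eq_left.2 (Ideal.map_le_iff_le_comap.2 fun a ha => (hq'p' a).1 ha)] at hmem
      rcases ‹q'.IsPrime›.mem_or_mem hmem with h' | h'
      · exact absurd ((hq'p' r).2 h') hr
      · exact (‹q'.IsPrime›.mem_or_mem h').resolve_right hσq
    · exact fun h => Ideal.mem_map_of_mem _ (Ideal.mul_mem_right _ _ h)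
  obtain ⟨r, hr, hrc⟩ := AssFiber.exists_smul_mem_of_toFiberMod_eq_zero p' (S := S) N
    (show FlatCA.toFiberMod p' (S := S) N (c • n) = 0 by rw [map_smul, hann]; exact hcq)
  have hz : TensorProduct.AlgebraTensorModule.rTensor R (R ⧸ p') u ((r • n) ⊗ₜ[R] Ideal.Quotient.mk p' 1) = 0 := by
    show u (r • n) ⊗ₜ[R] Ideal.Quotient.mk p' 1 = 0
    refine tmul_eq_zero_of_mem_smul_top (J := p') ?_ fun a ha => by
      rw [Algebra.smul_def, Ideal.Quotient.algebraMap_eq, ← map_mul, mul_one, Ideal.Quotient.eq_zero_iff_mem]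
      exact ha
    refine AssFiber.mem_smul_top_of_mem_pN p' (S := S) _ ?_
    show l (c • (r • n)) ∈ _
    rw [smul_comm, ← algebraMap_smul S r]
    refine (Submodule.map_le_iff_le_comap (f := l) (q := AssFiber.pN p' (S := S) (LocalizedModule t.primeCompl N))).1 ?_ hrc
    rw [AssFiber.pN, Submodule.map_smul'']
    exact Submodule.smul_mono le_rfl le_top
  obtain ⟨d, hd, hd0⟩ := exists_killer_of_fibre_reflects u t p htp' hu (R ⧸ p') _ hz
  have h3 : (Ideal.Quotient.mk p' 1) ⊗ₜ[R] (d • r • n) = 0 := by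
    have := congrArg (TensorProduct.comm R N (R ⧸ p')) hd0
    rwa [map_zero] at this
  have h4 := congrArg (TensorProduct.quotTensorEquivQuotSMul N p') h3
  rw [map_zero, TensorProduct.quotTensorEquivQuotSMul_mk_tmul, one_smul, Submodule.Quotient.mk_eq_zero] at h4
  have h5 := AssFiber.toFiberMod_eq_zero_of_mem p' N (AssFiber.smul_mem_pN p' (S := S) N h4)
  rw [← algebraMap_smul S r n, smul_smul, map_smul, hann] at h5
  rcases ‹q'.IsPrime›.mem_or_mem h5 with h | h
  · exact hd (hle h)
  · exact hr ((hq'p' r).2 h)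

end Groth.Agent.RGLib

end
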