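import Groth.Agent.FlatSyz5.Colim
import Mathlib.RingTheory.Extension.Presentation.Core
import Mathlib.RingTheory.IsTensorProduct

/-!
# Noetherian models of finitely presented modules over finitely presented algebras
-/

universe u

set_option autoImplicit false

open TensorProduct

namespace Groth.Agent.RGLib

/-- A ring isomorphic to a tensor product is a pushout. -/
theorem isPushout_of_tensor_equiv {C A B₀ B : Type u} [CommRing C] [CommRing A] [CommRing B₀] [CommRing B]
    [Algebra C A] [Algebra C B₀] [Algebra C B] [Algebra A B] [Algebra B₀ B] [IsScalarTower C A B] [IsScalarTower C B₀ B]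
    (e : A ⊗[C] B₀ ≃ₐ[A] B) (h : ∀ x, e ((1 : A) ⊗ₜ[C] x) = algebraMap B₀ B x) : Algebra.IsPushout C A B₀ B := by
  letI : Algebra B₀ (A ⊗[C] B₀) := Algebra.TensorProduct.rightAlgebra
  exact Algebra.IsPushout.of_equiv e (RingHom.ext h)

/-- A model over a finitely generated subring. -/
theorem exists_fp_module_model (A B : Type u) [CommRing A] [CommRing B] [Algebra A B] [Algebra.FinitePresentation A B]
    (M : Type u) [AddCommGroup M] [Module B M] [Module.FinitePresentation B M] :
    ∃ (C : Type u) (_ : CommRing C) (_ : Algebra C A) (_ : Algebra C B) (_ : IsScalarTower C A B)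
      (B₀ : Type u) (_ : CommRing B₀) (_ : Algebra C B₀) (_ : Algebra B₀ B) (_ : IsScalarTower C B₀ B)
      (M₀ : Type u) (_ : AddCommGroup M₀) (_ : Module B₀ M₀),
      Algebra.FiniteType ℤ C ∧ Algebra.FinitePresentation C B₀ ∧ Algebra.IsPushout C A B₀ B ∧
        Module.FinitePresentation B₀ M₀ ∧ Nonempty (B ⊗[B₀] M₀ ≃ₗ[B] M) := by
  classical
  let P := Algebra.Presentation.ofFinitePresentation A B
  obtain ⟨m, π, hπ⟩ := Module.Finite.exists_fin' B M
  obtain ⟨G, hG⟩ := Module.FinitePresentation.fg_ker π hπ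
  choose lp hlp using fun (g : G) (i : Fin m) => P.aeval_val_surjective (g.1 i)
  let s : Set A := P.coeffs ∪ ⋃ (g : G), ⋃ (i : Fin m), ((lp g i).coeffs : Set A)
  have hs : s.Finite := P.finite_coeffs.union (Set.finite_iUnion fun g => Set.finite_iUnion fun i => Finset.finite_toSet _)
  let C : Subalgebra ℤ A := Algebra.adjoin ℤ s
  haveI : P.HasCoeffs C := ⟨fun a ha => ⟨⟨a, Algebra.subset_adjoin (Or.inl ha)⟩, rfl⟩⟩
  haveI hCft : Algebra.FiniteType ℤ C := Algebra.FiniteType.adjoin_of_finite hs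
  let B₀ := P.ModelOfHasCoeffs C
  let e := P.tensorModelOfHasCoeffsEquiv C
  let h : B₀ →ₐ[C] B := (e.toAlgHom.restrictScalars C).comp Algebra.TensorProduct.includeRight
  letI : Algebra B₀ B := h.toRingHom.toAlgebra
  haveI : IsScalarTower C B₀ B := IsScalarTower.of_algebraMap_eq fun c => (h.commutes c).symm
  have hpo : Algebra.IsPushout C A B₀ B := isPushout_of_tensor_equiv e fun x => rfl
  have hq : ∀ (g : G) (i : Fin m), ∃ b : B₀, algebraMap B₀ B b = g.1 i := fun g i => by
    obtain ⟨q, hq⟩ : lp g i ∈ Set.range (MvPolynomial.map (algebraMap C A)) := by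
      rw [MvPolynomial.mem_range_map_iff_coeffs_subset]
      exact fun a ha => ⟨⟨a, Algebra.subset_adjoin (Or.inr (Set.mem_iUnion₂.2 ⟨g, i, ha⟩))⟩, rfl⟩
    refine ⟨Ideal.Quotient.mk _ q, ?_⟩
    show e ((1 : A) ⊗ₜ[C] _) = _
    rw [P.tensorModelOfHasCoeffsEquiv_tmul C, map_one, one_mul, ← hlp g i, ← hq, MvPolynomial.aeval_map_algebraMap]
  choose b hb using hq
  let K₀ : Submodule B₀ (Fin m → B₀) := Submodule.span B₀ (Set.range b)
  have hK₀ : K₀.FG := Submodule.fg_span (Set.finite_range _)
  haveI : Module.FinitePresentation B₀ ((Fin m → B₀) ⧸ K₀) :=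
    Module.finitePresentation_of_surjective K₀.mkQ (Submodule.mkQ_surjective _) (by rwa [Submodule.ker_mkQ])
  letI : Module B₀ M := Module.compHom M (algebraMap B₀ B)
  haveI : IsScalarTower B₀ B M := IsScalarTower.of_algebraMap_smul fun _ _ => rfl
  let coeff : (Fin m → B₀) →ₗ[B₀] (Fin m → B) :=
    LinearMap.pi fun i => (Algebra.linearMap B₀ B).comp (LinearMap.proj i)
  have hβ : K₀ ≤ LinearMap.ker ((π.restrictScalars B₀).comp coeff) := Submodule.span_le.2 <| by
    rintro _ ⟨g, rfl⟩
    show π (coeff (b g)) = 0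
    rw [show coeff (b g) = g.1 from funext fun i => hb g i]
    exact hG.le (Submodule.subset_span g.2)
  let β : ((Fin m → B₀) ⧸ K₀) →ₗ[B₀] M := Submodule.liftQ K₀ _ hβ
  let F : B ⊗[B₀] ((Fin m → B₀) ⧸ K₀) →ₗ[B] M := LinearMap.liftBaseChange B β
  let v : Fin m → B ⊗[B₀] ((Fin m → B₀) ⧸ K₀) := fun i => (1 : B) ⊗ₜ K₀.mkQ (Pi.single i 1)
  have hv : ∀ c : Fin m → B₀, Fintype.linearCombination B v (coeff c) = (1 : B) ⊗ₜ K₀.mkQ c := fun c => by
    conv_rhs => rw [pi_eq_sum_univ c, map_sum, TensorProduct.tmul_sum]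
    rw [Fintype.linearCombination_apply]
    refine Finset.sum_congr rfl fun i _ => ?_
    show algebraMap B₀ B (c i) • ((1 : B) ⊗ₜ[B₀] _) = _
    rw [algebraMap_smul, map_smul, ← TensorProduct.tmul_smul]
    congr 3
    ext j
    simp [Pi.single_apply, eq_comm]
  have hker : LinearMap.ker π ≤ LinearMap.ker (Fintype.linearCombination B v) := by
    rw [← hG, Submodule.span_le]
    intro g hg
    show Fintype.linearCombination B v g = 0
    rw [show g = coeff (b ⟨g, hg⟩) from (funext fun i => hb ⟨g, hg⟩ i).symm, hv,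
      show K₀.mkQ (b ⟨g, hg⟩) = 0 from (Submodule.Quotient.mk_eq_zero _).2 (Submodule.subset_span ⟨_, rfl⟩),
      TensorProduct.tmul_zero]
  have hinv : ∀ c : Fin m → B, F (Fintype.linearCombination B v c) = π c := fun c => by
    conv_rhs => rw [pi_eq_sum_univ c, map_sum]
    rw [Fintype.linearCombination_apply, map_sum]
    refine Finset.sum_congr rfl fun i _ => ?_
    rw [map_smul, map_smul]
    congr 1
    rw [LinearMap.liftBaseChange_tmul, one_smul]
    show π (coeff (Pi.single i 1)) = _
    congr 1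
    ext j
    show algebraMap B₀ B ((Pi.single i (1 : B₀) : Fin m → B₀) j) = _
    by_cases hij : j = i
    · subst hij; simp
    · simp [hij, Ne.symm hij]
  have hsurj : Function.Surjective (Fintype.linearCombination B v) := by
    rw [← LinearMap.range_eq_top, eq_top_iff]
    rintro z -
    induction z using TensorProduct.induction_on with
    | zero => exact zero_mem _
    | tmul x y =>
      obtain ⟨c, rfl⟩ := K₀.mkQ_surjective y
      refine ⟨x • coeff c, ?_⟩
      rw [map_smul, hv, TensorProduct.smul_tmul', smul_eq_mul, mul_one]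
    | add a b ha hb => exact add_mem ha hb
  refine ⟨C, inferInstance, inferInstance, inferInstance, inferInstance, B₀, inferInstance, inferInstance,
    inferInstance, inferInstance, (Fin m → B₀) ⧸ K₀, inferInstance, inferInstance, hCft, inferInstance, hpo,
    inferInstance, ⟨LinearEquiv.ofBijective F ⟨?_, fun y => ?_⟩⟩⟩
  · rw [injective_iff_map_eq_zero]
    intro z hz
    obtain ⟨c, rfl⟩ := hsurj z
    rw [hinv] at hz
    exact hker hz
  · obtain ⟨c, rfl⟩ := hπ y
    exact ⟨_, hinv c⟩

/-- A flat module has a flat model over a finitely generated subring. -/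
theorem exists_fp_flat_module_model (A B : Type u) [CommRing A] [CommRing B] [Algebra A B]
    [Algebra.FinitePresentation A B] (M : Type u) [AddCommGroup M] [Module B M] [Module A M] [IsScalarTower A B M]
    [Module.FinitePresentation B M] [Module.Flat A M] :
    ∃ (C : Type u) (_ : CommRing C) (_ : Algebra C A) (_ : Algebra C B) (_ : IsScalarTower C A B)
      (B₀ : Type u) (_ : CommRing B₀) (_ : Algebra C B₀) (_ : Algebra B₀ B) (_ : IsScalarTower C B₀ B)
      (M₀ : Type u) (_ : AddCommGroup M₀) (_ : Module B₀ M₀) (_ : Module C M₀) (_ : IsScalarTower C B₀ M₀),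
      Algebra.FiniteType ℤ C ∧ Algebra.FinitePresentation C B₀ ∧ Algebra.IsPushout C A B₀ B ∧
        Module.FinitePresentation B₀ M₀ ∧ Nonempty (B ⊗[B₀] M₀ ≃ₗ[B] M) ∧ Module.Flat C M₀ := by
  classical
  obtain ⟨C, _, _, _, _, B₀, _, _, _, _, M₀, _, _, hC, hB₀, hpo, hM₀, ⟨e⟩⟩ := exists_fp_module_model A B M
  haveI := hC; haveI := hB₀; haveI := hpo; haveI := hM₀
  letI : Module C M₀ := Module.compHom M₀ (algebraMap C B₀)
  haveI : IsScalarTower C B₀ M₀ := IsScalarTower.of_algebraMap_smul fun _ _ => rfl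
  haveI : IsNoetherianRing C := Algebra.FiniteType.isNoetherianRing ℤ C
  have hflat : Module.Flat A (A ⊗[C] M₀) := Module.Flat.of_linearEquiv
    ((Algebra.IsPushout.cancelBaseChange C A B₀ B M₀).symm ≪≫ₗ e.restrictScalars A)
  have hcolim : FlatCA.IsDirectedColimitRing (fun S : Finset A => Algebra.adjoin C (S : Set A))
      (fun S S' hS => (Subalgebra.inclusion (Algebra.adjoin_mono (Finset.coe_subset.mpr hS))).toRingHom) A :=
    ⟨inferInstance, ⟨∅⟩, fun S => RingHom.ext fun x => rfl, fun S S' S'' h1 h2 => RingHom.ext fun x => rfl,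
      fun S S' h1 => RingHom.ext fun x => rfl, fun a => ⟨{a}, ⟨a, Algebra.subset_adjoin (by simp)⟩, rfl⟩,
      fun S x hx => ⟨S, le_rfl, Subtype.ext hx⟩⟩
  obtain ⟨S, hS⟩ := FlatSyz5.exists_flat_stage (fun S : Finset A => Algebra.adjoin C (S : Set A))
    (fun S S' hS => Subalgebra.inclusion (Algebra.adjoin_mono (Finset.coe_subset.mpr hS))) A hcolim (B₀ := B₀) M₀ hflat
  let C' := Algebra.adjoin C (S : Set A)
  haveI : Algebra.FiniteType C C' := Algebra.FiniteType.adjoin_of_finite S.finite_toSet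
  haveI : Algebra.FiniteType ℤ C' := Algebra.FiniteType.trans hC ‹_›
  let B₁ := C' ⊗[C] B₀
  letI : Algebra B₀ B₁ := Algebra.TensorProduct.rightAlgebra
  let ρ : B₁ →ₐ[C] B := Algebra.TensorProduct.lift ((IsScalarTower.toAlgHom C A B).comp C'.val)
    (IsScalarTower.toAlgHom C B₀ B) fun _ _ => Commute.all _ _
  letI : Algebra B₁ B := ρ.toRingHom.toAlgebra
  haveI : IsScalarTower C' B₁ B := IsScalarTower.of_algebraMap_eq fun x => by
    show _ = ρ (x ⊗ₜ[C] (1 : B₀))
    rw [Algebra.TensorProduct.lift_tmul, map_one, mul_one]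
    rfl
  haveI : IsScalarTower B₀ B₁ B := IsScalarTower.of_algebraMap_eq fun x => by
    show algebraMap B₀ B x = ρ ((1 : C') ⊗ₜ[C] x)
    rw [Algebra.TensorProduct.lift_tmul, map_one, one_mul]
    rfl
  haveI : IsScalarTower C B₁ B := IsScalarTower.of_algebraMap_eq fun x => (ρ.commutes x).symm
  haveI : IsScalarTower C' A B := inferInstance
  haveI hp₁ : Algebra.IsPushout C C' B₀ B₁ := inferInstance
  refine ⟨C', inferInstance, inferInstance, inferInstance, inferInstance, B₁, inferInstance, inferInstance,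
    inferInstance, inferInstance, B₁ ⊗[B₀] M₀, inferInstance, inferInstance, inferInstance, inferInstance,
    inferInstance, inferInstance, (Algebra.IsPushout.comp_iff C C' B₀ B₁).1 hpo, inferInstance,
    ⟨AlgebraTensorModule.cancelBaseChange B₀ B₁ B B M₀ ≪≫ₗ e⟩, ?_⟩
  exact Module.Flat.of_linearEquiv (Algebra.IsPushout.cancelBaseChange C C' B₀ B₁ M₀)

end Groth.Agent.RGLib
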