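import Groth.Agent.RGLib.GenPFlat
import Groth.Agent.FibDim.BaseChange
import Groth.Agent.FibDim.Minimal
import Groth.Agent.S1392

/-!
# Flatness in dimensions at least n of base changes is local for the fpqc topology
-/

set_option autoImplicit false

universe u

open CategoryTheory CategoryTheory.Limits AlgebraicGeometry Opposite

namespace Groth.Agent.RGLib.GenPSheaf

variable {S X : Scheme.{u}} (f : X ⟶ S) [LocallyOfFiniteType f] (F : X.Modules) [Coh.IsQCoh F]

theorem dimFibresLT_iff {Y T : Scheme.{u}} (q : Y ⟶ T) [LocallyOfFiniteType q] (n : ℕ) (Z : Set Y) :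
    FlatFun.DimFibresLT n q Z ↔ ∀ x ∈ Z, FibDim.rd q x < n := by
  refine forall₂_congr fun x _ => ?_
  show VarDim.rdeg q x < _ ↔ _
  rw [← FibDim.rd_eq_rdeg, Nat.cast_lt]

theorem lft_snd (T : Over S) : LocallyOfFiniteType (pullback.snd f T.hom) :=
  MorphismProperty.of_isPullback (P := @LocallyOfFiniteType) (IsPullback.of_hasPullback f T.hom) inferInstance

theorem isSheaf_flatInDimGE (n : ℕ) : Presheaf.IsSheaf (QuotSh.J Scheme.fpqcPrecoverage S)
    (FlatFun.genPSp S (fun T => FlatFun.DimFibresLT n (PicF.XTproj f T)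
      {x | ¬ FlatMod.IsFlatOverAt (PicF.XTproj f T) (FGA.ET f F T) x})) := by
  haveI := lft_snd f
  refine isSheaf_genPSp _ (fun T T₀ g h => ?_) fun T ι Ti g hg hs h => ?_
  · haveI : LocallyOfFiniteType (PicF.XTproj f T) := lft_snd f T
    haveI : LocallyOfFiniteType (PicF.XTproj f T₀) := lft_snd f T₀
    rw [dimFibresLT_iff] at h ⊢
    intro x hx
    refine (FibDim.rd_baseChange_le (bcMap_isPullback f g) x).trans_lt (h (bcMap f g x) fun hfl => hx ?_)
    exact GrFlat5.isFlatOverAt_of_iso _ ((Scheme.Modules.pullbackComp (bcMap f g) (pullback.fst f T₀.hom) ≪≫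
      Scheme.Modules.pullbackCongr (bcMap_fst f g)).app F) x
      (MorLib.FlatBC.isFlatOverAt_baseChange _ _ (bcMap f g) g.left (bcMap_isPullback f g) _ x hfl)
  · haveI : LocallyOfFiniteType (PicF.XTproj f T) := lft_snd f T
    rw [dimFibresLT_iff]
    intro x hx
    obtain ⟨i, t, ht⟩ := hs (pullback.snd f T.hom x)
    haveI : LocallyOfFiniteType (PicF.XTproj f (Ti i)) := lft_snd f (Ti i)
    haveI := hg i
    obtain ⟨x', hx', -, hrd⟩ := FibDim.exists_rd_baseChange_eq (bcMap_isPullback f (g i)) x t ht.symm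
    rw [← hrd]
    refine (dimFibresLT_iff _ n _).1 (h i) x' fun hfl => hx ?_
    rw [← hx']
    refine Groth.Agent.S1392.result _ _ _ _ (bcMap_isPullback f (g i)) _ (QCoh.isQCoh_pullback _ ‹_›) x'
      (Flat.stalkMap (g i).left _) ?_
    exact GrFlat5.isFlatOverAt_of_iso _ ((Scheme.Modules.pullbackComp (bcMap f (g i)) (pullback.fst f T.hom) ≪≫
      Scheme.Modules.pullbackCongr (bcMap_fst f (g i))).app F).symm x' hfl

end Groth.Agent.RGLib.GenPSheaf
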