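import Groth.Agent.RGLib.Lim8GenP
import Groth.Agent.H1FlatLimit.Global
import Groth.Agent.GrFlat5.FlatAtIso
import Groth.Agent.MorLib.FlatBC
import Groth.Prelude.Def_FGA

/-!
# The flatness functor of a finitely presented module is limit preserving
-/

set_option autoImplicit false
set_option backward.isDefEq.respectTransparency false
set_option backward.isDefEq.respectTransparency.types false

universe u

open CategoryTheory CategoryTheory.Limits AlgebraicGeometry Opposite

namespace Groth.Agent.RGLib.Lim8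

variable {S X : Scheme.{u}} (f : X ⟶ S)

theorem isLimitPreserving_flat [QuasiCompact f] [LocallyOfFinitePresentation f] (F : X.Modules) [Coh.IsQCoh F]
    (hF : CohB1.IsFP F) :
    AlgSp.IsLimitPreserving
      (FlatFun.genPSp S (fun T => FlatMod.IsFlatOver (PicF.XTproj f T) (FGA.ET f F T))) := by
  refine isLimitPreserving_genPSp _ (fun T T₀ g h x => ?_) ?_
  · exact GrFlat5.isFlatOverAt_of_iso _ ((Scheme.Modules.pullbackComp (bcMap f g) (pullback.fst f T₀.hom) ≪≫
      Scheme.Modules.pullbackCongr (bcMap_fst f g)).app F) x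
      (MorLib.FlatBC.isFlatOverAt_baseChange _ _ (bcMap f g) g.left (bcMap_isPullback f g) _ x (h _))
  intro I _ _ D c hc hD h
  obtain ⟨i₀⟩ := IsCofiltered.nonempty (C := I)
  let D' : I ⥤ Scheme.{u} := D ⋙ Over.forget S
  haveI : ∀ i, IsAffine (D'.obj i) := hD
  haveI : ∀ (i j : I) (φ : i ⟶ j), IsAffineHom (D'.map φ) := fun i j φ => isAffineHom_of_isAffine _
  haveI : CompactSpace ↥(D'.obj i₀) := inferInstance
  let p : pullback f (D.obj i₀).hom ⟶ X := pullback.fst f (D.obj i₀).hom
  let f₀ : pullback f (D.obj i₀).hom ⟶ D'.obj i₀ := pullback.snd f (D.obj i₀).hom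
  let g₀ : D'.obj i₀ ⟶ D'.obj i₀ := 𝟙 _
  haveI : QuasiCompact f₀ := MorphismProperty.pullback_snd _ _ ‹_›
  haveI : LocallyOfFinitePresentation f₀ := MorphismProperty.pullback_snd _ _ ‹_›
  let F₀ := (Scheme.Modules.pullback p).obj F
  have hq₀ : Coh.IsQCoh F₀ := QCoh.isQCoh_pullback p ‹_›
  have hF₀ : CohB1.IsFP F₀ := isFP_pullback p ‹_› hF
  let c' : Cone D' := (Over.forget S).mapCone c
  have hY : IsPullback (c'.π.app i₀) (𝟙 c'.pt) g₀ (c'.π.app i₀) :=
    haveI : IsIso (𝟙 c'.pt) := IsIso.id _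
    haveI : IsIso g₀ := IsIso.id _
    IsPullback.of_vert_isIso ⟨(Category.comp_id _).trans (Category.id_comp _).symm⟩
  have hX : IsPullback (bcMap f (c.π.app i₀)) (pullback.snd f c.pt.hom) f₀ (c'.π.app i₀) :=
    bcMap_isPullback f (c.π.app i₀)
  have hfl : FlatMod.IsFlatOver (pullback.snd f c.pt.hom)
      ((Scheme.Modules.pullback (bcMap f (c.π.app i₀))).obj F₀) := fun x =>
    GrFlat5.isFlatOverAt_of_iso _ ((Scheme.Modules.pullbackComp (bcMap f (c.π.app i₀)) p ≪≫
      Scheme.Modules.pullbackCongr (bcMap_fst f (c.π.app i₀))).app F).symm x (h x)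
  obtain ⟨j, hj⟩ := H1FlatLimit.exists_flatOver_stage f₀ g₀ hc hY hX hq₀ hF₀ hfl
  refine ⟨j.left, fun x => ?_⟩
  refine GrFlat5.isFlatOverAt_of_iso _ ((Scheme.Modules.pullbackComp (bcMap f (D.map j.hom)) p ≪≫
    Scheme.Modules.pullbackCongr (bcMap_fst f (D.map j.hom))).app F) x ?_
  exact H1FlatLimit.flatAt_of_stage (H1FlatLimit.stageMor_isPullback f₀ g₀ j)
    (bcMap_isPullback f (D.map j.hom))
    (vY := pullback.lift (D'.map j.hom) (𝟙 _) ((Category.comp_id _).trans (Category.id_comp _).symm))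
    (vX := pullback.lift (bcMap f (D.map j.hom)) (pullback.snd f (D.obj j.left).hom) (by
      rw [show g₀ = 𝟙 _ from rfl, Category.comp_id]
      exact bcMap_snd f (D.map j.hom)))
    (pullback.lift_fst _ _ _) (pullback.lift_fst _ _ _)
    (pullback.hom_ext
      (by
        rw [Category.assoc, H1FlatLimit.stageMor_fst, pullback.lift_fst_assoc, Category.assoc, pullback.lift_fst]
        exact bcMap_snd f (D.map j.hom))
      (by
        rw [Category.assoc, H1FlatLimit.stageMor, pullback.lift_snd, Category.assoc, pullback.lift_snd,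
          pullback.lift_snd, Category.comp_id]))
    hq₀ x (hj _)

end Groth.Agent.RGLib.Lim8
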