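import Groth.Agent.SchTorsor.Basic

/-!
Exactness of the sequence of torsor classes attached to an exact sequence of group schemes.
-/

universe u

open CategoryTheory MonoidalCategory CartesianMonoidalCategory MonObj AlgebraicGeometry
open CategoryTheory.Limits
open Groth.Agent.GrpSchLib.TopDescent Groth.Agent.SchTorsor

set_option linter.style.haveILetI false

namespace Groth.Agent.RGLib.TorsorSeq

variable {S : Scheme.{u}} {G G' G'' : Over S} [GrpObj G] [GrpObj G'] [GrpObj G'']
  {u : G' ⟶ G} {v : G ⟶ G''}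

theorem right_mul_eq {T : Over S} (x : T ⟶ G) (g : T ⟶ G') :
    lift x g ≫ (G ◁ u) ≫ μ[G] = x * (g ≫ u) := by
  rw [Hom.mul_def, lift_whiskerLeft_assoc]

theorem comp_v_eq_one {K : Precoverage Scheme.{u}} (hex : NonAbH1.IsExactSeq K u v) {T : Over S} (g : T ⟶ G') :
    (g ≫ u) ≫ v = 1 := by
  rw [Category.assoc, hex.2.2.1, MonObj.comp_one]

theorem exists_of_comp_eq {K : Precoverage Scheme.{u}} (hex : NonAbH1.IsExactSeq K u v) {T : Over S}
    (x y : T ⟶ G) (h : x ≫ v = y ≫ v) : ∃ g : T ⟶ G', x * (g ≫ u) = y := by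
  obtain ⟨l, hl₁, hl₂⟩ := hex.2.2.2.1.exists_lift x y h
  refine ⟨l ≫ snd G G', ?_⟩
  rw [← right_mul_eq, ← hl₁, lift_comp_fst_snd]
  exact hl₂

theorem eq_of_comp_eq {K : Precoverage Scheme.{u}} (hex : NonAbH1.IsExactSeq K u v) {T : Over S}
    (g h : T ⟶ G') (e : g ≫ u = h ≫ u) : g = h := by
  have : lift (1 : T ⟶ G) g = lift (1 : T ⟶ G) h := by
    apply hex.2.2.2.1.hom_ext
    · simp
    · rw [right_mul_eq, right_mul_eq, e]
  simpa using congrArg (· ≫ snd G G') this

theorem exists_of_comp_eq_one {K : Precoverage Scheme.{u}} (hex : NonAbH1.IsExactSeq K u v) {T : Over S}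
    (x : T ⟶ G) (h : x ≫ v = 1) : ∃ g : T ⟶ G', g ≫ u = x := by
  haveI := hex.2.1
  obtain ⟨g, hg⟩ := exists_of_comp_eq hex 1 x (by rw [MonObj.one_comp, h])
  exact ⟨g, by rwa [_root_.one_mul] at hg⟩

/-- Point form of equivariance. -/
theorem equivariant_pt {H H' X X' : Over S} [GrpObj H] [GrpObj H'] {φ : H ⟶ H'} {a : AlgGrp.Action H X}
    {a' : AlgGrp.Action H' X'} {f : X ⟶ X'} (hf : a.act ≫ f = lift (fst H X ≫ φ) (snd H X ≫ f) ≫ a'.act)
    {T : Over S} (g : T ⟶ H) (x : T ⟶ X) :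
    (lift g x ≫ a.act) ≫ f = lift (g ≫ φ) (x ≫ f) ≫ a'.act := by
  rw [Category.assoc, hf, ← Category.assoc, comp_lift, lift_fst_assoc, lift_snd_assoc]

theorem equivariant_pt_trivial {H H' X : Over S} [GrpObj H] [GrpObj H'] {φ : H ⟶ H'} {a : AlgGrp.Action H X}
    {f : X ⟶ H'} (hf : a.act ≫ f = lift (fst H X ≫ φ) (snd H X ≫ f) ≫ (NonAbH1.trivialAction H').act)
    {T : Over S} (g : T ⟶ H) (x : T ⟶ X) :
    (lift g x ≫ a.act) ≫ f = (g ≫ φ) * (x ≫ f) := by
  rw [equivariant_pt hf, Hom.mul_def]; rfl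

theorem push_trivial_iff (hex : NonAbH1.IsExactSeq Scheme.fpqcPrecoverage u v)
    (Q : NonAbH1.TorsorSch G' Scheme.fpqcPrecoverage) :
    NonAbH1.IsPushforwardAlongSch u Q.act (NonAbH1.trivialAction G) ↔
      ∃ (f : 𝟙_ (Over S) ⟶ G'') (i : Q.X ⟶ G), NonAbH1.IsPullbackTorsor u v f i Q.act := by
  haveI := hex.1
  haveI := hex.2.1
  constructor
  · rintro ⟨h, hh⟩
    let i : Q.X ⟶ G := h⁻¹
    have hi : ∀ (T : Over S) (g : T ⟶ G') (p : T ⟶ Q.X),
        lift g p ≫ Q.act.act ≫ i = (p ≫ i) * (g ≫ u)⁻¹ := fun T g p => by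
      rw [← Category.assoc, GrpObj.comp_inv, equivariant_pt_trivial hh, mul_inv_rev, ← GrpObj.comp_inv]
    have hinv : Q.act.act ≫ i ≫ v = snd G' Q.X ≫ i ≫ v := by
      have h1 := hi _ (fst G' Q.X) (snd G' Q.X)
      rw [lift_fst_snd, Category.id_comp] at h1
      rw [← Category.assoc, h1, MonObj.mul_comp, GrpObj.inv_comp, comp_v_eq_one hex, inv_one,
        _root_.mul_one, Category.assoc]
    obtain ⟨f, hf, -⟩ := existsUnique_desc Q.isTorsor (i ≫ v) hinv
    refine ⟨f, i, hex.1, hex.2.1, ?_, hi⟩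
    let e : Q.X ⟶ pullback v f := pullback.lift i (toUnit Q.X) hf.symm
    have : IsIso e := by
      refine isIso_of_mono_of_hasLocSec e (fun T a b hab => ?_)
        (hasLocSec_of_points e Q.isTorsor.2 fun T y s => ?_)
      · obtain ⟨g, rfl⟩ := exists_div Q.isTorsor.1 a b
        have h1 := congrArg (· ≫ pullback.fst v f) hab
        simp only [Category.assoc, e, pullback.lift_fst] at h1
        rw [hi, mul_eq_left, inv_eq_one] at h1
        rw [eq_of_comp_eq hex g 1 (h1.trans (MonObj.one_comp u).symm), one_act_pt]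
      · have hy : (y ≫ pullback.fst v f) ≫ v = (s ≫ i) ≫ v := by
          rw [Category.assoc, pullback.condition, ← Category.assoc, Category.assoc s, ← hf,
            ← Category.assoc, toUnit_unique (y ≫ pullback.snd v f) (s ≫ toUnit Q.X)]
        obtain ⟨g, hg⟩ := exists_of_comp_eq hex _ _ hy.symm
        refine ⟨lift g⁻¹ s ≫ Q.act.act, pullback.hom_ext ?_ (toUnit_unique _ _)⟩
        simp only [Category.assoc, e, pullback.lift_fst]
        rw [hi, GrpObj.inv_comp, inv_inv, hg]
    exact IsPullback.of_iso_pullback ⟨hf.symm⟩ (asIso e) (pullback.lift_fst _ _ _) (pullback.lift_snd _ _ _)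
  · rintro ⟨f, i, -, -, -, hi⟩
    refine ⟨i⁻¹, ?_⟩
    have h1 := hi _ (fst G' Q.X) (snd G' Q.X)
    rw [lift_fst_snd, Category.id_comp] at h1
    rw [GrpObj.comp_inv, h1, mul_inv_rev, inv_inv, Hom.mul_def, ← GrpObj.comp_inv]
    rfl

theorem push_trivial_iff_exists (hex : NonAbH1.IsExactSeq Scheme.fpqcPrecoverage u v)
    (P : NonAbH1.TorsorSch G Scheme.fpqcPrecoverage) :
    NonAbH1.IsPushforwardAlongSch v P.act (NonAbH1.trivialAction G'') ↔
      ∃ Q : NonAbH1.TorsorSch G' Scheme.fpqcPrecoverage, NonAbH1.IsPushforwardAlongSch u Q.act P.act := by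
  haveI := hex.1
  haveI := hex.2.1
  constructor
  · rintro ⟨h, hh⟩
    let X := pullback h (1 : 𝟙_ (Over S) ⟶ G'')
    let incl : X ⟶ P.X := pullback.fst _ _
    have hincl : incl ≫ h = 1 := by rw [pullback.condition, MonObj.comp_one]
    have hext : ∀ {T : Over S} (a b : T ⟶ X), a ≫ incl = b ≫ incl → a = b := fun a b e =>
      pullback.hom_ext e (toUnit_unique _ _)
    have hlift : ∀ {T : Over S} (p : T ⟶ P.X), p ≫ h = 1 → ∃ q : T ⟶ X, q ≫ incl = p := fun p hp =>
      ⟨pullback.lift p (toUnit _) (by rw [hp, MonObj.comp_one]), pullback.lift_fst _ _ _⟩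
    have hXh : ∀ {T : Over S} (q : T ⟶ X), (q ≫ incl) ≫ h = 1 := fun q => by
      rw [Category.assoc, hincl, MonObj.comp_one]
    obtain ⟨act, hact⟩ := hlift (lift (fst G' X ≫ u) (snd G' X ≫ incl) ≫ P.act.act) (by
      rw [equivariant_pt_trivial hh, hXh, comp_v_eq_one hex, _root_.one_mul])
    have hpt : ∀ {T : Over S} (g : T ⟶ G') (q : T ⟶ X),
        (lift g q ≫ act) ≫ incl = lift (g ≫ u) (q ≫ incl) ≫ P.act.act := fun g q => by
      rw [Category.assoc, hact, ← Category.assoc, comp_lift, lift_fst_assoc, lift_snd_assoc]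
    let a : AlgGrp.Action G' X :=
      { act := act
        one_act := by
          refine hext _ _ ?_
          have e1 : η[G'] ▷ X = lift (1 : 𝟙_ (Over S) ⊗ X ⟶ G') (snd _ _) := by
            refine CartesianMonoidalCategory.hom_ext _ _ ?_ (by simp)
            rw [Hom.one_def, lift_fst, whiskerRight_fst, toUnit_unique (fst (𝟙_ (Over S)) X) (toUnit _)]
          rw [e1, hpt, MonObj.one_comp, one_act_pt, leftUnitor_hom]
        mul_act := by
          refine hext _ _ ?_
          have e1 : μ[G'] ▷ X = lift ((fst _ _ ≫ fst G' G') * (fst _ _ ≫ snd G' G')) (snd _ _) := by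
            refine CartesianMonoidalCategory.hom_ext _ _ ?_ (by simp)
            rw [lift_fst, whiskerRight_fst, Hom.mul_def, ← comp_lift, lift_fst_snd, Category.comp_id]
          have e2 : (α_ G' G' X).hom ≫ G' ◁ act =
              lift (fst _ _ ≫ fst G' G') (lift (fst _ _ ≫ snd G' G') (snd _ _) ≫ act) := by
            refine CartesianMonoidalCategory.hom_ext _ _ (by simp) ?_
            simp only [Category.assoc, whiskerLeft_snd, lift_snd]
            rw [← Category.assoc]
            congr 1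
            ext <;> simp
          rw [e1, hpt, ← Category.assoc (α_ G' G' X).hom, e2, hpt, hpt, MonObj.mul_comp, act_assoc] }
    refine ⟨⟨X, a, ?_, ?_⟩, incl, ?_⟩
    · -- pseudo-torsor
      obtain ⟨g, hg⟩ := exists_div P.isTorsor.1 (fst X X ≫ incl) (snd X X ≫ incl)
      obtain ⟨g', rfl⟩ := exists_of_comp_eq_one hex g (by
        have := equivariant_pt_trivial hh g (snd X X ≫ incl)
        rw [hg, hXh, hXh, _root_.mul_one] at this
        exact this.symm)
      refine ⟨lift g' (snd X X), ?_, ?_⟩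
      · refine CartesianMonoidalCategory.hom_ext _ _ ?_ (by simp)
        rw [Category.assoc, lift_fst, Category.id_comp]
        refine eq_of_comp_eq hex _ _ (act_free P.isTorsor.1 (y := snd G' X ≫ incl) ?_)
        have h1 := congrArg (fun t => lift act (snd G' X) ≫ t) hg
        simp only [comp_lift_assoc, lift_fst_assoc, lift_snd_assoc] at h1
        rw [Category.assoc, h1, ← hpt, lift_fst_snd, Category.id_comp]
      · refine CartesianMonoidalCategory.hom_ext _ _ ?_ (by simp)
        rw [Category.assoc, lift_fst, Category.id_comp]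
        exact hext _ _ (by rw [hpt, hg])
    · -- local triviality
      let Sv : Sieve S :=
        { arrows := fun T c => NonAbH1.HasSectionOver X c
          downward_closed := by
            rintro T T' c ⟨s, hs⟩ b
            exact ⟨b ≫ s, by rw [Category.assoc, hs]⟩ }
      obtain ⟨R₀, hR₀, hsec₀⟩ := hasLocSec_toUnit P.isTorsor.2
      obtain ⟨R₁, hR₁, hsec₁⟩ := hex.2.2.2.2
      have hSv : Sv ∈ Scheme.fpqcTopology S := by
        refine Scheme.fpqcTopology.transitive hR₀ Sv fun T c hc => ?_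
        obtain ⟨s, hs⟩ := hsec₀ c hc
        have hs' : s ≫ P.X.hom = c := by
          rw [← hs]; congr 1
        let σ : Over.mk c ⟶ P.X := Over.homMk s hs'
        let y : Over.mk c ⟶ G'' := (σ ≫ h)⁻¹
        refine Scheme.fpqcTopology.superset_covering ?_
          (Scheme.fpqcTopology.pullback_stable y.left (Precoverage.generate_mem_toGrothendieck hR₁))
        rintro W b ⟨V, b', f, hf, hb⟩
        obtain ⟨w, hw⟩ := hsec₁ f hf
        change w ≫ v.left = f at hw
        show NonAbH1.HasSectionOver X (b ≫ c)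
        let bb : Over.mk (b ≫ c) ⟶ Over.mk c := Over.homMk b rfl
        let g : Over.mk (b ≫ c) ⟶ G := Over.homMk (b' ≫ w) (by
          show (b' ≫ w) ≫ G.hom = b ≫ c
          rw [← Over.w v, Category.assoc, reassoc_of% hw, reassoc_of% hb, Over.w y]
          rfl)
        have hgv : g ≫ v = bb ≫ y := Over.OverMorphism.ext (by
          show (b' ≫ w) ≫ v.left = b ≫ y.left
          rw [Category.assoc, hw, hb])
        obtain ⟨q, -⟩ := hlift (lift g (bb ≫ σ) ≫ P.act.act) (by
          rw [equivariant_pt_trivial hh, hgv, GrpObj.comp_inv, Category.assoc, inv_mul_cancel])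
        exact ⟨q.left, Over.w q⟩
      obtain ⟨R, hR, hle⟩ := Precoverage.mem_toGrothendieck_iff_of_isStableUnderComposition.1 hSv
      exact ⟨R, hR, fun S' f hf => hle _ _ hf⟩
    · exact hact
  · rintro ⟨Q, k, hk⟩
    let j : P.X ⊗ Q.X ⟶ P.X := fst _ _
    have hj : HasLocSec Scheme.fpqcTopology j :=
      hasLocSec_of_points j Q.isTorsor.2 fun T y s => ⟨lift y s, lift_fst _ _⟩
    obtain ⟨d, hd⟩ := exists_div P.isTorsor.1 j (snd P.X Q.X ≫ k)
    have hd' : ∀ {T : Over S} (t : T ⟶ P.X ⊗ Q.X),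
        lift (t ≫ d) ((t ≫ snd _ _) ≫ k) ≫ P.act.act = t ≫ j := fun t => by
      have h1 := congrArg (fun z => t ≫ z) hd
      simpa only [comp_lift_assoc, Category.assoc] using h1
    obtain ⟨χ, hχ, -⟩ := hj.existsUnique_desc (d ≫ v) fun T a b hab => by
      obtain ⟨g, hg⟩ := exists_div Q.isTorsor.1 (a ≫ snd P.X Q.X) (b ≫ snd P.X Q.X)
      have h1 : a ≫ d * g ≫ u = b ≫ d := by
        refine act_free P.isTorsor.1 (y := (b ≫ snd _ _) ≫ k) ?_
        rw [act_assoc, ← equivariant_pt hk, hg, hd', hd', hab]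
      rw [← Category.assoc, ← Category.assoc, ← h1, MonObj.mul_comp, comp_v_eq_one hex, _root_.mul_one]
    have hχ' : ∀ {T : Over S} (y : T ⟶ P.X) (q : T ⟶ Q.X) (e : T ⟶ G),
        lift e (q ≫ k) ≫ P.act.act = y → y ≫ χ = e ≫ v := fun y q e he => by
      have h1 : lift y q ≫ d = e := by
        refine act_free P.isTorsor.1 (y := q ≫ k) ?_
        have := hd' (lift y q)
        rw [lift_snd, lift_fst] at this
        exact this.trans he.symm
      have h2 := congrArg (fun z => lift y q ≫ z) hχ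
      simp only [j, lift_fst_assoc] at h2
      rw [h2, ← Category.assoc, h1]
    refine ⟨χ, (hj.whiskerLeft G).hom_ext ?_⟩
    obtain ⟨e, he⟩ : ∃ e : G ⊗ (P.X ⊗ Q.X) ⟶ G, e = snd _ _ ≫ d := ⟨_, rfl⟩
    have hy : lift e ((snd G _ ≫ snd _ _) ≫ k) ≫ P.act.act = snd G (P.X ⊗ Q.X) ≫ j := by
      rw [he]; exact hd' _
    have hL : G ◁ j = lift (fst G (P.X ⊗ Q.X)) (snd G (P.X ⊗ Q.X) ≫ j) := by
      refine CartesianMonoidalCategory.hom_ext _ _ (by simp) (by simp)
    rw [hL, ← Category.assoc, ← Category.assoc, comp_lift, lift_fst_assoc, lift_snd_assoc,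
      hχ' _ _ (fst G (P.X ⊗ Q.X) * e) (by rw [act_assoc, hy]), MonObj.mul_comp,
      ← hχ' _ _ e hy, Hom.mul_def]
    rfl

end Groth.Agent.RGLib.TorsorSeq
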