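import Groth.Agent.GrModX.MapProps
import Mathlib.AlgebraicGeometry.ProjectiveSpectrum.Basic

/-!
# Homogeneous prime avoidance on a projective spectrum
-/

universe u

open AlgebraicGeometry DirectSum TopologicalSpace

set_option autoImplicit false

namespace Groth.Agent.RGLib

variable {R A : Type u} [CommRing R] [CommRing A] [Algebra R A] (𝒜 : ℕ → Submodule R A) [GradedAlgebra 𝒜]

lemma exists_homogeneous_mem_notMem {x a : ProjectiveSpectrum 𝒜}
    (h : ¬ x.asHomogeneousIdeal.toIdeal ≤ a.asHomogeneousIdeal.toIdeal) :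
    ∃ (g : A) (e : ℕ), g ∈ 𝒜 e ∧ g ∈ x.asHomogeneousIdeal.toIdeal ∧ g ∉ a.asHomogeneousIdeal.toIdeal := by
  classical
  obtain ⟨g, hgx, hga⟩ := SetLike.not_le_iff_exists.1 h
  obtain ⟨e, he⟩ : ∃ e, (decompose 𝒜 g e : A) ∉ a.asHomogeneousIdeal.toIdeal := by
    by_contra! hall
    exact hga (by rw [← sum_support_decompose 𝒜 g]; exact Ideal.sum_mem _ fun i _ => hall i)
  exact ⟨_, e, SetLike.coe_mem _, x.asHomogeneousIdeal.isHomogeneous e hgx, he⟩

/-- A finite set of points of an open of `Proj` lies in a standard open inside it. -/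
theorem exists_homogeneous_basicOpen_of_finset (W : (Proj 𝒜).Opens) (s : Finset (ProjectiveSpectrum 𝒜))
    (hs : ∀ x ∈ s, x ∈ W) :
    ∃ (f : A) (d : ℕ), 0 < d ∧ f ∈ 𝒜 d ∧ (∀ x ∈ s, x ∈ Proj.basicOpen 𝒜 f) ∧ Proj.basicOpen 𝒜 f ≤ W := by
  classical
  induction s using Finset.induction_on with
  | empty => exact ⟨0, 1, one_pos, zero_mem _, by simp, by rw [Proj.basicOpen_zero]; exact bot_le⟩
  | insert a s has ih =>
    obtain ⟨f, d, hd, hf, hfs, hfW⟩ := ih fun x hx => hs x (Finset.mem_insert_of_mem hx)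
    by_cases hfa : a ∈ Proj.basicOpen 𝒜 f
    · exact ⟨f, d, hd, hf, fun x hx => (Finset.mem_insert.1 hx).elim (· ▸ hfa) (hfs x), hfW⟩
    obtain ⟨fa, da, hda, hfad, hafa, hfaW⟩ := GrModX.exists_basicOpen_le 𝒜 (hs a (Finset.mem_insert_self a s))
    let t := s.filter fun x => ¬ x.asHomogeneousIdeal.toIdeal ≤ a.asHomogeneousIdeal.toIdeal
    have hg := fun x : t => exists_homogeneous_mem_notMem 𝒜 (Finset.mem_filter.1 x.2).2
    choose g e hge hgx hga using hg
    haveI := a.isPrime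
    let h := fa * ∏ x : t, g x
    let D := da + ∑ x : t, e x
    have hh : h ∈ 𝒜 D := SetLike.mul_mem_graded hfad (SetLike.prod_mem_graded _ e g fun x _ => hge x)
    have hha : h ∉ a.asHomogeneousIdeal.toIdeal := fun hm =>
      (Ideal.IsPrime.mem_or_mem a.isPrime hm).elim hafa fun hp => by
        obtain ⟨x, -, hx⟩ := (Ideal.IsPrime.prod_mem_iff).1 hp
        exact hga x hx
    have hfm : f ∈ a.asHomogeneousIdeal.toIdeal := not_not.1 fun hn => hfa hn
    have hD : 0 < D := Nat.add_pos_left hda _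
    have ha' : f ^ D + h ^ d ∉ a.asHomogeneousIdeal.toIdeal := fun hm => hha <|
      a.isPrime.mem_of_pow_mem d ((Submodule.add_mem_iff_right _ (Ideal.pow_mem_of_mem _ hfm D hD)).1 hm)
    refine ⟨f ^ D + h ^ d, d * D, Nat.mul_pos hd hD, add_mem ?_ ?_, fun x hx => ?_, fun z hz => ?_⟩
    · simpa [smul_eq_mul, mul_comm] using SetLike.pow_mem_graded D hf
    · simpa [smul_eq_mul] using SetLike.pow_mem_graded d hh
    · rcases Finset.mem_insert.1 hx with rfl | hxs
      · exact ha'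
      by_cases hle : x.asHomogeneousIdeal.toIdeal ≤ a.asHomogeneousIdeal.toIdeal
      · exact fun hm => ha' (hle hm)
      · intro hm
        have hxt : x ∈ t := Finset.mem_filter.2 ⟨hxs, hle⟩
        have hhx : h ∈ x.asHomogeneousIdeal.toIdeal :=
          Ideal.mul_mem_left _ _ (Ideal.mem_of_dvd _ (Finset.dvd_prod_of_mem g (Finset.mem_univ (⟨x, hxt⟩ : t))) (hgx ⟨x, hxt⟩))
        exact hfs x hxs (x.isPrime.mem_of_pow_mem D
          ((Submodule.add_mem_iff_left _ (Ideal.pow_mem_of_mem _ hhx d hd)).1 hm))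
    · by_cases hzf : z ∈ Proj.basicOpen 𝒜 f
      · exact hfW hzf
      · refine hfaW fun hzfa => hz ?_
        have h1 : f ∈ z.asHomogeneousIdeal.toIdeal := not_not.1 fun hn => hzf hn
        exact add_mem (Ideal.pow_mem_of_mem _ h1 D hD)
          (Ideal.pow_mem_of_mem _ (Ideal.mul_mem_right _ _ hzfa) d hd)

end Groth.Agent.RGLib
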