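import Groth.Agent.RGLib.GenericQuot

/-!
# Quotients flat over a regular curve with prescribed generic fibre
-/

set_option autoImplicit false
set_option linter.style.haveILetI false
set_option backward.isDefEq.respectTransparency false
set_option backward.isDefEq.respectTransparency.types false

universe u

open CategoryTheory CategoryTheory.Limits AlgebraicGeometry TopologicalSpace Opposite

namespace Groth.Agent.RGLib.GenericQuot

open Groth.Agent

theorem mono_of_app_injective {X : Scheme.{u}} {M N : X.Modules} (hM : Coh.IsQCoh M) (hN : Coh.IsQCoh N)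
    (φ : M ⟶ N) {ι : Type*} (U : ι → X.Opens) (haff : ∀ i, IsAffineOpen (U i)) (hU : ∀ x : X, ∃ i, x ∈ U i)
    (h : ∀ i, Function.Injective (φ.app (U i))) : Mono φ := by
  refine Preadditive.mono_of_kernel_zero ?_
  refine (QCoh.isZero_of_cover (QCoh.isQCoh_kernel hM hN φ) U haff hU fun i => ⟨fun s t => ?_⟩).eq_of_src _ _
  refine QCoh.app_injective (kernel.ι φ) (U i) (h i ?_)
  rw [← ConcreteCategory.comp_apply, ← ConcreteCategory.comp_apply, ← Scheme.Modules.Hom.comp_app,
    kernel.condition]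
  rfl

variable {X Y : Scheme.{u}} [IsIntegral Y] (f : X ⟶ Y)

theorem exists_chart (x : X) :
    ∃ (U : X.Opens) (V : Y.Opens), IsAffineOpen U ∧ IsAffineOpen V ∧ genericPoint Y ∈ V ∧ x ∈ U ∧ U ≤ f ⁻¹ᵁ V := by
  obtain ⟨_, ⟨V, hV, rfl⟩, hxV, -⟩ :=
    Y.isBasis_affineOpens.exists_subset_of_mem_open (Set.mem_univ (f x)) isOpen_univ
  obtain ⟨_, ⟨U, hU, rfl⟩, hxU, hle⟩ :=
    X.isBasis_affineOpens.exists_subset_of_mem_open (show x ∈ f ⁻¹ᵁ V from hxV) (f ⁻¹ᵁ V).2
  exact ⟨U, V, hU, hV, genericPoint_mem ⟨f x, hxV⟩, hxU, hle⟩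

variable {G' : (f.fiber (genericPoint Y)).Modules}

/-- The adjoint of a morphism out of the restriction to the generic fibre. -/
noncomputable abbrev adjunct {M : X.Modules} (φ : (Scheme.Modules.pullback (f.fiberι (genericPoint Y))).obj M ⟶ G') :
    M ⟶ (Scheme.Modules.pushforward (f.fiberι (genericPoint Y))).obj G' :=
  (Scheme.Modules.pullbackPushforwardAdjunction (f.fiberι (genericPoint Y))).homEquiv _ _ φ

theorem adjunct_app {M : X.Modules} (φ : (Scheme.Modules.pullback (f.fiberι (genericPoint Y))).obj M ⟶ G')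
    (U : X.Opens) (x : Γ(M, U)) :
    (adjunct f φ).app U x =
      φ.app (f.fiberι (genericPoint Y) ⁻¹ᵁ U) (QCoh.pullSec (f.fiberι (genericPoint Y)) M le_rfl x) := by
  rw [adjunct, Adjunction.homEquiv_unit, Scheme.Modules.Hom.comp_app, ConcreteCategory.comp_apply]
  let N := (Scheme.Modules.pullback (f.fiberι (genericPoint Y))).obj M
  have hid : ∀ y : Γ(N, f.fiberι (genericPoint Y) ⁻¹ᵁ U),
      N.presheaf.map (homOfLE (le_refl (f.fiberι (genericPoint Y) ⁻¹ᵁ U))).op y = y := fun y => by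
    rw [show homOfLE (le_refl (f.fiberι (genericPoint Y) ⁻¹ᵁ U)) = 𝟙 _ from Subsingleton.elim _ _, op_id,
      CategoryTheory.Functor.map_id]
    rfl
  unfold QCoh.pullSec
  rw [hid]
  rfl

/-- Functions that do not vanish on the base act injectively on a pushforward from the generic fibre. -/
theorem smul_eq_zero_pushforward {U : X.Opens} (hU : IsAffineOpen U) {V : Y.Opens} (hV : IsAffineOpen V)
    (hη : genericPoint Y ∈ V) (hle : U ≤ f ⁻¹ᵁ V) {a : Γ(Y, V)} (ha : a ≠ 0)
    (z : Γ((Scheme.Modules.pushforward (f.fiberι (genericPoint Y))).obj G', U))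
    (hz : f.appLE V U hle a • z = 0) : z = 0 := by
  have hu := (isLocalizedModule_pullSec f (M := Coh.structureModule X) (PnCoh.isQCoh_structureModule X)
    hU hV hη hle).1 a ha
  rw [← Scheme.Hom.app_eq_appLE] at hu
  let z' : Γ(G', f.fiberι (genericPoint Y) ⁻¹ᵁ U) := z
  have hz' : (f.fiberι (genericPoint Y)).app U (f.appLE V U hle a) • z' = 0 := hz
  exact (hu.smul_eq_zero (x := z')).1 hz'

/-- A flat module over an integral base embeds into the pushforward of its generic fibre. -/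
theorem mono_adjunct_of_flat {M : X.Modules} (hM : Coh.IsQCoh M) (hfl : FlatMod.IsFlatOver f M)
    (hG' : Coh.IsQCoh G') (e : (Scheme.Modules.pullback (f.fiberι (genericPoint Y))).obj M ⟶ G') [Mono e] :
    Mono (adjunct f e) := by
  haveI := isAffineHom_fiberι f (genericPoint Y)
  choose U V hU hV hη hxU hle using exists_chart f
  refine mono_of_app_injective hM (QCoh.isQCoh_pushforward _ hG') _ U hU (fun x => ⟨x, hxU x⟩) fun i => ?_
  refine (injective_iff_map_eq_zero _).2 fun x hx => ?_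
  rw [adjunct_app] at hx
  obtain ⟨a, ha, hax⟩ := (isLocalizedModule_pullSec f hM (hU i) (hV i) (hη i) (hle i)).2.2 x
    (QCoh.app_injective e _ (hx.trans (map_zero _).symm))
  letI : Module Γ(Y, V i) Γ(M, U i) := Module.compHom _ (f.appLE (V i) (U i) (hle i)).hom
  haveI : Nonempty (V i) := ⟨⟨_, hη i⟩⟩
  haveI : Module.Flat Γ(Y, V i) Γ(M, U i) := (QCoh.isFlatOver_iff f hM).1 hfl (U i) (V i) (hle i) (hU i) (hV i)
  have hreg : IsSMulRegular Γ(M, U i) a :=
    Module.Flat.isSMulRegular_of_nonZeroDivisors (mem_nonZeroDivisors_of_ne_zero ha)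
  exact hreg.right_eq_zero_of_smul hax

/-- Submodules of a pushforward from the generic fibre are flat over a regular curve. -/
theorem isFlatOver_of_mono (hY : ∀ y : Y, IsRegularLocalRing (Y.presheaf.stalk y) ∧ ringKrullDim (Y.presheaf.stalk y) ≤ 1)
    {G : X.Modules} (hG : Coh.IsQCoh G)
    (ψ : G ⟶ (Scheme.Modules.pushforward (f.fiberι (genericPoint Y))).obj G') [Mono ψ] :
    FlatMod.IsFlatOver f G := by
  intro x
  obtain ⟨U, V, hU, hV, hη, hxU, hle⟩ := exists_chart f x
  haveI : Nonempty V := ⟨⟨_, hη⟩⟩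
  haveI := (hY (f x)).1
  haveI := RegLoc6.isDomain_of_isRegularLocalRing (Y.presheaf.stalk (f x))
  haveI := DimFormula.isPrincipalIdealRing_of_regular_dim_le_one (hY (f x)).2
  letI := FlatMod.moduleStalkOver f G x
  show Module.Flat (Y.presheaf.stalk (f x)) (G.presheaf.stalk x)
  letI := QCoh.stalkAlg (X := Y) (U := V) (x := f x) (hle hxU)
  haveI := QCoh.isLocalization_stalk' hV (hle hxU)
  letI := QCoh.stalkModule G hxU
  haveI := QCoh.isLocalizedModule_germLin hG hU hxU
  rw [Module.Flat.flat_iff_torsion_eq_bot_of_isBezout, eq_bot_iff]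
  intro m hm
  obtain ⟨⟨b, hb⟩, hbm⟩ := (Submodule.mem_torsion_iff m).1 hm
  obtain ⟨⟨a, s⟩, has⟩ := IsLocalization.surj (hV.primeIdealOf ⟨f x, hle hxU⟩).asIdeal.primeCompl b
  have ha : a ≠ 0 := fun h0 => by
    rw [h0, map_zero] at has
    exact nonZeroDivisors.ne_zero hb
      ((IsLocalization.map_units (Y.presheaf.stalk (f x)) s).mul_left_eq_zero.1 has)
  have hbm' : (algebraMap Γ(Y, V) (Y.presheaf.stalk (f x)) a) • m = 0 := by
    rw [← has, mul_comm, mul_smul, show b • m = 0 from hbm, smul_zero]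
  have hgerm : ∀ (c : G.presheaf.stalk x), (algebraMap Γ(Y, V) (Y.presheaf.stalk (f x)) a) • c =
      X.presheaf.germ U x hxU (f.appLE V U hle a) • c := fun c => by
    show f.stalkMap x (Y.presheaf.germ V (f x) (hle hxU) a) • c = _
    erw [Scheme.Hom.germ_stalkMap_apply f V x (hle hxU) a]
    refine congrArg (fun r => r • c) ?_
    exact (X.presheaf.germ_res_apply (homOfLE hle) x hxU _).symm
  obtain ⟨⟨y, t⟩, hy⟩ := IsLocalizedModule.surj (hU.primeIdealOf ⟨x, hxU⟩).asIdeal.primeCompl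
    (QCoh.germLin G hxU) m
  have h0 : QCoh.germLin G hxU (f.appLE V U hle a • y) = 0 := by
    rw [map_smul, ← hy]
    show X.presheaf.germ U x hxU (f.appLE V U hle a) • (X.presheaf.germ U x hxU (t : Γ(X, U)) • m) = 0
    rw [← mul_smul, mul_comm, mul_smul, ← hgerm, hbm', smul_zero]
  obtain ⟨t', ht'⟩ := (IsLocalizedModule.eq_zero_iff (hU.primeIdealOf ⟨x, hxU⟩).asIdeal.primeCompl
    (QCoh.germLin G hxU)).1 h0
  have hty : (t' : Γ(X, U)) • y = 0 := by
    refine QCoh.app_injective ψ U ?_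
    rw [map_zero]
    refine smul_eq_zero_pushforward f hU hV hη hle ha _ ?_
    rw [← Scheme.Modules.Hom.app_smul, smul_comm]
    exact (congrArg (ψ.app U) ht').trans (map_zero _)
  have hly : QCoh.germLin G hxU y = 0 :=
    (IsLocalizedModule.eq_zero_iff (hU.primeIdealOf ⟨x, hxU⟩).asIdeal.primeCompl _).2 ⟨t', hty⟩
  rw [hly] at hy
  refine (Submodule.mem_bot _).2 (((Module.End.isUnit_iff _).1
    (IsLocalizedModule.map_units (QCoh.germLin G hxU) t)).1 ?_)
  show (t : Γ(X, U)) • m = (t : Γ(X, U)) • (0 : G.presheaf.stalk x)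
  rw [smul_zero]
  exact hy

/-- If the adjoint is a monomorphism, so is the map. -/
theorem mono_of_mono_adjunct {M : X.Modules} (hM : Coh.IsQCoh M) (hG' : Coh.IsQCoh G')
    (φ : (Scheme.Modules.pullback (f.fiberι (genericPoint Y))).obj M ⟶ G') [Mono (adjunct f φ)] : Mono φ := by
  haveI := isAffineHom_fiberι f (genericPoint Y)
  choose U V hU hV hη hxU hle using exists_chart f
  refine mono_of_app_injective (QCoh.isQCoh_pullback _ hM) hG' φ
    (fun i => f.fiberι (genericPoint Y) ⁻¹ᵁ U i) (fun i => (hU i).preimage _)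
    (fun z => ⟨f.fiberι (genericPoint Y) z, hxU _⟩) fun i => ?_
  refine (injective_iff_map_eq_zero _).2 fun c hc => ?_
  obtain ⟨hunit, hsur, -⟩ := isLocalizedModule_pullSec f hM (hU i) (hV i) (hη i) (hle i)
  obtain ⟨a, ha, x, hx⟩ := hsur c
  have h1 : (adjunct f φ).app (U i) x = 0 := by
    rw [adjunct_app, ← hx, Scheme.Modules.Hom.app_smul, hc, smul_zero]
  have h2 : x = 0 := QCoh.app_injective (adjunct f φ) (U i) (h1.trans (map_zero _).symm)
  refine (hunit a ha).smul_eq_zero.1 ?_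
  rw [hx, h2]
  unfold QCoh.pullSec
  rw [map_zero]
  exact map_zero _

/-- Existence and uniqueness of the flat quotient with given generic fibre. -/
theorem exists_unique (hY : ∀ y : Y, IsRegularLocalRing (Y.presheaf.stalk y) ∧ ringKrullDim (Y.presheaf.stalk y) ≤ 1)
    (F : X.Modules) (hF : Coh.IsQCoh F) (hG' : Coh.IsQCoh G')
    (π : (Scheme.Modules.pullback (f.fiberι (genericPoint Y))).obj F ⟶ G') [Epi π] :
    (∃ (G : X.Modules) (ρ : F ⟶ G) (e : (Scheme.Modules.pullback (f.fiberι (genericPoint Y))).obj G ≅ G'),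
        Epi ρ ∧ Coh.IsQCoh G ∧ FlatMod.IsFlatOver f G ∧
          (Scheme.Modules.pullback (f.fiberι (genericPoint Y))).map ρ ≫ e.hom = π) ∧
      ∀ (G₁ G₂ : X.Modules) (ρ₁ : F ⟶ G₁) (ρ₂ : F ⟶ G₂)
        (e₁ : (Scheme.Modules.pullback (f.fiberι (genericPoint Y))).obj G₁ ≅ G')
        (e₂ : (Scheme.Modules.pullback (f.fiberι (genericPoint Y))).obj G₂ ≅ G'),
        Epi ρ₁ → Epi ρ₂ → Coh.IsQCoh G₁ → Coh.IsQCoh G₂ → FlatMod.IsFlatOver f G₁ → FlatMod.IsFlatOver f G₂ →
        (Scheme.Modules.pullback (f.fiberι (genericPoint Y))).map ρ₁ ≫ e₁.hom = π →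
        (Scheme.Modules.pullback (f.fiberι (genericPoint Y))).map ρ₂ ≫ e₂.hom = π →
        ∃ e : G₁ ≅ G₂, ρ₁ ≫ e.hom = ρ₂ := by
  haveI := isAffineHom_fiberι f (genericPoint Y)
  let adj := Scheme.Modules.pullbackPushforwardAdjunction (f.fiberι (genericPoint Y))
  let ψ := adjunct f π
  constructor
  · have hP := QCoh.isQCoh_pushforward (f.fiberι (genericPoint Y)) hG'
    have hqi : Coh.IsQCoh (Limits.image ψ) :=
      (QCoh.isQCoh_iff_iso (Abelian.imageIsoImage ψ)).1
        (QCoh.isQCoh_kernel hP (QCoh.isQCoh_cokernel hF hP ψ) _)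
    let φ := (adj.homEquiv _ _).symm (Limits.image.ι ψ)
    haveI : Mono (adjunct f φ) := by
      rw [show adjunct f φ = Limits.image.ι ψ from Equiv.apply_symm_apply _ _]
      infer_instance
    haveI : Mono φ := mono_of_mono_adjunct f hqi hG' φ
    have hfac : (Scheme.Modules.pullback (f.fiberι (genericPoint Y))).map (factorThruImage ψ) ≫ φ = π := by
      rw [← adj.homEquiv_naturality_left_symm, Limits.image.fac]
      exact Equiv.symm_apply_apply _ _
    haveI : Epi φ := epi_of_epi_fac hfac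
    haveI : IsIso φ := isIso_of_mono_of_epi _
    exact ⟨Limits.image ψ, factorThruImage ψ, asIso φ, inferInstance, hqi,
      isFlatOver_of_mono f hY hqi (Limits.image.ι ψ), hfac⟩
  · intro G₁ G₂ ρ₁ ρ₂ e₁ e₂ hρ₁ hρ₂ h₁ h₂ hfl₁ hfl₂ hc₁ hc₂
    haveI := mono_adjunct_of_flat f h₁ hfl₁ hG' e₁.hom
    haveI := mono_adjunct_of_flat f h₂ hfl₂ hG' e₂.hom
    haveI : StrongEpi ρ₁ := strongEpi_of_epi ρ₁
    haveI : StrongEpi ρ₂ := strongEpi_of_epi ρ₂
    have hf₁ : ρ₁ ≫ adjunct f e₁.hom = ψ := by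
      exact (adj.homEquiv_naturality_left ρ₁ e₁.hom).symm.trans (congrArg _ hc₁)
    have hf₂ : ρ₂ ≫ adjunct f e₂.hom = ψ :=
      (adj.homEquiv_naturality_left ρ₂ e₂.hom).symm.trans (congrArg _ hc₂)
    refine ⟨Limits.image.isoStrongEpiMono ρ₁ _ hf₁ ≪≫ (Limits.image.isoStrongEpiMono ρ₂ _ hf₂).symm, ?_⟩
    rw [← cancel_mono (Limits.image.isoStrongEpiMono ρ₂ _ hf₂).hom]
    simp only [Iso.trans_hom, Iso.symm_hom, Category.assoc, Iso.inv_hom_id, Category.comp_id]
    rw [← cancel_mono (Limits.image.ι ψ), Category.assoc, Category.assoc, Limits.image.isoStrongEpiMono_hom_comp_ι,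
      Limits.image.isoStrongEpiMono_hom_comp_ι, hf₁, hf₂]

end Groth.Agent.RGLib.GenericQuot
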