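import Groth.Agent.S5018
import Groth.Agent.S1488
import Groth.Agent.H23.Frame
import Groth.Agent.KFlatLib.Perfect.LocFree
import Groth.Agent.Synt29.OmegaStalk
import Mathlib

/-!
# The differential of a dominant separable morphism of smooth varieties is injective
-/

set_option autoImplicit false
set_option linter.style.haveILetI false
set_option backward.isDefEq.respectTransparency false
set_option backward.isDefEq.respectTransparency.types false

universe u

open CategoryTheory CategoryTheory.Limits AlgebraicGeometry TopologicalSpace Opposite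
open scoped TensorProduct
open Groth.Agent.Synt29.OmegaStalk (St gm stalkD)

namespace Groth.Agent.RGLib.CotangentMono

variable {k : Type u} [Field k]

/-- The constants in a stalk. -/
noncomputable def kMap {X : Scheme.{u}} (p : X ⟶ Spec (CommRingCat.of k)) (z : X) : k →+* X.presheaf.stalk z :=
  ((Scheme.ΓSpecIso (CommRingCat.of k)).inv ≫ p.appTop ≫ X.presheaf.germ ⊤ z trivial).hom

theorem exists_const {X : Scheme.{u}} (p : X ⟶ Spec (CommRingCat.of k)) (z : X)
    (a : (Spec (CommRingCat.of k)).presheaf.stalk (p z)) : ∃ c : k, p.stalkMap z a = kMap p z c := by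
  haveI : Subsingleton (Spec (CommRingCat.of k)) := inferInstanceAs (Subsingleton (PrimeSpectrum k))
  obtain ⟨V, hyV, s, rfl⟩ := (Spec (CommRingCat.of k)).presheaf.exists_germ_eq (x := p z) a
  obtain rfl : V = ⊤ := eq_top_iff.2 fun q _ => Subsingleton.elim (p z) q ▸ hyV
  refine ⟨(Scheme.ΓSpecIso (CommRingCat.of k)).hom s, ?_⟩
  erw [Scheme.Hom.germ_stalkMap_apply]
  show X.presheaf.germ _ _ _ (p.app ⊤ s) = X.presheaf.germ ⊤ _ _ (p.appTop ((Scheme.ΓSpecIso (CommRingCat.of k)).inv
    ((Scheme.ΓSpecIso (CommRingCat.of k)).hom s)))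
  rw [Iso.hom_inv_id_apply]
  rfl

theorem exists_preimage_const {X : Scheme.{u}} (p : X ⟶ Spec (CommRingCat.of k)) (z : X) (c : k) :
    ∃ a, p.stalkMap z a = kMap p z c :=
  ⟨(Spec (CommRingCat.of k)).presheaf.germ ⊤ _ trivial ((Scheme.ΓSpecIso (CommRingCat.of k)).inv c),
    Scheme.Hom.germ_stalkMap_apply p ⊤ z trivial _⟩

variable {X : Scheme.{u}} (p : X ⟶ Spec (CommRingCat.of k)) {Ω : X.Modules} (d : OmegaSh.Der p Ω)
  (hd : OmegaSh.IsUniversal d) (z : X)

include hd in
/-- The stalk of the differentials maps injectively to the Kähler differentials over `k`. -/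
theorem exists_toKaehler :
    letI := (kMap p z).toAlgebra
    ∃ Ψ : (St Ω z) →ₗ[X.presheaf.stalk z] Ω[X.presheaf.stalk z⁄k],
      Function.Injective Ψ ∧ ∀ a, Ψ ((stalkD d z).d a) = KaehlerDifferential.D k (X.presheaf.stalk z) a := by
  letI := (kMap p z).toAlgebra
  let N : ModuleCat.{u} (X.presheaf.stalk z) := ModuleCat.of (X.presheaf.stalk z) (Ω[X.presheaf.stalk z⁄k])
  let δ : N.Derivation (p.stalkMap z) :=
    ModuleCat.Derivation.mk (fun b => KaehlerDifferential.D k (X.presheaf.stalk z) b)
      (fun a b => map_add _ a b) (fun a b => Derivation.leibniz _ a b) (fun a => by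
        obtain ⟨c, hc⟩ := exists_const p z a
        rw [hc]
        exact Derivation.map_algebraMap _ c)
  obtain ⟨φ, hφ⟩ := Synt29.OmegaStalk.exists_stalk_desc hd z δ
  have hconst : ∀ c : k, (stalkD d z).d (kMap p z c) = 0 := fun c => by
    obtain ⟨a, ha⟩ := exists_preimage_const p z c
    rw [← ha]; exact (stalkD d z).d_map a
  letI : Module k (St Ω z) := Module.compHom _ (kMap p z)
  haveI : IsScalarTower k (X.presheaf.stalk z) (St Ω z) := ⟨fun c r m => mul_smul (kMap p z c) r m⟩
  let E : Derivation k (X.presheaf.stalk z) (St Ω z) :=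
    { toFun := fun a => (stalkD d z).d a
      map_add' := fun a b => (stalkD d z).d_add a b
      map_smul' := fun c a => by
        show (stalkD d z).d (kMap p z c * a) = kMap p z c • (stalkD d z).d a
        refine ((stalkD d z).d_mul _ _).trans ?_
        show _ + (a : X.presheaf.stalk z) • (stalkD d z).d (kMap p z c) = _
        rw [hconst, smul_zero, add_zero]
      map_one_eq_zero' := by
        show (stalkD d z).d 1 = 0
        rw [← map_one (kMap p z), hconst]
      leibniz' := fun a b => (stalkD d z).d_mul a b }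
  have key : ∀ m, E.liftKaehlerDifferential (φ.hom m) = m := fun m => by
    let g : St Ω z ⟶ St Ω z := ModuleCat.ofHom (E.liftKaehlerDifferential ∘ₗ φ.hom)
    have : g = 𝟙 _ := Synt29.OmegaStalk.stalk_hom_ext hd fun b =>
      (congrArg E.liftKaehlerDifferential (hφ b)).trans (E.liftKaehlerDifferential_comp_D b)
    exact ConcreteCategory.congr_hom this m
  exact ⟨φ.hom, fun m m' h => by rw [← key m, ← key m', h], hφ⟩

variable {Y : Scheme.{u}} (φ : X ⟶ Y) {pY : Y ⟶ Spec (CommRingCat.of k)} {ΩY : Y.Modules} {dY : OmegaSh.Der pY ΩY}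
  (hY : OmegaSh.IsUniversal dY)

include hd hY in
set_option maxHeartbeats 1000000 in
/-- At a point with field local rings and separable extension the differential is injective. -/
theorem injective_stalk (w : φ ≫ pY = p) (hFX : IsField (X.presheaf.stalk z)) (hFY : IsField (Y.presheaf.stalk (φ z)))
    (hsep : letI := (φ.stalkMap z).hom.toAlgebra; letI := hFX.toField; letI := hFY.toField
      Algebra.IsSeparable (Y.presheaf.stalk (φ z)) (X.presheaf.stalk z))
    (c : (Scheme.Modules.pullback φ).obj ΩY ⟶ Ω) (hc : OmegaSh.IsDiffCompat φ dY d c) :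
    Function.Injective ((DerSch.stalkFunctor X z).map c) := by
  let L := Y.presheaf.stalk (φ z)
  let K := X.presheaf.stalk z
  let g : L →+* K := (φ.stalkMap z).hom
  letI : Algebra k L := (kMap pY (φ z)).toAlgebra
  letI : Algebra k K := (kMap p z).toAlgebra
  letI : Algebra L K := g.toAlgebra
  haveI : IsScalarTower k L K := IsScalarTower.of_algebraMap_eq fun a => by
    show kMap p z a = g (kMap pY (φ z) a)
    subst w
    show X.presheaf.germ ⊤ z trivial ((φ ≫ pY).appTop _) = φ.stalkMap z (Y.presheaf.germ ⊤ (φ z) trivial (pY.appTop _))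
    rw [Scheme.Hom.comp_appTop]
    exact (Scheme.Hom.germ_stalkMap_apply φ ⊤ z trivial _).symm
  obtain ⟨ΨY, hΨYi, hΨY⟩ := exists_toKaehler pY dY hY (φ z)
  obtain ⟨ΨX, -, hΨX⟩ := exists_toKaehler p d hd z
  haveI hFE : Algebra.FormallyEtale L K := by
    letI := hFX.toField; letI := hFY.toField
    exact Algebra.FormallyEtale.of_isSeparable L K
  haveI : Module.Flat L K := by
    letI := hFY.toField
    infer_instance
  let B : (K ⊗[L] St ΩY (φ z)) →ₗ[K] Ω[K⁄k] := (KaehlerDifferential.mapBaseChange k L K) ∘ₗ ΨY.baseChange K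
  have h1 : Function.Injective (KaehlerDifferential.mapBaseChange k L K) :=
    (KaehlerDifferential.tensorKaehlerEquivOfFormallyEtale k L K).injective
  have h2 : Function.Injective (ΨY.baseChange K) := Module.Flat.lTensor_preserves_injective_linearMap _ hΨYi
  have hB : Function.Injective B := h1.comp h2
  let e : St ((Scheme.Modules.pullback φ).obj ΩY) z ≅ (ModuleCat.extendScalars g).obj (St ΩY (φ z)) :=
    (KFlatLib.stalkPullbackIso φ z).app ΩY
  let cz : St ((Scheme.Modules.pullback φ).obj ΩY) z →ₗ[K] St Ω z := ((DerSch.stalkFunctor X z).map c).hom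
  have hcomp : ∀ m : St ΩY (φ z),
      ΨX (cz (e.inv ((ModuleCat.extendRestrictScalarsAdj g).unit.app _ m))) =
        KaehlerDifferential.mapBaseChange k L K (1 ⊗ₜ ΨY m) := by
    -- additive comparison on germs of differentials
    let A : St ΩY (φ z) ⟶ (ModuleCat.restrictScalars g).obj (ModuleCat.of K Ω[K⁄k]) :=
      (ModuleCat.extendRestrictScalarsAdj g).unit.app _ ≫ (ModuleCat.restrictScalars g).map
        (e.inv ≫ ModuleCat.ofHom (ΨX ∘ₗ cz))
    let Bm : St ΩY (φ z) ⟶ (ModuleCat.restrictScalars g).obj (ModuleCat.of K Ω[K⁄k]) :=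
      (ModuleCat.extendRestrictScalarsAdj g).unit.app _ ≫ (ModuleCat.restrictScalars g).map (ModuleCat.ofHom B)
    have hAB : A = Bm := Synt29.OmegaStalk.stalk_hom_ext hY fun b => by
      obtain ⟨U, hU, s, rfl⟩ := Y.presheaf.exists_germ_eq b
      show ΨX (cz (e.inv ((ModuleCat.extendRestrictScalarsAdj g).unit.app _
          ((stalkD dY (φ z)).d (Y.presheaf.germ U (φ z) hU s))))) =
        KaehlerDifferential.mapBaseChange k L K (1 ⊗ₜ ΨY ((stalkD dY (φ z)).d (Y.presheaf.germ U (φ z) hU s)))
      rw [hΨY, KaehlerDifferential.mapBaseChange_tmul, one_smul, KaehlerDifferential.map_D,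
        Synt29.OmegaStalk.stalkD_germ dY U hU s]
      have h1 := congrArg e.inv (Synt29.OmegaStalk.stalkPullbackIso_gm φ ΩY z hU (dY.app U s))
      let g0 := gm ((Scheme.Modules.pullback φ).obj ΩY) (show z ∈ φ ⁻¹ᵁ U from hU) (OmegaSh.pullSect φ ΩY U (dY.app U s))
      have h2 : e.inv (((KFlatLib.stalkPullbackIso φ z).hom.app ΩY) g0) = g0 := e.hom_inv_id_apply _
      rw [h2] at h1
      erw [← h1]
      have h3 : cz g0 = gm Ω (show z ∈ φ ⁻¹ᵁ U from hU) (d.app (φ ⁻¹ᵁ U) (φ.app U s)) := by
        rw [← hc U s]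
        exact TopCat.Presheaf.stalkFunctor_map_germ_apply (φ ⁻¹ᵁ U) z hU
          ((Scheme.Modules.toPresheaf X).map c) _
      rw [h3, ← Synt29.OmegaStalk.stalkD_germ d (φ ⁻¹ᵁ U) hU, hΨX]
      exact congrArg _ (Scheme.Hom.germ_stalkMap_apply φ U z hU s).symm
    intro m
    exact ConcreteCategory.congr_hom hAB m
  have hfac : ∀ t : K ⊗[L] St ΩY (φ z), ΨX (cz (e.inv t)) = B t := by
    intro t
    induction t using TensorProduct.induction_on with
    | zero => erw [map_zero e.inv.hom, map_zero cz, map_zero ΨX, map_zero B]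
    | tmul r m =>
      have h1 : (r ⊗ₜ[L] m : K ⊗[L] St ΩY (φ z)) = r • ((1 : K) ⊗ₜ[L] m) := by
        rw [TensorProduct.smul_tmul', smul_eq_mul, mul_one]
      rw [h1, map_smul B]
      erw [map_smul e.inv.hom, map_smul cz, map_smul ΨX]
      exact congrArg (r • ·) (hcomp m)
    | add a b ha hb => erw [map_add e.inv.hom, map_add cz, map_add ΨX, map_add B, ha, hb]
  intro a b hab
  refine (ConcreteCategory.bijective_of_isIso e.hom).1 (hB ?_)
  rw [← hfac (e.hom a), ← hfac (e.hom b)]
  erw [e.hom_inv_id_apply, e.hom_inv_id_apply]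
  exact congrArg ΨX hab

theorem main {X Y : Scheme.{u}} (pX : X ⟶ Spec (CommRingCat.of k)) (pY : Y ⟶ Spec (CommRingCat.of k)) (φ : X ⟶ Y)
    (w : φ ≫ pY = pX) [IsIntegral X] [IsIntegral Y] [Smooth pY] (hdom : DenseRange φ.base)
    (hsep : letI := (φ.residueFieldMap (genericPoint X)).hom.toAlgebra
      Algebra.IsSeparable (Y.residueField (φ.base (genericPoint X))) (X.residueField (genericPoint X)))
    (ΩY : Y.Modules) (dY : OmegaSh.Der pY ΩY) (hY : OmegaSh.IsUniversal dY)
    (ΩX : X.Modules) (dX : OmegaSh.Der pX ΩX) (hX : OmegaSh.IsUniversal dX)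
    (c : (Scheme.Modules.pullback φ).obj ΩY ⟶ ΩX) (hc : OmegaSh.IsDiffCompat φ dY dX c) : Mono c := by
  let η := genericPoint X
  have hξ : φ η = genericPoint Y := by
    refine ((genericPoint_spec Y).eq ?_).symm
    show closure ({φ η} : Set Y) = ⊤
    rw [Set.top_eq_univ, ← hdom.closure_range]
    refine le_antisymm (closure_mono (by rintro _ rfl; exact ⟨η, rfl⟩)) (closure_minimal ?_ isClosed_closure)
    rintro _ ⟨x, rfl⟩
    exact ((genericPoint_spec X).specializes (Set.mem_univ x)).map φ.continuous |>.mem_closure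
  have hFX : IsField (X.presheaf.stalk η) := Field.toIsField X.functionField
  have hFY : IsField (Y.presheaf.stalk (φ η)) := by
    rw [hξ]; exact Field.toIsField Y.functionField
  have hinj : Function.Injective ((DerSch.stalkFunctor X η).map c) := by
    refine injective_stalk pX dX hX η φ hY w hFX hFY ?_ c hc
    letI := (φ.stalkMap η).hom.toAlgebra
    letI := hFX.toField; letI := hFY.toField
    letI := (φ.residueFieldMap η).hom.toAlgebra
    have hb : ∀ {R : Type u} [CommRing R] [IsLocalRing R], IsField R → Function.Bijective (IsLocalRing.residue R) :=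
      fun {R} _ _ h => ⟨(RingHom.injective_iff_ker_eq_bot _).2 (by
        rw [IsLocalRing.ker_residue]; exact IsLocalRing.isField_iff_maximalIdeal_eq.1 h), IsLocalRing.residue_surjective⟩
    let eY : Y.residueField (φ η) ≃+* Y.presheaf.stalk (φ η) := (RingEquiv.ofBijective _ (hb hFY)).symm
    let eX : X.residueField η ≃+* X.presheaf.stalk η := (RingEquiv.ofBijective _ (hb hFX)).symm
    haveI := hsep
    refine Algebra.IsSeparable.of_equiv_equiv eY eX (RingHom.ext fun a => ?_)
    obtain ⟨b, rfl⟩ := (hb hFY).2 a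
    show φ.stalkMap η (eY (IsLocalRing.residue _ b)) = eX (φ.residueFieldMap η (IsLocalRing.residue _ b))
    have e1 : eY (IsLocalRing.residue _ b) = b := RingEquiv.symm_apply_apply _ _
    have e2 : φ.residueFieldMap η (IsLocalRing.residue _ b) = IsLocalRing.residue _ (φ.stalkMap η b) :=
      IsLocalRing.ResidueField.map_residue _ _
    rw [e1, e2]
    exact (RingEquiv.symm_apply_apply _ _).symm
  have hlf := S5018.result pY ((S1488.result _).1 inferInstance).2 ΩY dY hY
  have hlf' : FlatMod.IsFinLocFree ((Scheme.Modules.pullback φ).obj ΩY) :=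
    Groth.Agent.KFlatLib.isFinLocFree_pullback φ hlf
  refine QCoh.mono_of_isBasis c (B := {W | ∃ (n : ℕ) (e : Fin n → Γ((Scheme.Modules.pullback φ).obj ΩY, W)),
    H23.Frame.IsFrame _ e}) (Opens.isBasis_iff_nbhd.2 fun {A x} hx => ?_) ?_
  · obtain ⟨U, n, hxU, ⟨i⟩⟩ := hlf' x
    obtain ⟨e, he⟩ := H23.Frame.exists_frame i
    exact ⟨A ⊓ U, ⟨n, _, he.res inf_le_right⟩, ⟨hx, hxU⟩, inf_le_left⟩
  rintro W ⟨n, e, he⟩
  refine (injective_iff_map_eq_zero _).2 fun s hs => ?_
  by_cases hne : Nonempty W
  swap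
  · refine TopCat.Presheaf.section_ext ⟨((Scheme.Modules.pullback φ).obj ΩY).presheaf,
      ((Scheme.Modules.pullback φ).obj ΩY).isSheaf⟩ _ _ _ fun x hx => absurd ⟨⟨x, hx⟩⟩ hne
  obtain ⟨⟨x, hx⟩⟩ := hne
  have hηW : η ∈ W := ((genericPoint_spec X).specializes (Set.mem_univ x)).mem_open W.2 hx
  let M := (Scheme.Modules.pullback φ).obj ΩY
  have h0 : M.presheaf.germ W η hηW s = 0 := by
    apply hinj
    rw [map_zero]
    refine (TopCat.Presheaf.stalkFunctor_map_germ_apply W η hηW ((Scheme.Modules.toPresheaf X).map c) s).trans ?_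
    show ΩX.presheaf.germ W η hηW (c.app W s) = 0
    rw [hs, map_zero]
  obtain ⟨W', hηW', i, j, hij⟩ := TopCat.Presheaf.germ_eq (C := AddCommGrpCat.{u}) M.presheaf η hηW hηW s 0
    (h0.trans (map_zero _).symm)
  obtain ⟨a, rfl⟩ := (he W le_rfl).2 s
  rw [map_zero] at hij
  have h1 : H23.Frame.comb M e W' i.le (fun l => X.presheaf.map (homOfLE i.le).op (a l)) =
      H23.Frame.comb M e W' i.le (fun _ => 0) := by
    refine Eq.trans ?_ ((hij : M.presheaf.map (homOfLE i.le).op (H23.Frame.comb M e W le_rfl a) = 0).trans ?_)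
    · unfold H23.Frame.comb
      rw [map_sum]
      exact Finset.sum_congr rfl fun l _ => by rw [Scheme.Modules.map_smul, QCoh.map_map]; rfl
    · unfold H23.Frame.comb; simp
  have ha : ∀ l, a l = 0 := fun l => by
    refine germ_injective_of_isIntegral (X := X) η hηW ?_
    rw [map_zero, ← X.presheaf.germ_res_apply (homOfLE i.le) η hηW', congrFun ((he W' i.le).1 h1) l, map_zero]
  unfold H23.Frame.comb
  exact Finset.sum_eq_zero fun l _ => by rw [ha l, zero_smul]

end Groth.Agent.RGLib.CotangentMono
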