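import Mathlib.AlgebraicGeometry.Morphisms.QuasiFinite
import Mathlib.AlgebraicGeometry.Morphisms.Finite

/-!
# Closed points of fibres lift to closed points of base-changed fibres
-/

set_option autoImplicit false

universe u

open CategoryTheory CategoryTheory.Limits AlgebraicGeometry

namespace Groth.Agent.RGLib.FibClosed

set_option backward.isDefEq.respectTransparency false
set_option backward.isDefEq.respectTransparency.types false

/-- A point lying over a closed point of a scheme locally of finite type over a field is closed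
after a field extension. -/
theorem isClosed_singleton_of_field_ext {k K : Type u} [Field k] [Field K] {A B : Scheme.{u}}
    (φ : B ⟶ A) (q : B ⟶ Spec (CommRingCat.of K)) (p : A ⟶ Spec (CommRingCat.of k))
    (σ : Spec (CommRingCat.of K) ⟶ Spec (CommRingCat.of k)) [LocallyOfFiniteType p]
    (h : IsPullback φ q p σ) (y : B) (hy : IsClosed ({φ y} : Set A)) :
    IsClosed ({y} : Set B) := by
  haveI : IsClosedImmersion (A.fromSpecResidueField (φ y)) :=
    isClosed_singleton_iff_isClosedImmersion.mp hy
  haveI : IsFinite (A.fromSpecResidueField (φ y) ≫ p) :=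
    isFinite_iff_locallyOfFiniteType_of_jacobsonSpace.mpr inferInstance
  have hP := (IsPullback.of_hasPullback (A.fromSpecResidueField (φ y)) φ).flip.paste_horiz h.flip
  haveI : IsFinite (pullback.snd (A.fromSpecResidueField (φ y)) φ ≫ q) :=
    MorphismProperty.of_isPullback hP.flip inferInstance
  haveI : IsLocallyArtinian (pullback (A.fromSpecResidueField (φ y)) φ) :=
    IsLocallyArtinian.of_locallyQuasiFinite (pullback.snd (A.fromSpecResidueField (φ y)) φ ≫ q)
  have hmem : y ∈ Set.range (pullback.snd (A.fromSpecResidueField (φ y)) φ) := by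
    rw [Scheme.Pullback.range_snd, Scheme.range_fromSpecResidueField]
    rfl
  obtain ⟨z, hz⟩ := hmem
  have hcl := (pullback.snd (A.fromSpecResidueField (φ y)) φ).isClosedEmbedding.isClosedMap {z}
    (isClosed_discrete _)
  rwa [Set.image_singleton, hz] at hcl

theorem isClosed_asFiber_of_isPullback {X S X' S' : Scheme.{u}} (f : X ⟶ S) [LocallyOfFiniteType f]
    (g : S' ⟶ S) (g' : X' ⟶ X) (f' : X' ⟶ S') (hsq : IsPullback g' f' f g) (x' : X')
    (hx : IsClosed ({f.asFiber (g' x')} : Set ↑(f.fiber (f (g' x'))))) :
    IsClosed ({f'.asFiber x'} : Set ↑(f'.fiber (f' x'))) := by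
  have hgen : ∀ (s : S) (_ : f (g' x') = s) (w : ↑(f.fiber s)),
      f.fiberι s w = g' x' → IsClosed ({w} : Set ↑(f.fiber s)) := by
    rintro s rfl w hw
    have : w = f.asFiber (g' x') :=
      (f.fiberι _).isEmbedding.injective (by rw [hw, Scheme.Hom.fiberι_asFiber])
    rw [this]
    exact hx
  haveI : LocallyOfFiniteType (f.fiberToSpecResidueField (g (f' x'))) :=
    MorphismProperty.pullback_snd _ _ inferInstance
  refine isClosed_singleton_of_field_ext _ _ _ _
    (isPullback_fiberToSpecResidueField_of_isPullback hsq (f' x')) (f'.asFiber x') ?_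
  refine hgen _ ?_ _ ?_
  · rw [← Scheme.Hom.comp_apply, ← Scheme.Hom.comp_apply, hsq.w]
  · exact (Scheme.Hom.comp_apply _ _ _).symm.trans ((congrArg (fun m : f'.fiber (f' x') ⟶ X => m (f'.asFiber x'))
      (pullback.lift_fst _ _ _)).trans ((Scheme.Hom.comp_apply _ _ _).trans
        (congrArg (fun t => g' t) (f'.fiberι_asFiber x'))))

end Groth.Agent.RGLib.FibClosed
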