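import Groth.Agent.RGLib.FPCover
import Groth.Agent.KFlatLib.Scheme.Exact

/-!
# Quasi-coherent modules are filtered colimits of modules of finite presentation
-/

set_option autoImplicit false
set_option linter.style.haveILetI false
set_option backward.isDefEq.respectTransparency false
set_option backward.isDefEq.respectTransparency.types false
set_option maxHeartbeats 1000000

universe u

open CategoryTheory CategoryTheory.Limits AlgebraicGeometry TopologicalSpace

namespace Groth.Agent.RGLib.FPColimit

open Groth.Agent.QCoh Groth.Agent.RGLib.Lim8 Groth.Agent.QcqsColim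

section

variable {X T : Scheme.{u}} (g : X ⟶ T) (F : X.Modules)

/-- The map from the inverse image of a submodule of the direct image. -/
noncomputable def adj (M : FTIndex ((Scheme.Modules.pushforward g).obj F)) :
    (Scheme.Modules.pullback g).obj M.1.toModules ⟶ F :=
  ((Scheme.Modules.pullbackPushforwardAdjunction g).homEquiv M.1.toModules F).symm M.1.ι

theorem map_incl_adj {M M' : FTIndex ((Scheme.Modules.pushforward g).obj F)} (h : M ≤ M') :
    (Scheme.Modules.pullback g).map (incl h) ≫ adj g F M' = adj g F M := by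
  rw [adj, adj, ← Adjunction.homEquiv_naturality_left_symm, incl_ι]

/-- The indices: a submodule of finite type and relations of finite type. -/
def Ix : Type u := Σ M : FTIndex ((Scheme.Modules.pushforward g).obj F), FTIndex (kernel (adj g F M))

variable {g F}

/-- The relations. -/
noncomputable def rel (i : Ix g F) : i.2.1.toModules ⟶ (Scheme.Modules.pullback g).obj i.1.1.toModules :=
  i.2.1.ι ≫ kernel.ι (adj g F i.1)

theorem rel_adj (i : Ix g F) : rel i ≫ adj g F i.1 = 0 := by simp [rel]

/-- The module of finite presentation attached to an index. -/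
noncomputable def obj (i : Ix g F) : X.Modules := cokernel (rel i)

/-- The transition map before passing to the quotient. -/
noncomputable def pre {i j : Ix g F} (h : i.1 ≤ j.1) :
    (Scheme.Modules.pullback g).obj i.1.1.toModules ⟶ obj j :=
  (Scheme.Modules.pullback g).map (incl h) ≫ cokernel.π (rel j)

theorem pre_refl (i : Ix g F) : pre (le_refl i.1) = cokernel.π (rel i) := by
  rw [pre, show incl (le_refl i.1) = 𝟙 _ from rfl, CategoryTheory.Functor.map_id, Category.id_comp]

noncomputable instance : Preorder (Ix g F) where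
  le i j := ∃ h : i.1 ≤ j.1, rel i ≫ pre h = 0
  le_refl i := ⟨le_rfl, by rw [pre_refl, cokernel.condition]⟩
  le_trans i j k := by
    rintro ⟨h, e⟩ ⟨h', e'⟩
    refine ⟨h.trans h', ?_⟩
    have h2 : pre (h.trans h') = pre h ≫ cokernel.desc (rel j) (pre h') e' := by
      rw [pre, pre, Category.assoc, cokernel.π_desc, pre, ← Category.assoc, ← Functor.map_comp]
      rfl
    rw [h2, reassoc_of% e, zero_comp]

/-- The diagram. -/
noncomputable def diag : Ix g F ⥤ X.Modules where
  obj := obj
  map {i j} f := cokernel.desc (rel i) (pre (leOfHom f).choose) (leOfHom f).choose_spec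
  map_id i := by
    apply coequalizer.hom_ext
    exact ((cokernel.π_desc _ _ _).trans (pre_refl i)).trans (Category.comp_id _).symm
  map_comp {i j k} f f' := by
    apply coequalizer.hom_ext
    rw [cokernel.π_desc, cokernel.π_desc_assoc, pre, pre, Category.assoc, cokernel.π_desc, pre,
      ← Category.assoc, ← Functor.map_comp]
    rfl

/-- The cocone. -/
noncomputable def coc : Cocone (diag (g := g) (F := F)) where
  pt := F
  ι :=
    { app := fun i => cokernel.desc (rel i) (adj g F i.1) (rel_adj i)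
      naturality := fun i j f => by
        apply coequalizer.hom_ext
        show cokernel.π (rel i) ≫ cokernel.desc (rel i) (pre (leOfHom f).choose) (leOfHom f).choose_spec ≫
          cokernel.desc (rel j) (adj g F j.1) (rel_adj j) = cokernel.π (rel i) ≫
            cokernel.desc (rel i) (adj g F i.1) (rel_adj i) ≫ 𝟙 F
        rw [Category.comp_id, cokernel.π_desc_assoc, cokernel.π_desc, pre, Category.assoc, cokernel.π_desc]
        exact map_incl_adj g F _ }

variable [IsAffineHom g] [CompactSpace X] [QuasiSeparatedSpace X] [IsLocallyNoetherian T] (hF : Coh.IsQCoh F)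

include hF

omit [CompactSpace X] [QuasiSeparatedSpace X] [IsLocallyNoetherian T] in
theorem isQCoh_push : Coh.IsQCoh ((Scheme.Modules.pushforward g).obj F) := isQCoh_pushforward g hF

omit [CompactSpace X] [QuasiSeparatedSpace X] [IsLocallyNoetherian T] in
theorem isQCoh_src (M : FTIndex ((Scheme.Modules.pushforward g).obj F)) :
    Coh.IsQCoh ((Scheme.Modules.pullback g).obj M.1.toModules) :=
  isQCoh_pullback g (isQCoh_of_ftOn (isQCoh_push hF) M.2)

omit [CompactSpace X] [QuasiSeparatedSpace X] [IsLocallyNoetherian T] in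
theorem isQCoh_ker (M : FTIndex ((Scheme.Modules.pushforward g).obj F)) : Coh.IsQCoh (kernel (adj g F M)) :=
  isQCoh_kernel (isQCoh_src hF M) hF _

omit [CompactSpace X] [QuasiSeparatedSpace X] [IsLocallyNoetherian T] in
theorem isQCoh_obj (i : Ix g F) : Coh.IsQCoh (obj i) :=
  isQCoh_cokernel (isQCoh_of_ftOn (isQCoh_ker hF i.1) i.2.2) (isQCoh_src hF i.1) _

omit [CompactSpace X] [QuasiSeparatedSpace X] in
theorem isFP_obj (i : Ix g F) : CohB1.IsFP (obj i) :=
  isFP_cokernel _ (isQCoh_of_ftOn (isQCoh_ker hF i.1) i.2.2) (isFT_of_ftOn (isQCoh_ker hF i.1) i.2.2)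
    (isQCoh_src hF i.1) (isFP_pullback g (isQCoh_of_ftOn (isQCoh_push hF) i.1.2)
      (FPCover.isFP_of_isFT_noetherian (isQCoh_of_ftOn (isQCoh_push hF) i.1.2)
        (isFT_of_ftOn (isQCoh_push hF) i.1.2)))

omit [IsLocallyNoetherian T] in
/-- Relations of finite type, on a finite cover, are contained in an index. -/
theorem exists_rel {σ : Type u} [Finite σ] (W : σ → X.Opens) (hW : ∀ a, IsAffineOpen (W a))
    (hcov : ∀ x, ∃ a, x ∈ W a) (M : FTIndex ((Scheme.Modules.pushforward g).obj F)) {τ : Type u} [Finite τ]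
    (K : τ → X.Modules) (hK : ∀ b, Coh.IsQCoh (K b)) (hKt : ∀ b, CohB1.IsFT (K b))
    (κ : ∀ b, K b ⟶ kernel (adj g F M)) (extra : ∀ a, Set Γ(kernel (adj g F M), W a))
    (hextra : ∀ a, (extra a).Finite) :
    ∃ N : FTIndex (kernel (adj g F M)), (∀ a, extra a ⊆ N.1.mem (W a)) ∧
      ∀ b, κ b ≫ cokernel.π N.1.ι = 0 := by
  classical
  have hgen : ∀ b a, ∃ S : Finset Γ(K b, W a), Submodule.span Γ(X, W a) (S : Set Γ(K b, W a)) = ⊤ :=
    fun b a => (finite_of_isFT (hK b) (hKt b) (hW a)).fg_top
  choose S hS using hgen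
  obtain ⟨N, hN, hSN⟩ := exists_ftOn_family (isQCoh_ker hF M) W hW
    (fun a => extra a ∪ ⋃ b, (κ b).app (W a) '' (S b a : Set Γ(K b, W a)))
    (fun a => (hextra a).union (Set.finite_iUnion fun b => (S b a).finite_toSet.image _))
  refine ⟨⟨N, hN⟩, fun a z hz => hSN a (Or.inl hz), fun b => ?_⟩
  refine hom_eq_zero_of_cover (hK b) _ W hW hcov fun a z => ?_
  have hz : z ∈ Submodule.span Γ(X, W a) (S b a : Set Γ(K b, W a)) := hS b a ▸ Submodule.mem_top
  induction hz using Submodule.span_induction with
  | zero => exact map_zero _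
  | add v v' _ _ hv hv' => rw [map_add, hv, hv', add_zero]
  | smul r v _ hv => rw [Scheme.Modules.Hom.app_smul, hv, smul_zero]
  | mem v hv =>
    obtain ⟨w, hw⟩ := N.exists_app_eq (hSN a (Or.inr (Set.mem_iUnion.2 ⟨b, v, hv, rfl⟩)))
    show (cokernel.π N.ι).app (W a) ((κ b).app (W a) v) = 0
    rw [← hw]
    exact congrArg (fun q : N.toModules ⟶ cokernel N.ι => q.app (W a) w) (cokernel.condition N.ι)

omit hF [IsAffineHom g] [CompactSpace X] [QuasiSeparatedSpace X] [IsLocallyNoetherian T] in
/-- A map into the kernel killed modulo the relations dies in the quotient. -/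
theorem comp_π_eq_zero {M : FTIndex ((Scheme.Modules.pushforward g).obj F)} (N : FTIndex (kernel (adj g F M)))
    {K : X.Modules} (κ : K ⟶ kernel (adj g F M)) (h : κ ≫ cokernel.π N.1.ι = 0) :
    κ ≫ kernel.ι (adj g F M) ≫ cokernel.π (rel ⟨M, N⟩) = 0 := by
  rw [show kernel.ι (adj g F M) ≫ cokernel.π (rel ⟨M, N⟩) =
      cokernel.π N.1.ι ≫ cokernel.desc N.1.ι (kernel.ι (adj g F M) ≫ cokernel.π (rel ⟨M, N⟩)) (by
        rw [← Category.assoc]
        exact cokernel.condition (rel ⟨M, N⟩)) from (cokernel.π_desc _ _ _).symm,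
    reassoc_of% h, zero_comp]

omit [IsLocallyNoetherian T] in
/-- The index is directed. -/
theorem isDirected_ix [CompactSpace T] [QuasiSeparatedSpace T] : IsDirected (Ix g F) (· ≤ ·) := by
  classical
  refine ⟨fun i j => ?_⟩
  choose W₀ hW₀ hxW₀ _ using fun x : X => exists_isAffineOpen_mem_and_subset (x := x) (U := ⊤) trivial
  obtain ⟨t, ht⟩ := isCompact_univ.elim_finite_subcover (fun x => (W₀ x : Set X))
    (fun x => (W₀ x).isOpen) fun x _ => Set.mem_iUnion.2 ⟨x, hxW₀ x⟩
  have hcov : ∀ x, ∃ a : t, x ∈ W₀ a.1 := fun x => by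
    obtain ⟨y, hy, hx⟩ := Set.mem_iUnion₂.1 (ht (Set.mem_univ x))
    exact ⟨⟨y, hy⟩, hx⟩
  obtain ⟨M, hiM, hjM⟩ := exists_ge_ge i.1 j.1
  have hk : ∀ (k : Ix g F) (h : k.1 ≤ M), (rel k ≫ (Scheme.Modules.pullback g).map (incl h)) ≫ adj g F M = 0 :=
    fun k h => by rw [Category.assoc, map_incl_adj, rel_adj]
  let idx : ULift.{u} (Fin 2) → { k : Ix g F // k.1 ≤ M } := fun b => if b.down = 0 then ⟨i, hiM⟩ else ⟨j, hjM⟩
  let κ : ∀ b : ULift.{u} (Fin 2), (idx b).1.2.1.toModules ⟶ kernel (adj g F M) := fun b =>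
    kernel.lift _ _ (hk (idx b).1 (idx b).2)
  obtain ⟨N, -, hN⟩ := exists_rel hF (fun a : t => W₀ a.1) (fun a => hW₀ a.1) hcov M
    (fun b => (idx b).1.2.1.toModules) (fun b => isQCoh_of_ftOn (isQCoh_ker hF _) (idx b).1.2.2)
    (fun b => isFT_of_ftOn (isQCoh_ker hF _) (idx b).1.2.2) κ (fun _ => ∅) (fun _ => Set.finite_empty)
  have key : ∀ b, (idx b).1 ≤ (⟨M, N⟩ : Ix g F) := fun b => by
    refine ⟨(idx b).2, ?_⟩
    have := comp_π_eq_zero N (κ b) (hN b)
    rw [kernel.lift_ι_assoc, Category.assoc] at this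
    exact this
  exact ⟨⟨M, N⟩, by simpa [idx] using key ⟨0⟩, by simpa [idx] using key ⟨1⟩⟩

omit hF [IsAffineHom g] [CompactSpace X] [QuasiSeparatedSpace X] [IsLocallyNoetherian T] in
theorem nonempty_ix : Nonempty (Ix g F) :=
  ⟨⟨Classical.arbitrary _, Classical.arbitrary _⟩⟩

/-- The cocone is a colimit. -/
theorem nonempty_isColimit [CompactSpace T] [QuasiSeparatedSpace T] :
    Nonempty (IsColimit (coc (g := g) (F := F))) := by
  classical
  haveI : Nonempty (Ix g F) := nonempty_ix
  haveI : IsDirected (Ix g F) (· ≤ ·) := isDirected_ix hF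
  haveI : HasExactColimitsOfShape (Ix g F) X.Modules := KFlatLib.hasExactColimitsOfShape X (Ix g F)
  choose U₀ hU₀ hxU₀ _ using fun x : T => exists_isAffineOpen_mem_and_subset (x := x) (U := ⊤) trivial
  obtain ⟨t, ht⟩ := isCompact_univ.elim_finite_subcover (fun x => (U₀ x : Set T))
    (fun x => (U₀ x).isOpen) fun x _ => Set.mem_iUnion.2 ⟨x, hxU₀ x⟩
  let W : t → X.Opens := fun a => g ⁻¹ᵁ U₀ a.1
  have hW : ∀ a, IsAffineOpen (W a) := fun a => (hU₀ a.1).preimage g
  have hcov : ∀ x, ∃ a, x ∈ W a := fun x => by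
    obtain ⟨y, hy, hxy⟩ := Set.mem_iUnion₂.1 (ht (Set.mem_univ (g x)))
    exact ⟨⟨y, hy⟩, hxy⟩
  let D := diag (g := g) (F := F)
  have hC : Coh.IsQCoh (colimit D) := isQCoh_colimit D fun i => isQCoh_obj hF i
  let δ : colimit D ⟶ F := colimit.desc D coc
  haveI : Epi δ := by
    refine FPCover.epi_of_surjective_cover hC hF δ W hW hcov fun a z => ?_
    obtain ⟨N, hN, hzN⟩ := exists_ftOn_family (isQCoh_push hF) (fun a : t => U₀ a.1) (fun a => hU₀ a.1)
      (fun b => if h : b = a then {(h ▸ z : Γ(F, g ⁻¹ᵁ U₀ b.1))} else ∅)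
      (fun b => by split <;> simp)
    have hz : (show Γ((Scheme.Modules.pushforward g).obj F, U₀ a.1) from z) ∈ N.mem (U₀ a.1) :=
      hzN a (by simp)
    obtain ⟨m, hm⟩ := N.exists_app_eq hz
    let i : Ix g F := ⟨⟨N, hN⟩, Classical.arbitrary _⟩
    refine ⟨(colimit.ι D i).app (W a) ((cokernel.π (rel i)).app (W a) (pullSec g N.toModules le_rfl m)), ?_⟩
    have e : cokernel.π (rel i) ≫ colimit.ι D i ≫ δ = adj g F i.1 := by
      rw [colimit.ι_desc]
      exact cokernel.π_desc _ _ _
    exact (congrArg (fun q : (Scheme.Modules.pullback g).obj N.toModules ⟶ F =>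
      q.app (W a) (pullSec g N.toModules le_rfl m)) e).trans ((adjoint_pullSec g N.ι m).trans hm)
  haveI : Mono δ := by
    let ν : D ⟶ (Functor.const (Ix g F)).obj F := coc.ι
    have h0 : ∀ i, kernel.ι (ν.app i) ≫ colimit.ι D i = 0 := by
      intro i
      have hkq : Coh.IsQCoh (kernel (ν.app i)) := isQCoh_kernel (isQCoh_obj hF i) hF _
      refine hom_eq_zero_of_cover hkq _ W hW hcov fun a z => ?_
      let y₀ : Γ(obj i, W a) := (kernel.ι (ν.app i)).app (W a) z
      obtain ⟨y, hy⟩ := app_surjective_of_epi (isQCoh_src hF i.1) (isQCoh_obj hF i) (cokernel.π (rel i)) (hW a) y₀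
      have hy0 : (adj g F i.1).app (W a) y = 0 := by
        have e1 : adj g F i.1 = cokernel.π (rel i) ≫ ν.app i := (cokernel.π_desc _ _ _).symm
        rw [e1]
        show (ν.app i).app (W a) ((cokernel.π (rel i)).app (W a) y) = 0
        refine (congrArg _ hy).trans ?_
        exact congrArg (fun q : kernel (ν.app i) ⟶ F => q.app (W a) z) (kernel.condition (ν.app i))
      obtain ⟨v, hv⟩ : ∃ v, (kernel.ι (adj g F i.1)).app (W a) v = y := by
        refine exists_app_f_eq (S := ShortComplex.mk (kernel.ι (adj g F i.1))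
          (Abelian.factorThruImage (adj g F i.1)) (by
            rw [← cancel_mono (Abelian.image.ι (adj g F i.1)), Category.assoc, Abelian.image.fac,
              kernel.condition, zero_comp]))
          { exact := ShortComplex.exact_of_f_is_kernel _
              (isKernelOfComp (Abelian.image.ι (adj g F i.1)) _ (kernelIsKernel _) _ (Abelian.image.fac _))
            mono_f := inferInstance
            epi_g := inferInstance } (W a) y ?_
        apply app_injective (Abelian.image.ι (adj g F i.1))
        rw [map_zero]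
        exact (congrArg (fun q : _ ⟶ F => q.app (W a) y) (Abelian.image.fac (adj g F i.1))).trans hy0
      obtain ⟨N, hvN, hN⟩ := exists_rel hF W hW hcov i.1 (fun _ : PUnit.{u + 1} => i.2.1.toModules)
        (fun _ => isQCoh_of_ftOn (isQCoh_ker hF _) i.2.2) (fun _ => isFT_of_ftOn (isQCoh_ker hF _) i.2.2)
        (fun _ => i.2.1.ι) (fun b => if h : b = a then {(h ▸ v : Γ(kernel (adj g F i.1), W b))} else ∅)
        (fun b => by split <;> simp)
      let j : Ix g F := ⟨i.1, N⟩
      have hij : i ≤ j := by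
        refine ⟨le_rfl, ?_⟩
        have e : pre (i := i) (j := j) (le_refl i.1) = cokernel.π (rel j) := pre_refl j
        rw [e, rel, Category.assoc]
        exact comp_π_eq_zero N _ (hN PUnit.unit)
      obtain ⟨w, hw⟩ := N.1.exists_app_eq (hvN a (show v ∈ _ by simp))
      have h1 : (D.map (homOfLE hij)).app (W a) y₀ = 0 := by
        show (cokernel.desc (rel i) (pre (leOfHom (homOfLE hij)).choose) _).app (W a) y₀ = 0
        rw [← hy]
        have e2 : cokernel.π (rel i) ≫ cokernel.desc (rel i) (pre (leOfHom (homOfLE hij)).choose)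
            (leOfHom (homOfLE hij)).choose_spec = cokernel.π (rel j) :=
          (cokernel.π_desc _ _ _).trans (pre_refl j)
        refine (congrArg (fun q : _ ⟶ obj j => q.app (W a) y) e2).trans ?_
        rw [← hv, ← hw]
        exact congrArg (fun q : N.1.toModules ⟶ obj j => q.app (W a) w) (cokernel.condition (rel j))
      show (colimit.ι D i).app (W a) y₀ = 0
      rw [← colimit.w D (homOfLE hij)]
      show (colimit.ι D j).app (W a) ((D.map (homOfLE hij)).app (W a) y₀) = 0
      rw [h1, map_zero]
    have h1 : colim.map (kernel.ι ν) = 0 := by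
      refine colimit.hom_ext fun i => ?_
      rw [comp_zero, colimit.ι_map,
        ← kernel.lift_ι (ν.app i) ((kernel.ι ν).app i) (by rw [← NatTrans.comp_app, kernel.condition]; rfl),
        Category.assoc, h0, comp_zero]
    haveI : Mono (colim.map ν) := by
      refine Preadditive.mono_of_kernel_zero ?_
      rw [← PreservesKernel.iso_inv_ι colim ν, h1, comp_zero]
    haveI : IsFiltered (Ix g F) := inferInstance
    haveI : CategoryTheory.IsConnected (Ix g F) := IsFiltered.isConnected _
    haveI : IsIso (colimit.desc ((Functor.const (Ix g F)).obj F) (constCocone _ F)) :=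
      (IsColimit.coconePointUniqueUpToIso (colimit.isColimit _) (isColimitConstCocone _ F)).isIso_hom
    have e : δ = colim.map ν ≫ colimit.desc _ (constCocone _ F) := colimit.hom_ext fun j => by simp [δ, ν]
    rw [e]
    infer_instance
  haveI : IsIso δ := isIso_of_mono_of_epi δ
  haveI : IsIso ((colimit.isColimit D).desc coc) := inferInstanceAs (IsIso δ)
  exact ⟨IsColimit.ofPointIso (colimit.isColimit D)⟩

end

/-- A quasi-coherent module on a quasi-compact quasi-separated scheme is a filtered colimit of modules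
of finite presentation. -/
theorem exists_fp_colimit (X : Scheme.{u}) [CompactSpace X] [QuasiSeparatedSpace X] (F : X.Modules)
    (hF : Coh.IsQCoh F) :
    ∃ (I : Type u) (_ : SmallCategory I) (_ : IsFiltered I) (D : I ⥤ X.Modules) (c : Cocone D)
      (_ : IsColimit c), (∀ i, CohB1.IsFP (D.obj i)) ∧ c.pt = F := by
  obtain ⟨T, g, hg, hT⟩ := AlgGlue.approximable_of_qcqs X
  haveI := hg
  haveI := hT.compactSpace
  haveI := hT.quasiSeparatedSpace
  haveI := hT.isNoetherian
  haveI : Nonempty (Ix g F) := nonempty_ix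
  haveI : IsDirected (Ix g F) (· ≤ ·) := isDirected_ix hF
  exact ⟨Ix g F, inferInstance, inferInstance, diag, coc, (nonempty_isColimit hF).some, isFP_obj hF, rfl⟩

end Groth.Agent.RGLib.FPColimit
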