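import Groth.Agent.RGLib.FPCover
import Groth.Agent.QCoh.Extension

/-!
# Extending maps from modules of finite presentation on quasi-compact opens
-/

set_option autoImplicit false
set_option linter.style.haveILetI false
set_option backward.isDefEq.respectTransparency false
set_option backward.isDefEq.respectTransparency.types false
set_option maxHeartbeats 1000000

universe u

open CategoryTheory CategoryTheory.Limits AlgebraicGeometry TopologicalSpace

namespace Groth.Agent.RGLib.FPExtend

open Groth.Agent.QCoh Groth.Agent.RGLib.Lim8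

/-- Finite presentation is invariant under isomorphism. -/
theorem isFP_of_iso {X : Scheme.{u}} {M N : X.Modules} (e : M ≅ N) (h : CohB1.IsFP M) : CohB1.IsFP N := by
  have hq : Coh.IsQCoh N := (isQCoh_iff_iso e).1 (isQCoh_of_isFP h)
  choose U hU hxU _ using fun x : X => exists_isAffineOpen_mem_and_subset (x := x) (U := ⊤) trivial
  refine QCoh.isFP_of_finitePresentation hq U
    (IsOpenCover.mk (eq_top_iff.2 fun x _ => Opens.mem_iSup.2 ⟨x, hxU x⟩)) hU fun x => ?_
  have := finitePresentation_of_isFP h (hU x)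
  refine Module.FinitePresentation.of_equiv (LinearEquiv.ofBijective (Lim8.appLin e.hom (U x)) ⟨?_, ?_⟩)
  · intro a b hab
    have := congrArg (fun s => e.inv.app (U x) s) hab
    simp only [Lim8.appLin, LinearMap.coe_mk, AddHom.coe_mk] at this
    rwa [← ConcreteCategory.comp_apply, ← Scheme.Modules.Hom.comp_app, e.hom_inv_id,
      ← ConcreteCategory.comp_apply, ← Scheme.Modules.Hom.comp_app, e.hom_inv_id] at this
  · intro b
    refine ⟨e.inv.app (U x) b, ?_⟩
    show e.hom.app (U x) (e.inv.app (U x) b) = b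
    rw [← ConcreteCategory.comp_apply, ← Scheme.Modules.Hom.comp_app, e.inv_hom_id]
    rfl

/-- Restriction to an open preserves finite presentation. -/
theorem isFP_restrict {X Y : Scheme.{u}} (f : X ⟶ Y) [IsOpenImmersion f] {M : Y.Modules} (h : CohB1.IsFP M) :
    CohB1.IsFP (M.restrict f) :=
  isFP_of_iso ((Scheme.Modules.restrictFunctorIsoPullback f).app M).symm
    (isFP_pullback f (isQCoh_of_isFP h) h)

/-- A map from a module of finite presentation on a quasi-compact open extends. -/
theorem exists_extension_fp {X : Scheme.{u}} [CompactSpace X] [QuasiSeparatedSpace X]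
    {F : X.Modules} (hF : Coh.IsQCoh F) {U : X.Opens} (hU : IsCompact (U : Set X))
    {G : (U : Scheme.{u}).Modules} (hG : CohB1.IsFP G) (φ : G ⟶ F.restrict U.ι) :
    ∃ (G' : X.Modules) (φ' : G' ⟶ F) (e : G'.restrict U.ι ≅ G), CohB1.IsFP G' ∧
      e.hom ≫ φ = (Scheme.Modules.restrictFunctor U.ι).map φ' := by
  let R := Scheme.Modules.restrictFunctor U.ι
  haveI : R.IsLeftAdjoint := inferInstanceAs (Scheme.Modules.restrictFunctor U.ι).IsLeftAdjoint
  haveI : R.PreservesZeroMorphisms := inferInstance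
  haveI := quasiCompact_ι_of_compact U hU
  have hGq : Coh.IsQCoh G := isQCoh_of_isFP hG
  let c : G ≅ R.obj ((Scheme.Modules.pushforward U.ι).obj G) := (asIso ((Scheme.Modules.restrictAdjunction U.ι).counit.app G)).symm
  let H := F ⊞ (Scheme.Modules.pushforward U.ι).obj G
  have hH : Coh.IsQCoh H := isQCoh_X₂ (ShortComplex.Splitting.ofHasBinaryBiproduct F ((Scheme.Modules.pushforward U.ι).obj G)).shortExact hF
    (isQCoh_pushforward U.ι hGq)
  let i : G ⟶ R.obj H := φ ≫ R.map (biprod.inl : F ⟶ H) + c.hom ≫ R.map (biprod.inr : _ ⟶ H)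
  have hi₂ : i ≫ R.map biprod.snd = c.hom := by
    simp [i, ← Functor.map_comp, R]
  have hi₁ : i ≫ R.map biprod.fst = φ := by
    simp [i, ← Functor.map_comp, R]
  haveI : Mono i := by
    haveI : Mono (i ≫ R.map biprod.snd) := by rw [hi₂]; infer_instance
    exact mono_of_mono i (R.map biprod.snd)
  obtain ⟨G₁, i', e, -, hG₁, hG₁t, he⟩ := exists_extension' hH (extStep_qcqs hU) i hGq (isFT_of_isFP hG)
  let ψ : G₁ ⟶ F := i' ≫ biprod.fst
  have hψ : R.map ψ = e.hom ≫ φ := by
    rw [Functor.map_comp, show R.map i' = e.hom ≫ i from he.symm, Category.assoc, hi₁]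
  obtain ⟨P₀, hP₀, hP₀fp, u, hu⟩ := FPCover.exists_fp_epi (𝟙 X) hG₁ hG₁t
  haveI := hu
  let P := (Scheme.Modules.pullback (𝟙 X)).obj P₀
  have hP : Coh.IsQCoh P := isQCoh_pullback _ hP₀
  have hPfp : CohB1.IsFP P := isFP_pullback _ hP₀ hP₀fp
  let p : R.obj P ⟶ G := R.map u ≫ e.hom
  haveI : Epi (R.map u) := inferInstance
  haveI : Epi p := epi_comp _ _
  have hRP : Coh.IsQCoh (R.obj P) := isQCoh_restrict U.ι hP
  have hKt : CohB1.IsFT (kernel p) :=
    isFT_kernel_of_epi p hRP hGq (isFT_of_isFP (isFP_restrict U.ι hPfp)) hG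
  have hKq : Coh.IsQCoh (kernel p) := isQCoh_kernel hRP hGq p
  have hku : Coh.IsQCoh (kernel u) := isQCoh_kernel hP hG₁ u
  let κ : kernel p ⟶ R.obj (kernel u) :=
    kernel.lift (R.map u) (kernel.ι p) (by
      rw [← cancel_mono e.hom, Category.assoc, zero_comp]
      exact kernel.condition p) ≫ (PreservesKernel.iso R u).inv
  have hκ : κ ≫ R.map (kernel.ι u) = kernel.ι p := by
    simp [κ]
  haveI : Mono κ := by
    haveI : Mono (κ ≫ R.map (kernel.ι u)) := by rw [hκ]; infer_instance
    exact mono_of_mono κ (R.map (kernel.ι u))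
  obtain ⟨K, k, eK, -, hKq', hKt', hk⟩ := exists_extension' hku (extStep_qcqs hU) κ hKq hKt
  let m : K ⟶ P := k ≫ kernel.ι u
  have hm : m ≫ u ≫ ψ = 0 := by simp [m]
  have hRm : R.map m = eK.hom ≫ kernel.ι p := by
    rw [Functor.map_comp, show R.map k = eK.hom ≫ κ from hk.symm, Category.assoc, hκ]
  have hmp : R.map m ≫ p = 0 := by rw [hRm, Category.assoc, kernel.condition, comp_zero]
  let q : cokernel (R.map m) ⟶ G := cokernel.desc _ p hmp
  haveI : Epi q := epi_of_epi_fac (cokernel.π_desc _ p hmp)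
  let q' : G ⟶ cokernel (R.map m) := Abelian.epiDesc p (cokernel.π _) (by
    have : kernel.ι p = eK.inv ≫ R.map m := by rw [hRm, Iso.inv_hom_id_assoc]
    rw [this, Category.assoc, cokernel.condition, comp_zero])
  have hq' : p ≫ q' = cokernel.π _ := Abelian.comp_epiDesc _ _ _
  let eq : cokernel (R.map m) ≅ G := ⟨q, q', by
    rw [← cancel_epi (cokernel.π (R.map m)), cokernel.π_desc_assoc, hq', Category.comp_id], by
    rw [← cancel_epi p, reassoc_of% hq', cokernel.π_desc, Category.comp_id]⟩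
  refine ⟨cokernel m, cokernel.desc m (u ≫ ψ) hm, PreservesCokernel.iso R m ≪≫ eq,
    isFP_cokernel m hKq' hKt' hP hPfp, ?_⟩
  rw [← cancel_epi (R.map (cokernel.π m)), ← R.map_comp, cokernel.π_desc, R.map_comp u ψ, hψ]
  show R.map (cokernel.π m) ≫ ((PreservesCokernel.iso R m).hom ≫ q) ≫ φ = (R.map u ≫ e.hom ≫ φ)
  have h1 : R.map (cokernel.π m) ≫ (PreservesCokernel.iso R m).hom ≫ q = p := by
    rw [← Category.assoc, PreservesCokernel.π_iso_hom, cokernel.π_desc]
  calc R.map (cokernel.π m) ≫ ((PreservesCokernel.iso R m).hom ≫ q) ≫ φ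
      = (R.map (cokernel.π m) ≫ (PreservesCokernel.iso R m).hom ≫ q) ≫ φ := by simp only [Category.assoc]
    _ = p ≫ φ := by rw [h1]
    _ = R.map u ≫ e.hom ≫ φ := Category.assoc _ _ _

end Groth.Agent.RGLib.FPExtend
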