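import Groth.Agent.RGLib.Jacobian
import Groth.Prelude.Def_SGA1t

/-!
# Artin-Schreier theory over an affine base
-/

set_option autoImplicit false
set_option maxHeartbeats 1000000

universe u

open scoped TensorProduct

noncomputable section

namespace Groth.Agent.RGLib.ASLocal

variable {A : Type u} [CommRing A] (p : ℕ) [Fact p.Prime] [CharP A p]

theorem isUnit_natCast {d : ℕ} (h0 : 0 < d) (hd : d < p) : IsUnit (d : A) := by
  have h : (d : ZMod p) ≠ 0 := fun h => by
    have := Nat.le_of_dvd h0 ((ZMod.natCast_eq_zero_iff d p).1 h)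
    omega
  simpa using (isUnit_iff_ne_zero.2 h).map (ZMod.castHom (dvd_refl p) A)

theorem exists_artinSchreier (B : Type u) [CommRing B] [Algebra A B] [Module.Finite A B] [Algebra.Etale A B]
    (hinjA : Function.Injective (algebraMap A B)) (σ : B →ₐ[A] B) (hσ : ∀ x, σ^[p] x = x)
    (hsurj : ∀ (Ω : Type u) [Field Ω] [IsAlgClosed Ω] [Algebra A Ω] (φ ψ : B →ₐ[A] Ω),
      ∃ i < p, ∀ x, φ (σ^[i] x) = ψ x)
    (hfree : ∀ (Ω : Type u) [Field Ω] [IsAlgClosed Ω] [Algebra A Ω] (φ : B →ₐ[A] Ω), ∀ i < p, ∀ j < p,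
      (∀ x, φ (σ^[i] x) = φ (σ^[j] x)) → i = j) :
    ∃ (a : A) (Φ : SGA1t.artinSchreier A p a ≃ₐ[A] B),
      σ (Φ (Ideal.Quotient.mk _ Polynomial.X)) = Φ (Ideal.Quotient.mk _ Polynomial.X) + 1 := by
  classical
  have hp : 1 < p := (Fact.out : p.Prime).one_lt
  haveI : Algebra.IsIntegral A B := inferInstance
  -- the trace
  let σl : Module.End A B := σ.toLinearMap
  have hσl : ∀ i x, (σl ^ i) x = σ^[i] x := fun i x => Module.End.pow_apply σl i x
  let Tr : Module.End A B := ∑ i ∈ Finset.range p, σl ^ i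
  have hTr : ∀ x, Tr x = ∑ i ∈ Finset.range p, σ^[i] x := fun x => by simp [Tr, LinearMap.sum_apply, hσl]
  have hσTr : ∀ x, σ (Tr x) = Tr x := fun x => by
    rw [hTr, map_sum]
    simp only [← Function.iterate_succ_apply' σ]
    have h1 := Finset.sum_range_succ' (fun i => σ^[i] x) p
    rw [Finset.sum_range_succ, hσ] at h1
    exact (add_right_cancel h1).symm
  have hfixit : ∀ {f : B}, σ f = f → ∀ i, σ^[i] f = f := fun hf i => Function.iterate_fixed hf i
  have hTrmul : ∀ {f : B}, σ f = f → ∀ x, Tr (f * x) = f * Tr x := fun {f} hf x => by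
    rw [hTr, hTr, Finset.mul_sum]
    refine Finset.sum_congr rfl fun i _ => ?_
    rw [← AlgHom.coe_pow, map_mul, AlgHom.coe_pow, hfixit hf]
  -- the invariants
  let F : Subalgebra A B := AlgHom.equalizer σ (AlgHom.id A B)
  have hF : ∀ {x : B}, x ∈ F ↔ σ x = x := Iff.rfl
  let It : Ideal F :=
    { carrier := {f | ∃ x, Tr x = f.1}
      add_mem' := fun ⟨x, hx⟩ ⟨y, hy⟩ => ⟨x + y, by rw [map_add, hx, hy]; rfl⟩
      zero_mem' := ⟨0, by simp⟩
      smul_mem' := fun f g ⟨x, hx⟩ => ⟨f.1 * x, by rw [hTrmul (hF.1 f.2), hx]; rfl⟩ }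
  obtain ⟨c, hc⟩ : ∃ c, Tr c = 1 := by
    by_contra hne
    have hI : It ≠ ⊤ := fun h => hne (by
      obtain ⟨x, hx⟩ : (1 : F) ∈ It := h ▸ Submodule.mem_top
      exact ⟨x, hx⟩)
    obtain ⟨Q, hQ, hIQ⟩ := Ideal.exists_le_maximal It hI
    haveI : Algebra.IsIntegral F B := Algebra.IsIntegral.tower_top (R := A)
    obtain ⟨P, hP, hPQ⟩ := Ideal.exists_ideal_over_maximal_of_isIntegral (S := B) Q
      (by rw [(RingHom.injective_iff_ker_eq_bot _).1 (Subtype.val_injective : Function.Injective (algebraMap F B))]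
          exact bot_le)
    haveI := hP
    letI : Field (B ⧸ P) := Ideal.Quotient.field P
    let Ω := AlgebraicClosure (B ⧸ P)
    let φ : B →ₐ[A] Ω := (IsScalarTower.toAlgHom A (B ⧸ P) Ω).comp (Ideal.Quotient.mkₐ A P)
    have hφ : ∀ x, φ (Tr x) = 0 := fun x => by
      have h1 : (⟨Tr x, hF.2 (hσTr x)⟩ : F) ∈ Q := hIQ ⟨x, rfl⟩
      rw [← hPQ] at h1
      show algebraMap (B ⧸ P) Ω (Ideal.Quotient.mk P (Tr x)) = 0
      rw [Ideal.Quotient.eq_zero_iff_mem.2 (show Tr x ∈ P from h1), map_zero]
    let v : Fin p → (B →* Ω) := fun i => ((φ.comp (σ ^ (i : ℕ))).toRingHom : B →* Ω)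
    have hv : ∀ (i : Fin p) x, v i x = φ (σ^[(i : ℕ)] x) := fun i x => by
      show φ ((σ ^ (i : ℕ)) x) = _
      rw [AlgHom.coe_pow]
    have hinj : Function.Injective v := fun i j h => Fin.ext (hfree Ω φ i i.2 j j.2 fun x => by
      rw [← hv, ← hv, h])
    have hli := (linearIndependent_monoidHom B Ω).comp v hinj
    have h0 := Fintype.linearIndependent_iff.1 hli (fun _ => (1 : Ω)) (by
      funext x
      have h := hφ x
      rw [hTr, map_sum, Finset.sum_range (fun i => φ (σ^[i] x))] at h
      simp only [Finset.sum_apply, one_smul, Pi.zero_apply, Function.comp_apply]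
      refine Eq.trans (Finset.sum_congr rfl fun i _ => ?_) h
      rw [hv]) ⟨0, by omega⟩
    exact one_ne_zero h0
  have hfix : ∀ x, σ x = x → ∃ e : A, algebraMap A B e = x := by
    let E : B →ₗ[A] B := Tr ∘ₗ LinearMap.mulRight A c
    have hEfix : ∀ x, σ x = x → E x = x := fun x hx => by
      show Tr (x * c) = x
      rw [hTrmul hx, hc, mul_one]
    let N : Submodule A B := Submodule.span A {1}
    let q := N.mkQ
    let M : Submodule A (B ⧸ N) := (LinearMap.range E).map q
    suffices hM : M = ⊥ by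
      intro x hx
      have h1 : q x ∈ M := ⟨x, ⟨x, hEfix x hx⟩, rfl⟩
      rw [hM, Submodule.mem_bot] at h1
      obtain ⟨e, he⟩ := Submodule.mem_span_singleton.1 ((Submodule.Quotient.mk_eq_zero N).1 h1)
      exact ⟨e, by rw [Algebra.algebraMap_eq_smul_one, he]⟩
    have hMfg : M.FG := (Submodule.fg_range E).map q
    have hmax : ∀ m : Ideal A, m.IsMaximal → M ≤ m • M := fun m hm => by
      haveI := hm
      letI : Field (A ⧸ m) := Ideal.Quotient.field m
      let Ω := AlgebraicClosure (A ⧸ m)
      obtain ⟨P, hP, hPm⟩ := Ideal.exists_ideal_over_maximal_of_isIntegral (S := B) m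
        (by rw [(RingHom.injective_iff_ker_eq_bot _).1 hinjA]; exact bot_le)
      haveI := hP
      letI : Field (B ⧸ P) := Ideal.Quotient.field P
      letI : Algebra (A ⧸ m) (B ⧸ P) :=
        (Ideal.Quotient.lift m ((Ideal.Quotient.mk P).comp (algebraMap A B)) fun e he =>
          Ideal.Quotient.eq_zero_iff_mem.2 (by rw [← hPm] at he; exact he)).toAlgebra
      haveI : IsScalarTower A (A ⧸ m) (B ⧸ P) := .of_algebraMap_eq fun e => rfl
      haveI : Module.Finite (A ⧸ m) (B ⧸ P) := Module.Finite.of_restrictScalars_finite A _ _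
      let ψ : B →ₐ[A] Ω :=
        ((IsAlgClosed.lift : B ⧸ P →ₐ[A ⧸ m] Ω).restrictScalars A).comp (Ideal.Quotient.mkₐ A P)
      have hpts : ∀ z : Ω ⊗[A] B, (∀ χ : Ω ⊗[A] B →ₐ[Ω] Ω, χ z = 0) → z = 0 := fun z hz => by
        haveI : IsArtinianRing (Ω ⊗[A] B) := isArtinian_of_tower Ω inferInstance
        haveI : IsReduced (Ω ⊗[A] B) := Algebra.FormallyUnramified.isReduced_of_field Ω _
        refine (IsReduced.eq_zero z ?_)
        rw [← mem_nilradical, nilradical, Ideal.radical_eq_sInf]
        simp only [Submodule.mem_sInf, Set.mem_setOf_eq]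
        rintro P' ⟨-, hP'⟩
        haveI : Ideal.IsPrime P' := hP'
        haveI : Ideal.IsMaximal P' := IsArtinianRing.isMaximal_of_isPrime P'
        letI : Field ((Ω ⊗[A] B) ⧸ P') := Ideal.Quotient.field P'
        have h := hz ((IsAlgClosed.lift : (Ω ⊗[A] B) ⧸ P' →ₐ[Ω] Ω).comp (Ideal.Quotient.mkₐ Ω P'))
        refine Ideal.Quotient.eq_zero_iff_mem.1 ?_
        exact (IsAlgClosed.lift : (Ω ⊗[A] B) ⧸ P' →ₐ[Ω] Ω).toRingHom.injective (h.trans (map_zero _).symm)
      rintro _ ⟨x, ⟨x', rfl⟩, rfl⟩
      set x := E x'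
      have hx : σ x = x := hσTr _
      have hz : (1 : Ω) ⊗ₜ[A] x = ψ x ⊗ₜ[A] (1 : B) := by
        rw [← sub_eq_zero]
        refine hpts _ fun χ => ?_
        obtain ⟨i, -, hi⟩ := hsurj Ω ((χ.restrictScalars A).comp Algebra.TensorProduct.includeRight) ψ
        have h1 := hi x
        rw [hfixit hx] at h1
        rw [map_sub, show ψ x ⊗ₜ[A] (1 : B) = algebraMap Ω (Ω ⊗[A] B) (ψ x) from rfl, AlgHom.commutes,
          Algebra.algebraMap_self, RingHom.id_apply, sub_eq_zero]
        exact h1
      have hq : (1 : Ω) ⊗ₜ[A] q x = 0 := by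
        have := congrArg (LinearMap.lTensor Ω q) hz
        rw [LinearMap.lTensor_tmul, LinearMap.lTensor_tmul] at this
        rw [this, show q 1 = 0 from (Submodule.Quotient.mk_eq_zero N).2 (Submodule.subset_span rfl),
          TensorProduct.tmul_zero]
      obtain ⟨ret, hret⟩ := (Algebra.linearMap (A ⧸ m) Ω).exists_leftInverse_of_injective
        (LinearMap.ker_eq_bot.2 (RingHom.injective _))
      have hq' : (1 : A ⧸ m) ⊗ₜ[A] q x = 0 := by
        have := congrArg (LinearMap.rTensor _ (ret.restrictScalars A)) hq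
        rwa [LinearMap.rTensor_tmul, map_zero, LinearMap.restrictScalars_apply,
          show ret 1 = 1 from by simpa using LinearMap.congr_fun hret 1] at this
      have hmem : q x ∈ m • (⊤ : Submodule A (B ⧸ N)) := by
        have h2 := congrArg (TensorProduct.quotTensorEquivQuotSMul (B ⧸ N) m) hq'
        refine (Submodule.Quotient.mk_eq_zero _).1 ?_
        rw [LinearEquiv.map_zero] at h2
        rw [← h2]
        simpa using (TensorProduct.quotTensorEquivQuotSMul_mk_tmul m (1 : A) (q x)).symm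
      rw [← Submodule.range_mkQ N, ← Submodule.map_top, ← Submodule.map_smul''] at hmem
      obtain ⟨y, hy, hyx⟩ := hmem
      have hN : x - y ∈ N := (Submodule.Quotient.eq N).1 hyx.symm
      obtain ⟨e, he⟩ := Submodule.mem_span_singleton.1 hN
      have hxe : x = e • 1 + y := by rw [he]; abel
      have hqE : q x = q (E y) := by
        have h3 : E x = x := hEfix x hx
        have h4 : E x = e • E 1 + E y := by rw [hxe, map_add, map_smul]
        rw [h3, hEfix 1 (map_one σ)] at h4
        rw [h4, map_add, map_smul, show q 1 = 0 from (Submodule.Quotient.mk_eq_zero N).2 (Submodule.subset_span rfl),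
          smul_zero, zero_add]
      show q x ∈ m • M
      rw [hqE, ← Submodule.map_smul'']
      refine Submodule.mem_map_of_mem ?_
      have h5 := Submodule.mem_map_of_mem (f := E) hy
      rwa [Submodule.map_smul'', Submodule.map_top] at h5
    by_contra hM
    have hann : M.annihilator ≠ ⊤ := fun h => hM ((Submodule.eq_bot_iff _).2 fun z hz => by
      simpa using Submodule.mem_annihilator.1 (h ▸ Submodule.mem_top : (1 : A) ∈ M.annihilator) z hz)
    obtain ⟨m, hm, hle⟩ := Ideal.exists_le_maximal _ hann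
    obtain ⟨r, hr, hr0⟩ := Submodule.exists_sub_one_mem_and_smul_eq_zero_of_fg_of_le_smul m M hMfg (hmax m hm)
    have h1 : r ∈ m := hle (Submodule.mem_annihilator.2 hr0)
    exact hm.ne_top ((Ideal.eq_top_iff_one m).2 (by simpa using sub_mem h1 hr))
  -- a generator
  let y := ∑ i ∈ Finset.range p, (i : B) * σ^[i] c
  have hy : σ y = y - 1 := by
    have h1 : ∀ i : ℕ, σ ((i : B) * σ^[i] c) = ((i + 1 : ℕ) : B) * σ^[i + 1] c - σ^[i + 1] c := fun i => by
      rw [map_mul, map_natCast, ← Function.iterate_succ_apply' σ, Nat.cast_succ]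
      ring
    show σ (∑ i ∈ Finset.range p, (i : B) * σ^[i] c) = _
    rw [map_sum, Finset.sum_congr rfl (fun i _ => h1 i), Finset.sum_sub_distrib]
    have h2 := Finset.sum_range_succ' (fun i => (i : B) * σ^[i] c) p
    have hp0 : ((p : ℕ) : B) = 0 := by rw [← map_natCast (algebraMap A B), CharP.cast_eq_zero A p, map_zero]
    rw [Finset.sum_range_succ, hp0, zero_mul, add_zero] at h2
    simp only [Nat.cast_zero, zero_mul, add_zero] at h2
    have h3 : ∑ i ∈ Finset.range p, σ^[i + 1] c = 1 := by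
      simp only [Function.iterate_succ_apply']
      rw [← map_sum, ← hTr, hc, map_one]
    rw [← h2, h3]
  let b := -y
  have hb : σ b = b + 1 := by rw [map_neg, hy]; ring
  have hbit : ∀ i : ℕ, σ^[i] b = b + (i : B) := fun i => by
    induction i with
    | zero => simp
    | succ i ih =>
      rw [Function.iterate_succ', Function.comp_apply, ih, map_add, hb, map_natCast, Nat.cast_succ]
      ring
  obtain ⟨a, ha⟩ := hfix (b ^ p - b) (by
    haveI : CharP B p := charP_of_injective_algebraMap hinjA p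
    rw [map_sub, map_pow, hb, add_pow_char, one_pow]
    ring)
  let Φ : SGA1t.artinSchreier A p a →ₐ[A] B := Ideal.Quotient.liftₐ _ (Polynomial.aeval b) (fun f hf => by
    obtain ⟨g, rfl⟩ := Ideal.mem_span_singleton'.1 hf
    simp [ha])
  have hΦX : Φ (Ideal.Quotient.mk _ Polynomial.X) = b := by
    show Polynomial.aeval b Polynomial.X = b
    simp
  -- the Vandermonde matrix
  let V : Matrix (Fin p) (Fin p) B := Matrix.vandermonde fun i : Fin p => b + ((i : ℕ) : B)
  have hV : IsUnit V.det := by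
    rw [Matrix.det_vandermonde]
    refine IsUnit.prod_iff.2 fun i _ => IsUnit.prod_iff.2 fun j hj => ?_
    have hij' : i < j := Finset.mem_Ioi.1 hj
    have hij : (i : ℕ) < j := hij'
    have h := (isUnit_natCast (A := A) p (d := (j : ℕ) - i) (by omega) (by omega)).map (algebraMap A B)
    rw [map_natCast, Nat.cast_sub hij.le] at h
    simpa using h
  have hper : ∀ (d : Fin p → B) (x : B), (∀ i : ℕ, i < p → ∑ j, d j * (b + (i : B)) ^ (j : ℕ) = σ^[i] x) →
      ∀ i : ℕ, ∑ j, d j * (b + (i : B)) ^ (j : ℕ) = σ^[i] x := fun d x h i => by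
    have hcast : ((i % p : ℕ) : B) = (i : B) := by
      conv_rhs => rw [← Nat.mod_add_div i p]
      rw [Nat.cast_add, Nat.cast_mul, ← map_natCast (algebraMap A B) p, CharP.cast_eq_zero A p, map_zero, zero_mul,
        add_zero]
    have hit : σ^[i % p] x = σ^[i] x := by
      conv_rhs => rw [← Nat.mod_add_div i p, Function.iterate_add_apply, Function.iterate_mul,
        Function.iterate_fixed (hσ x) (i / p)]
    rw [← hcast, ← hit]
    exact h _ (Nat.mod_lt _ (by omega))
  have hrow : ∀ (d : Fin p → B) (i : Fin p), V.mulVec d i = ∑ j, d j * (b + ((i : ℕ) : B)) ^ (j : ℕ) := fun d i => by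
    simp [V, Matrix.mulVec, dotProduct, Matrix.vandermonde_apply, mul_comm]
  have hVinj : Function.Injective V.mulVec := Matrix.mulVec_injective_of_isUnit ((Matrix.isUnit_iff_isUnit_det V).2 hV)
  have hsurjΦ : Function.Surjective Φ := fun x => by
    let d := V⁻¹.mulVec fun i : Fin p => σ^[(i : ℕ)] x
    have hd : V.mulVec d = fun i : Fin p => σ^[(i : ℕ)] x := by
      simp only [d, Matrix.mulVec_mulVec, Matrix.mul_nonsing_inv V hV, Matrix.one_mulVec]
    have hall := hper d x fun i hi => by rw [← hrow d ⟨i, hi⟩, hd]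
    have hσd : (fun j => σ (d j)) = d := by
      refine hVinj (funext fun i => ?_)
      rw [hd, hrow]
      obtain ⟨k, hk⟩ : ∃ k : ℕ, k + 1 = i + p := ⟨i + p - 1, by omega⟩
      have h1 := congrArg σ (hall k)
      rw [map_sum, ← Function.iterate_succ_apply' σ, Nat.succ_eq_add_one, hk, Function.iterate_add_apply, hσ] at h1
      refine Eq.trans (Finset.sum_congr rfl fun j _ => ?_) h1
      rw [map_mul, map_pow, map_add, hb, map_natCast, add_assoc, add_comm (1 : B), ← Nat.cast_succ,
        Nat.succ_eq_add_one, hk, Nat.cast_add, ← map_natCast (algebraMap A B) p, CharP.cast_eq_zero A p, map_zero,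
        add_zero]
    choose e he using fun j => hfix (d j) (congrFun hσd j)
    refine ⟨∑ j : Fin p, e j • (Ideal.Quotient.mk _ Polynomial.X) ^ (j : ℕ), ?_⟩
    have h0 := hall 0
    simp only [Nat.cast_zero, add_zero, Function.iterate_zero, id_eq] at h0
    rw [map_sum]
    simp only [map_smul, map_pow, hΦX, Algebra.smul_def, he]
    exact h0
  have hinjΦ : Function.Injective Φ := by
    refine (injective_iff_map_eq_zero Φ).2 fun z hz => ?_
    obtain ⟨f, rfl⟩ := Ideal.Quotient.mk_surjective z
    haveI : Nontrivial A := CharP.nontrivial_of_char_ne_one (R := A) (v := p) (by omega)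
    let g : Polynomial A := Polynomial.X ^ p - Polynomial.X - Polynomial.C a
    have hg : g.Monic := by
      simp only [g, sub_sub]
      refine Polynomial.monic_X_pow_sub ?_
      rw [Polynomial.degree_X_add_C]
      exact_mod_cast hp
    have hgdeg : g.natDegree ≤ p := by
      refine Polynomial.natDegree_le_iff_coeff_eq_zero.2 fun k hk => ?_
      simp [g, Polynomial.coeff_X, Polynomial.coeff_C, show k ≠ p by omega, show (1 : ℕ) ≠ k by omega,
        show k ≠ 0 by omega]
    set r := f %ₘ g
    have hfr : (Ideal.Quotient.mk (Ideal.span {g}) f) = Ideal.Quotient.mk _ r :=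
      Ideal.Quotient.eq.2 (Ideal.mem_span_singleton.2 ⟨f /ₘ g, sub_eq_iff_eq_add.2 (by
        rw [add_comm]; exact (Polynomial.modByMonic_add_div f g).symm)⟩)
    rw [hfr] at hz ⊢
    have hrdeg : r.natDegree < p := by
      rcases subsingleton_or_nontrivial A with hA | hA
      · simp [Subsingleton.elim r 0, (show 0 < p by omega)]
      · refine lt_of_lt_of_le (Polynomial.natDegree_modByMonic_lt f hg fun h => ?_) hgdeg
        have := congrArg (fun q : Polynomial A => q.coeff p) h
        simp [g, Polynomial.coeff_X, Polynomial.coeff_C, show p ≠ 1 by omega, show (1 : ℕ) ≠ p by omega,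
          show p ≠ 0 by omega, Polynomial.coeff_one] at this
    have hz' : Polynomial.aeval b r = 0 := hz
    rw [Polynomial.aeval_eq_sum_range' hrdeg, Finset.sum_range (fun i => r.coeff i • b ^ i)] at hz'
    have h0 : (fun j : Fin p => algebraMap A B (r.coeff j)) = 0 := by
      refine hVinj (funext fun i => ?_)
      rw [Matrix.mulVec_zero, hrow, Pi.zero_apply]
      have h1 := congrArg (σ ^ (i : ℕ)) hz'
      rw [map_zero, map_sum] at h1
      refine Eq.trans (Finset.sum_congr rfl fun j _ => ?_) h1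
      rw [map_smul, map_pow, AlgHom.coe_pow, hbit, Algebra.smul_def]
    have hr0 : r = 0 := Polynomial.ext fun j => by
      rw [Polynomial.coeff_zero]
      by_cases hj : j < p
      · exact hinjA ((congrFun h0 ⟨j, hj⟩).trans (map_zero _).symm)
      · exact Polynomial.coeff_eq_zero_of_natDegree_lt (by omega)
    rw [hr0, map_zero]
  refine ⟨a, AlgEquiv.ofBijective Φ ⟨hinjΦ, hsurjΦ⟩, ?_⟩
  show σ (Φ (Ideal.Quotient.mk _ Polynomial.X)) = Φ (Ideal.Quotient.mk _ Polynomial.X) + 1
  rw [hΦX, hb]

end Groth.Agent.RGLib.ASLocal
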