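import Mathlib.AlgebraicGeometry.AffineScheme
import Mathlib.Topology.Sheaves.SheafCondition.UniqueGluing
import Mathlib.CategoryTheory.Category.Preorder

/-!
# Sheaves of sets on the affine opens of a scheme
-/

set_option autoImplicit false
set_option backward.isDefEq.respectTransparency false
set_option backward.isDefEq.respectTransparency.types false

universe u

open CategoryTheory TopologicalSpace Opposite AlgebraicGeometry

namespace Groth.Agent.RGLib.AffBasis

variable {X : Scheme.{u}} (F : (X.affineOpens)ᵒᵖ ⥤ Type u)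

/-- Restriction. -/
abbrev r {U V : X.affineOpens} (h : V ≤ U) (s : F.obj (op U)) : F.obj (op V) := F.map (homOfLE h).op s

theorem r_r {U V W : X.affineOpens} (h : V ≤ U) (h' : W ≤ V) (s : F.obj (op U)) :
    r F h' (r F h s) = r F (h'.trans h) s := by
  show F.map _ (F.map _ s) = F.map _ s
  rw [← ConcreteCategory.comp_apply, ← F.map_comp]
  rfl

theorem r_self {U : X.affineOpens} (h : U ≤ U) (s : F.obj (op U)) : r F h s = s := by
  show F.map _ s = s
  rw [show (homOfLE h).op = 𝟙 (op U) from rfl, F.map_id]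
  rfl

/-- A basic open as an affine open. -/
def bas (U : X.affineOpens) (f : Γ(X, (U : X.Opens))) : X.affineOpens := ⟨X.basicOpen f, U.2.basicOpen f⟩

theorem bas_le (U : X.affineOpens) (f : Γ(X, (U : X.Opens))) : bas U f ≤ U := X.basicOpen_le f

theorem bas_mul_le_left (U : X.affineOpens) (f g : Γ(X, (U : X.Opens))) : bas U (f * g) ≤ bas U f :=
  show X.basicOpen (f * g) ≤ _ by rw [X.basicOpen_mul]; exact inf_le_left

theorem bas_mul_le_right (U : X.affineOpens) (f g : Γ(X, (U : X.Opens))) : bas U (f * g) ≤ bas U g :=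
  show X.basicOpen (f * g) ≤ _ by rw [X.basicOpen_mul]; exact inf_le_right

/-- The condition on covers by two basic opens. -/
def TwoCover : Prop :=
  ∀ (U : X.affineOpens) (f g : Γ(X, (U : X.Opens))), (U : X.Opens) = X.basicOpen f ⊔ X.basicOpen g →
    (∀ a b : F.obj (op U), r F (bas_le U f) a = r F (bas_le U f) b → r F (bas_le U g) a = r F (bas_le U g) b →
      a = b) ∧
    ∀ (a : F.obj (op (bas U f))) (b : F.obj (op (bas U g))),
      r F (bas_mul_le_left U f g) a = r F (bas_mul_le_right U f g) b →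
      ∃ c, r F (bas_le U f) c = a ∧ r F (bas_le U g) c = b

variable {F}

/-- The restriction of functions. -/
noncomputable abbrev res {U V : X.affineOpens} (h : V ≤ U) (f : Γ(X, (U : X.Opens))) : Γ(X, (V : X.Opens)) :=
  X.presheaf.map (homOfLE (show (V : X.Opens) ≤ U from h)).op f

theorem basicOpen_res' {U V : X.affineOpens} (h : V ≤ U) (f : Γ(X, (U : X.Opens))) :
    X.basicOpen (res h f) = (V : X.Opens) ⊓ X.basicOpen f :=
  X.basicOpen_res f _

theorem bas_res_le {U V : X.affineOpens} (h : V ≤ U) (f : Γ(X, (U : X.Opens))) : bas V (res h f) ≤ bas U f :=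
  show X.basicOpen _ ≤ _ by rw [basicOpen_res']; exact inf_le_right

theorem isUnit_res_bas (U : X.affineOpens) (g : Γ(X, (U : X.Opens))) : IsUnit (res (bas_le U g) g) :=
  RingedSpace.isUnit_res_basicOpen X.toLocallyRingedSpace.toRingedSpace g

theorem span_res {U V : X.affineOpens} (h : V ≤ U) {n : ℕ} (f : Fin n → Γ(X, (U : X.Opens)))
    {g : Γ(X, (U : X.Opens))} (hg : g ∈ Ideal.span (Set.range f)) (hu : IsUnit (res h g)) :
    Ideal.span (Set.range fun i => res h (f i)) = ⊤ := by
  refine Ideal.eq_top_of_isUnit_mem _ ?_ hu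
  have := Ideal.mem_map_of_mem (X.presheaf.map (homOfLE (show (V : X.Opens) ≤ U from h)).op).hom hg
  rw [Ideal.map_span, ← Set.range_comp] at this
  exact this

theorem unit_eq {U : X.affineOpens} {f g : Γ(X, (U : X.Opens))} (hsum : ∃ a : Γ(X, (U : X.Opens)), a * f + g = 1) :
    (U : X.Opens) = X.basicOpen f ⊔ X.basicOpen g := by
  obtain ⟨a, ha⟩ := hsum
  refine le_antisymm ?_ (sup_le (X.basicOpen_le f) (X.basicOpen_le g))
  have h : Ideal.span ({f, g} : Set Γ(X, (U : X.Opens))) = ⊤ :=
    (Ideal.eq_top_iff_one _).2 (ha ▸ add_mem (Ideal.mul_mem_left _ _ (Ideal.subset_span (Set.mem_insert _ _)))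
      (Ideal.subset_span (Set.mem_insert_of_mem _ rfl)))
  refine (U.2.self_le_iSup_basicOpen_iff.2 h).trans (iSup_le fun x => ?_)
  rcases x.2 with h' | h'
  · exact (congrArg X.basicOpen h').trans_le le_sup_left
  · exact (congrArg X.basicOpen (Set.mem_singleton_iff.1 h')).trans_le le_sup_right

theorem split_span {U : X.affineOpens} {n : ℕ} (f : Fin (n + 1) → Γ(X, (U : X.Opens)))
    (hf : Ideal.span (Set.range f) = ⊤) :
    ∃ g ∈ Ideal.span (Set.range fun i : Fin n => f i.succ), ∃ a, a * f 0 + g = 1 := by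
  have h : (1 : Γ(X, (U : X.Opens))) ∈ Ideal.span (Set.range f) := hf ▸ Submodule.mem_top
  rw [show Set.range f = insert (f 0) (Set.range fun i : Fin n => f i.succ) from by
    ext x
    simp [Fin.exists_fin_succ, eq_comm], Ideal.mem_span_insert] at h
  obtain ⟨a, g, hg, e⟩ := h
  exact ⟨g, hg, a, e.symm⟩

theorem eq_bot_of_span_empty {U : X.affineOpens} (f : Fin 0 → Γ(X, (U : X.Opens)))
    (hf : Ideal.span (Set.range f) = ⊤) : (U : X.Opens) = ⊥ := by
  refine le_antisymm ((U.2.self_le_iSup_basicOpen_iff.2 hf).trans (iSup_le fun x => ?_)) bot_le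
  obtain ⟨i, -⟩ := x.2
  exact i.elim0

variable (hF : TwoCover F) (hE : ∀ U : X.affineOpens, (U : X.Opens) = ⊥ → Nonempty (F.obj (op U)) ∧ Subsingleton (F.obj (op U)))

include hF hE

/-- Separatedness for finite covers by basic opens. -/
theorem sep (n : ℕ) : ∀ (U : X.affineOpens) (f : Fin n → Γ(X, (U : X.Opens))), Ideal.span (Set.range f) = ⊤ →
    ∀ a b : F.obj (op U), (∀ i, r F (bas_le U (f i)) a = r F (bas_le U (f i)) b) → a = b := by
  induction n with
  | zero =>
    intro U f hf a b _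
    haveI := (hE U (eq_bot_of_span_empty f hf)).2
    exact Subsingleton.elim _ _
  | succ n ih =>
    intro U f hf a b hab
    obtain ⟨g, hg, hsum⟩ := split_span f hf
    refine (hF U (f 0) g (unit_eq hsum)).1 a b (hab 0) ?_
    refine ih (bas U g) (fun i => res (bas_le U g) (f i.succ))
      (span_res _ _ hg (isUnit_res_bas U g)) _ _ fun i => ?_
    rw [r_r, r_r, ← r_r F (bas_le U (f i.succ)) (bas_res_le _ _), ← r_r F (bas_le U (f i.succ)) (bas_res_le _ _),
      hab i.succ]

/-- Glueing for finite covers by basic opens. -/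
theorem glue (n : ℕ) : ∀ (U : X.affineOpens) (f : Fin n → Γ(X, (U : X.Opens))), Ideal.span (Set.range f) = ⊤ →
    ∀ s : ∀ i, F.obj (op (bas U (f i))),
      (∀ i j (W : X.affineOpens) (h₁ : W ≤ bas U (f i)) (h₂ : W ≤ bas U (f j)), r F h₁ (s i) = r F h₂ (s j)) →
      ∃ c, ∀ i, r F (bas_le U (f i)) c = s i := by
  induction n with
  | zero =>
    intro U f hf s _
    exact ⟨(hE U (eq_bot_of_span_empty f hf)).1.some, fun i => i.elim0⟩
  | succ n ih =>
    intro U f hf s hs
    obtain ⟨g, hg, hsum⟩ := split_span f hf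
    obtain ⟨t, ht⟩ := ih (bas U g) (fun i => res (bas_le U g) (f i.succ))
      (span_res _ _ hg (isUnit_res_bas U g)) (fun i => r F (bas_res_le _ _) (s i.succ))
      (fun i j W h₁ h₂ => by rw [r_r, r_r]; exact hs _ _ W _ _)
    obtain ⟨c, hc₀, hc₁⟩ := (hF U (f 0) g (unit_eq hsum)).2 (s 0) t (by
      refine sep hF hE n (bas U (f 0 * g)) (fun i => res (bas_le U _) (f i.succ)) (span_res _ _ hg ?_) _ _ fun i => ?_
      · have e : res (bas_le U (f 0 * g)) g = res (bas_mul_le_right U (f 0) g) (res (bas_le U g) g) := by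
          show _ = (X.presheaf.map _ ≫ X.presheaf.map _).hom g
          rw [← Functor.map_comp]
          rfl
        rw [e]
        exact (isUnit_res_bas U g).map _
      · have hle : bas (bas U (f 0 * g)) (res (bas_le U _) (f i.succ)) ≤
            bas (bas U g) (res (bas_le U g) (f i.succ)) := by
          show X.basicOpen _ ≤ X.basicOpen _
          rw [basicOpen_res', basicOpen_res']
          exact inf_le_inf_right _ (bas_mul_le_right U (f 0) g)
        rw [r_r, r_r, ← r_r F (bas_le (bas U g) (res (bas_le U g) (f i.succ))) hle t, ht i, r_r]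
        exact hs 0 i.succ _ _ _)
    refine ⟨c, fun i => Fin.cases hc₀ (fun i => ?_) i⟩
    let V := bas U (f i.succ)
    refine (hF V (res (bas_le U _) (f 0)) (res (bas_le U _) g) ?_).1 _ _ ?_ ?_
    · obtain ⟨a, ha⟩ := hsum
      refine unit_eq ⟨res (bas_le U _) a, ?_⟩
      have h := congrArg (X.presheaf.map (homOfLE (show (bas U (f i.succ) : X.Opens) ≤ U from bas_le U _)).op).hom ha
      rw [map_add, map_mul, map_one] at h
      exact h
    · rw [r_r, ← r_r F (bas_le U (f 0)) (bas_res_le _ _) c, hc₀]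
      exact hs 0 i.succ _ _ _
    · have hle : bas V (res (bas_le U _) g) ≤ bas (bas U g) (res (bas_le U g) (f i.succ)) := by
        show X.basicOpen _ ≤ X.basicOpen _
        rw [basicOpen_res', basicOpen_res', inf_comm]
        exact le_rfl
      rw [r_r, ← r_r F (bas_le U g) (bas_res_le (bas_le U _) g) c, hc₁]
      rw [show r F (bas_res_le (bas_le U (f i.succ)) g) t =
        r F hle (r F (bas_le (bas U g) (res (bas_le U g) (f i.succ))) t) from (r_r F _ _ _).symm, ht i, r_r]

/-- Sections on an affine open are determined by arbitrary covers. -/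
theorem exists_cover_glue {ι : Type u} (U : X.affineOpens) (W : ι → X.Opens) (hW : (U : X.Opens) ≤ iSup W)
    (s : ∀ (i : ι) (V : X.affineOpens), V ≤ U → (V : X.Opens) ≤ W i → F.obj (op V))
    (hnat : ∀ i (V V' : X.affineOpens) (h : V ≤ U) (h' : (V : X.Opens) ≤ W i) (hV' : V' ≤ V),
      r F hV' (s i V h h') = s i V' (hV'.trans h) (le_trans hV' h'))
    (hcomp : ∀ i j (V : X.affineOpens) (h : V ≤ U) (hi : (V : X.Opens) ≤ W i) (hj : (V : X.Opens) ≤ W j),
      s i V h hi = s j V h hj) :
    ∃! c : F.obj (op U), ∀ (i : ι) (V : X.affineOpens) (h : V ≤ U) (h' : (V : X.Opens) ≤ W i),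
      r F h c = s i V h h' := by
  let T : Set Γ(X, (U : X.Opens)) := {f | ∃ i, X.basicOpen f ≤ W i}
  have hT : Ideal.span T = ⊤ := by
    refine U.2.self_le_iSup_basicOpen_iff.1 fun x hx => ?_
    obtain ⟨i, hi⟩ := Opens.mem_iSup.1 (hW hx)
    obtain ⟨f, hf, hxf⟩ := U.2.exists_basicOpen_le (V := W i) ⟨x, hi⟩ hx
    exact Opens.mem_iSup.2 ⟨⟨f, i, hf⟩, hxf⟩
  obtain ⟨T', hsub, hT'⟩ := (Ideal.span_eq_top_iff_finite T).1 hT
  let e := T'.equivFin.symm
  let f : Fin T'.card → Γ(X, (U : X.Opens)) := fun k => (e k).1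
  have hf : Ideal.span (Set.range f) = ⊤ := by
    rw [show Set.range f = (T' : Set Γ(X, (U : X.Opens))) from by
      ext x
      exact ⟨fun ⟨k, hk⟩ => hk ▸ (e k).2, fun hx => ⟨e.symm ⟨x, hx⟩, by simp [f]⟩⟩]
    exact hT'
  have hk : ∀ k, ∃ i, X.basicOpen (f k) ≤ W i := fun k => hsub (e k).2
  choose idx hidx using hk
  obtain ⟨c, hc⟩ := glue hF hE _ U f hf (fun k => s (idx k) (bas U (f k)) (bas_le _ _) (hidx k))
    (fun i j V h₁ h₂ => by rw [hnat, hnat]; exact hcomp _ _ _ _ _ _)
  refine ⟨c, fun i V h h' => ?_, fun c' hc' => sep hF hE _ U f hf _ _ fun k => ?_⟩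
  · refine sep hF hE _ V (fun k => res h (f k)) ?_ _ _ fun k => ?_
    · refine span_res h f (g := 1) (hf ▸ Submodule.mem_top) ?_
      rw [res, map_one]
      exact isUnit_one
    · rw [r_r, ← r_r F (bas_le U (f k)) (bas_res_le h (f k)) c, hc k, hnat, hnat]
      exact hcomp _ _ _ _ _ _
  · rw [hc' (idx k) _ (bas_le _ _) (hidx k), hc k]

omit hF hE in
/-- The extension to all opens. -/
def ext (F : (X.affineOpens)ᵒᵖ ⥤ Type u) (U : X.Opens) : Type u :=
  { s : ∀ V : X.affineOpens, (V : X.Opens) ≤ U → F.obj (op V) //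
    ∀ (V V' : X.affineOpens) (h : (V : X.Opens) ≤ U) (hV' : V' ≤ V), r F hV' (s V h) = s V' (le_trans hV' h) }

omit hF hE

/-- The presheaf extending `F`. -/
def extPresheaf (F : (X.affineOpens)ᵒᵖ ⥤ Type u) : TopCat.Presheaf (Type u) X.carrier where
  obj U := ext F U.unop
  map {U V} i := ↾fun s => ⟨fun W h => s.1 W (le_trans h i.unop.le), fun W W' h hW' => s.2 W W' _ hW'⟩
  map_id U := by ext s; rfl
  map_comp i j := by ext s; rfl

include hF hE

theorem isSheaf_ext : (extPresheaf F).IsSheaf := by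
  refine TopCat.Presheaf.isSheaf_of_isSheafUniqueGluing_types _ fun ι U sf hsf => ?_
  have key : ∀ (V : X.affineOpens), (V : X.Opens) ≤ iSup U → ∃! c : F.obj (op V),
      ∀ (i : ι) (W : X.affineOpens) (h : W ≤ V) (h' : (W : X.Opens) ≤ U i), r F h c = (sf i).1 W h' := fun V hV =>
    exists_cover_glue hF hE V U hV (fun i W _ h' => (sf i).1 W h') (fun i W W' _ h' hW' => (sf i).2 W W' h' hW')
      (fun i j W _ hi hj => congrArg (fun t : ext F (U i ⊓ U j) => t.1 W (le_inf hi hj)) (hsf i j))
  refine ⟨⟨fun V hV => (key V hV).choose, fun V V' h hV' => ?_⟩, fun i => Subtype.ext ?_, fun t ht => Subtype.ext ?_⟩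
  · refine ((key V' (le_trans hV' h)).choose_spec.2 _ fun i W hW h' => ?_)
    rw [r_r]
    exact (key V h).choose_spec.1 i W _ h'
  · funext V hV
    exact (r_self F le_rfl _).symm.trans ((key V (le_trans hV (le_iSup U i))).choose_spec.1 i V le_rfl hV)
  · funext V hV
    refine (key V hV).choose_spec.2 _ fun i W hW h' => ?_
    refine (t.2 V W hV hW).trans ?_
    exact congrArg (fun q : ext F (U i) => q.1 W h') (ht i)

omit hF hE in
/-- The extension restricts to `F`. -/
def extIso (F : (X.affineOpens)ᵒᵖ ⥤ Type u) :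
    (Monotone.functor (f := fun U : X.affineOpens => (U : X.Opens)) (fun _ _ h => h)).op ⋙ extPresheaf F ≅ F :=
  NatIso.ofComponents
    (fun V => Equiv.toIso
      { toFun := fun s => s.1 V.unop le_rfl
        invFun := fun a => ⟨fun W h => r F h a, fun W W' h hW' => r_r F _ _ _⟩
        left_inv := fun s => Subtype.ext (funext fun W => funext fun h => s.2 V.unop W le_rfl h)
        right_inv := fun a => r_self F _ a })
    (fun {V W} i => by
      ext s
      exact (s.2 V.unop W.unop le_rfl i.unop.le).symm)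

omit hF hE

/-- The restriction of a sheaf satisfies the conditions. -/
theorem of_sheaf (G : TopCat.Sheaf (Type u) X.carrier)
    (e : (Monotone.functor (f := fun U : X.affineOpens => (U : X.Opens)) (fun _ _ h => h)).op ⋙ G.1 ≅ F) :
    TwoCover F ∧ ∀ U : X.affineOpens, (U : X.Opens) = ⊥ → Nonempty (F.obj (op U)) ∧ Subsingleton (F.obj (op U)) := by
  let φ : ∀ U : X.affineOpens, G.1.obj (op (U : X.Opens)) ≃ F.obj (op U) := fun U => (e.app (op U)).toEquiv
  have hφ : ∀ {U V : X.affineOpens} (h : V ≤ U) (a : G.1.obj (op (U : X.Opens))),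
      r F h (φ U a) = φ V (G.1.map (homOfLE (show (V : X.Opens) ≤ U from h)).op a) := fun h a =>
    (ConcreteCategory.congr_hom (e.hom.naturality (homOfLE h).op) a).symm
  refine ⟨fun U f g hU => ⟨fun a b h₁ h₂ => ?_, fun a b hab => ?_⟩, fun U hU => ?_⟩
  · obtain ⟨a, rfl⟩ := (φ U).surjective a
    obtain ⟨b, rfl⟩ := (φ U).surjective b
    rw [hφ, hφ] at h₁ h₂
    exact congrArg _ (G.eq_of_locally_eq₂ (homOfLE (X.basicOpen_le f)) (homOfLE (X.basicOpen_le g)) hU.le _ _
      ((φ _).injective h₁) ((φ _).injective h₂))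
  · obtain ⟨a, rfl⟩ := (φ _).surjective a
    obtain ⟨b, rfl⟩ := (φ _).surjective b
    rw [hφ, hφ] at hab
    have hab' := (φ _).injective hab
    let W : Bool → X.Opens := fun t => cond t (X.basicOpen f) (X.basicOpen g)
    let sf : ∀ t, G.1.obj (op (W t)) := fun t => match t with
      | true => a
      | false => b
    have hle : ∀ t, W t ≤ (U : X.Opens) := fun t => by cases t <;> exact X.basicOpen_le _
    have hcompat : TopCat.Presheaf.IsCompatible G.1 W sf := by
      have hfg : X.basicOpen f ⊓ X.basicOpen g ≤ X.basicOpen (f * g) := by rw [X.basicOpen_mul]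
      have hgf : X.basicOpen g ⊓ X.basicOpen f ≤ X.basicOpen (f * g) := by rw [X.basicOpen_mul, inf_comm]
      intro i j
      cases i <;> cases j
      · rfl
      · have := congrArg (G.1.map (homOfLE hgf).op) hab'
        erw [← ConcreteCategory.comp_apply, ← G.1.map_comp, ← ConcreteCategory.comp_apply, ← G.1.map_comp] at this
        exact this.symm
      · have := congrArg (G.1.map (homOfLE hfg).op) hab'
        erw [← ConcreteCategory.comp_apply, ← G.1.map_comp, ← ConcreteCategory.comp_apply, ← G.1.map_comp] at this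
        exact this
      · rfl
    obtain ⟨c, hc, -⟩ := G.existsUnique_gluing' W (U : X.Opens) (fun t => homOfLE (hle t))
      (hU.le.trans (sup_le (le_iSup W true) (le_iSup W false))) sf hcompat
    exact ⟨φ U c, (hφ _ c).trans (congrArg _ (hc true)), (hφ _ c).trans (congrArg _ (hc false))⟩
  · obtain ⟨c, -, huniq⟩ := G.existsUnique_gluing' (fun i : Empty => (i.elim : X.Opens)) (U : X.Opens)
      (fun i => i.elim) (hU.le.trans bot_le) (fun i => i.elim) (fun i => i.elim)
    exact ⟨⟨φ U c⟩, ⟨fun a b => (φ U).symm.injective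
      ((huniq _ fun i => i.elim).trans (huniq _ fun i => i.elim).symm)⟩⟩

/-- The characterisation, in the form with covers named by affine opens. -/
theorem result (F : (X.affineOpens)ᵒᵖ ⥤ Type u) (E : X.affineOpens) (hE : (E : X.Opens) = ⊥) :
    (∃ G : TopCat.Sheaf (Type u) X.carrier,
        Nonempty ((Monotone.functor (f := fun U : X.affineOpens => (U : X.Opens)) (fun _ _ h => h)).op ⋙ G.1 ≅ F)) ↔
    ((Nonempty (F.obj (op E)) ∧ Subsingleton (F.obj (op E))) ∧
      ∀ (U V W VW : X.affineOpens) (f g : Γ(X, (U : X.Opens))),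
        (V : X.Opens) = X.basicOpen f → (W : X.Opens) = X.basicOpen g →
        (VW : X.Opens) = X.basicOpen (f * g) → (U : X.Opens) = (V : X.Opens) ⊔ (W : X.Opens) →
        ∀ (hV : V ≤ U) (hW : W ≤ U) (h1 : VW ≤ V) (h2 : VW ≤ W),
        Function.Injective (fun s : F.obj (op U) => (F.map (homOfLE hV).op s, F.map (homOfLE hW).op s)) ∧
        Set.range (fun s : F.obj (op U) => (F.map (homOfLE hV).op s, F.map (homOfLE hW).op s)) =
          {p | F.map (homOfLE h1).op p.1 = F.map (homOfLE h2).op p.2}) := by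
  constructor
  · rintro ⟨G, ⟨e⟩⟩
    obtain ⟨h2c, hbot⟩ := of_sheaf G e
    refine ⟨hbot E hE, fun U V W VW f g eV eW eVW hU hV hW h1 h2 => ?_⟩
    obtain rfl : V = bas U f := Subtype.ext eV
    obtain rfl : W = bas U g := Subtype.ext eW
    obtain rfl : VW = bas U (f * g) := Subtype.ext eVW
    obtain ⟨hi, hs⟩ := h2c U f g hU
    refine ⟨fun a b h => hi a b (congrArg Prod.fst h) (congrArg Prod.snd h), Set.ext fun p => ⟨?_, fun hp => ?_⟩⟩
    · rintro ⟨s, rfl⟩
      exact (r_r F _ _ s).trans (r_r F _ _ s).symm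
    · obtain ⟨c, hc₁, hc₂⟩ := hs p.1 p.2 hp
      exact ⟨c, Prod.ext hc₁ hc₂⟩
  · rintro ⟨hEE, h⟩
    have hbot : ∀ U : X.affineOpens, (U : X.Opens) = ⊥ → Nonempty (F.obj (op U)) ∧ Subsingleton (F.obj (op U)) :=
      fun U hU => by
        obtain rfl : U = E := Subtype.ext (hU.trans hE.symm)
        exact hEE
    have h2c : TwoCover F := fun U f g hU => by
      obtain ⟨hi, hr⟩ := h U (bas U f) (bas U g) (bas U (f * g)) f g rfl rfl rfl hU (bas_le U f) (bas_le U g)
        (bas_mul_le_left U f g) (bas_mul_le_right U f g)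
      refine ⟨fun a b h₁ h₂ => hi (Prod.ext h₁ h₂), fun a b hab => ?_⟩
      obtain ⟨c, hc⟩ := (Set.ext_iff.1 hr (a, b)).2 hab
      exact ⟨c, congrArg Prod.fst hc, congrArg Prod.snd hc⟩
    exact ⟨⟨extPresheaf F, isSheaf_ext h2c hbot⟩, ⟨extIso F⟩⟩

end Groth.Agent.RGLib.AffBasis
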