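import Groth.Agent.S4414
import Groth.Agent.AmpleX.Comp
import Groth.Agent.AmpleX.Separated

/-!
# Schemes over a base with an ample invertible module
-/

set_option autoImplicit false
set_option backward.isDefEq.respectTransparency false
set_option backward.isDefEq.respectTransparency.types false

universe u

open CategoryTheory CategoryTheory.Limits AlgebraicGeometry

namespace Groth.Agent.RGLib.AmpleBase

open Groth.Agent

variable {X S : Scheme.{u}}

/-- Absolute ampleness upstairs gives relative ampleness. -/
theorem isRelAmple_of_isAmple {N : S.Modules} (hN : CohB1.IsAmple N) (f : X ⟶ S) {L : X.Modules}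
    (hL : CohB1.IsAmple L) : QuasiCompact f ∧ RelAmple.IsRelAmple f L := by
  haveI := AmpleX.isSeparated_of_isAmple hN
  haveI := AmpleX.isSeparated_of_isAmple hL
  haveI : CompactSpace X := hL.2.1
  haveI : QuasiCompact (terminal.from X) := (quasiCompact_iff_compactSpace _).2 inferInstance
  haveI : QuasiCompact (f ≫ terminal.from S) := by rwa [Subsingleton.elim (f ≫ terminal.from S) (terminal.from X)]
  haveI : QuasiCompact f := QuasiCompact.of_comp f (terminal.from S)
  refine ⟨inferInstance, AmpleX.isRelAmple_of_comp (f := f) (terminal.from S) ?_⟩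
  exact (AmpleX.isRelAmple_iff_isAmple _ L).2 hL

/-- Relative ampleness over a base with an ample module gives absolute ampleness upstairs. -/
theorem exists_isAmple_of_isRelAmple {N : S.Modules} (hN : CohB1.IsAmple N) (f : X ⟶ S) [QuasiCompact f]
    {L : X.Modules} (hL : RelAmple.IsRelAmple f L) : ∃ M : X.Modules, CohB1.IsAmple M := by
  haveI : CompactSpace S := hN.2.1
  haveI := AmpleX.isSeparated_of_isAmple hN
  haveI : QuasiCompact (terminal.from S) := (quasiCompact_iff_compactSpace _).2 inferInstance
  have hK : RelAmple.IsRelAmple (terminal.from S) N := (AmpleX.isRelAmple_iff_isAmple _ N).2 hN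
  obtain ⟨n₀, -, h⟩ := AmpleX.eventually_isRelAmple_comp f (terminal.from S) hL hK
  exact ⟨_, (AmpleX.isRelAmple_iff_isAmple (f ≫ terminal.from S) _).1 (h n₀ le_rfl)⟩

end Groth.Agent.RGLib.AmpleBase
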