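import Groth.Agent.AmpleFamX.Divisor
import Groth.Agent.RGLib.AmpleFamily
import Groth.Agent.S8914

/-!
# Ample families from effective Cartier divisors with ample complements
-/

universe u

open CategoryTheory AlgebraicGeometry TopologicalSpace
open Groth.Agent.H23.PicMul

set_option backward.isDefEq.respectTransparency false
set_option backward.isDefEq.respectTransparency.types false

namespace Groth.Agent.RGLib.AmpleFamily

open Groth.Agent Groth.Agent.AmpleX

variable {X : Scheme.{u}}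

theorem exists_divisor_line (I : X.IdealSheafData) (hI : BlowUp.IsEffCartierIdeal I) :
    ∃ (L : X.Modules) (_ : PicF.IsInvertible L) (s : Γ(L, (⊤ : X.Opens))), ∀ x, x ∈ locus s ↔ x ∉ I.support := by
  have hIi := (S8914.result I).2 hI
  obtain ⟨D, hD, e⟩ := H23.PicInv.exists_inverse hIi
  have hinv : ClSub.IsInverseOf D (ClSub.idealMod I) := cl_eq_iff.1 (by
    rw [cl_tensor, mul_comm, ← cl_tensor]
    exact cl_eq_iff.2 e)
  obtain ⟨s, hs⟩ := Groth.Agent.AmpleFamX.exists_divisor_section I hI hD hinv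
  refine ⟨D, hD, s, fun x => ?_⟩
  rw [← hs x, show H23.TrivBasic.locus s = CohB1.genLocus D (InvX.ofSect s) from rfl, genLocus_eq_locus,
    InvX.one_ofSect]

theorem hasAmpleFamily_of_cartier {m : ℕ} (D : Fin m → X.IdealSheafData)
    (hD : ∀ i, BlowUp.IsEffCartierIdeal (D i)) (hcap : ⋂ i, ((D i).support : Set X) = ∅)
    (L : Fin m → X.Modules) (hL : ∀ i, PicF.IsInvertible (L i))
    (hamp : ∀ i, CohB1.IsAmple ((L i).restrict (Scheme.Opens.ι (D i).support.compl))) :
    MoreMor.HasAmpleFamily X := by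
  classical
  choose N hN s hs using fun i => exists_divisor_line (D i) (hD i)
  let U : Fin m → X.Opens := fun i => (D i).support.compl
  have hU : ∀ i, locus (s i) = U i := fun i => Opens.ext (Set.ext fun x => hs i x)
  have hcov : ∀ x : X, ∃ i, x ∈ U i := fun x => by
    by_contra hx
    push Not at hx
    have : x ∈ ⋂ i, ((D i).support : Set X) := Set.mem_iInter.2 fun i => not_not.1 (hx i)
    rw [hcap] at this
    exact this
  have key : ∀ x : X, ∃ (i : Fin m) (a : ℕ) (_ : 0 < a) (t : Γ(CohB1.tensorPow (L i) a, (U i).ι ''ᵁ ⊤)),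
      x ∈ locus t ∧ IsAffineOpen (locus t) := fun x => by
    obtain ⟨i, hi⟩ := hcov x
    obtain ⟨-, hx⟩ := (isAmple_restrict_iff (U i).ι (hL i)).1 (hamp i)
    obtain ⟨a, ha, t, ht1, ht2⟩ := hx ⟨x, hi⟩
    exact ⟨i, a, ha, t, ht1, ht2⟩
  choose i a ha t hxt haff using key
  have hUc : ∀ i, CompactSpace (U i).toScheme := fun i => ((isAmple_restrict_iff (U i).ι (hL i)).1 (hamp i)).1
  haveI : CompactSpace X := by
    refine ⟨?_⟩
    have e : (Set.univ : Set X) = ⋃ i, (U i : Set X) := by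
      ext x; simpa using hcov x
    rw [e]
    exact isCompact_iUnion fun i => isCompact_iff_compactSpace.mpr (hUc i)
  haveI : QuasiSeparatedSpace X := by
    refine Scheme.quasiSeparatedSpace_of_isOpenCover (fun x => locus (t x))
      (Opens.ext (Set.eq_univ_of_forall fun x => ?_)) haff fun x y => ?_
    · exact Opens.mem_iSup.2 ⟨x, hxt x⟩
    · have h1 : IsAffineOpen (locus (t x) ⊓ U (i y)) := by
        exact hU (i y) ▸ isAffineOpen_inf_locus (hN _) (haff x) (s (i y)) le_top
      have hle : locus (t y) ≤ U (i y) := (locus_le _).trans (U (i y)).ι_image_top.le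
      have e : (locus (t x) : Set X) ∩ locus (t y) = ((locus (t x) ⊓ U (i y)) ⊓ locus (t y) : X.Opens) := by
        ext z
        exact ⟨fun h => ⟨⟨h.1, hle h.2⟩, h.2⟩, fun h => ⟨h.1.1, h.2⟩⟩
      rw [e]
      haveI : (U (i y)).toScheme.IsSeparated := isSeparated_of_isAmple (hamp (i y))
      let j := (U (i y)).ι
      have ha1 : IsAffineOpen (j ⁻¹ᵁ (locus (t x) ⊓ U (i y))) :=
        h1.preimage_of_isOpenImmersion j (by rw [Scheme.Opens.opensRange_ι]; exact inf_le_right)
      have ha2 : IsAffineOpen (j ⁻¹ᵁ locus (t y)) :=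
        (haff y).preimage_of_isOpenImmersion j (by rw [Scheme.Opens.opensRange_ι]; exact hle)
      have h3 := (ha1.inf ha2).isCompact.image j.continuous
      convert h3 using 1
      ext z
      constructor
      · rintro ⟨hz1, hz2⟩; exact ⟨⟨z, hle hz2⟩, ⟨hz1, hz2⟩, rfl⟩
      · rintro ⟨z, ⟨hz1, hz2⟩, rfl⟩; exact ⟨hz1, hz2⟩
  refine ⟨inferInstance, fun x => ?_⟩
  let sx := InvX.ofSect (s (i x))
  let G := CohB1.genLocus (N (i x)) sx
  have hG : G = U (i x) := by
    show CohB1.genLocus (N (i x)) sx = _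
    rw [genLocus_eq_locus, InvX.one_ofSect, hU]
  have hle : G ≤ (U (i x)).ι ''ᵁ ⊤ := by rw [hG]; exact (U (i x)).ι_image_top.ge
  have hLa := InvX.isInvertible_tensorPow (hL (i x)) (a x)
  obtain ⟨n₀, hn₀⟩ := exists_extend_qs (ProjUPX.isQCoh_of_isInvertible hLa) (hN (i x)) sx
    (AModX.res (CohB1.tensorPow (L (i x)) (a x)) hle (t x))
  obtain ⟨T, hT⟩ := hn₀ n₀ le_rfl
  let P := CohB1.tensorMod (CohB1.tensorMod (CohB1.tensorPow (L (i x)) (a x)) (CohB1.tensorPow (N (i x)) n₀)) (N (i x))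
  have hP₀ := InvX.isInvertible_tensorMod hLa (InvX.isInvertible_tensorPow (hN (i x)) n₀)
  have hP : PicF.IsInvertible P := InvX.isInvertible_tensorMod hP₀ (hN (i x))
  have hfr : InvX.IsFrame (AModX.res (N (i x)) (le_top : G ≤ ⊤) (InvX.one sx)) := res_genLocus_frame sx
  have hl : locus (InvX.tmul T (InvX.one sx)) = locus (t x) := by
    rw [locus_tmul hP₀ (hN (i x)), ← genLocus_eq_locus sx,
      show locus T ⊓ G = locus (AModX.res _ (le_top : G ≤ ⊤) T) from (locus_res T le_top).symm, hT,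
      locus_tmul hLa (InvX.isInvertible_tensorPow (hN (i x)) n₀), locus_res]
    have h2 : locus (powElt (AModX.res (N (i x)) (le_top : G ≤ ⊤) (InvX.one sx)) n₀) = G :=
      le_antisymm (locus_le _) (le_locus _ le_rfl (by rw [AModX.res_self]; exact isFrame_powElt hfr n₀))
    rw [h2, inf_assoc, inf_idem, inf_eq_left.2]
    rw [hG]
    exact (locus_le _).trans (U (i x)).ι_image_top.le
  obtain ⟨b, hb⟩ := exists_locus_cl (N := CohB1.tensorPow P 1)
    (show PicF.cl P = _ by rw [cl_tensorPow, pow_one]) (InvX.tmul T (InvX.one sx))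
  refine ⟨P, 1, InvX.ofSect b, hP, le_rfl, ?_, ?_⟩ <;>
    rw [genLocus_eq_locus, InvX.one_ofSect, hb, hl]
  · exact hxt x
  · exact haff x

end Groth.Agent.RGLib.AmpleFamily
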