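import Groth.Agent.AmpleX.FiniteSet
import Groth.Agent.AmpleX.Sect
import Mathlib

/-!
# An affine locus around an integral scheme over a field
-/

set_option autoImplicit false
set_option backward.isDefEq.respectTransparency false
set_option backward.isDefEq.respectTransparency.types false

universe u

open CategoryTheory AlgebraicGeometry TopologicalSpace
open Groth.Agent.H23.PicMul

namespace Groth.Agent.RGLib.AmpleIntegral

open Groth.Agent Groth.Agent.AmpleX

/-- For integral elements over a field a single exponent avoids all the zeros of `u² - uv + v²`. -/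
theorem exists_exponent {k A : Type u} [Field k] [CommRing A] [Algebra k A] [Algebra.IsIntegral k A] (a b : A) :
    ∃ M : ℕ, 0 < M ∧ ∀ m : ℕ, M ∣ m → 0 < m → ∀ (K : Type u) [Field K] (ψ : A →+* K), (ψ a ≠ 0 ∨ ψ b ≠ 0) →
      ψ a ^ m * ψ a ^ m + (-(ψ a ^ m * ψ b ^ m) + ψ b ^ m * ψ b ^ m) ≠ 0 := by
  classical
  obtain ⟨fa, hfa, ha⟩ := Algebra.IsIntegral.isIntegral (R := k) a
  obtain ⟨fb, hfb, hb⟩ := Algebra.IsIntegral.isIntegral (R := k) b
  let Ω := AlgebraicClosure k
  let R := (fa.aroots Ω).toFinset ×ˢ (fb.aroots Ω).toFinset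
  let M := ∏ r ∈ R, max 1 (orderOf (r.1 / r.2))
  refine ⟨M, Finset.prod_pos fun r _ => lt_of_lt_of_le Nat.one_pos (le_max_left _ _), ?_⟩
  intro m hMm hm K _ ψ hab hzero
  have hp : (RingHom.ker ψ).IsPrime := RingHom.ker_isPrime ψ
  haveI : IsDomain (A ⧸ RingHom.ker ψ) := Ideal.Quotient.isDomain _
  haveI : Algebra.IsIntegral k (A ⧸ RingHom.ker ψ) :=
    Algebra.IsIntegral.of_surjective (Ideal.Quotient.mkₐ k (RingHom.ker ψ)) (Ideal.Quotient.mkₐ_surjective k _)
  letI : Field (A ⧸ RingHom.ker ψ) := (isField_of_isIntegral_of_isField' (R := k) (Field.toIsField k)).toField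
  haveI : Algebra.IsAlgebraic k (A ⧸ RingHom.ker ψ) := Algebra.IsIntegral.isAlgebraic
  let q : A →ₐ[k] A ⧸ RingHom.ker ψ := Ideal.Quotient.mkₐ k _
  let φ : A ⧸ RingHom.ker ψ →ₐ[k] Ω := IsAlgClosed.lift
  let χ : A →ₐ[k] Ω := φ.comp q
  have key : ∀ z : A, χ z = 0 ↔ ψ z = 0 := fun z => by
    show φ (q z) = 0 ↔ _
    rw [map_eq_zero_iff φ φ.toRingHom.injective]
    exact Ideal.Quotient.eq_zero_iff_mem
  rw [← map_pow, ← map_pow, ← map_mul, ← map_mul, ← map_mul, ← map_neg, ← map_add, ← map_add, ← key] at hzero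
  simp only [map_add, map_neg, map_mul, map_pow] at hzero
  rw [ne_eq, ne_eq, ← key, ← key] at hab
  have hroot : ∀ {f : Polynomial k} {z : A}, f.Monic → Polynomial.eval₂ (algebraMap k A) z f = 0 →
      χ z ∈ (f.aroots Ω).toFinset := fun {f z} hf hz => by
    rw [Multiset.mem_toFinset, Polynomial.mem_aroots]
    refine ⟨hf.ne_zero, ?_⟩
    rw [Polynomial.aeval_algHom_apply, Polynomial.aeval_def, hz, map_zero]
  rcases eq_or_ne (χ b) 0 with hb0 | hb0
  · rcases hab with ha0 | hb0'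
    · simp [hb0, zero_pow hm.ne', ha0] at hzero
    · exact hb0' hb0
  · have hmem : (χ a, χ b) ∈ R := Finset.mk_mem_product (hroot hfa ha) (hroot hfb hb)
    set x : Ω := (χ a / χ b) ^ m with hx
    have h1 : x * x - x + 1 = 0 := by
      have hbm : χ b ^ m ≠ 0 := pow_ne_zero _ hb0
      have e : x * χ b ^ m = χ a ^ m := by rw [hx, div_pow, div_mul_cancel₀ _ hbm]
      apply mul_right_cancel₀ (mul_ne_zero hbm hbm)
      rw [zero_mul]
      linear_combination hzero + (x * χ b ^ m + χ a ^ m - χ b ^ m) * e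
    have h3 : x ^ 6 = 1 := by linear_combination (x ^ 4 + x ^ 3 - x - 1) * h1
    have hfin : IsOfFinOrder (χ a / χ b) := by
      rw [isOfFinOrder_iff_pow_eq_one]
      exact ⟨m * 6, by omega, by rw [pow_mul, ← hx, h3]⟩
    have hdvd : orderOf (χ a / χ b) ∣ m := by
      refine dvd_trans ?_ ((Finset.dvd_prod_of_mem _ hmem).trans hMm)
      show _ ∣ max 1 (orderOf (χ a / χ b))
      rw [max_eq_right hfin.orderOf_pos]
    have hx1 : x = 1 := orderOf_dvd_iff_pow_eq_one.1 hdvd
    rw [hx1] at h1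
    norm_num at h1

variable {X : Scheme.{u}}

/-- A sum of sections with affine loci has affine locus inside the union. -/
theorem locus_sum {N : X.Modules} (hN : PicF.IsInvertible N) {W : X.Opens} {ι : Type u} [Fintype ι]
    (t : ι → Γ(N, (⊤ : X.Opens))) (ht : ∀ i, locus (t i) ≤ W ∧ IsAffineOpen (locus (t i))) :
    locus (∑ i, t i) ≤ W ∧ IsAffineOpen (locus (∑ i, t i)) := by
  classical
  let G := locus (∑ i, t i)
  have hτ := isFrame_res_locus (∑ i, t i)
  choose c hc using fun i => hτ.exists_coord le_rfl (AModX.res N (le_top : G ≤ ⊤) (t i))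
  simp only [AModX.res_self] at hc
  have hbo : ∀ i, X.basicOpen (c i) = locus (t i) ⊓ G := fun i => (locus_inf (t i) _ hτ (hc i)).symm
  have h1 : ∑ i, c i = 1 := hτ.coord_unique le_rfl (by
    rw [Finset.sum_smul, one_smul]
    simp only [AModX.res_self]
    refine (Finset.sum_congr rfl fun i _ => (hc i).symm).trans ?_
    rw [← map_sum])
  refine ⟨fun p hp => ?_, isAffineOpen_of_isAffineOpen_basicOpen G (Set.range c)
    ((Ideal.eq_top_iff_one _).2 (h1 ▸ Ideal.sum_mem _ fun w _ => Ideal.subset_span ⟨w, rfl⟩)) ?_⟩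
  · have hp1 : IsUnit (X.presheaf.germ G p hp (∑ w, c w)) := by rw [h1, map_one]; exact isUnit_one
    rw [map_sum] at hp1
    obtain ⟨w, -, hw⟩ : ∃ w ∈ Finset.univ, IsUnit (X.presheaf.germ G p hp (c w)) := by
      by_contra! hno
      exact (show _ ∈ IsLocalRing.maximalIdeal (X.presheaf.stalk p) from
        Ideal.sum_mem _ fun w hw => hno w hw) hp1
    have hpw : p ∈ X.basicOpen (c w) := (X.mem_basicOpen _ p hp).2 hw
    rw [hbo] at hpw
    exact (ht w).1 hpw.1
  · rintro _ ⟨w, rfl⟩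
    rw [hbo]
    exact isAffineOpen_inf_locus hN (ht w).2 _ le_top

theorem locus_zero {N : X.Modules} (hN : PicF.IsInvertible N) : locus (0 : Γ(N, (⊤ : X.Opens))) = ⊥ := by
  rw [← zero_smul Γ(X, ⊤) (0 : Γ(N, (⊤ : X.Opens))), locus_smul hN, Scheme.basicOpen_zero, inf_bot_eq]

variable {k A : Type u} [Field k] [CommRing A] [Algebra k A] [Algebra.IsIntegral k A]
  (g : Spec (CommRingCat.of A) ⟶ X)

include k

theorem combine {N : X.Modules} (hN : PicF.IsInvertible N) {W : X.Opens} (P T : Γ(N, (⊤ : X.Opens)))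
    (hP : locus P ≤ W ∧ IsAffineOpen (locus P)) (hT : locus T ≤ W ∧ IsAffineOpen (locus T)) :
    ∃ (m : ℕ) (_ : 0 < m) (S : Γ(CohB1.tensorPow N m, (⊤ : X.Opens))),
      (locus S ≤ W ∧ IsAffineOpen (locus S)) ∧
        ∀ p, g p ∈ locus P ⊔ locus T → g p ∈ locus S := by
  classical
  let Y := Spec (CommRingCat.of A)
  let B := Γ(Y, (⊤ : Y.Opens))
  have key : ∀ p : Y, ∃ (V : X.Opens) (e : Γ(N, V)) (_ : InvX.IsFrame e) (h : B),
      p ∈ Y.basicOpen h ∧ Y.basicOpen h ≤ g ⁻¹ᵁ V := fun p => by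
    obtain ⟨V, hxV, e, he⟩ := InvX.exists_frame hN (g p)
    obtain ⟨h, hh, hp⟩ := (isAffineOpen_top Y).exists_basicOpen_le (V := g ⁻¹ᵁ V) ⟨p, hxV⟩ trivial
    exact ⟨V, e, he, h, hp, hh⟩
  choose V e he h hp hle using key
  obtain ⟨s, hs⟩ := isCompact_univ.elim_finite_subcover (fun p => (Y.basicOpen (h p) : Set Y))
    (fun p => (Y.basicOpen (h p)).2) (fun p _ => Set.mem_iUnion.2 ⟨p, hp p⟩)
  choose cP hcP using fun p => (he p).exists_coord le_rfl (AModX.res N (le_top : V p ≤ ⊤) P)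
  choose cT hcT using fun p => (he p).exists_coord le_rfl (AModX.res N (le_top : V p ≤ ⊤) T)
  simp only [AModX.res_self] at hcP hcT
  have num : ∀ (p : Y) (c : Γ(X, V p)), ∃ (x : B) (n : ℕ), ∀ (q : Y) (hq : q ∈ Y.basicOpen (h p)),
      Y.evaluation _ q hq (g.appLE (V p) _ (hle p) c) * Y.evaluation ⊤ q trivial (h p) ^ n =
        Y.evaluation ⊤ q trivial x := fun p c => by
    haveI := (isAffineOpen_top Y).isLocalization_basicOpen (h p)
    obtain ⟨⟨x, ⟨_, n, rfl⟩⟩, hx⟩ := IsLocalization.surj (Submonoid.powers (h p)) (g.appLE (V p) _ (hle p) c)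
    refine ⟨x, n, fun q hq => ?_⟩
    have hres : ∀ z : B, Y.evaluation ⊤ q trivial z =
        Y.evaluation _ q hq (algebraMap B Γ(Y, Y.basicOpen (h p)) z) := fun z => by
      show _ = Y.residue q (Y.presheaf.germ _ q hq (Y.presheaf.map (homOfLE le_top).op z))
      rw [TopCat.Presheaf.germ_res_apply]
      rfl
    rw [hres x, ← map_pow, hres, ← map_mul]
    exact congrArg _ hx
  choose xP nP hxP using fun p => num p (cP p)
  choose xT nT hxT using fun p => num p (cT p)
  let ev : B →+* A := (Scheme.ΓSpecIso (CommRingCat.of A)).hom.hom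
  choose M hM hMm using fun p =>
    exists_exponent (k := k) (ev (h p ^ nT p * xP p)) (ev (h p ^ nP p * xT p))
  let m := ∏ p ∈ s, M p
  have hm : 0 < m := Finset.prod_pos fun p _ => hM p
  obtain ⟨m', hm'⟩ := Nat.exists_eq_add_of_le' hm
  have hNm := InvX.isInvertible_tensorPow hN m
  let u := powElt P m
  let v := powElt T m
  have hu : locus u = locus P := by show locus (powElt P m) = _; rw [hm', locus_powElt hN]
  have hv : locus v = locus T := by show locus (powElt T m) = _; rw [hm', locus_powElt hN]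
  let NN := CohB1.tensorMod (CohB1.tensorPow N m) (CohB1.tensorPow N m)
  have hNN : PicF.IsInvertible NN := InvX.isInvertible_tensorMod hNm hNm
  let t : ULift.{u} (Fin 3) → Γ(NN, (⊤ : X.Opens)) := fun i =>
    ![InvX.tmul u u, (-1 : Γ(X, ⊤)) • InvX.tmul u v, InvX.tmul v v] i.down
  let S := ∑ i, t i
  have hS : locus S ≤ W ∧ IsAffineOpen (locus S) := by
    refine locus_sum hNN t fun i => ?_
    obtain ⟨i⟩ := i
    fin_cases i
    · show locus (InvX.tmul u u) ≤ W ∧ IsAffineOpen (locus (InvX.tmul u u))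
      rw [locus_tmul hNm hNm, inf_idem, hu]; exact hP
    · show locus ((-1 : Γ(X, ⊤)) • InvX.tmul u v) ≤ W ∧ IsAffineOpen (locus ((-1 : Γ(X, ⊤)) • InvX.tmul u v))
      rw [locus_smul hNN, locus_tmul hNm hNm, hu, hv, X.basicOpen_of_isUnit isUnit_one.neg, inf_top_eq]
      exact ⟨inf_le_left.trans hP.1, isAffineOpen_inf_locus hN hP.2 T le_top⟩
    · show locus (InvX.tmul v v) ≤ W ∧ IsAffineOpen (locus (InvX.tmul v v))
      rw [locus_tmul hNm hNm, inf_idem, hv]; exact hT
  have hmem : ∀ q, g q ∈ locus P ⊔ locus T → g q ∈ locus S := by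
    intro q hq
    obtain ⟨p, hps, hqp⟩ := Set.mem_iUnion₂.1 (hs (Set.mem_univ q))
    have hqV : g q ∈ V p := hle p hqp
    let E : Γ(X, V p) →+* Y.residueField q :=
      ((Y.evaluation _ q hqp).hom).comp (g.appLE (V p) _ (hle p)).hom
    have hE : ∀ c : Γ(X, V p), g q ∈ X.basicOpen c ↔ E c ≠ 0 := fun c => by
      show _ ↔ Y.evaluation _ q hqp _ ≠ 0
      rw [Scheme.evaluation_ne_zero_iff_mem_basicOpen, Scheme.basicOpen_appLE]
      exact ⟨fun h' => ⟨hqp, h'⟩, fun h' => h'.2⟩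
    let f := InvX.tmul (powElt (e p) m) (powElt (e p) m)
    have hf : InvX.IsFrame f := InvX.isFrame_tmul (isFrame_powElt (he p) m) (isFrame_powElt (he p) m)
    have hpow : ∀ {Q : Γ(N, (⊤ : X.Opens))} {c : Γ(X, V p)}, AModX.res N le_top Q = c • e p →
        AModX.res (CohB1.tensorPow N m) (le_top : V p ≤ ⊤) (powElt Q m) = c ^ m • powElt (e p) m :=
      fun {Q c} hQ => by rw [res_powElt, hQ, powElt_smul]
    have hmul : ∀ {a b : Γ(CohB1.tensorPow N m, (⊤ : X.Opens))} {c d : Γ(X, V p)},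
        AModX.res _ (le_top : V p ≤ ⊤) a = c • powElt (e p) m →
        AModX.res _ (le_top : V p ≤ ⊤) b = d • powElt (e p) m →
        AModX.res NN (le_top : V p ≤ ⊤) (InvX.tmul a b) = (c * d) • f := fun {a b c d} h₁ h₂ => by
      rw [InvX.res_tmul, h₁, h₂, InvX.tmul_smul_left, InvX.tmul_smul_right, mul_smul]
    have hSc : AModX.res NN (le_top : V p ≤ ⊤) S =
        (cP p ^ m * cP p ^ m + (-(cP p ^ m * cT p ^ m) + cT p ^ m * cT p ^ m)) • f := by
      have : S = InvX.tmul u u + ((-1 : Γ(X, ⊤)) • InvX.tmul u v + InvX.tmul v v) := by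
        show ∑ i, t i = _
        rw [← Equiv.ulift.symm.sum_comp, Fin.sum_univ_three]
        exact add_assoc _ _ _
      rw [this, map_add, map_add, AModX.res_smul, hmul (hpow (hcP p)) (hpow (hcP p)),
        hmul (hpow (hcP p)) (hpow (hcT p)), hmul (hpow (hcT p)) (hpow (hcT p)), map_neg, map_one,
        ← mul_smul, ← add_smul, ← add_smul, neg_one_mul]
    have hSi := locus_inf S le_top hf hSc
    suffices g q ∈ X.basicOpen (cP p ^ m * cP p ^ m + (-(cP p ^ m * cT p ^ m) + cT p ^ m * cT p ^ m)) by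
      rw [← hSi] at this; exact this.1
    rw [hE]
    let ψ : A →+* Y.residueField q :=
      ((Y.evaluation ⊤ q trivial).hom).comp (Scheme.ΓSpecIso (CommRingCat.of A)).inv.hom
    have hψ : ∀ z : B, ψ (ev z) = Y.evaluation ⊤ q trivial z := fun z =>
      congrArg (Y.evaluation ⊤ q trivial) (Iso.hom_inv_id_apply _ z)
    have hh0 : Y.evaluation ⊤ q trivial (h p) ≠ 0 :=
      (Scheme.evaluation_ne_zero_iff_mem_basicOpen ..).2 hqp
    set H := Y.evaluation ⊤ q trivial (h p) with hH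
    have hA : ψ (ev (h p ^ nT p * xP p)) = H ^ (nT p + nP p) * E (cP p) := by
      rw [hψ, map_mul, map_pow, ← hxP p q hqp, pow_add]
      show _ = H ^ nT p * H ^ nP p * E (cP p)
      rw [show Y.evaluation _ q hqp (g.appLE (V p) _ (hle p) (cP p)) = E (cP p) from rfl, ← hH]
      ring
    have hB : ψ (ev (h p ^ nP p * xT p)) = H ^ (nT p + nP p) * E (cT p) := by
      rw [hψ, map_mul, map_pow, ← hxT p q hqp, pow_add]
      show _ = H ^ nT p * H ^ nP p * E (cT p)
      rw [show Y.evaluation _ q hqp (g.appLE (V p) _ (hle p) (cT p)) = E (cT p) from rfl, ← hH]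
      ring
    have hH0 : H ^ (nT p + nP p) ≠ 0 := pow_ne_zero _ hh0
    have hor : ψ (ev (h p ^ nT p * xP p)) ≠ 0 ∨ ψ (ev (h p ^ nP p * xT p)) ≠ 0 := by
      rw [hA, hB]
      rcases Opens.mem_sup.1 hq with hq | hq
      · left
        refine mul_ne_zero hH0 ((hE _).1 ?_)
        rw [← locus_inf P le_top (he p) (hcP p)]; exact ⟨hq, hqV⟩
      · right
        refine mul_ne_zero hH0 ((hE _).1 ?_)
        rw [← locus_inf T le_top (he p) (hcT p)]; exact ⟨hq, hqV⟩
    have hne := hMm p m (Finset.dvd_prod_of_mem M hps) hm _ ψ hor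
    rw [hA, hB] at hne
    intro h0
    refine hne ?_
    simp only [map_add, map_neg, map_mul, map_pow] at h0
    linear_combination (H ^ (nT p + nP p)) ^ m * (H ^ (nT p + nP p)) ^ m * h0
  obtain ⟨S', hS'⟩ := exists_locus_cl (N := CohB1.tensorPow N (m + m))
    (show PicF.cl NN = _ by rw [cl_tensor, cl_tensorPow, cl_tensorPow, pow_add]) S
  exact ⟨m + m, by omega, S', hS'.symm ▸ hS, fun q hq => hS'.symm ▸ hmem q hq⟩

theorem exists_section {L : X.Modules} (hL : CohB1.IsAmple L) (W : X.Opens)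
    (hg : Set.range g ⊆ (W : Set X)) :
    ∃ (n : ℕ) (s : Coh.structureModule X ⟶ CohB1.tensorPow L (n + 1)),
      IsAffineOpen (CohB1.genLocus _ s) ∧ CohB1.genLocus _ s ≤ W ∧
        Set.range g ⊆ (CohB1.genLocus _ s : Set X) := by
  classical
  obtain ⟨hi, -, -⟩ := isAmple_iff.1 hL
  haveI := isSeparated_of_isAmple hL
  choose a ha t hxt hle haff using fun p => exists_genLocus_le hL (hg (Set.mem_range_self p))
  obtain ⟨s, hs⟩ := isCompact_univ.elim_finite_subcover
    (fun p => (((g ⁻¹ᵁ CohB1.genLocus _ (t p)) : (Spec (CommRingCat.of A)).Opens) : Set (Spec (CommRingCat.of A)))) (fun p => Opens.isOpen _)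
    (fun p _ => Set.mem_iUnion.2 ⟨p, hxt p⟩)
  have : ∀ T : Finset _, ∃ (n : ℕ) (_ : 0 < n) (S : Γ(CohB1.tensorPow L n, (⊤ : X.Opens))),
      (locus S ≤ W ∧ IsAffineOpen (locus S)) ∧
        ∀ p ∈ T, ∀ q, g q ∈ CohB1.genLocus _ (t p) → g q ∈ locus S := fun T => by
    induction T using Finset.induction_on with
    | empty =>
      refine ⟨1, Nat.one_pos, 0, ?_, by simp⟩
      rw [locus_zero (InvX.isInvertible_tensorPow hi 1)]
      exact ⟨bot_le, isAffineOpen_bot X⟩
    | insert p T _ ih =>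
      obtain ⟨n, hn, S, hS, hmem⟩ := ih
      obtain ⟨S₁, hS₁⟩ := exists_pow_section hi S (ha p)
      obtain ⟨t₀, ht₀⟩ := exists_pow_section hi (InvX.one (t p)) hn
      obtain ⟨t₁, ht₁⟩ := exists_locus_cl (N := CohB1.tensorPow L (n * a p))
        (show PicF.cl (CohB1.tensorPow L (a p * n)) = _ by rw [mul_comm]) t₀
      rw [ht₀, ← genLocus_eq_locus] at ht₁
      obtain ⟨m, hm, R, hR, hmemR⟩ := combine (k := k) g (InvX.isInvertible_tensorPow hi (n * a p))
        (W := W) S₁ t₁ (hS₁.symm ▸ hS) (by rw [ht₁]; exact ⟨hle p, haff p⟩)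
      obtain ⟨R', hR'⟩ := exists_locus_cl (N := CohB1.tensorPow L (n * a p * m))
        (show PicF.cl (CohB1.tensorPow (CohB1.tensorPow L (n * a p)) m) = _ by
          rw [cl_tensorPow, cl_tensorPow, cl_tensorPow, ← pow_mul]) R
      refine ⟨n * a p * m, Nat.mul_pos (Nat.mul_pos hn (ha p)) hm, R', hR'.symm ▸ hR, fun r hr q hq => ?_⟩
      rw [hR']
      refine hmemR q ?_
      rcases Finset.mem_insert.1 hr with rfl | hr
      · exact Or.inr (ht₁.symm ▸ hq)
      · exact Or.inl (hS₁.symm ▸ hmem r hr q hq)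
  obtain ⟨n, hn, S, hS, hmem⟩ := this s
  obtain ⟨n', rfl⟩ := Nat.exists_eq_add_of_le' hn
  refine ⟨n', InvX.ofSect S, ?_⟩
  rw [genLocus_eq_locus, InvX.one_ofSect]
  refine ⟨hS.2, hS.1, ?_⟩
  rintro _ ⟨q, rfl⟩
  obtain ⟨p, hps, hq⟩ := Set.mem_iUnion₂.1 (hs (Set.mem_univ q))
  exact hmem p hps q hq

end Groth.Agent.RGLib.AmpleIntegral
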