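import Groth.Agent.GrpSchLib.GaPts
import Mathlib.RingTheory.AdjoinRoot
import Mathlib.AlgebraicGeometry.Morphisms.Flat
import Mathlib.AlgebraicGeometry.Sites.Fpqc
import Mathlib.RingTheory.Flat.FaithfullyFlat.Algebra

/-! The map `x ↦ x - x ^ p` on the affine line is finite free. -/

set_option autoImplicit false
universe u

open CategoryTheory CategoryTheory.Limits AlgebraicGeometry Polynomial

noncomputable section

namespace Groth.Agent.RGLib.ArtinSchreier

attribute [-instance] ULift.module ULift.module'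

open Groth.Agent.GrpSchLib.GaPts

variable (p : ℕ)

abbrev psi : Coord.{u} →+* Coord.{u} := ringHomOfFn (gen.{u} - gen.{u} ^ p)

theorem faithfullyFlat_of_adjoinRoot {A B : Type u} [CommRing A] [CommRing B] [Nontrivial A] (f : A →+* B) {q : A[X]}
    (hq : q.Monic) (hq1 : q ≠ 1) (F : AdjoinRoot q →+* B) (G : B →+* AdjoinRoot q) (hF : ∀ a, F (AdjoinRoot.of q a) = f a)
    (h2 : G.comp F = RingHom.id _) (h1 : F.comp G = RingHom.id _) : f.FaithfullyFlat := by
  letI : Algebra A B := f.toAlgebra
  let e : AdjoinRoot q ≃ₐ[A] B := AlgEquiv.ofRingEquiv (f := RingEquiv.ofRingHom F G h1 h2) hF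
  haveI : Module.Free A (AdjoinRoot q) := hq.free_adjoinRoot
  haveI : Nontrivial (AdjoinRoot q) := Ideal.Quotient.nontrivial_iff.2 fun h =>
    hq1 (hq.eq_one_of_isUnit (Ideal.span_singleton_eq_top.1 h))
  exact (RingHom.faithfullyFlat_algebraMap_iff (R := A) (S := B)).2
    (Module.FaithfullyFlat.of_linearEquiv _ _ e.symm.toLinearEquiv)

theorem faithfullyFlat (hp : 1 < p) : (psi.{u} p).FaithfullyFlat := by
  classical
  let q : Coord.{u}[X] := X ^ p + (C (gen.{u}) - X)
  have hq : q.Monic := monic_X_pow_add (by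
    refine (degree_sub_le _ _).trans_lt (max_lt (degree_C_le.trans_lt ?_) (degree_X_le.trans_lt ?_))
    · exact_mod_cast Nat.lt_of_lt_of_le Nat.zero_lt_one hp.le
    · exact_mod_cast hp)
  let F : AdjoinRoot q →+* Coord.{u} := AdjoinRoot.lift (psi.{u} p) gen (by
    simp only [q, eval₂_add, eval₂_pow, eval₂_X, eval₂_sub, eval₂_C, ringHomOfFn_gen, psi]
    ring)
  let G : Coord.{u} →+* AdjoinRoot q := ringHomOfFn (AdjoinRoot.root q)
  have hG : G gen = AdjoinRoot.root q := ringHomOfFn_gen _
  have h1 : F.comp G = RingHom.id _ := ringHom_ext (by simp [F, hG])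
  have h3 : G (psi.{u} p gen) = AdjoinRoot.of q gen := by
    have h := AdjoinRoot.eval₂_root q
    simp only [q, eval₂_add, eval₂_pow, eval₂_X, eval₂_sub, eval₂_C] at h
    rw [ringHomOfFn_gen, map_sub, map_pow, hG]
    linear_combination -h
  have h4 : G.comp (psi.{u} p) = AdjoinRoot.of q := ringHom_ext h3
  have h2 : G.comp F = RingHom.id _ := by
    refine RingHom.ext fun z => ?_
    induction z using AdjoinRoot.induction_on with
    | ih f =>
      induction f using Polynomial.induction_on with
      | C a => simpa [F] using RingHom.congr_fun h4 a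
      | add a b ha hb => simp only [map_add]; rw [ha, hb]
      | monomial n a _ =>
        have ha : G (psi.{u} p a) = AdjoinRoot.of q a := RingHom.congr_fun h4 a
        simp [F, hG, ha, pow_succ]
  haveI : Nontrivial Coord.{u} := (ringHomOfFn (R := ULift.{u} ℤ) 0).domain_nontrivial
  refine faithfullyFlat_of_adjoinRoot _ hq (fun h0 => ?_) F G (fun a => by simp [F]) h2 h1
  have := congrArg (fun r => coeff r p) h0
  simp [q, coeff_C, coeff_X, show p ≠ 0 by omega, show p ≠ 1 by omega, show (1 : ℕ) ≠ p by omega, coeff_one] at this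

/-- `x ↦ x - x ^ p` on the additive group over the integers, as a map of schemes. -/
def asMap : Red.GaZ.{u} ⟶ Red.GaZ.{u} :=
  Over.homMk (Spec.map (CommRingCat.ofHom (psi.{u} p))) (specULiftZIsTerminal.hom_ext _ _)

theorem gaFn_asMap {S : Scheme.{u}} {T : Over S} (x : T ⟶ Red.Ga S) :
    Red.gaFn (x ≫ (Over.pullback (toBaseZ S)).map (asMap.{u} p)) = Red.gaFn x - Red.gaFn x ^ p := by
  have h1 : specPt (x ≫ (Over.pullback (toBaseZ S)).map (asMap.{u} p)) = specPt x ≫ (asMap.{u} p).left := by
    refine (Category.assoc _ _ _).trans ((congrArg (x.left ≫ ·) (pullback.lift_fst _ _ _)).trans ?_)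
    exact (Category.assoc _ _ _).symm
  rw [gaFn_eq, gaFn_eq, h1]
  refine (GmPts.appTop_comp_apply _ _ _).trans ?_
  refine (congrArg (specPt x).appTop.hom (specMap_appTop (CommRingCat.ofHom (psi.{u} p)) gen)).trans ?_
  show (specPt x).appTop.hom (coordIso.inv (psi.{u} p gen)) = _
  rw [ringHomOfFn_gen, map_sub, map_pow, map_sub, map_pow]

theorem pullback_asMap_mem (hp : 1 < p) (S : Scheme.{u}) :
    Presieve.singleton ((Over.pullback (toBaseZ S)).map (asMap.{u} p)).left ∈ Scheme.fpqcPrecoverage _ := by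
  have h := (flat_and_surjective_SpecMap_iff (CommRingCat.ofHom (psi.{u} p))).2 (faithfullyFlat p hp)
  haveI : Flat ((Over.pullback (toBaseZ S)).map (asMap.{u} p)).left :=
    MorphismProperty.baseChange_map (P := @Flat) _ _ h.1
  haveI : Surjective ((Over.pullback (toBaseZ S)).map (asMap.{u} p)).left :=
    MorphismProperty.baseChange_map (P := @Surjective) _ _ h.2
  haveI : QuasiCompact ((Over.pullback (toBaseZ S)).map (asMap.{u} p)).left :=
    MorphismProperty.baseChange_map (P := @QuasiCompact) _ _ (inferInstanceAs (QuasiCompact (Spec.map (CommRingCat.ofHom (psi.{u} p)))))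
  exact Scheme.Hom.singleton_mem_fpqcPrecoverage _

end Groth.Agent.RGLib.ArtinSchreier
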