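import Groth.Agent.AssLib.OpenRestrict
import Groth.Agent.AssLib.Push
import Groth.Agent.AssLib.FlatFibre
import Groth.Agent.DimFormula.ClosedSub
import Groth.Agent.QCoh.Sections
import Groth.Agent.RGLib.Primary
import Groth.Agent.QCoh.ClosedPush
import Mathlib

/-!
# Associated points and monomorphisms from structure sheaves of reduced closed subschemes
-/

set_option autoImplicit false
set_option linter.style.haveILetI false
set_option backward.isDefEq.respectTransparency false
set_option backward.isDefEq.respectTransparency.types false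

open AlgebraicGeometry CategoryTheory CategoryTheory.Limits TopologicalSpace Opposite

namespace Groth.Agent.RGLib.AssMono

universe u

open Groth.Agent

variable {X : Scheme.{u}} (x : X)

/-- The reduced closed subscheme on the closure of a point. -/
noncomputable abbrev ptI : X.IdealSheafData := Scheme.IdealSheafData.vanishingIdeal ⟨closure {x}, isClosed_closure⟩

noncomputable abbrev ptM : X.Modules :=
  (Scheme.Modules.pushforward (ptI x).subschemeι).obj (Coh.structureModule (ptI x).subscheme)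

noncomputable abbrev ptU : Coh.structureModule X ⟶ ptM x :=
  SheafOfModules.unitToPushforwardObjUnit (ptI x).subschemeι.toRingCatSheafHom

theorem range_ι : Set.range (ptI x).subschemeι = closure {x} := DimFormula.range_vanishingIdeal _

theorem mem_of_mem_ι {z : (ptI x).subscheme} {V : X.Opens} (hz : (ptI x).subschemeι z ∈ V) : x ∈ V := by
  have h : (ptI x).subschemeι z ∈ closure {x} := range_ι x ▸ ⟨z, rfl⟩
  exact (specializes_iff_mem_closure.2 h).mem_open V.2 hz

theorem app_eq_zero_iff {V : X.Opens} (a : Γ(X, V)) :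
    (ptI x).subschemeι.app V a = 0 ↔ x ∉ X.basicOpen a := by
  constructor
  · intro h hx
    obtain ⟨z, hz⟩ : x ∈ Set.range (ptI x).subschemeι := range_ι x ▸ subset_closure rfl
    have h1 : z ∈ (ptI x).subschemeι ⁻¹ᵁ X.basicOpen a := by
      show (ptI x).subschemeι z ∈ X.basicOpen a
      rwa [hz]
    rw [Scheme.preimage_basicOpen, h, Scheme.basicOpen_zero] at h1
    exact h1
  · intro h
    rw [← basicOpen_eq_bot_iff, ← Scheme.preimage_basicOpen]
    exact eq_bot_iff.2 fun z hz => (h (mem_of_mem_ι x hz)).elim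

variable {F : X.Modules}

/-- Multiples of a section with prime annihilator. -/
theorem smul_res_eq_zero_iff [IsLocallyNoetherian X] (hF : Coh.IsQCoh F) {U : X.Opens} (hU : IsAffineOpen U)
    (hxU : x ∈ U) (s : Γ(F, U))
    (hs : ∀ r : Γ(X, U), r ∈ (hU.primeIdealOf ⟨x, hxU⟩).asIdeal ↔ r • s = 0)
    {V : X.Opens} (hV : V ≤ U) (a : Γ(X, V)) :
    a • F.presheaf.map (homOfLE hV).op s = 0 ↔ x ∉ X.basicOpen a := by
  constructor
  · intro h hxa
    have hxV : x ∈ V := X.basicOpen_le a hxa
    have hu : IsUnit (X.presheaf.germ V x hxV a) := (X.mem_basicOpen a x hxV).1 hxa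
    have h1 := congrArg (F.presheaf.germ V x hxV) h
    rw [QCoh.germ_smul', map_zero, hu.smul_eq_zero, F.presheaf.germ_res_apply] at h1
    obtain ⟨r, hr, hr0⟩ := (QCoh.germ_eq_zero_iff hF hU hxU s).1 h1
    rw [QCoh.mem_basicOpen_iff_notMem hU hxU] at hr
    exact hr ((hs r).2 hr0)
  · intro hxa
    refine TopCat.Presheaf.section_ext ⟨F.presheaf, F.isSheaf⟩ V _ _ fun z hz => ?_
    show F.presheaf.germ V z hz _ = F.presheaf.germ V z hz 0
    rw [map_zero, QCoh.germ_smul', F.presheaf.germ_res_apply]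
    obtain ⟨g, hgV, hzg⟩ := hU.exists_basicOpen_le (V := V) ⟨z, hz⟩ (hV hz)
    by_cases hxg : x ∈ X.basicOpen g
    · haveI := hU.isLocalization_basicOpen g
      obtain ⟨⟨r, ⟨_, n, rfl⟩⟩, hr⟩ := IsLocalization.surj (Submonoid.powers g)
        (X.presheaf.map (homOfLE hgV).op a)
      change X.presheaf.map (homOfLE hgV).op a * X.presheaf.map (homOfLE (X.basicOpen_le g)).op (g ^ n) =
        X.presheaf.map (homOfLE (X.basicOpen_le g)).op r at hr
      have hxr : r ∈ (hU.primeIdealOf ⟨x, hxU⟩).asIdeal := by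
        by_contra hn
        rw [← QCoh.mem_basicOpen_iff_notMem hU hxU] at hn
        have h2 : x ∈ X.basicOpen (X.presheaf.map (homOfLE (X.basicOpen_le g)).op r) := by
          rw [Scheme.basicOpen_res]; exact ⟨hxg, hn⟩
        rw [← hr, Scheme.basicOpen_mul, Scheme.basicOpen_res] at h2
        exact hxa h2.1.2
      have h3 := congrArg (X.presheaf.germ (X.basicOpen g) z hzg) hr
      rw [map_mul, X.presheaf.germ_res_apply, X.presheaf.germ_res_apply, X.presheaf.germ_res_apply] at h3
      have hgu : IsUnit (X.presheaf.germ U z (hV hz) (g ^ n)) := by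
        rw [map_pow]; exact ((X.mem_basicOpen g z (hV hz)).1 hzg).pow n
      have h4 := congrArg (F.presheaf.germ U z (hV hz)) ((hs r).1 hxr)
      rw [QCoh.germ_smul', map_zero, ← h3, mul_comm, mul_smul, hgu.smul_eq_zero] at h4
      exact h4
    · have hg : g ∈ (hU.primeIdealOf ⟨x, hxU⟩).asIdeal := by
        by_contra hn
        exact hxg ((QCoh.mem_basicOpen_iff_notMem hU hxU g).2 hn)
      have h4 := congrArg (F.presheaf.germ U z (hV hz)) ((hs g).1 hg)
      rw [QCoh.germ_smul', map_zero, ((X.mem_basicOpen g z (hV hz)).1 hzg).smul_eq_zero] at h4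
      rw [h4, smul_zero]

/-- Multiplication of a section by functions. -/
noncomputable def smulHom (F : X.Modules) (U : X.Opens) (s : Γ(F, U)) :
    (Coh.structureModule X).restrict U.ι ⟶ F.restrict U.ι where
  val := PresheafOfModules.homMk
    { app := fun W => AddCommGrpCat.ofHom (AddMonoidHom.mk'
        (fun a : Γ(X, U.ι ''ᵁ W.unop) => (show Γ(F.restrict U.ι, W.unop) from
          (a • F.presheaf.map (homOfLE ((U.ι.image_le_opensRange _).trans U.opensRange_ι.le :
            U.ι ''ᵁ W.unop ≤ U)).op s : Γ(F, U.ι ''ᵁ W.unop))))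
        fun a b => add_smul (R := Γ(X, U.ι ''ᵁ W.unop)) (M := Γ(F, U.ι ''ᵁ W.unop)) a b _)
      naturality := fun W W' i => by
        ext a
        let j := (U.ι.opensFunctor.map i.unop)
        show (X.presheaf.map j.op (show Γ(X, U.ι ''ᵁ W.unop) from a)) • _ = F.presheaf.map j.op (((show Γ(X, U.ι ''ᵁ W.unop) from a)) • (_ : Γ(F, U.ι ''ᵁ W.unop)))
        rw [Scheme.Modules.map_smul, ← ConcreteCategory.comp_apply, ← Functor.map_comp]
        rfl }
    fun W r a => by
      show (((U.ι.appIso W.unop).inv r) * (show Γ(X, U.ι ''ᵁ W.unop) from a)) • _ = ((U.ι.appIso W.unop).inv r) •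
        ((show Γ(X, U.ι ''ᵁ W.unop) from a) • (_ : Γ(F, U.ι ''ᵁ W.unop)))
      exact mul_smul _ _ _

theorem smulHom_app (F : X.Modules) (U : X.Opens) (s : Γ(F, U)) (W : U.toScheme.Opens) (h : U.ι ''ᵁ W ≤ U)
    (a : Γ(X, U.ι ''ᵁ W)) :
    (smulHom F U s).app W a = (a • F.presheaf.map (homOfLE h).op s : Γ(F, U.ι ''ᵁ W)) := rfl

theorem exists_mono [IsLocallyNoetherian X] (hF : Coh.IsQCoh F) (hx : x ∈ AssSch.Ass F) :
    ∃ (U : X.Opens), x ∈ U ∧ ∃ φ : (ptM x).restrict U.ι ⟶ F.restrict U.ι, Mono φ := by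
  obtain ⟨U, hU, hxU, -⟩ := exists_isAffineOpen_mem_and_subset (x := x) (U := ⊤) trivial
  haveI : IsNoetherianRing Γ(X, U) := IsLocallyNoetherian.component_noetherian ⟨U, hU⟩
  obtain ⟨-, s, hs⟩ := isAssociatedPrime_iff.1 ((AssLib.mem_ass_iff hF hU hxU).1 hx)
  have hs' : ∀ r : Γ(X, U), r ∈ (hU.primeIdealOf ⟨x, hxU⟩).asIdeal ↔ r • s = 0 := fun r => by
    rw [hs, Submodule.mem_colon_singleton, Submodule.mem_bot]
  let pu := (Scheme.Modules.restrictFunctor U.ι).map (ptU x)
  let ps := smulHom F U s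
  have hle : ∀ W : U.toScheme.Opens, U.ι ''ᵁ W ≤ U := fun W => (U.ι.image_le_opensRange _).trans U.opensRange_ι.le
  have hker : ∀ (W : U.toScheme.Opens) (a : Γ((Coh.structureModule X).restrict U.ι, W)),
      pu.app W a = 0 ↔ ps.app W a = 0 := fun W a =>
    (app_eq_zero_iff x (show Γ(X, U.ι ''ᵁ W) from a)).trans
      (smul_res_eq_zero_iff x hF hU hxU s hs' (hle W) (show Γ(X, U.ι ''ᵁ W) from a)).symm
  have hsurj : ∀ W : U.toScheme.Opens, IsAffineOpen W → Function.Surjective (pu.app W) := fun W hW =>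
    (ptI x).subschemeι.app_surjective _ (hW.image_of_isOpenImmersion U.ι)
  haveI : Epi pu := by
    constructor
    intro Z g h hgh
    refine Scheme.Modules.hom_ext _ _ fun W => ?_
    ext t
    refine TopCat.Presheaf.section_ext ⟨Z.presheaf, Z.isSheaf⟩ W _ _ fun z hz => ?_
    show Z.presheaf.germ W z hz (g.app W t) = Z.presheaf.germ W z hz (h.app W t)
    obtain ⟨W', hW', hzW', hW'W⟩ := exists_isAffineOpen_mem_and_subset (x := z) (U := W) hz
    rw [← Z.presheaf.germ_res_apply (homOfLE hW'W) z hzW', ← Z.presheaf.germ_res_apply (homOfLE hW'W) z hzW' (h.app W t),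
      ← QCoh.map_app_comm, ← QCoh.map_app_comm]
    obtain ⟨a, ha⟩ := hsurj W' hW' (((Scheme.Modules.restrictFunctor U.ι).obj (ptM x)).presheaf.map (homOfLE hW'W).op t)
    erw [← ha]
    exact congrArg _ (ConcreteCategory.congr_hom (congrArg (fun e => Scheme.Modules.Hom.app e W') hgh) a)
  have hzero : kernel.ι pu ≫ ps = 0 := by
    refine Scheme.Modules.hom_ext _ _ fun W => ?_
    ext a
    exact (hker W ((kernel.ι pu).app W a)).1
      (ConcreteCategory.congr_hom (congrArg (fun e => Scheme.Modules.Hom.app e W) (kernel.condition pu)) a)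
  obtain ⟨φ, hφ⟩ : ∃ φ, pu ≫ φ = ps :=
    ⟨Abelian.epiDesc pu ps hzero, Abelian.comp_epiDesc pu ps hzero⟩
  refine ⟨U, hxU, φ, QCoh.mono_of_isBasis φ U.toScheme.isBasis_affineOpens fun W hW => ?_⟩
  rw [injective_iff_map_eq_zero]
  intro t ht
  obtain ⟨a, rfl⟩ := hsurj W hW t
  refine (hker W a).2 ?_
  rw [← hφ]
  exact ht

theorem mem_ass_of_mono [IsLocallyNoetherian X] (hF : Coh.IsQCoh F) {U : X.Opens} (hxU : x ∈ U)
    (φ : (Scheme.Modules.pullback U.ι).obj (ptM x) ⟶ (Scheme.Modules.pullback U.ι).obj F) [Mono φ] :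
    x ∈ AssSch.Ass F := by
  haveI : IsLocallyNoetherian (ptI x).subscheme := LocallyOfFiniteType.isLocallyNoetherian (ptI x).subschemeι
  have hM : Coh.IsQCoh (ptM x) := QCoh.isQCoh_pushforward _ (PnCoh.isQCoh_structureModule _)
  have hxM : x ∈ AssSch.Ass (ptM x) := by
    show x ∈ AssSch.Ass ((Coh.push (ptI x).subschemeι).obj (Coh.structureModule _))
    rw [AssLib.ass_push_eq_of_isAffineHom _ (PnCoh.isQCoh_structureModule _)]
    obtain ⟨z, hz⟩ : x ∈ Set.range (ptI x).subschemeι := range_ι x ▸ subset_closure rfl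
    refine ⟨z, AssLib.mem_ass_of_maximal fun y hy => (ptI x).subschemeι.isEmbedding.injective ?_, hz⟩
    have h0 : (ptI x).subschemeι y ∈ Set.range (ptI x).subschemeι := ⟨y, rfl⟩
    rw [range_ι] at h0
    have h1 : x ⤳ (ptI x).subschemeι y := specializes_iff_mem_closure.2 h0
    have h2 : (ptI x).subschemeι y ⤳ x := by
      have h3 := hy.map (ptI x).subschemeι.continuous
      rwa [hz] at h3
    exact (h2.antisymm h1).eq.trans hz.symm
  have h := Primary.ass_subset_of_mono φ (QCoh.isQCoh_pullback _ hM) (QCoh.isQCoh_pullback _ hF)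
    ((AssLib.mem_ass_pullback_iff U.ι (ptM x) ⟨x, hxU⟩).2 hxM)
  exact (AssLib.mem_ass_pullback_iff U.ι F ⟨x, hxU⟩).1 h

end Groth.Agent.RGLib.AssMono
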