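import Mathlib.RingTheory.Smooth.Basic
import Mathlib.RingTheory.Ideal.Cotangent
import Mathlib.RingTheory.MvPolynomial.Ideal
import Mathlib.LinearAlgebra.SymmetricAlgebra.Basis
import Mathlib.Algebra.TrivSqZeroExt.Basic
import Mathlib.Algebra.Module.Projective

/-!
# Formally smooth augmented algebras

For a formally smooth `R`-algebra `A` with an augmentation `pr : A → A₀` whose kernel `J` is finitely
generated, `J/J²` is projective over `A₀` and every linear lift `J/J² → J` induces an injective map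
from the symmetric algebra.
-/

universe u v

set_option autoImplicit false

namespace Groth.Agent.RGLib.AugSmooth

section sq

variable (R : Type u) [CommRing R] {A0 : Type u} [CommRing A0] [Algebra R A0]
  {S : Type u} [CommRing S] [Algebra R S] [Algebra A0 S] [IsScalarTower R A0 S]
  {ι : Type v} (L : (ι → A0) →ₗ[A0] S) (K : Ideal S) (hL : ∀ f, L f ∈ K)

/-- `(a, f) ↦ a + L f` modulo the square of an ideal containing the values of `L`. -/
noncomputable def sqMap : TrivSqZeroExt A0 (ι → A0) →ₐ[R] S ⧸ K ^ 2 where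
  toFun t := Ideal.Quotient.mk _ (algebraMap A0 S t.fst + L t.snd)
  map_one' := by simp
  map_zero' := by simp
  map_add' s t := by
    rw [← map_add]; congr 1
    simp only [TrivSqZeroExt.fst_add, TrivSqZeroExt.snd_add, map_add]; abel
  map_mul' s t := by
    rw [← map_mul, Ideal.Quotient.eq]
    have h : L s.snd * L t.snd ∈ K ^ 2 := pow_two K ▸ Ideal.mul_mem_mul (hL _) (hL _)
    simp only [TrivSqZeroExt.fst_mul, TrivSqZeroExt.snd_mul, map_mul, map_add, op_smul_eq_smul, map_smul]
    simp only [Algebra.smul_def]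
    convert neg_mem h using 1
    ring
  commutes' r := by
    show Ideal.Quotient.mk _ _ = _
    simp [TrivSqZeroExt.algebraMap_eq_inl', ← IsScalarTower.algebraMap_apply]

lemma sqMap_apply (t : TrivSqZeroExt A0 (ι → A0)) :
    sqMap R L K hL t = Ideal.Quotient.mk _ (algebraMap A0 S t.fst + L t.snd) := rfl

end sq

variable (R : Type u) [CommRing R] {A0 : Type u} [CommRing A0] [Algebra R A0]
  {A : Type u} [CommRing A] [Algebra R A] [Algebra A0 A] [IsScalarTower R A0 A]
  [Algebra.FormallySmooth R A] (pr : A →ₐ[A0] A0)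
  {ι : Type v} [Fintype ι] (x : ι → A) (hx : RingHom.ker pr.toRingHom = Ideal.span (Set.range x))

local notation "J" => RingHom.ker (AlgHom.toRingHom pr)

include hx in
lemma linComb_mem (f : ι → A0) : Fintype.linearCombination A0 x f ∈ J := by
  rw [Fintype.linearCombination_apply]
  refine Ideal.sum_mem _ fun i _ => ?_
  rw [Algebra.smul_def, hx]
  exact Ideal.mul_mem_left _ _ (Ideal.subset_span ⟨i, rfl⟩)

include hx in
/-- The projection to `A₀ ⊕ F` lifting the identity of `A/J²`. -/
theorem exists_lift : ∃ l : A →ₐ[R] TrivSqZeroExt A0 (ι → A0),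
    ∀ y, (l y).fst = pr y ∧ algebraMap A0 A (l y).fst + Fintype.linearCombination A0 x (l y).snd - y ∈ J ^ 2 := by
  classical
  let g := sqMap R (Fintype.linearCombination A0 x) J (linComb_mem pr x hx)
  have hfst : ∀ t y, g t = Ideal.Quotient.mk _ y → t.fst = pr y := fun t y h => by
    have h2 : algebraMap A0 A t.fst + Fintype.linearCombination A0 x t.snd - y ∈ J :=
      Ideal.pow_le_self two_ne_zero (Ideal.Quotient.eq.1 h)
    have h3 : pr (algebraMap A0 A t.fst + Fintype.linearCombination A0 x t.snd - y) = 0 := h2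
    rw [map_sub, map_add, AlgHom.commutes, show pr (Fintype.linearCombination A0 x t.snd) = 0 from linComb_mem pr x hx t.snd,
      add_zero, sub_eq_zero] at h3
    exact h3
  have hg : Function.Surjective g := fun z => by
    obtain ⟨y, rfl⟩ := Ideal.Quotient.mk_surjective z
    have hy : y - algebraMap A0 A (pr y) ∈ Ideal.span (Set.range x) := by
      rw [← hx, RingHom.mem_ker]; simp
    obtain ⟨c, hc⟩ := Ideal.mem_span_range_iff_exists_fun.1 hy
    refine ⟨(pr y, fun i => pr (c i)), Ideal.Quotient.eq.2 ?_⟩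
    show algebraMap A0 A (pr y) + Fintype.linearCombination A0 x (fun i => pr (c i)) - y ∈ J ^ 2
    rw [show algebraMap A0 A (pr y) + Fintype.linearCombination A0 x (fun i => pr (c i)) - y =
      ∑ i, (algebraMap A0 A (pr (c i)) - c i) * x i by
        rw [Fintype.linearCombination_apply]
        simp only [sub_mul, Finset.sum_sub_distrib, Algebra.smul_def, hc]; abel]
    refine Ideal.sum_mem _ fun i _ => ?_
    rw [pow_two]
    refine Ideal.mul_mem_mul (by rw [RingHom.mem_ker]; simp) ?_
    rw [hx]; exact Ideal.subset_span ⟨i, rfl⟩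
  have hnil : IsNilpotent (RingHom.ker g.toRingHom) := ⟨2, by
    rw [Ideal.zero_eq_bot, eq_bot_iff]
    refine (pow_two (RingHom.ker g.toRingHom)).le.trans (Ideal.mul_le.2 fun s hs t ht => ?_)
    have h1 : s.fst = 0 := by rw [hfst s 0 (by rw [map_zero]; exact hs), map_zero]
    have h2 : t.fst = 0 := by rw [hfst t 0 (by rw [map_zero]; exact ht), map_zero]
    rw [Ideal.mem_bot]
    exact TrivSqZeroExt.ext (by simp [h1]) (by simp [h1, h2])⟩
  refine ⟨Algebra.FormallySmooth.liftOfSurjective (Ideal.Quotient.mkₐ R _) g hg hnil, fun y => ?_⟩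
  have h := Algebra.FormallySmooth.liftOfSurjective_apply (Ideal.Quotient.mkₐ R _) g hg hnil y
  exact ⟨hfst _ _ h, Ideal.Quotient.eq.1 h⟩

include hx R in
/-- `J/J²` is a direct summand of the free module on the generators. -/
theorem exists_section : ∃ (π : (ι → A0) →ₗ[A0] (J).Cotangent) (σ : (J).Cotangent →ₗ[A0] ι → A0),
    π ∘ₗ σ = LinearMap.id ∧ (∀ f, π f = (J).toCotangent ⟨_, linComb_mem pr x hx f⟩) ∧
    ∃ l : A →ₐ[R] TrivSqZeroExt A0 (ι → A0), (∀ y, (l y).fst = pr y) ∧
      ∀ z : J, (l z.1).snd = σ ((J).toCotangent z) := by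
  classical
  obtain ⟨l, hl⟩ := exists_lift R pr x hx
  let π : (ι → A0) →ₗ[A0] (J).Cotangent :=
    ((J).toCotangent.restrictScalars A0).comp
      ((Fintype.linearCombination A0 x).codRestrict ((J).restrictScalars A0) (linComb_mem pr x hx))
  let δ : A → (ι → A0) := fun y => (l y).snd
  have hδmul : ∀ y z, y ∈ J → z ∈ J → δ (y * z) = 0 := fun y z hy hz => by
    have h1 : (l y).fst = 0 := (hl y).1.trans hy
    have h2 : (l z).fst = 0 := (hl z).1.trans hz
    show (l (y * z)).snd = 0
    simp [h1, h2]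
  have hδadd : ∀ y z, δ (y + z) = δ y + δ z := fun y z => by simp [δ]
  have hδsq : ∀ y ∈ J ^ 2, δ y = 0 := fun y hy => by
    rw [pow_two] at hy
    exact Submodule.mul_induction_on hy (fun m hm n hn => hδmul m n hm hn) fun a b ha hb => by rw [hδadd, ha, hb, add_zero]
  have hwd : ∀ z w : J, (J).toCotangent z = (J).toCotangent w → δ z.1 = δ w.1 := fun z w h => by
    have h2 := hδsq _ ((J).toCotangent_eq.1 h)
    have h3 := hδadd (z.1 - w.1) w.1
    rw [sub_add_cancel, h2, zero_add] at h3
    exact h3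
  let r := Function.surjInv (J).toCotangent_surjective
  have hr : ∀ p, (J).toCotangent (r p) = p := Function.surjInv_eq _
  have hsmul : ∀ (a : A0) (z : J), δ (a • z.1) = a • δ z.1 := fun a z => by
    have h2 : (l z.1).fst = 0 := (hl _).1.trans z.2
    show (l (a • z.1)).snd = _
    rw [Algebra.smul_def, map_mul, TrivSqZeroExt.snd_mul, h2, (hl _).1, AlgHom.commutes]
    simp [δ]
  let σ : (J).Cotangent →ₗ[A0] ι → A0 :=
    { toFun := fun p => δ (r p).1
      map_add' := fun p q => by
        rw [hwd (r (p + q)) (r p + r q) (by rw [map_add, hr, hr, hr])]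
        exact hδadd _ _
      map_smul' := fun a p => by
        rw [RingHom.id_apply, ← hsmul, hwd (r (a • p)) ⟨a • (r p).1, Submodule.smul_of_tower_mem _ a (r p).2⟩]
        rw [hr]
        exact ((congrArg (a • ·) (hr p)).symm.trans (LinearMap.map_smul_of_tower (J).toCotangent a (r p)).symm) }
  refine ⟨π, σ, LinearMap.ext fun p => ?_, fun f => rfl, l, fun y => (hl y).1,
    fun z => hwd _ _ (hr _).symm⟩
  rw [LinearMap.comp_apply, LinearMap.id_apply]
  refine Eq.trans ((J).toCotangent_eq.2 ?_) (hr p)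
  have h2 := (hl (r p).1).2
  rwa [show (l (r p).1).fst = 0 from (hl _).1.trans (r p).2, map_zero, zero_add] at h2

section inj

variable {S : Type u} [CommRing S] [Algebra R S] [Algebra A0 S] [IsScalarTower R A0 S]
  (φ : S →ₐ[A0] A) (K : Ideal S)

omit [Algebra.FormallySmooth R A] in
/-- Core of the injectivity. -/
theorem ker_le_pow [Algebra.FormallySmooth R A] (G : Set S) (hK : K = Ideal.span G)
    (hgen : ∀ z, ∃ a : A0, z - algebraMap A0 S a ∈ K)
    (h : A →ₐ[R] S ⧸ K ^ 2) (hG : ∀ p ∈ G, h (φ p) = Ideal.Quotient.mk _ p)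
    (h0 : ∀ a : A0, ∃ k ∈ K, h (φ (algebraMap A0 S a)) = Ideal.Quotient.mk _ (algebraMap A0 S a + k))
    (n : ℕ) : RingHom.ker φ.toRingHom ≤ K ^ n := by
  induction n with
  | zero => simp
  | succ m ih =>
    intro z hz
    let d := m + 2
    have hd : 2 ≤ d := Nat.le_add_left 2 m
    let q : S ⧸ K ^ d →ₐ[R] S ⧸ K ^ 2 := Ideal.Quotient.factorₐ R (Ideal.pow_le_pow_right hd)
    have hq : Function.Surjective q := Ideal.Quotient.factor_surjective (Ideal.pow_le_pow_right hd)
    have hqn : IsNilpotent (RingHom.ker q.toRingHom) := ⟨d, by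
      rw [Ideal.zero_eq_bot, eq_bot_iff]
      have hle : RingHom.ker q.toRingHom ≤ (K ^ 2).map (Ideal.Quotient.mk (K ^ d)) := by
        intro w hw
        obtain ⟨w, rfl⟩ := Ideal.Quotient.mk_surjective w
        exact Ideal.mem_map_of_mem _ (Ideal.Quotient.eq_zero_iff_mem.1 hw)
      refine le_trans (Ideal.pow_right_mono hle d) ?_
      rw [← Ideal.map_pow, Ideal.map_le_iff_le_comap, ← RingHom.ker_eq_comap_bot, Ideal.mk_ker, ← pow_mul]
      exact Ideal.pow_le_pow_right (by omega)⟩
    let e : S →+* S ⧸ K ^ d :=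
      (Algebra.FormallySmooth.liftOfSurjective h q hq hqn).toRingHom.comp φ.toRingHom
    let Q : ℕ → S → Prop := fun k w => ∃ y, Ideal.Quotient.mk (K ^ d) y = e w ∧ y - w ∈ K ^ (k + 1)
    have hQadd : ∀ k a b, Q k a → Q k b → Q k (a + b) := by
      rintro k a b ⟨y, hy, hy'⟩ ⟨y', hy2, hy2'⟩
      exact ⟨y + y', by rw [map_add, map_add, hy, hy2], by
        rw [show y + y' - (a + b) = (y - a) + (y' - b) by ring]; exact add_mem hy' hy2'⟩
    have hred : ∀ w y, Ideal.Quotient.mk (K ^ d) y = e w → h (φ w) = Ideal.Quotient.mk (K ^ 2) y := fun w y hy => by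
      have h1 := Algebra.FormallySmooth.liftOfSurjective_apply h q hq hqn (φ w)
      have h2 : q (e w) = h (φ w) := h1
      rw [← hy] at h2
      exact h2.symm
    have hQ0G : ∀ p ∈ G, Q 1 p := fun p hp => by
      obtain ⟨y, hy⟩ := Ideal.Quotient.mk_surjective (e p)
      refine ⟨y, hy, ?_⟩
      have := (hred p y hy).symm.trans (hG p hp)
      exact Ideal.Quotient.eq.1 this
    have hQ0a : ∀ a, Q 0 (algebraMap A0 S a) := fun a => by
      obtain ⟨y, hy⟩ := Ideal.Quotient.mk_surjective (e (algebraMap A0 S a))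
      refine ⟨y, hy, ?_⟩
      obtain ⟨k, hk, hk'⟩ := h0 a
      have h2 := Ideal.pow_le_self two_ne_zero (Ideal.Quotient.eq.1 ((hred _ y hy).symm.trans hk'))
      rw [pow_one, show y - algebraMap A0 S a = (y - (algebraMap A0 S a + k)) + k by ring]
      exact add_mem h2 hk
    have hQmul : ∀ i k a b, a ∈ K ^ i → b ∈ K ^ k → Q i a → Q k b → Q (i + k) (a * b) := by
      rintro i k a b ha hb ⟨y, hy, hy'⟩ ⟨y', hy2, hy2'⟩
      refine ⟨y * y', by rw [map_mul, map_mul, hy, hy2], ?_⟩
      rw [show y * y' - a * b = (y - a) * (y' - b) + (y - a) * b + a * (y' - b) by ring]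
      refine add_mem (add_mem ?_ ?_) ?_
      · exact Ideal.pow_le_pow_right (show i + k + 1 ≤ (i + 1) + (k + 1) by omega) ((pow_add K (i + 1) (k + 1)).ge (Ideal.mul_mem_mul hy' hy2'))
      · exact Ideal.pow_le_pow_right (show i + k + 1 ≤ (i + 1) + k by omega) ((pow_add K (i + 1) k).ge (Ideal.mul_mem_mul hy' hb))
      · exact Ideal.pow_le_pow_right (show i + k + 1 ≤ i + (k + 1) by omega) ((pow_add K i (k + 1)).ge (Ideal.mul_mem_mul ha hy2'))
    -- elements of `K` are fixed to first order
    have hQK : ∀ w ∈ K, Q 0 w := fun w hw => by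
      rw [hK] at hw
      induction hw using Submodule.span_induction with
      | mem p hp =>
        obtain ⟨y, hy, hy'⟩ := hQ0G p hp
        exact ⟨y, hy, Ideal.pow_le_pow_right (Nat.le_succ 1) hy'⟩
      | zero => exact ⟨0, by simp, by simp⟩
      | add a b _ _ ha hb => exact hQadd _ a b ha hb
      | smul c b hb' hb =>
        obtain ⟨y, hy, hy'⟩ := hb
        obtain ⟨c', hc'⟩ := Ideal.Quotient.mk_surjective (e c)
        refine ⟨c' * y, by rw [smul_eq_mul, map_mul, map_mul, hy, hc'], ?_⟩
        have hbK : b ∈ K := hK ▸ hb'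
        rw [pow_one] at hy' ⊢
        have hyK : y ∈ K := by rw [← sub_add_cancel y b]; exact add_mem hy' hbK
        exact sub_mem (K.mul_mem_left _ hyK) (K.mul_mem_left _ hbK)
    have hall : ∀ w, Q 0 w := fun w => by
      obtain ⟨a, ha⟩ := hgen w
      simpa using hQadd 0 _ _ (hQ0a a) (hQK _ ha)
    have hK1 : ∀ w ∈ K, Q 1 w := fun w hw => by
      rw [hK] at hw
      induction hw using Submodule.span_induction with
      | mem p hp => exact hQ0G p hp
      | zero => exact ⟨0, by simp, by simp⟩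
      | add a b _ _ ha hb => exact hQadd _ a b ha hb
      | smul c b hb' hb =>
        exact hQmul 0 1 c b (by simp) (by rw [pow_one, hK]; exact hb') (hall c) hb
    have key : ∀ k, ∀ w ∈ K ^ k, Q k w := by
      intro k
      induction k with
      | zero => exact fun w _ => hall w
      | succ k ihk =>
        intro w hw
        rw [pow_succ] at hw
        refine Submodule.mul_induction_on hw (fun a ha b hb => hQmul k 1 a b ha (by rwa [pow_one]) (ihk a ha) (hK1 b hb))
          fun a b ha hb => hQadd _ a b ha hb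
    obtain ⟨y, hy, hy'⟩ := key m z (ih hz)
    have h0' : e z = 0 := by
      show (Algebra.FormallySmooth.liftOfSurjective h q hq hqn) (φ z) = 0
      rw [show φ z = 0 from hz, map_zero]
    rw [h0', Ideal.Quotient.eq_zero_iff_mem] at hy
    have hy2 : y ∈ K ^ (m + 1) := Ideal.pow_le_pow_right (Nat.le_succ _) hy
    rw [show z = y - (y - z) by ring]
    exact sub_mem hy2 hy'

end inj

/-- The powers of the augmentation ideal of the symmetric algebra of a split quotient of a free module
have zero intersection. -/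
theorem iInf_pow_eq_zero {P : Type u} [AddCommGroup P] [Module A0 P] (π : (ι → A0) →ₗ[A0] P)
    (σ : P →ₗ[A0] ι → A0) (hπσ : π ∘ₗ σ = LinearMap.id) {z : SymmetricAlgebra A0 P}
    (h : ∀ n, z ∈ Ideal.span (Set.range (SymmetricAlgebra.ι A0 P)) ^ n) : z = 0 := by
  classical
  let E := SymmetricAlgebra.equivMvPolynomial (Pi.basisFun A0 ι)
  let i : SymmetricAlgebra A0 P →ₐ[A0] MvPolynomial ι A0 :=
    E.toAlgHom.comp (SymmetricAlgebra.lift ((SymmetricAlgebra.ι A0 (ι → A0)) ∘ₗ σ))
  let j : MvPolynomial ι A0 →ₐ[A0] SymmetricAlgebra A0 P :=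
    (SymmetricAlgebra.lift ((SymmetricAlgebra.ι A0 P) ∘ₗ π)).comp E.symm.toAlgHom
  have hji : ∀ w, j (i w) = w := by
    have : j.comp i = AlgHom.id A0 _ := SymmetricAlgebra.algHom_ext (LinearMap.ext fun p => by
      show j (i (SymmetricAlgebra.ι A0 P p)) = _
      simp only [i, j, AlgHom.comp_apply, SymmetricAlgebra.lift_ι_apply, LinearMap.comp_apply]
      show SymmetricAlgebra.lift _ (E.symm (E _)) = _
      rw [AlgEquiv.symm_apply_apply, SymmetricAlgebra.lift_ι_apply, LinearMap.comp_apply,
        show π (σ p) = p from LinearMap.congr_fun hπσ p]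
      rfl)
    exact fun w => AlgHom.congr_fun this w
  have hle : (Ideal.span (Set.range (SymmetricAlgebra.ι A0 P))).map i ≤ MvPolynomial.idealOfVars ι A0 := by
    rw [Ideal.map_span, Ideal.span_le]
    rintro _ ⟨_, ⟨p, rfl⟩, rfl⟩
    show i _ ∈ _
    simp only [i, AlgHom.comp_apply, SymmetricAlgebra.lift_ι_apply, LinearMap.comp_apply]
    show E (SymmetricAlgebra.ι A0 _ (σ p)) ∈ _
    rw [show E (SymmetricAlgebra.ι A0 _ (σ p)) = Module.Basis.constr (Pi.basisFun A0 ι) A0 MvPolynomial.X (σ p) from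
      SymmetricAlgebra.lift_ι_apply _ _, Module.Basis.constr_apply_fintype]
    exact Ideal.sum_mem _ fun k _ => by
      rw [Algebra.smul_def]; exact Ideal.mul_mem_left _ _ (Ideal.subset_span ⟨k, rfl⟩)
  rw [← hji z]
  suffices i z = 0 by rw [this, map_zero]
  refine MvPolynomial.ext _ _ fun m => ?_
  rw [MvPolynomial.coeff_zero]
  refine (MvPolynomial.mem_pow_idealOfVars_iff' (Finsupp.degree m + 1) _).1 ?_ m (Nat.lt_succ_self _)
  exact Ideal.pow_right_mono hle _ (Ideal.map_pow i _ _ ▸ Ideal.mem_map_of_mem i (h _))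

include hx R in
/-- The cotangent module is finite projective, and any lift of it gives an injective map. -/
theorem main : Module.Finite A0 (J).Cotangent ∧ Module.Projective A0 (J).Cotangent ∧
    (∀ p : (J).Cotangent, ∃ f : ι → A0, p = (J).toCotangent ⟨_, linComb_mem pr x hx f⟩) ∧
    ∀ s : (J).Cotangent →ₗ[A0] A, ∀ hs : ∀ p, s p ∈ J, (∀ p, (J).toCotangent ⟨s p, hs p⟩ = p) →
      Function.Injective (SymmetricAlgebra.lift s) := by
  classical
  obtain ⟨π, σ, hπσ, hπ, l, hl1, hl2⟩ := exists_section R pr x hx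
  have hsurj : Function.Surjective π := fun p => ⟨σ p, LinearMap.congr_fun hπσ p⟩
  refine ⟨Module.Finite.of_surjective π hsurj, Module.Projective.of_split σ π hπσ,
    fun p => ⟨σ p, (LinearMap.congr_fun hπσ p).symm.trans (hπ _)⟩, fun s hs hsp => ?_⟩
  let K : Ideal (SymmetricAlgebra A0 (J).Cotangent) := Ideal.span (Set.range (SymmetricAlgebra.ι A0 (J).Cotangent))
  let g := sqMap R ((SymmetricAlgebra.ι A0 (J).Cotangent) ∘ₗ π) K fun f => Ideal.subset_span ⟨π f, rfl⟩
  rw [injective_iff_map_eq_zero]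
  intro z hz
  refine iInf_pow_eq_zero π σ hπσ fun n => ?_
  refine ker_le_pow R (SymmetricAlgebra.lift s) K _ rfl (fun w => ⟨SymmetricAlgebra.algebraMapInv w, ?_⟩)
    (g.comp l) ?_ (fun a => ?_) n hz
  · induction w using SymmetricAlgebra.induction with
    | algebraMap r => rw [AlgHom.commutes, Algebra.algebraMap_self_apply, sub_self]; exact zero_mem _
    | ι p => rw [SymmetricAlgebra.algebraMapInv_ι, map_zero, sub_zero]; exact Ideal.subset_span ⟨p, rfl⟩
    | mul a b ha hb =>
      rw [map_mul, map_mul, show a * b - _ = (a - algebraMap A0 (SymmetricAlgebra A0 (J).Cotangent) (SymmetricAlgebra.algebraMapInv a)) * b +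
        algebraMap A0 (SymmetricAlgebra A0 (J).Cotangent) (SymmetricAlgebra.algebraMapInv a) * (b - algebraMap A0 (SymmetricAlgebra A0 (J).Cotangent) (SymmetricAlgebra.algebraMapInv b)) by ring]
      exact add_mem (K.mul_mem_right _ ha) (K.mul_mem_left _ hb)
    | add a b ha hb =>
      rw [map_add, map_add, show a + b - (_ + _) = (a - algebraMap A0 (SymmetricAlgebra A0 (J).Cotangent) (SymmetricAlgebra.algebraMapInv a)) +
        (b - algebraMap A0 (SymmetricAlgebra A0 (J).Cotangent) (SymmetricAlgebra.algebraMapInv b)) by abel]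
      exact add_mem ha hb
  · rintro _ ⟨p, rfl⟩
    rw [SymmetricAlgebra.lift_ι_apply, AlgHom.comp_apply, sqMap_apply, hl1, show pr (s p) = 0 from hs p,
      hl2 ⟨s p, hs p⟩, hsp p, map_zero, zero_add, LinearMap.comp_apply,
      show π (σ p) = p from LinearMap.congr_fun hπσ p]
  · refine ⟨SymmetricAlgebra.ι A0 _ (π (l (algebraMap A0 A a)).snd), Ideal.subset_span ⟨_, rfl⟩, ?_⟩
    rw [AlgHom.commutes, AlgHom.comp_apply, sqMap_apply, hl1, AlgHom.commutes]
    rfl

end Groth.Agent.RGLib.AugSmooth
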