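import Groth.Agent.RGLib.Descend

/-! Comparison of cokernels of a matrix after a change to the closed fibre. -/

universe u

noncomputable section

open TensorProduct IsLocalRing

namespace Groth.Agent.RGLib

/-- The map of tuples induced by a ring map, as a semilinear map. -/
def mapTuple {R S : Type u} [CommRing R] [CommRing S] (φ : R →+* S) {ι : Type} : (ι → R) →ₛₗ[φ] (ι → S) where
  toFun v i := φ (v i)
  map_add' a b := funext fun i => map_add φ _ _
  map_smul' c a := funext fun i => map_mul φ _ _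

theorem mapTuple_span {R S : Type u} [CommRing R] [CommRing S] (φ : R →+* S) {ι κ : Type} (G : κ → ι → R)
    {v : ι → R} (hv : v ∈ Submodule.span R (Set.range G)) :
    mapTuple φ v ∈ Submodule.span S (Set.range fun j => mapTuple φ (G j)) := by
  induction hv using Submodule.span_induction with
  | mem v hv => obtain ⟨j, rfl⟩ := hv; exact Submodule.subset_span ⟨j, rfl⟩
  | zero => rw [map_zero]; exact zero_mem _
  | add a b _ _ ha hb => rw [map_add]; exact add_mem ha hb
  | smul c a _ ha => rw [LinearMap.map_smulₛₗ]; exact Submodule.smul_mem _ _ ha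

/-- A linear map out of tuples which kills the relations vanishes on their span. -/
theorem sum_smul_eq_zero_of_mem_span {R : Type u} [CommRing R] {ι κ : Type} [Fintype ι] {X : Type u}
    [AddCommGroup X] [Module R X] (x : ι → X) (G : κ → ι → R) (hG : ∀ j, ∑ i, G j i • x i = 0)
    {v : ι → R} (hv : v ∈ Submodule.span R (Set.range G)) : ∑ i, v i • x i = 0 := by
  have : Submodule.span R (Set.range G) ≤ LinearMap.ker (Fintype.linearCombination R x) := by
    rw [Submodule.span_le]
    rintro _ ⟨j, rfl⟩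
    simpa [Fintype.linearCombination_apply] using hG j
  simpa [Fintype.linearCombination_apply] using this hv

/-- Maps out of the cokernel of a matrix. -/
def cokerDesc {R : Type u} [CommRing R] {ι κ : Type} [Fintype ι] {X : Type u} [AddCommGroup X] [Module R X]
    (G : κ → ι → R) (x : ι → X) (hG : ∀ j, ∑ i, G j i • x i = 0) :
    ((ι → R) ⧸ Submodule.span R (Set.range G)) →ₗ[R] X :=
  (Submodule.span R (Set.range G)).liftQ (Fintype.linearCombination R x) fun v hv => by
    simpa [Fintype.linearCombination_apply] using sum_smul_eq_zero_of_mem_span x G hG hv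

@[simp] theorem cokerDesc_mk {R : Type u} [CommRing R] {ι κ : Type} [Fintype ι] {X : Type u} [AddCommGroup X] [Module R X]
    (G : κ → ι → R) (x : ι → X) (hG : ∀ j, ∑ i, G j i • x i = 0) (v : ι → R) :
    cokerDesc G x hG (Submodule.Quotient.mk v) = ∑ i, v i • x i := by
  simp [cokerDesc, Fintype.linearCombination_apply]

section ClosedFibre

variable {A₀ : Type u} [CommRing A₀] {κ : Type u} [CommRing κ] [Algebra A₀ κ] {R₀ : Type u} [CommRing R₀] [Algebra A₀ R₀]
  {ι ι' : Type} [Fintype ι] (G : ι' → ι → R₀)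

/-- The surjection from tuples over the base-changed ring onto the base-changed cokernel. -/
theorem exists_fibre_surjection :
    ∃ Ψ : (ι → κ ⊗[A₀] R₀) →+ κ ⊗[A₀] ((ι → R₀) ⧸ Submodule.span R₀ (Set.range G)),
      Function.Surjective Ψ ∧
      (∀ (a : κ) (v : ι → R₀), Ψ (fun i => a ⊗ₜ v i) = a ⊗ₜ Submodule.Quotient.mk v) ∧
      ∀ x ∈ Submodule.span (κ ⊗[A₀] R₀) (Set.range fun j => mapTuple
        (Algebra.TensorProduct.includeRight : R₀ →ₐ[A₀] κ ⊗[A₀] R₀).toRingHom (G j)), Ψ x = 0 := by
  classical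
  let Sp := Submodule.span R₀ (Set.range G)
  let e := TensorProduct.piRight A₀ A₀ κ (fun _ : ι => R₀)
  let Ψ : (ι → κ ⊗[A₀] R₀) →ₗ[A₀] κ ⊗[A₀] ((ι → R₀) ⧸ Sp) :=
    ((Sp.mkQ.restrictScalars A₀).lTensor κ).comp e.symm.toLinearMap
  have hΨ : ∀ (a : κ) (v : ι → R₀), Ψ (fun i => a ⊗ₜ v i) = a ⊗ₜ Submodule.Quotient.mk v := fun a v => by
    have : e (a ⊗ₜ v) = fun i => a ⊗ₜ v i := by simp [e]
    show (Sp.mkQ.restrictScalars A₀).lTensor κ (e.symm _) = _
    rw [← this, e.symm_apply_apply]
    rfl
  refine ⟨Ψ.toAddMonoidHom, ?_, hΨ, fun x hx => ?_⟩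
  · exact (LinearMap.lTensor_surjective κ (g := Sp.mkQ.restrictScalars A₀) Sp.mkQ_surjective).comp e.symm.surjective
  · induction hx using Submodule.span_induction with
    | zero => exact map_zero _
    | add a b _ _ ha hb => rw [map_add, ha, hb, add_zero]
    | mem x hx =>
      obtain ⟨j, rfl⟩ := hx
      refine (hΨ 1 (G j)).trans ?_
      rw [(Submodule.Quotient.mk_eq_zero Sp).2 (Submodule.subset_span ⟨j, rfl⟩), tmul_zero]
    | smul c a ha iha =>
      suffices ∀ b ∈ Submodule.span (κ ⊗[A₀] R₀) (Set.range fun j => mapTuple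
          (Algebra.TensorProduct.includeRight : R₀ →ₐ[A₀] κ ⊗[A₀] R₀).toRingHom (G j)),
          ∀ c : κ ⊗[A₀] R₀, Ψ (c • b) = 0 from this a ha c
      intro b hb
      induction hb using Submodule.span_induction with
      | zero => intro c; rw [smul_zero, map_zero]
      | add u v _ _ hu hv => intro c; rw [smul_add, map_add, hu, hv, add_zero]
      | smul d u _ hu => intro c; rw [smul_smul]; exact hu _
      | mem u hu =>
        obtain ⟨j, rfl⟩ := hu
        intro c
        induction c using TensorProduct.induction_on with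
        | zero => rw [zero_smul, map_zero]
        | add c d hc hd => rw [add_smul, map_add, hc, hd, add_zero]
        | tmul a r =>
          refine Eq.trans (congrArg Ψ (funext fun i => ?_)) ((hΨ a (r • G j)).trans ?_)
          · exact (Algebra.TensorProduct.tmul_mul_tmul a 1 r (G j i)).trans (by rw [mul_one]; rfl)
          · rw [(Submodule.Quotient.mk_eq_zero Sp).2 (Sp.smul_mem r (Submodule.subset_span ⟨j, rfl⟩)), tmul_zero]

end ClosedFibre

/-- The map from the algebra of polynomials to the closed fibre of a localisation is surjective up to units. -/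
theorem exists_mul_unit_mem_range {A₀ κ R₀ P P₀ : Type u} [CommRing A₀] [CommRing κ] [Algebra A₀ κ]
    [CommRing R₀] [Algebra A₀ R₀] [CommRing P] [CommRing P₀] [Algebra P₀ R₀] (T : Submonoid P₀) [IsLocalization T R₀]
    (π : P →+* κ ⊗[A₀] R₀) (j : P₀ →+* P)
    (hj : ∀ c, π (j c) = (1 : κ) ⊗ₜ algebraMap P₀ R₀ c) (hκ : ∀ a : κ, ∃ p, π p = a ⊗ₜ 1) (r : κ ⊗[A₀] R₀) :
    ∃ τ : T, ∃ p, r * π (j τ) = π p := by
  induction r using TensorProduct.induction_on with
  | zero => exact ⟨1, 0, by simp⟩
  | tmul a x =>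
    obtain ⟨⟨c, t⟩, hc⟩ := IsLocalization.surj T x
    obtain ⟨p, hp⟩ := hκ a
    refine ⟨t, p * j c, ?_⟩
    rw [map_mul, hp, hj, hj, Algebra.TensorProduct.tmul_mul_tmul, Algebra.TensorProduct.tmul_mul_tmul, hc, one_mul]
  | add x y hx hy =>
    obtain ⟨s, p, hp⟩ := hx
    obtain ⟨t, q, hq⟩ := hy
    refine ⟨s * t, p * j t + q * j s, ?_⟩
    rw [Submonoid.coe_mul, map_mul, map_mul, map_add, map_mul, map_mul, ← hp, ← hq]
    ring

end Groth.Agent.RGLib

end
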