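import Mathlib
import Groth.Prelude.Def_SGA1
import Groth.Agent.SGA1Q.SigmaFinite
import Groth.Agent.Hensel.QuasiFiniteSplit
import Groth.Agent.Hensel.Local

/-!
# Universal submersiveness over a complete local ring
-/

set_option autoImplicit false
set_option maxHeartbeats 800000
set_option linter.style.haveILetI false

universe u

open CategoryTheory CategoryTheory.Limits AlgebraicGeometry IsLocalRing

namespace Groth.Agent.RGLib.CompleteSubm

variable {A : Type u} [CommRing A] [HenselianLocalRing A]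

/-- An isolated point of the closed fibre has a finite local scheme. -/
theorem exists_finite_local {X : Scheme.{u}} (g : X ⟶ Spec (CommRingCat.of A)) [LocallyOfFiniteType g]
    (hfin : (g.base ⁻¹' {closedPoint A}).Finite) (x : X) (hx : g x = closedPoint A) :
    ∃ (Z : Scheme.{u}) (h : Z ⟶ X), IsFinite (h ≫ g) ∧ ∀ t : X, t ⤳ x → t ∈ Set.range h := by
  haveI : Finite ↥(g.fiber (g x)) := by
    rw [← hx] at hfin
    haveI := hfin.to_subtype
    exact Finite.of_equiv _ (g.fiberHomeo (g x)).symm.toEquiv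
  haveI : JacobsonSpace ↥(g.fiber (g x)) := inferInstance
  have hqf : g.QuasiFiniteAt x := g.quasiFiniteAt_iff_isOpen_singleton_asFiber.2 (isOpen_discrete _)
  obtain ⟨i, y, rfl⟩ := X.affineCover.exists_eq x
  haveI : IsAffine (X.affineCover.X i) := inferInstance
  obtain ⟨R₀, ⟨e⟩⟩ : ∃ R₀ : CommRingCat.{u}, Nonempty (X.affineCover.X i ≅ Spec R₀) :=
    ⟨_, ⟨(X.affineCover.X i).isoSpec⟩⟩
  let ψ : Spec R₀ ⟶ X := e.inv ≫ X.affineCover.f i
  let q : PrimeSpectrum R₀ := e.hom y
  haveI : q.asIdeal.IsPrime := q.2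
  have hq : ψ q = X.affineCover.f i y := by
    show (e.hom ≫ e.inv ≫ X.affineCover.f i) y = _
    rw [Iso.hom_inv_id_assoc]
  have hqf' : (ψ ≫ g).QuasiFiniteAt q := Scheme.Hom.quasiFiniteAt_comp_iff_of_isOpenImmersion.2 (hq.symm ▸ hqf)
  obtain ⟨φ, hφ⟩ := Spec.map_surjective (ψ ≫ g)
  have hxq : Spec.map φ q = closedPoint A := by
    rw [hφ, Scheme.Hom.comp_apply, hq, hx]
  rw [← hφ] at hqf'
  haveI : LocallyOfFiniteType (Spec.map φ) := hφ ▸ inferInstance
  have hft := (HasRingHomProperty.Spec_iff (P := @LocallyOfFiniteType)).1 ‹LocallyOfFiniteType (Spec.map φ)›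
  algebraize [φ.hom]
  haveI : q.asIdeal.LiesOver (maximalIdeal A) := ⟨(congrArg PrimeSpectrum.asIdeal hxq).symm⟩
  haveI : Algebra.QuasiFiniteAt A q.asIdeal := by
    let := Localization.AtPrime.algebraOfLiesOver (q.asIdeal.under A) q.asIdeal
    have h2 : Algebra.QuasiFinite (Localization.AtPrime (q.asIdeal.under A)) (Localization.AtPrime q.asIdeal) := by
      rw [← RingHom.quasiFinite_algebraMap]
      exact (RingHom.QuasiFinite.respectsIso.arrow_mk_iso_iff (Scheme.arrowStalkMapSpecIso ..)).1 hqf'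
    exact .trans _ (Localization.AtPrime (q.asIdeal.under A)) _
  haveI : Module.Finite A (Localization.AtPrime q.asIdeal) :=
    Hensel.exists_finite_localization_of_quasiFiniteAt A q.asIdeal
  let ρ : Spec (CommRingCat.of (Localization.AtPrime q.asIdeal)) ⟶ Spec R₀ :=
    Spec.map (CommRingCat.ofHom (algebraMap R₀ (Localization.AtPrime q.asIdeal)))
  refine ⟨_, ρ ≫ ψ, ?_, fun t ht => ?_⟩
  · rw [Category.assoc, ← hφ, ← Spec.map_comp, IsFinite.SpecMap_iff]
    exact RingHom.finite_algebraMap.2 ‹_›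
  · obtain ⟨t', rfl⟩ : t ∈ Set.range ψ := by
      rw [← Scheme.Hom.coe_opensRange]
      exact ht.mem_open ψ.opensRange.2 ⟨q, hq⟩
    rw [← hq] at ht
    have ht' : t' ⤳ q := ψ.isOpenEmbedding.isInducing.specializes_iff.1 ht
    have : t' ∈ Set.range ρ := by
      show t' ∈ Set.range (PrimeSpectrum.comap (algebraMap _ (Localization.AtPrime q.asIdeal)))
      rw [PrimeSpectrum.localization_comap_range (Localization.AtPrime q.asIdeal) q.asIdeal.primeCompl]
      exact Set.disjoint_compl_left_iff_subset.2 ((PrimeSpectrum.le_iff_specializes _ _).2 ht')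
    obtain ⟨z, rfl⟩ := this
    exact ⟨z, rfl⟩

theorem univSubmersive {X : Scheme.{u}} (g : X ⟶ Spec (CommRingCat.of A)) [LocallyOfFiniteType g]
    [Surjective g] (hfin : (g.base ⁻¹' {closedPoint A}).Finite)
    (hsp : ∀ t : X, ∃ s : X, g.base s = closedPoint A ∧ t ⤳ s) : SGA1.UnivSubmersive g := by
  haveI := hfin.to_subtype
  choose Z h hh hr using fun s : ↥(g.base ⁻¹' {closedPoint A}) => exists_finite_local g hfin s.1 s.2
  let H := Sigma.desc h
  haveI : Surjective H := ⟨fun t => by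
    obtain ⟨s, hs, hts⟩ := hsp t
    obtain ⟨z, hz⟩ := hr ⟨s, hs⟩ t hts
    refine ⟨Sigma.ι Z ⟨s, hs⟩ z, ?_⟩
    rw [← Scheme.Hom.comp_apply, Sigma.ι_desc]
    exact hz⟩
  haveI : IsFinite (H ≫ g) := by
    rw [show H ≫ g = Sigma.desc fun s => h s ≫ g from Sigma.hom_ext _ _ fun s => by simp [H]]
    exact SGA1Q.isFinite_sigmaDesc _ hh
  intro Y' T' i₁ i₂ g' hg
  have hsq : IsPullback (pullback.fst H i₁) (pullback.snd H i₁ ≫ g') (H ≫ g) i₂ :=
    (IsPullback.of_hasPullback H i₁).paste_vert hg.flip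
  haveI : IsFinite (pullback.snd H i₁ ≫ g') := MorphismProperty.of_isPullback hsq ‹_›
  haveI : Surjective (pullback.snd H i₁ ≫ g') := MorphismProperty.of_isPullback hsq inferInstance
  exact Topology.IsQuotientMap.of_comp (pullback.snd H i₁).continuous g'.continuous
    ((pullback.snd H i₁ ≫ g').isClosedMap.isQuotientMap (pullback.snd H i₁ ≫ g').continuous
      (Surjective.surj (f := pullback.snd H i₁ ≫ g')))

end Groth.Agent.RGLib.CompleteSubm
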