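import Groth.Agent.ArtFunLib.Hull.Ring
import Groth.Agent.Adic7.Basic

/-! Minimal submodules for a chain-closed property over a complete Noetherian local ring. -/

universe u v

noncomputable section

open TensorProduct IsLocalRing

namespace Groth.Agent.RGLib

variable {R : Type u} [CommRing R] [IsNoetherianRing R] {C : Type v} [AddCommGroup C] [Module R C] [Module.Finite R C]

/-- Chevalley's lemma for submodules. -/
theorem chevalley (m : Ideal R) [IsAdicComplete m C] [∀ n : ℕ, IsArtinian R (C ⧸ (m ^ n • ⊤ : Submodule R C))]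
    (K : ℕ → Submodule R C) (hanti : ∀ {p q}, p ≤ q → K q ≤ K p) (hJ : ∀ D : Submodule R C,
      ∀ x, (∀ n, x ∈ D ⊔ m ^ n • ⊤) → x ∈ D) (N : ℕ) :
    ∃ q, K q ≤ (⨅ p, K p) ⊔ m ^ N • ⊤ := by
  have hst : ∀ n, ∃ q₀, ∀ q, q₀ ≤ q → K q₀ ≤ K q ⊔ m ^ n • ⊤ := by
    intro n
    let f : ℕ →o (Submodule R (C ⧸ (m ^ n • ⊤ : Submodule R C)))ᵒᵈ :=
      ⟨fun q => OrderDual.toDual ((K q).map (m ^ n • ⊤ : Submodule R C).mkQ),
        fun p q h => OrderDual.toDual_le_toDual.2 (Submodule.map_mono (hanti h))⟩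
    obtain ⟨q₀, hq₀⟩ := IsArtinian.monotone_stabilizes f
    refine ⟨q₀, fun q hq => ?_⟩
    have h : (K q₀).map (m ^ n • ⊤ : Submodule R C).mkQ = (K q).map _ := OrderDual.toDual.injective (hq₀ q hq)
    have := (Submodule.le_comap_map (m ^ n • ⊤ : Submodule R C).mkQ (K q₀))
    rwa [h, Submodule.comap_map_mkQ, sup_comm] at this
  choose Q hQ using hst
  refine ⟨Q N, fun x hx => ?_⟩
  have step : ∀ n y, y ∈ K (Q n) ⊔ m ^ n • ⊤ →
      ∃ z ∈ K (Q (n + 1)) ⊔ m ^ (n + 1) • ⊤, z - y ∈ m ^ n • (⊤ : Submodule R C) := by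
    intro n y hy
    have h : K (Q n) ⊔ m ^ n • ⊤ ≤ K (Q (n + 1)) ⊔ m ^ n • ⊤ := by
      refine sup_le ?_ le_sup_right
      exact (hQ n (max (Q n) (Q (n + 1))) (le_max_left _ _)).trans
        (sup_le_sup_right (hanti (le_max_right _ _)) _)
    obtain ⟨a, ha, b, hb, rfl⟩ := Submodule.mem_sup.1 (h hy)
    exact ⟨a, Submodule.mem_sup_left ha, by simpa using hb⟩
  choose g hg hg' using step
  let seq : ∀ i : ℕ, {y : C // y ∈ K (Q (N + i)) ⊔ m ^ (N + i) • ⊤} := fun i =>
    Nat.rec ⟨x, Submodule.mem_sup_left hx⟩ (fun i y => ⟨g _ y.1 y.2, hg _ y.1 y.2⟩) i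
  have hmono : ∀ {i j}, i ≤ j → (m ^ j • ⊤ : Submodule R C) ≤ m ^ i • ⊤ := fun h =>
    Submodule.smul_mono (Ideal.pow_le_pow_right h) le_rfl
  have hs : ∀ i j, i ≤ j → (seq j).1 - (seq i).1 ∈ m ^ (N + i) • (⊤ : Submodule R C) := by
    intro i j hij
    induction j, hij using Nat.le_induction with
    | base => simp
    | succ j hij ih =>
      have h1 : (seq (j + 1)).1 - (seq j).1 ∈ m ^ (N + i) • (⊤ : Submodule R C) :=
        hmono (by omega) (hg' (N + j) (seq j).1 (seq j).2)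
      simpa using add_mem h1 ih
  obtain ⟨L, hL⟩ := IsPrecomplete.prec' (I := m) (fun i => (seq i).1) fun {i j} hij => by
    rw [SModEq.sub_mem, ← neg_mem_iff, neg_sub]
    exact hmono (by omega) (hs i j hij)
  have hL' : ∀ i, (seq i).1 - L ∈ m ^ i • (⊤ : Submodule R C) := fun i => SModEq.sub_mem.1 (hL i)
  have hLmem : L ∈ ⨅ p, K p := by
    refine (Submodule.mem_iInf _).2 fun p => hJ (K p) L fun M => ?_
    have h2 : K (Q (N + M)) ≤ K p ⊔ m ^ (N + M) • ⊤ :=
      (hQ (N + M) (max (Q (N + M)) p) (le_max_left _ _)).trans (sup_le_sup_right (hanti (le_max_right _ _)) _)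
    have h3 : (seq M).1 ∈ K p ⊔ m ^ M • ⊤ :=
      (sup_le h2 le_sup_right).trans (sup_le_sup_left (hmono (by omega)) _) (seq M).2
    simpa using sub_mem h3 (Submodule.mem_sup_right (hL' M))
  have hdiff : (seq 0).1 - L ∈ m ^ N • (⊤ : Submodule R C) := by
    have h1 := hs 0 N (Nat.zero_le _)
    have h2 := sub_mem (hL' N) (hmono (by omega : N ≤ N + 0) h1)
    simpa using h2
  exact Submodule.mem_sup.2 ⟨L, hLmem, x - L, hdiff, by abel⟩

/-- Over a complete Noetherian local ring, a property of submodules which holds for the intersection of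
every decreasing sequence on which it holds has a minimal element. -/
theorem exists_minimal [IsLocalRing R] [IsAdicComplete (maximalIdeal R) R] (P : Submodule R C → Prop) (htop : P ⊤)
    (hchain : ∀ K : ℕ → Submodule R C, (∀ {p q}, p ≤ q → K q ≤ K p) → (∀ p, P (K p)) →
      (∀ n, ∃ q, K q ≤ (⨅ p, K p) ⊔ maximalIdeal R ^ n • ⊤) → P (⨅ p, K p)) :
    ∃ D, P D ∧ ∀ D', D' ≤ D → P D' → D' = D := by
  let m := maximalIdeal R
  haveI : IsAdicComplete m C := Adic7.isAdicComplete_of_finite m C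
  haveI : ∀ n : ℕ, IsArtinian R (C ⧸ (m ^ n • ⊤ : Submodule R C)) := fun n => by
    haveI := ArtFunLib.Hull.isArtinianRing_quotient_pow m n
    haveI : Module.Finite (R ⧸ m ^ n) (C ⧸ (m ^ n • ⊤ : Submodule R C)) := Module.Finite.of_restrictScalars_finite R _ _
    exact isArtinian_of_surjective_algebraMap (R := R ⧸ m ^ n) Ideal.Quotient.mk_surjective
  have hclosed : ∀ D : Submodule R C, ∀ x, (∀ n, x ∈ D ⊔ m ^ n • ⊤) → x ∈ D := by
    intro D x hx
    rw [← Submodule.Quotient.mk_eq_zero, ← Submodule.mem_bot R,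
      ← Ideal.iInf_pow_smul_eq_bot_of_isLocalRing m (maximalIdeal.isMaximal R).ne_top, Submodule.mem_iInf]
    intro n
    obtain ⟨a, ha, b, hb, rfl⟩ := Submodule.mem_sup.1 (hx n)
    rw [Submodule.Quotient.mk_add, (Submodule.Quotient.mk_eq_zero _).2 ha, zero_add]
    have h1 := Submodule.mem_map_of_mem (f := D.mkQ) hb
    rw [Submodule.map_smul'', Submodule.map_top, Submodule.range_mkQ] at h1
    exact h1
  -- successive minimisation modulo powers of the maximal ideal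
  have step : ∀ (n : ℕ) (D : {D : Submodule R C // P D}), ∃ D' : {D : Submodule R C // P D}, D'.1 ≤ D.1 ∧
      ∀ D'', D'' ≤ D'.1 → P D'' → D'.1 ≤ D'' ⊔ m ^ n • ⊤ := by
    intro n D
    let S : Set (Submodule R (C ⧸ (m ^ n • ⊤ : Submodule R C))) :=
      (Submodule.map (m ^ n • ⊤ : Submodule R C).mkQ) '' {D' | D' ≤ D.1 ∧ P D'}
    obtain ⟨_, ⟨D', hD', rfl⟩, hmin⟩ := wellFounded_lt.has_min S ⟨_, ⟨D.1, ⟨le_rfl, D.2⟩, rfl⟩⟩
    refine ⟨⟨D', hD'.2⟩, hD'.1, fun D'' hle hP => ?_⟩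
    have h := eq_of_le_of_not_lt (Submodule.map_mono hle) (hmin _ ⟨D'', ⟨hle.trans hD'.1, hP⟩, rfl⟩)
    have := Submodule.le_comap_map (m ^ n • ⊤ : Submodule R C).mkQ D'
    rwa [← h, Submodule.comap_map_mkQ, sup_comm] at this
  choose g hg hg' using step
  let seq : ℕ → {D : Submodule R C // P D} := fun n => Nat.rec ⟨⊤, htop⟩ (fun n D => g n D) n
  have hanti : ∀ {p q}, p ≤ q → (seq q).1 ≤ (seq p).1 := by
    intro p q h
    induction q, h using Nat.le_induction with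
    | base => rfl
    | succ q _ ih => exact (hg q (seq q)).trans ih
  refine ⟨⨅ p, (seq p).1, hchain _ hanti (fun p => (seq p).2) fun n => chevalley m _ hanti hclosed n, ?_⟩
  intro D' hle hP
  refine le_antisymm hle fun x hx => hclosed D' x fun n => ?_
  exact hg' n (seq n) D' (hle.trans (iInf_le _ (n + 1))) hP (Submodule.mem_iInf _ |>.1 hx (n + 1))

end Groth.Agent.RGLib

end
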