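import Groth.Agent.RGLib.Content
import Groth.Agent.LocalCrit.Flatness

/-! Universal injectivity over a complete Noetherian local base: the content argument. -/

universe u

noncomputable section

open TensorProduct IsLocalRing

namespace Groth.Agent.RGLib

section Torsion

variable {A : Type u} [CommRing A] [IsLocalRing A] {N M : Type u} [AddCommGroup N] [Module A N]
  [AddCommGroup M] [Module A M]

theorem lTensor_injective_of_torsion (u : N →ₗ[A] M) (hu : Function.Injective (u.lTensor (A ⧸ maximalIdeal A)))
    (W : Type u) [AddCommGroup W] [Module A W] (hW : Module.IsTorsionBySet A W (maximalIdeal A)) :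
    Function.Injective (u.lTensor W) := by
  letI := hW.module
  haveI : IsScalarTower A (A ⧸ maximalIdeal A) W := hW.isScalarTower
  letI : Field (A ⧸ maximalIdeal A) := Ideal.Quotient.field _
  let κ := A ⧸ maximalIdeal A
  let f : κ ⊗[A] N →ₗ[κ] κ ⊗[A] M := u.baseChange κ
  have hf : Function.Injective f := hu
  have h1 : Function.Injective (f.lTensor W) := Module.Flat.lTensor_preserves_injective_linearMap f hf
  let eN : W ⊗[κ] (κ ⊗[A] N) ≃ₗ[κ] W ⊗[A] N := AlgebraTensorModule.cancelBaseChange A κ κ W N
  let eM : W ⊗[κ] (κ ⊗[A] M) ≃ₗ[κ] W ⊗[A] M := AlgebraTensorModule.cancelBaseChange A κ κ W M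
  have h2 : ∀ z, u.lTensor W (eN z) = eM (f.lTensor W z) := by
    intro z
    induction z using TensorProduct.induction_on with
    | zero => simp
    | tmul w y =>
      induction y using TensorProduct.induction_on with
      | zero => simp
      | tmul c n => simp [eN, eM, f]
      | add y z hy hz => simp only [tmul_add, map_add, hy, hz]
    | add y z hy hz => simp only [map_add, hy, hz]
  intro a b hab
  obtain ⟨a, rfl⟩ := eN.surjective a
  obtain ⟨b, rfl⟩ := eN.surjective b
  rw [h2, h2] at hab
  exact congrArg eN (h1 (eM.injective hab))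

end Torsion

theorem exists_of_mkQ_rTensor_eq_zero {R : Type u} [CommRing R] {D Y : Type u} [AddCommGroup D] [Module R D]
    [AddCommGroup Y] [Module R Y] (D₁ : Submodule R D) (d : D ⊗[R] Y) (h : D₁.mkQ.rTensor Y d = 0) :
    ∃ d', D₁.subtype.rTensor Y d' = d :=
  (rTensor_exact Y (LinearMap.exact_subtype_mkQ D₁) D₁.mkQ_surjective d).1 h

variable {R : Type u} [CommRing R] [IsNoetherianRing R] [IsLocalRing R] [IsAdicComplete (maximalIdeal R) R]
  (S : Type u) [CommRing S] [IsNoetherianRing S] [IsLocalRing S] [Algebra R S] [IsLocalHom (algebraMap R S)]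
  {Y : Type u} [AddCommGroup Y] [Module R Y] [Module S Y] [IsScalarTower R S Y] [Module.Finite S Y]
  {A : Type u} [CommRing A] [IsLocalRing A] [Algebra R A] [IsLocalHom (algebraMap R A)]

include S in
/-- The minimal submodule supporting an element of a tensor product. -/
theorem exists_minimal_support {C : Type u} [AddCommGroup C] [Module R C] [Module.Finite R C] (z : C ⊗[R] Y) :
    ∃ D : Submodule R C, z ∈ LinearMap.range (D.subtype.rTensor Y) ∧
      ∀ D', D' ≤ D → z ∈ LinearMap.range (D'.subtype.rTensor Y) → D' = D := by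
  refine exists_minimal (fun D => z ∈ LinearMap.range (D.subtype.rTensor Y)) ?_ fun K hanti hK hq => ?_
  · exact LinearMap.rTensor_surjective Y (fun c => ⟨⟨c, trivial⟩, rfl⟩) z
  · let D := ⨅ p, K p
    have hex := rTensor_exact Y (LinearMap.exact_subtype_mkQ D) D.mkQ_surjective
    refine (hex z).1 ?_
    let τ := TensorProduct.comm R (C ⧸ D) Y
    apply τ.injective
    rw [map_zero]
    haveI : Module.Finite S (Y ⊗[R] (C ⧸ D)) := LocalCrit.finite_tensor (A := R) (C := S) Y _
    refine LocalCrit.eq_zero_of_forall_mem_smul ((maximalIdeal R).map (algebraMap R S))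
      ((IsLocalRing.map_maximalIdeal_le (algebraMap R S)).trans (maximalIdeal_le_jacobson _)) fun n => ?_
    obtain ⟨q, hq⟩ := hq n
    obtain ⟨d, rfl⟩ := hK q
    clear hK
    induction d using TensorProduct.induction_on with
    | zero => simp
    | add x y hx hy => simp only [map_add]; exact add_mem hx hy
    | tmul c y =>
      obtain ⟨a, ha, b, hb, hab⟩ := Submodule.mem_sup.1 (hq c.2)
      show y ⊗ₜ[R] D.mkQ c.1 ∈ _
      rw [← hab, map_add, Submodule.mkQ_apply, (Submodule.Quotient.mk_eq_zero D).2 ha, zero_add]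
      clear hab
      induction hb using Submodule.smul_induction_on' with
      | smul r hr w _ =>
        rw [map_smul, tmul_smul]
        exact LocalCrit.smul_mem_smul_top_of_mem (maximalIdeal R) hr _
      | add p _ q _ hp hq' => rw [map_add, tmul_add]; exact add_mem hp hq'

variable {M : Type u} [AddCommGroup M] [Module A M] [Module.Flat A M]

include S in
/-- Universal injectivity over `A` of a map from `A ⊗ Y` to a flat module, injective modulo the maximal ideal. -/
theorem univInj_core (u : A ⊗[R] Y →ₗ[A] M) (hu : Function.Injective (u.lTensor (A ⧸ maximalIdeal A)))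
    (Q : Type u) [AddCommGroup Q] [Module A Q] : Function.Injective (u.lTensor Q) := by
  rw [injective_iff_map_eq_zero]
  intro x hx
  letI : Module R Q := Module.compHom Q (algebraMap R A)
  haveI : IsScalarTower R A Q := IsScalarTower.of_algebraMap_smul fun _ _ => rfl
  let e : Q ⊗[A] (A ⊗[R] Y) ≃ₗ[A] Q ⊗[R] Y := AlgebraTensorModule.cancelBaseChange R A A Q Y
  obtain ⟨z₀, rfl⟩ := e.symm.surjective x
  obtain ⟨C, hCfin, hC⟩ := TensorProduct.exists_finite_submodule_left_of_setFinite {z₀} (Set.finite_singleton _)
  obtain ⟨z, hz⟩ := hC rfl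
  obtain ⟨D, ⟨d, hd⟩, hmin⟩ := exists_minimal_support (S := S) z
  let ι : D →ₗ[R] Q := C.subtype.comp D.subtype
  let Dt : Submodule A Q := Submodule.span A (Set.range ι)
  haveI : Module.Finite A Dt := by
    obtain ⟨s, hs⟩ := Module.Finite.fg_top (R := R) (M := D)
    classical
    refine ⟨(Submodule.fg_top _).2 ⟨s.image ι, le_antisymm
      (Submodule.span_mono (by simp)) (Submodule.span_le.2 ?_)⟩⟩
    rintro _ ⟨v, rfl⟩
    have hv : v ∈ Submodule.span R (s : Set D) := hs ▸ trivial
    have := Submodule.mem_map_of_mem (f := ι) hv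
    rw [← Submodule.span_image, ← Finset.coe_image] at this
    exact Submodule.span_le_restrictScalars R A _ this
  let fD : D →ₗ[R] Dt :=
    { toFun := fun v => ⟨ι v, Submodule.subset_span ⟨v, rfl⟩⟩
      map_add' := fun a b => Subtype.ext (map_add ι a b)
      map_smul' := fun r a => Subtype.ext (map_smul ι r a) }
  let m := maximalIdeal A
  let W := Dt ⧸ (m • ⊤ : Submodule A Dt)
  let π : Dt →ₗ[A] W := (m • ⊤ : Submodule A Dt).mkQ
  let g : D →ₗ[R] W := (π.restrictScalars R).comp fD
  have hW : Module.IsTorsionBySet A W m := by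
    rw [Module.isTorsionBySet_quotient_iff]
    exact fun v a ha => Submodule.smul_mem_smul ha trivial
  -- the image of `d` in `W ⊗ M` vanishes
  have hΘ : ∀ {P P' : Type u} [AddCommGroup P] [Module A P] [Module R P] [IsScalarTower R A P]
      [AddCommGroup P'] [Module A P'] [Module R P'] [IsScalarTower R A P'] (f : P →ₗ[A] P') (t : P ⊗[R] Y),
      (f.rTensor M) (u.lTensor P ((AlgebraTensorModule.cancelBaseChange R A A P Y).symm t)) =
        u.lTensor P' ((AlgebraTensorModule.cancelBaseChange R A A P' Y).symm ((f.restrictScalars R).rTensor Y t)) := by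
    intro P P' _ _ _ _ _ _ _ _ f t
    induction t using TensorProduct.induction_on with
    | zero => simp
    | tmul p y => simp
    | add a b ha hb => simp only [map_add, ha, hb]
  have h0 : u.lTensor Dt ((AlgebraTensorModule.cancelBaseChange R A A Dt Y).symm (fD.rTensor Y d)) = 0 := by
    apply Module.Flat.rTensor_preserves_injective_linearMap (M := M) Dt.subtype Dt.injective_subtype
    rw [map_zero, hΘ]
    rw [← hz, ← hd] at hx
    have : ((Dt.subtype).restrictScalars R).rTensor Y (fD.rTensor Y d) = C.subtype.rTensor Y (D.subtype.rTensor Y d) := by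
      rw [← LinearMap.rTensor_comp_apply, ← LinearMap.rTensor_comp_apply]
      rfl
    rw [this]
    exact hx
  have h1 : g.rTensor Y d = 0 := by
    have := congrArg (π.rTensor M) h0
    rw [map_zero, hΘ, ← LinearMap.rTensor_comp_apply] at this
    exact (AlgebraTensorModule.cancelBaseChange R A A W Y).symm.injective
      (((lTensor_injective_of_torsion u hu W hW) (this.trans (map_zero _).symm)).trans (map_zero _).symm)
  -- hence `d` comes from the kernel of `g`
  let D₁ := LinearMap.ker g
  have h2 : D₁.mkQ.rTensor Y d = 0 := by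
    have htW : Module.IsTorsionBySet R W (maximalIdeal R) := fun w a => by
      rw [← algebraMap_smul A (a : R) w]
      exact @hW w ⟨_, map_nonunit (algebraMap R A) a.1 a.2⟩
    have htQ : Module.IsTorsionBySet R (D ⧸ D₁) (maximalIdeal R) := fun w a =>
      (LinearMap.ker_eq_bot.1 (Submodule.ker_liftQ_eq_bot _ g le_rfl le_rfl)) (by
        rw [map_smul, map_zero]; exact @htW _ a)
    apply LocalCrit.keepsInjective_of_isMaximal (maximalIdeal R) Y (D₁.liftQ g le_rfl) htQ htW
      (LinearMap.ker_eq_bot.1 (Submodule.ker_liftQ_eq_bot _ g le_rfl le_rfl))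
    rw [map_zero, ← LinearMap.rTensor_comp_apply, Submodule.liftQ_mkQ]
    exact h1
  obtain ⟨d', hd'⟩ := exists_of_mkQ_rTensor_eq_zero D₁ d h2
  have hD₁ : D₁.map D.subtype = D := by
    refine hmin _ (Submodule.map_subtype_le _ _) ?_
    refine ⟨(((D.subtype.comp D₁.subtype).codRestrict (D₁.map D.subtype) fun v => ⟨v.1, v.2, rfl⟩)).rTensor Y d', ?_⟩
    rw [← LinearMap.rTensor_comp_apply, ← hd, ← hd', ← LinearMap.rTensor_comp_apply]
    rfl
  have hbot : Dt = ⊥ := by
    have hle : ∀ v : D, g v = 0 := fun v => by
      have hv : v.1 ∈ D₁.map D.subtype := hD₁.symm ▸ v.2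
      obtain ⟨w, hw, hwv⟩ := hv
      rwa [← Subtype.ext hwv]
    have htop : (⊤ : Submodule A Dt) ≤ m • ⊤ := by
      rintro ⟨t, ht⟩ -
      induction ht using Submodule.span_induction with
      | mem t ht => obtain ⟨v, rfl⟩ := ht; exact (Submodule.Quotient.mk_eq_zero _).1 (hle v)
      | zero => exact zero_mem _
      | add a b ha hb iha ihb => exact add_mem iha ihb
      | smul c a ha iha => exact Submodule.smul_mem _ c iha
    have := Submodule.eq_bot_of_le_smul_of_le_jacobson_bot m ⊤ Module.Finite.fg_top htop (maximalIdeal_le_jacobson _)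
    rw [← Submodule.map_subtype_top Dt, this, Submodule.map_bot]
  have hι : ι = 0 := LinearMap.ext fun v => (Submodule.mem_bot A).1 (hbot ▸ Submodule.subset_span ⟨v, rfl⟩)
  rw [← hz, ← hd, ← LinearMap.rTensor_comp_apply, show C.subtype.comp D.subtype = 0 from hι,
    LinearMap.rTensor_zero, LinearMap.zero_apply, map_zero]

end Groth.Agent.RGLib

end
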