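import Groth.Agent.RGLib.Nhd

/-!
# Finite presentation of flat modules from a scheme-theoretically dense open of the base
-/

universe u

noncomputable section

open TensorProduct IsLocalRing

set_option linter.style.haveILetI false

namespace Groth.Agent.RGLib

/-- Finitely many relations generate all relations after a localisation at which the module is
finitely presented. -/
theorem exists_relations_localized {P N : Type u} [CommRing P] [AddCommGroup N] [Module P N] {a : ℕ}
    (π : (Fin a → P) →ₗ[P] N) (hπ : Function.Surjective π) (T : Submonoid P)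
    [Module.FinitePresentation (Localization T) (LocalizedModule T N)] :
    ∃ J : Submodule P (Fin a → P), J.FG ∧ J ≤ LinearMap.ker π ∧ ∀ w, π w = 0 → ∃ d ∈ T, d • w ∈ J := by
  classical
  let Lπ := LocalizedModule.map T π
  have hLπ : Function.Surjective Lπ := IsLocalizedModule.map_surjective _ _ _ _ hπ
  obtain ⟨m, z, hz⟩ := Submodule.fg_iff_exists_fin_generating_family.1 (Module.FinitePresentation.fg_ker Lπ hLπ)
  choose v hv using fun i => IsLocalizedModule.mk'_surjective T (LocalizedModule.mkLinearMap T (Fin a → P)) (z i)
  have hc : ∀ i, ∃ c : T, π ((c : P) • (v i).1) = 0 := fun i => by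
    have h1 : Lπ (z i) = 0 := (hz ▸ Submodule.subset_span ⟨i, rfl⟩ : z i ∈ LinearMap.ker Lπ)
    rw [← hv i, Function.uncurry] at h1
    change IsLocalizedModule.map T (LocalizedModule.mkLinearMap T (Fin a → P))
      (LocalizedModule.mkLinearMap T N) π _ = 0 at h1
    rw [IsLocalizedModule.map_mk', IsLocalizedModule.mk'_eq_zero'] at h1
    obtain ⟨c, hc⟩ := h1
    exact ⟨c, by rw [map_smul]; exact hc⟩
  choose c hc using hc
  let J : Submodule P (Fin a → P) := Submodule.span P (Set.range fun i => (c i : P) • (v i).1)
  refine ⟨J, Submodule.fg_span (Set.finite_range _), Submodule.span_le.2 (by rintro _ ⟨i, rfl⟩; exact hc i),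
    fun w hw => ?_⟩
  let LJ := LocalizedModule.map T J.mkQ
  have h1 : LocalizedModule.mkLinearMap T (Fin a → P) w ∈ LinearMap.ker LJ := by
    have h2 : LocalizedModule.mkLinearMap T (Fin a → P) w ∈ LinearMap.ker Lπ := by
      rw [LinearMap.mem_ker]
      show IsLocalizedModule.map T _ (LocalizedModule.mkLinearMap T N) π _ = 0
      rw [IsLocalizedModule.map_apply, hw, map_zero]
    rw [← hz] at h2
    refine Submodule.span_le.2 ?_ h2
    rintro _ ⟨i, rfl⟩
    show IsLocalizedModule.map T (LocalizedModule.mkLinearMap T (Fin a → P))
      (LocalizedModule.mkLinearMap T ((Fin a → P) ⧸ J)) J.mkQ (z i) = 0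
    rw [← hv i, Function.uncurry, IsLocalizedModule.map_mk', IsLocalizedModule.mk'_eq_zero']
    refine ⟨c i, ?_⟩
    rw [Submonoid.smul_def, ← map_smul]
    exact (Submodule.Quotient.mk_eq_zero J).2 (Submodule.subset_span ⟨i, rfl⟩)
  rw [LinearMap.mem_ker] at h1
  change IsLocalizedModule.map T _ (LocalizedModule.mkLinearMap T _) J.mkQ _ = 0 at h1
  rw [IsLocalizedModule.map_apply, IsLocalizedModule.eq_zero_iff T] at h1
  obtain ⟨d, hd⟩ := h1
  refine ⟨d, d.2, (Submodule.Quotient.mk_eq_zero J).1 ?_⟩
  exact hd

/-- A flat finite module, finitely presented over a schematically dense finite union of basic opens of the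
base, is finitely presented. -/
theorem finitePresentation_of_flat_of_dense {A P : Type u} [CommRing A] [CommRing P] [Algebra A P]
    [Algebra.FinitePresentation A P] (N : Type u) [AddCommGroup N] [Module P N] [Module A N] [IsScalarTower A P N]
    [Module.Finite P N] [Module.Flat A N] {ι : Type u} [Fintype ι] (f : ι → A)
    (hdense : ∀ x : A, (∀ i, ∃ k : ℕ, f i ^ k * x = 0) → x = 0)
    (hfp : ∀ i, Module.FinitePresentation (Localization.Away (algebraMap A P (f i)))
      (LocalizedModule (Submonoid.powers (algebraMap A P (f i))) N)) :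
    Module.FinitePresentation P N := by
  classical
  obtain ⟨a, π, hπ⟩ := Module.Finite.exists_fin' P N
  choose Ji hJi hJile hJik using fun i => haveI := hfp i; exists_relations_localized π hπ (Submonoid.powers (algebraMap A P (f i)))
  have hloc : ∀ q : PrimeSpectrum P, ∃ g ∉ q.asIdeal,
      Module.FinitePresentation (Localization.Away g) (LocalizedModule (Submonoid.powers g) N) := by
    intro q
    haveI : Module.Flat A (LocalizedModule q.asIdeal.primeCompl N) := by
      haveI : Module.Flat P (Localization.AtPrime q.asIdeal) := IsLocalization.flat _ q.asIdeal.primeCompl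
      haveI : Module.Flat A (Localization.AtPrime q.asIdeal ⊗[P] N) :=
        flat_tensor_left A P N (Localization.AtPrime q.asIdeal)
      exact Module.Flat.of_linearEquiv ((LocalizedModule.equivTensorProduct q.asIdeal.primeCompl N).restrictScalars A)
    haveI : Algebra.FiniteType A P := inferInstance
    haveI := finitePresentation_localization_of_flatAt (R := A) N q.asIdeal
    obtain ⟨Jq, hJq, hJqle, hJqk⟩ := exists_relations_localized π hπ q.asIdeal.primeCompl
    let J := Jq ⊔ ⨆ i, Ji i
    have hJfg : J.FG := hJq.sup (Submodule.fg_iSup _ hJi)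
    have hJle : J ≤ LinearMap.ker π := sup_le hJqle (iSup_le hJile)
    let N'' := (Fin a → P) ⧸ J
    let b : N'' →ₗ[P] N := J.liftQ π hJle
    have hb : Function.Surjective b := fun y => by
      obtain ⟨w, rfl⟩ := hπ y
      exact ⟨J.mkQ w, rfl⟩
    haveI : Module.FinitePresentation P N'' :=
      Module.finitePresentation_of_surjective J.mkQ J.mkQ_surjective (by rwa [Submodule.ker_mkQ])
    have hk : ∀ (T : Submonoid P), (∀ w, π w = 0 → ∃ d ∈ T, d • w ∈ J) → ∀ x, b x = 0 → ∃ d ∈ T, d • x = 0 := by
      intro T hT x hx
      obtain ⟨w, rfl⟩ := J.mkQ_surjective x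
      obtain ⟨d, hd, hdw⟩ := hT w hx
      exact ⟨d, hd, (Submodule.Quotient.mk_eq_zero J).2 hdw⟩
    have hbq := hk q.asIdeal.primeCompl fun w hw => by
      obtain ⟨d, hd, h⟩ := hJqk w hw
      exact ⟨d, hd, Submodule.mem_sup_left h⟩
    have hbf : ∀ i, ∀ x, b x = 0 → ∃ d ∈ Submonoid.powers (algebraMap A P (f i)), d • x = 0 := fun i =>
      hk _ fun w hw => by
        obtain ⟨d, hd, h⟩ := hJik i w hw
        exact ⟨d, hd, Submodule.mem_sup_right (le_iSup Ji i h)⟩
    haveI : Module.Flat A (LocalizedModule q.asIdeal.primeCompl N'') :=
      Module.Flat.of_linearEquiv ((LinearEquiv.ofBijective _ (bijective_map_of_kills _ hb hbq)).restrictScalars A)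
    obtain ⟨g, hg, hflat⟩ := FlatModel.exists_flat_nhd (R := A) N'' q.asIdeal inferInstance
    haveI := hflat (Submonoid.powers g) (Submonoid.mem_powers g)
    have hkg : ∀ x, b x = 0 → ∃ d ∈ Submonoid.powers g, d • x = 0 := by
      intro x hx
      choose d hd hdx using fun i => hbf i x hx
      choose k hk' using hd
      have h0 : LocalizedModule.mkLinearMap (Submonoid.powers g) N'' x = 0 := by
        refine eq_zero_of_separated (A := A) (fun i => f i ^ k i) (IsUnit.submonoid A)
          (fun y hy => ⟨1, one_mem _, by rw [one_mul]; exact hdense y fun i => ⟨k i, hy i⟩⟩)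
          (fun c hc z hz => (hc : IsUnit c).smul_eq_zero.1 hz) _ fun i => ?_
        rw [← algebraMap_smul P (f i ^ k i), ← map_smul, map_pow,
          show algebraMap A P (f i) ^ k i • x = 0 from (congrArg (· • x) (hk' i)).trans (hdx i), map_zero]
      obtain ⟨c, hc⟩ := (IsLocalizedModule.eq_zero_iff (Submonoid.powers g) _).1 h0
      exact ⟨c, c.2, hc⟩
    refine ⟨g, hg, ?_⟩
    exact Module.FinitePresentation.of_equiv ((LinearEquiv.ofBijective _ (bijective_map_of_kills _ hb hkg)).extendScalarsOfIsLocalization
      (Submonoid.powers g) (Localization.Away g))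
  choose g hg hgfp using hloc
  have hspan : Ideal.span (Set.range g) = ⊤ := by
    by_contra hne
    obtain ⟨M, hM, hle⟩ := Ideal.exists_le_maximal _ hne
    exact hg ⟨M, hM.isPrime⟩ (hle (Ideal.subset_span ⟨_, rfl⟩))
  refine Module.FinitePresentation.of_localizationSpan (Set.range g) hspan fun r => ?_
  obtain ⟨q, hq⟩ := r.2
  rw [← hq]
  exact hgfp q

/-- A flat finite type algebra, finitely presented over a schematically dense finite union of basic opens of
the base, is finitely presented. -/
theorem algebra_finitePresentation_of_flat_of_dense {A B : Type u} [CommRing A] [CommRing B] [Algebra A B]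
    [Algebra.FiniteType A B] [Module.Flat A B] {ι : Type u} [Fintype ι] (f : ι → A)
    (hdense : ∀ x : A, (∀ i, ∃ k : ℕ, f i ^ k * x = 0) → x = 0)
    (hfp : ∀ i, Algebra.FinitePresentation A (Localization.Away (algebraMap A B (f i)))) :
    Algebra.FinitePresentation A B := by
  classical
  obtain ⟨n, π, hπ⟩ := Algebra.FiniteType.iff_quotient_mvPolynomial''.mp ‹Algebra.FiniteType A B›
  let P := MvPolynomial (Fin n) A
  letI : Algebra P B := π.toRingHom.toAlgebra
  haveI : IsScalarTower A P B := IsScalarTower.of_algebraMap_eq fun r => (π.commutes r).symm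
  haveI : Module.Finite P B := Module.Finite.of_surjective (Algebra.linearMap P B) hπ
  haveI : Module.FinitePresentation P B := by
    refine finitePresentation_of_flat_of_dense (A := A) B f hdense fun i => ?_
    let g := algebraMap A P (f i)
    let Pg := Localization.Away g
    let Bg := Localization.Away (algebraMap P B g)
    haveI : Algebra.FinitePresentation A Bg := by
      have h := hfp i
      rw [IsScalarTower.algebraMap_apply A P B] at h
      exact h
    let φ : Pg →+* Bg := Localization.awayMap (algebraMap P B) g
    have hφ : ∀ x, φ (algebraMap P Pg x) = algebraMap B Bg (algebraMap P B x) := fun x => IsLocalization.map_eq _ x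
    letI : Algebra Pg Bg := φ.toAlgebra
    haveI : IsScalarTower P Pg Bg := IsScalarTower.of_algebraMap_eq fun x => by
      show _ = φ _
      rw [hφ]
      exact IsScalarTower.algebraMap_apply P B Bg x
    have hφs : Function.Surjective φ := fun y => by
      obtain ⟨⟨s, t⟩, rfl⟩ := IsLocalization.mk'_surjective (Submonoid.powers (algebraMap P B g)) y
      obtain ⟨s', rfl⟩ := hπ s
      obtain ⟨_, k, rfl⟩ := t
      refine ⟨IsLocalization.mk' Pg s' (⟨g ^ k, k, rfl⟩ : Submonoid.powers g),
        (IsLocalization.map_units Bg (⟨_, k, rfl⟩ : Submonoid.powers (algebraMap P B g))).mul_left_injective ?_⟩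
      show φ _ * algebraMap B Bg ((algebraMap P B g) ^ k) = _
      rw [← map_pow (algebraMap P B), ← hφ, ← map_mul, IsLocalization.mk'_spec, hφ]
      refine (IsLocalization.mk'_spec Bg (algebraMap P B s') (⟨_, k, rfl⟩ : Submonoid.powers (algebraMap P B g))).symm.trans ?_
      simp only [map_pow]
      rfl
    haveI : Algebra.FinitePresentation P Pg := IsLocalization.Away.finitePresentation g
    haveI : Algebra.FinitePresentation A Pg := Algebra.FinitePresentation.trans A P Pg
    let φA : Pg →ₐ[A] Bg :=
      { toRingHom := φ
        commutes' := fun r => by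
          show φ (algebraMap A Pg r) = algebraMap A Bg r
          rw [IsScalarTower.algebraMap_apply A P Pg, hφ]
          exact (congrArg (algebraMap B Bg) (IsScalarTower.algebraMap_apply A P B r).symm).trans
            (IsScalarTower.algebraMap_apply A B Bg r).symm }
    haveI : Module.FinitePresentation Pg Bg :=
      Module.finitePresentation_of_surjective (Algebra.linearMap Pg Bg) hφs (by
        rw [show LinearMap.ker (Algebra.linearMap Pg Bg) = RingHom.ker φA.toRingHom from Submodule.ext fun x => Iff.rfl]
        exact Algebra.FinitePresentation.ker_fG_of_surjective φA hφs)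
    haveI : IsLocalizedModule (Submonoid.powers g) ((Algebra.linearMap B Bg).restrictScalars P) := by
      haveI : IsLocalizedModule (Algebra.algebraMapSubmonoid B (Submonoid.powers g)) (Algebra.linearMap B Bg) := by
        rw [Algebra.algebraMapSubmonoid_powers]
        exact (isLocalizedModule_iff_isLocalization' _ _).2 inferInstance
      exact IsLocalizedModule.restrictScalars _ _
    exact Module.FinitePresentation.of_equiv
      ((IsLocalizedModule.iso (Submonoid.powers g) ((Algebra.linearMap B Bg).restrictScalars P)).extendScalarsOfIsLocalization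
        (Submonoid.powers g) Pg).symm
  have hk : (RingHom.ker π.toRingHom).FG := by
    have := Module.FinitePresentation.fg_ker (Algebra.linearMap P B) hπ
    rwa [show LinearMap.ker (Algebra.linearMap P B) = RingHom.ker π.toRingHom from Submodule.ext fun x => Iff.rfl] at this
  exact Algebra.FinitePresentation.of_surjective hπ hk

end Groth.Agent.RGLib

end
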