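import Groth.Agent.RGLib.DescRefineMain
import Groth.Agent.FppfRefine.Scheme

/-!
# Effective descent of etale sheaves of sets along fppf coverings
-/

set_option autoImplicit false

universe u

open CategoryTheory CategoryTheory.Limits AlgebraicGeometry Opposite TopologicalSpace
open Groth.Agent.BigSiteLib.DescSec Groth.Agent.EtPBC0

namespace Groth.Agent.RGLib.DescRefine

set_option backward.isDefEq.respectTransparency false
set_option backward.isDefEq.respectTransparency.types false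

section effective

variable {X' X : Scheme.{u}} (f : X' ⟶ X) {F' : EtDesc.Sh X'}
  (φ : (EtDesc.pullSh (pullback.fst f f)).obj F' ≅ (EtDesc.pullSh (pullback.snd f f)).obj F')

local notation "pb" => IsPullback.of_hasPullback f f
local notation "Gl" => glueSh f (pullback.fst f f) (pullback.snd f f) (pullback.fst f f ≫ f) rfl pullback.condition.symm φ.hom
local notation "ψψ" => gluePsi f (pullback.fst f f) (pullback.snd f f) (pullback.fst f f ≫ f) rfl pullback.condition.symm φ.hom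

theorem Phi_tr {Ω : Type u} [Field Ω] [IsSepClosed Ω] {ξ₁ ξ₁' ξ₂ ξ₂' : Spec (CommRingCat.of Ω) ⟶ X'} (e₁ : ξ₁ = ξ₁')
    (e₂ : ξ₂ = ξ₂') (h : ξ₁ ≫ f = ξ₂ ≫ f) (h' : ξ₁' ≫ f = ξ₂' ≫ f) (c : St F' ξ₁) :
    Phi φ.hom pb ξ₁' ξ₂' h' (tr F' e₁ c) = tr F' e₂ (Phi φ.hom pb ξ₁ ξ₂ h c) := by
  subst e₁ e₂
  rfl

/-- A section on a cover of a neighbourhood extending a stalk element. -/
def LocData {Ω : Type u} [Field Ω] [IsSepClosed Ω] (ξ₀ : Spec (CommRingCat.of Ω) ⟶ X') (c₀ : St F' ξ₀) : Prop :=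
  ∃ (V : X.Etale) (v : (Scheme.pointSmallEtale (ξ₀ ≫ f)).fiber.obj V) (W : Scheme.{u}) (q : W ⟶ V.left) (r : W ⟶ X')
    (_ : r ≫ f = q ≫ V.hom) (s : ((EtDesc.pullSh r).obj F').obj.obj (op (EtCoh.top W))),
    Surjective q ∧ UniversallyOpen q ∧
    (∀ (Ω' : Type u) [Field Ω'] [IsSepClosed Ω'] (ω₁ ω₂ : Spec (CommRingCat.of Ω') ⟶ W) (_ : ω₁ ≫ q = ω₂ ≫ q)
      (h : (ω₁ ≫ r) ≫ f = (ω₂ ≫ r) ≫ f),
      Phi φ.hom pb (ω₁ ≫ r) (ω₂ ≫ r) h (gv r s ω₁) = gv r s ω₂) ∧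
    ∃ (ω₀ : Spec (CommRingCat.of Ω) ⟶ W) (_ : ω₀ ≫ q = (v.left : Spec (CommRingCat.of Ω) ⟶ V.left))
      (h : ξ₀ ≫ f = (ω₀ ≫ r) ≫ f), Phi φ.hom pb ξ₀ (ω₀ ≫ r) h c₀ = gv r s ω₀

variable (hφ : EtDesc.IsCocycle F' φ) {Ω : Type u} [Field Ω] [IsAlgClosed Ω] (ξ₀ : Spec (CommRingCat.of Ω) ⟶ X')

include hφ in
theorem psi_stalk_surjective (H : ∀ c₀, LocData f φ ξ₀ c₀) :
    Function.Surjective ((Scheme.pointSmallEtale ξ₀).presheafFiber.map (ψψ).hom) := by
  intro c₀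
  obtain ⟨V, v, W, q, r, w, s, hq, hqo, hs, ω₀, hω₀, h₀, hc⟩ := H c₀
  obtain ⟨t, ht⟩ := exists_good f φ q r s w hφ hs
  let x : ToType ((Gl).obj.obj (op V)) := ⟨t, good_compat f φ q r s w hφ ht⟩
  refine ⟨germ ((EtDesc.pullSh f).obj Gl) ξ₀ ((EtCoh.bc f).obj V) (EtFound.liftPt f (η := ξ₀ ≫ f) rfl v) (up f Gl V x), ?_⟩
  rw [psi_germ]
  show germ F' ξ₀ _ (EtFound.liftPt f (η := ξ₀ ≫ f) rfl v) t = c₀
  rw [ht Ω ξ₀ _ ω₀ ((congrArg (_ ≫ ·) (Category.id_comp _)).trans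
      ((EtFound.liftPt_fst f (η := ξ₀ ≫ f) rfl v).trans hω₀.symm)) h₀.symm, ← hc,
    Phi_trans f φ hφ]
  exact Phi_self f φ hφ ξ₀ c₀

variable (hf : ∀ V : X.Etale, IsOpenMap (pr f V))

include hf in
theorem psi_stalk_injective :
    Function.Injective ((Scheme.pointSmallEtale ξ₀).presheafFiber.map (ψψ).hom) := by
  intro e₁ e₂ he
  let η := ξ₀ ≫ f
  obtain ⟨V₁, v₁, x₁, h₁, k₁⟩ := exists_up_germ f (η := η) rfl Gl e₁
  obtain ⟨V₂, v₂, x₂, h₂, k₂⟩ := exists_up_germ f (η := η) rfl Gl e₂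
  rw [h₁, h₂, psi_germ, psi_germ] at he
  refine (stI f ξ₀ Gl).injective ?_
  rw [tr_rfl] at k₁ k₂
  rw [k₁, k₂]
  obtain ⟨⟨V, v⟩, ⟨a₁, ha₁⟩, ⟨a₂, ha₂⟩, -⟩ := IsCofilteredOrEmpty.cone_objs
    ((Scheme.pointSmallEtale η).fiber.elementsMk V₁ v₁) ((Scheme.pointSmallEtale η).fiber.elementsMk V₂ v₂)
  obtain ⟨a₁', ha₁'⟩ : ∃ a : V ⟶ V₁, (Scheme.pointSmallEtale η).fiber.map a v = v₁ := ⟨a₁, ha₁⟩
  obtain ⟨a₂', ha₂'⟩ : ∃ a : V ⟶ V₂, (Scheme.pointSmallEtale η).fiber.map a v = v₂ := ⟨a₂, ha₂⟩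
  rw [← ha₁', ← ha₂', ← germ_map, ← germ_map]
  let y₁ := (Gl).obj.map a₁'.op x₁
  let y₂ := (Gl).obj.map a₂'.op x₂
  have hy : germ F' ξ₀ _ (EtFound.liftPt f (η := η) rfl v) y₁.1 =
      germ F' ξ₀ _ (EtFound.liftPt f (η := η) rfl v) y₂.1 := by
    show germ F' ξ₀ _ _ (F'.obj.map ((EtCoh.bc f).map a₁').op x₁.1) =
      germ F' ξ₀ _ _ (F'.obj.map ((EtCoh.bc f).map a₂').op x₂.1)
    rw [germ_map, germ_map, EtFound.liftPt_map, EtFound.liftPt_map, ha₁', ha₂']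
    exact he
  let L := {z : ↥(((EtCoh.bc f).obj V).left) | LocEq F'.obj y₁.1 y₂.1 z}
  have hsat : ∀ z₁ z₂ : ↥(((EtCoh.bc f).obj V).left), pr f V z₁ = pr f V z₂ → z₁ ∈ L → z₂ ∈ L := by
    intro z₁ z₂ hz hz₁
    obtain ⟨z, hzl, hzr⟩ := Scheme.Pullback.exists_preimage_pullback (f := pr f V) (g := pr f V) z₁ z₂ hz
    obtain ⟨Ω', _, _, τ, hτ⟩ := exists_geom_point z
    let l₁ := τ ≫ pullback.fst (pr f V) (pr f V)
    let l₂ := τ ≫ pullback.snd (pr f V) (pr f V)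
    let η' := (l₁ ≫ pr f V) ≫ V.hom
    let v' : (Scheme.pointSmallEtale η').fiber.obj V := CategoryTheory.Over.homMk (l₁ ≫ pr f V) rfl
    have e₂₁ : l₂ ≫ pr f V = l₁ ≫ pr f V := by simp only [l₁, l₂, Category.assoc, pullback.condition]
    have g₁ : (l₁ ≫ pullback.snd V.hom f) ≫ f = η' :=
      (Category.assoc _ _ _).trans ((congrArg (l₁ ≫ ·) pullback.condition.symm).trans (Category.assoc _ _ _).symm)
    have g₂ : (l₂ ≫ pullback.snd V.hom f) ≫ f = η' :=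
      (Category.assoc _ _ _).trans ((congrArg (l₂ ≫ ·) pullback.condition.symm).trans
        ((Category.assoc _ _ _).symm.trans (congrArg (· ≫ V.hom) e₂₁)))
    have hl₁ : ((EtFound.liftPt f g₁ v').left : Spec (CommRingCat.of Ω') ⟶ ((EtCoh.bc f).obj V).left).base
        (default : Spec (CommRingCat.of Ω')) = z₁ := by
      refine (congrArg (fun k : Spec (CommRingCat.of Ω') ⟶ pullback V.hom f => k.base (default : Spec (CommRingCat.of Ω')))
        (?_ : _ = l₁)).trans ((Scheme.Hom.comp_apply _ _ _).trans ((congrArg _ hτ).trans hzl))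
      exact pullback.hom_ext (EtFound.liftPt_fst f g₁ v') (pullback.lift_snd _ _ _)
    have hl₂ : ((EtFound.liftPt f g₂ v').left : Spec (CommRingCat.of Ω') ⟶ ((EtCoh.bc f).obj V).left).base
        (default : Spec (CommRingCat.of Ω')) = z₂ := by
      refine (congrArg (fun k : Spec (CommRingCat.of Ω') ⟶ pullback V.hom f => k.base (default : Spec (CommRingCat.of Ω')))
        (?_ : _ = l₂)).trans ((Scheme.Hom.comp_apply _ _ _).trans ((congrArg _ hτ).trans hzr))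
      exact pullback.hom_ext ((EtFound.liftPt_fst f g₂ v').trans e₂₁.symm) (pullback.lift_snd _ _ _)
    have key : ∀ y : ToType ((Gl).obj.obj (op V)),
        Phi φ.hom pb _ _ (g₁.trans g₂.symm) (germ F' _ _ (EtFound.liftPt f g₁ v') y.1) =
          germ F' _ _ (EtFound.liftPt f g₂ v') y.1 := fun y => by
      let hζ₁ := (pb).lift_fst _ _ (g₁.trans g₂.symm)
      let hζ₂ := (pb).lift_snd _ _ (g₁.trans g₂.symm)
      have hζ : (pb).lift _ _ (g₁.trans g₂.symm) ≫ pullback.fst f f ≫ f = η' := by rw [← Category.assoc, hζ₁, g₁]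
      refine (germ_sides_iff f (pullback.fst f f) (pullback.snd f f) _ rfl pullback.condition.symm φ.hom pb g₁ g₂ _ hζ₁ hζ₂ hζ v' y.1).1 ?_
      exact congrArg _ y.2
    refine locEq_of_germ _ (EtFound.liftPt f g₂ v') ?_ z₂ hl₂
    refine (key y₁).symm.trans (Eq.trans ?_ (key y₂))
    exact congrArg _ (germ_eq_of_locEq' F' hz₁ _ (EtFound.liftPt f g₁ v') hl₁)
  let N : V.left.Opens := ⟨pr f V '' L, hf V _ (isOpen_locEq _ _)⟩
  have hv : (v.left : Spec (CommRingCat.of Ω) ⟶ V.left).base (default : Spec (CommRingCat.of Ω)) ∈ N := by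
    refine ⟨((EtFound.liftPt f (η := η) rfl v).left : Spec (CommRingCat.of Ω) ⟶ ((EtCoh.bc f).obj V).left).base
      (default : Spec (CommRingCat.of Ω)), locEq_of_germ ξ₀ _ hy _ rfl, ?_⟩
    exact (Scheme.Hom.comp_apply _ _ _).symm.trans
      (congrArg (fun k : Spec (CommRingCat.of Ω) ⟶ V.left => k.base (default : Spec (CommRingCat.of Ω)))
        (EtFound.liftPt_fst f (η := η) rfl v))
  obtain ⟨v', hv', -⟩ := EtFound.exists_lift_point (EtFound.restrictEtaleHom V N) v ⟨_, hv⟩ rfl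
  have hx : (Gl).obj.map (EtFound.restrictEtaleHom V N).op y₁ = (Gl).obj.map (EtFound.restrictEtaleHom V N).op y₂ := by
    refine Subtype.ext (eq_of_locEq F' fun z => LocEq.map _ ?_)
    let p := ((EtCoh.bc f).map (EtFound.restrictEtaleHom V N)).left z
    obtain ⟨z₁, hz₁, hz⟩ : pr f V p ∈ N := by
      rw [pr_map f (EtFound.restrictEtaleHom V N) z]
      exact Subtype.coe_prop _
    exact hsat z₁ p hz hz₁
  show germ Gl η V v y₁ = germ Gl η V v y₂
  rw [← hv', ← germ_map, ← germ_map, hx]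

omit ξ₀ in
include hφ hf in
/-- Effective descent when stalk elements extend to covers of neighbourhoods. -/
theorem isEffective_of_locData
    (H : ∀ (Ω : Type u) [Field Ω] [IsAlgClosed Ω] (ξ₀ : Spec (CommRingCat.of Ω) ⟶ X') (c₀ : St F' ξ₀),
      LocData f φ ξ₀ c₀) : EtDesc.IsEffective f F' φ := by
  haveI : IsIso (ψψ) := by
    refine EtFound.isIso_of_stalks _ fun Ω₀ _ _ ξ => ?_
    let Ω := AlgebraicClosure Ω₀
    let l : Spec (CommRingCat.of Ω) ⟶ Spec (CommRingCat.of Ω₀) :=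
      Spec.map (CommRingCat.ofHom (algebraMap Ω₀ Ω))
    have : IsIso ((Scheme.pointSmallEtale (l ≫ ξ)).sheafFiber.map (ψψ)) :=
      (ConcreteCategory.isIso_iff_bijective _).2
        ⟨psi_stalk_injective f φ (l ≫ ξ) hf, psi_stalk_surjective f φ hφ (l ≫ ξ) (H Ω (l ≫ ξ))⟩
    have := (NatIso.isIso_map_iff (EtFound.stalkExtIso (Type (u + 1)) ξ l) (ψψ)).2 this
    exact (ConcreteCategory.isIso_iff_bijective ((Scheme.pointSmallEtale ξ).sheafFiber.map (ψψ))).1 this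
  refine ⟨Gl, asIso (ψψ), ?_⟩
  rw [canIso_eq]
  exact compat_iso _ _ ((EtDesc.pullSh (pullback.fst f f)).mapIso (asIso ψψ))
    ((EtDesc.pullSh (pullback.snd f f)).mapIso (asIso ψψ)) φ
    (gluePsi_compat f (pullback.fst f f) (pullback.snd f f) (pullback.fst f f ≫ f) rfl pullback.condition.symm φ.hom)

end effective

open Groth.Agent.FppfRefine in
/-- An etale neighbourhood carrying a finite flat cover factoring through an fppf covering. -/
theorem exists_etale_finite_flat {S₁ S : Scheme.{u}} (g : S₁ ⟶ S) [Flat g] [LocallyOfFinitePresentation g]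
    [Surjective g] (s : S) :
    ∃ (S' V : Scheme.{u}) (e : S' ⟶ S) (π : V ⟶ S') (r : V ⟶ S₁), Etale e ∧ s ∈ Set.range ⇑e ∧ Surjective π ∧
      IsFinite π ∧ Flat π ∧ LocallyOfFinitePresentation π ∧ r ≫ g = π ≫ e := by
  obtain ⟨x, rfl⟩ := g.surjective s
  obtain ⟨D, hD, hxD, -⟩ := exists_isAffineOpen_mem_and_subset (U := ⊤) (x := g x) trivial
  obtain ⟨U, hU, hxU, hUD⟩ := exists_isAffineOpen_mem_and_subset (U := g ⁻¹ᵁ D) (x := x) hxD
  let B := Γ(S, D)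
  let B' := Γ(S₁, U)
  letI : Algebra B B' := (g.appLE D U hUD).hom.toAlgebra
  haveI : Module.Flat B B' := HasRingHomProperty.appLE @Flat g inferInstance ⟨D, hD⟩ ⟨U, hU⟩ hUD
  haveI : Algebra.FinitePresentation B B' :=
    HasRingHomProperty.appLE @LocallyOfFinitePresentation g inferInstance ⟨D, hD⟩ ⟨U, hU⟩ hUD
  let q : PrimeSpectrum B' := hU.primeIdealOf ⟨x, hxU⟩
  obtain ⟨h, hh, C, _, _, P, _, T, _, _, j, hC, hPq, hT1, hT2, hT3, hT4, hj⟩ :=
    exists_away_etale_finite_projective (B := B) q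
  haveI := hC
  haveI := hT1
  haveI := hT3
  haveI := hT4
  let Bh := Localization.Away h
  let e₁ : Spec (CommRingCat.of C) ⟶ Spec (CommRingCat.of Bh) := Spec.map (CommRingCat.ofHom (algebraMap Bh C))
  let e₂ : Spec (CommRingCat.of Bh) ⟶ Spec Γ(S, D) := Spec.map (CommRingCat.ofHom (algebraMap B Bh))
  haveI : Etale e₁ := by
    rw [HasRingHomProperty.Spec_iff (P := @Etale), CommRingCat.hom_ofHom, RingHom.etale_algebraMap]
    infer_instance
  haveI : IsOpenImmersion e₂ := IsOpenImmersion.of_isLocalization h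
  haveI : IsOpenImmersion hD.fromSpec := hD.isOpenImmersion_fromSpec
  obtain ⟨h1, h2, h3, h4⟩ := specMap_props C T
  refine ⟨Spec (CommRingCat.of C), Spec (CommRingCat.of T), e₁ ≫ e₂ ≫ hD.fromSpec,
    Spec.map (CommRingCat.ofHom (algebraMap C T)), Spec.map (CommRingCat.ofHom j) ≫ hU.fromSpec,
    inferInstance, ⟨⟨P, ‹_›⟩, ?_⟩, h1, h2, h3, h4, ?_⟩
  · have h5 : e₂ (e₁ (⟨P, ‹_›⟩ : PrimeSpectrum C)) = hD.primeIdealOf ⟨g x, hxD⟩ := by
      apply PrimeSpectrum.ext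
      exact hPq.trans (congrArg PrimeSpectrum.asIdeal
        (IsAffineOpen.comap_primeIdealOf_appLE (f := g) D hD U hU hUD hxU))
    simp only [Scheme.Hom.comp_apply]
    exact (congrArg hD.fromSpec h5).trans (hD.fromSpec_primeIdealOf _)
  · simp only [e₁, e₂, Category.assoc, ← IsAffineOpen.SpecMap_appLE_fromSpec g hD hU hUD, ← Spec.map_comp_assoc]
    congr 2
    ext z
    exact RingHom.congr_fun hj z

section integral

variable {X' X : Scheme.{u}} (f : X' ⟶ X) {F' : EtDesc.Sh X'}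
  (φ : (EtDesc.pullSh (pullback.fst f f)).obj F' ≅ (EtDesc.pullSh (pullback.snd f f)).obj F')
  (hφ : EtDesc.IsCocycle F' φ) {Ω : Type u} [Field Ω] [IsAlgClosed Ω] (ξ₀ : Spec (CommRingCat.of Ω) ⟶ X')

theorem gv_via {T W : Scheme.{u}} (k : T ⟶ W) (r : W ⟶ X')
    (σ : ((EtDesc.pullSh k).obj ((EtDesc.pullSh r).obj F')).obj.obj (op (EtCoh.top T)))
    {Ω' : Type u} [Field Ω'] [IsSepClosed Ω'] (ω : Spec (CommRingCat.of Ω') ⟶ T) :
    gv (k ≫ r) ((EtDesc.pullVia k r (k ≫ r) rfl F').hom.hom.app (op (EtCoh.top T)) σ) ω =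
      tr F' (Category.assoc _ _ _) (stI r (ω ≫ k) F' (stI k ω _ (gtop _ ω σ))) := by
  unfold gv gtop
  rw [← germ_natural]
  exact via_stalk k r (k ≫ r) rfl F' ω (Category.assoc _ _ _) _

/-- The germ of a section transported to the total space of an etale scheme over a cover. -/
theorem gv_pullVia {W : Scheme.{u}} (r : W ⟶ X') (Y : W.Etale)
    (x : ((EtDesc.pullSh r).obj F').obj.obj (op Y)) {Ω' : Type u} [Field Ω'] [IsSepClosed Ω']
    (ω : Spec (CommRingCat.of Ω') ⟶ Y.left) :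
    gv (Y.hom ≫ r) ((EtDesc.pullVia Y.hom r (Y.hom ≫ r) rfl F').hom.hom.app (op (EtCoh.top Y.left))
        (atPt Y.hom ((EtDesc.pullSh r).obj F') Y (𝟙 _) (Category.id_comp _) x)) ω =
      tr F' (Category.assoc _ _ _) (stI r (ω ≫ Y.hom) F'
        (germ ((EtDesc.pullSh r).obj F') (ω ≫ Y.hom) Y (CategoryTheory.Over.homMk ω rfl) x)) := by
  refine (gv_via Y.hom r _ ω).trans (congrArg (fun c => tr F' _ (stI r (ω ≫ Y.hom) F' c)) ?_)
  exact (tr_rfl _ _).symm.trans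
    (germ_atPt Y.hom _ Y (𝟙 _) (Category.id_comp _) x ω (ω ≫ Y.hom) rfl _ (Category.comp_id _))

include hφ in
/-- Finite flat covers of neighbourhoods supply the local data. -/
theorem locData_of_integral (V : X.Etale) (v : (Scheme.pointSmallEtale (ξ₀ ≫ f)).fiber.obj V) {W : Scheme.{u}}
    (q : W ⟶ V.left) [IsIntegralHom q] [Surjective q] [UniversallyOpen q] (r : W ⟶ X') (w : r ≫ f = q ≫ V.hom)
    (c₀ : St F' ξ₀) : LocData f φ ξ₀ c₀ := by
  obtain ⟨w₀, hw₀⟩ := q.surjective ((v.left : Spec (CommRingCat.of Ω) ⟶ V.left).base (default : Spec (CommRingCat.of Ω)))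
  obtain ⟨ω₀, hω₀, -⟩ := EtFound.exists_fac_of_integral q (v.left : Spec (CommRingCat.of Ω) ⟶ V.left) w₀ hw₀
  have hb : ξ₀ ≫ f = (ω₀ ≫ r) ≫ f := by
    rw [Category.assoc, w, ← Category.assoc, hω₀]
    exact (CategoryTheory.Over.w v).symm
  let φW := pullDatum φ q V.hom r w
  have hW := isCocycle_pullDatum φ q V.hom r w hφ
  let cW := (stI r ω₀ F').symm (Phi φ.hom (IsPullback.of_hasPullback f f) ξ₀ (ω₀ ≫ r) hb c₀)
  obtain ⟨e, he⟩ := Groth.Agent.BigSiteLib.DescSec.psi_stalk_surjective q φW hW ω₀ cW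
  obtain ⟨V₁, v₁, x, h₁, -⟩ := exists_up_germ q (η := ω₀ ≫ q) rfl _ e
  rw [h₁, psi_germ] at he
  let Y := (EtCoh.bc q).obj V₁
  let V₂ : X.Etale := MorphismProperty.Over.mk ⊤ (V₁.hom ≫ V.hom) (by
    haveI : Etale V₁.hom := V₁.prop
    haveI : Etale V.hom := V.prop
    exact inferInstanceAs (Etale (V₁.hom ≫ V.hom)))
  have hv₁ : (v₁.left : Spec (CommRingCat.of Ω) ⟶ V₁.left) ≫ V₁.hom = (v.left : Spec (CommRingCat.of Ω) ⟶ V.left) :=
    (CategoryTheory.Over.w v₁).trans hω₀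
  let v₂ : (Scheme.pointSmallEtale (ξ₀ ≫ f)).fiber.obj V₂ :=
    CategoryTheory.Over.homMk (v₁.left : Spec (CommRingCat.of Ω) ⟶ V₁.left)
      ((Category.assoc _ _ _).symm.trans ((congrArg (· ≫ V.hom) hv₁).trans (CategoryTheory.Over.w v)))
  refine ⟨V₂, v₂, Y.left, pullback.fst V₁.hom q, Y.hom ≫ r, ?_,
    (EtDesc.pullVia Y.hom r (Y.hom ≫ r) rfl F').hom.hom.app (op (EtCoh.top Y.left))
      (atPt Y.hom ((EtDesc.pullSh r).obj F') Y (𝟙 _) (Category.id_comp _) x.1),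
    MorphismProperty.pullback_fst (P := @Surjective) _ _ inferInstance,
    MorphismProperty.pullback_fst (P := @UniversallyOpen) _ _ inferInstance, ?_, ?_⟩
  · show (Y.hom ≫ r) ≫ f = pullback.fst V₁.hom q ≫ V₁.hom ≫ V.hom
    rw [Category.assoc, w, ← Category.assoc, ← Category.assoc]
    exact congrArg (· ≫ V.hom) pullback.condition.symm
  · intro Ω' _ _ ω₁ ω₂ hω h
    rw [gv_pullVia, gv_pullVia]
    let η' := (ω₁ ≫ pullback.fst V₁.hom q) ≫ V₁.hom
    let v' : (Scheme.pointSmallEtale η').fiber.obj V₁ :=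
      CategoryTheory.Over.homMk (ω₁ ≫ pullback.fst V₁.hom q) rfl
    have g₁ : (ω₁ ≫ Y.hom) ≫ q = η' :=
      (Category.assoc _ _ _).trans ((congrArg (ω₁ ≫ ·) pullback.condition.symm).trans (Category.assoc _ _ _).symm)
    have g₂ : (ω₂ ≫ Y.hom) ≫ q = η' :=
      (Category.assoc _ _ _).trans ((congrArg (ω₂ ≫ ·) pullback.condition.symm).trans
        ((Category.assoc _ _ _).symm.trans (congrArg (· ≫ V₁.hom) hω.symm)))
    let hζ₁ := (IsPullback.of_hasPullback q q).lift_fst _ _ (g₁.trans g₂.symm)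
    let hζ₂ := (IsPullback.of_hasPullback q q).lift_snd _ _ (g₁.trans g₂.symm)
    have hζ : (IsPullback.of_hasPullback q q).lift _ _ (g₁.trans g₂.symm) ≫ pullback.fst q q ≫ q = η' := by
      rw [← Category.assoc, hζ₁, g₁]
    have e := (germ_sides_iff q (pullback.fst q q) (pullback.snd q q) _ rfl pullback.condition.symm φW.hom
      (IsPullback.of_hasPullback q q) g₁ g₂ _ hζ₁ hζ₂ hζ v' x.1).1 (congrArg _ x.2)
    have f₁ : EtFound.liftPt q g₁ v' = CategoryTheory.Over.homMk ω₁ rfl :=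
      fib_ext (pullback.hom_ext (EtFound.liftPt_fst q g₁ v') (pullback.lift_snd _ _ _))
    have f₂ : EtFound.liftPt q g₂ v' = CategoryTheory.Over.homMk ω₂ rfl :=
      fib_ext (pullback.hom_ext ((EtFound.liftPt_fst q g₂ v').trans hω) (pullback.lift_snd _ _ _))
    rw [f₁, f₂] at e
    have h' : ((ω₁ ≫ Y.hom) ≫ r) ≫ f = ((ω₂ ≫ Y.hom) ≫ r) ≫ f := by
      rw [Category.assoc ω₁, Category.assoc ω₂]
      exact h
    rw [Phi_tr f φ _ (Category.assoc ω₂ Y.hom r) h', ← e, Phi_pullDatum φ q V.hom r w _ _ _ h']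
  · refine ⟨(EtFound.liftPt q (η := ω₀ ≫ q) rfl v₁).left, EtFound.liftPt_fst q (η := ω₀ ≫ q) rfl v₁, ?_⟩
    obtain ⟨l, hl⟩ : ∃ l : Spec (CommRingCat.of Ω) ⟶ Y.left,
        l = (EtFound.liftPt q (η := ω₀ ≫ q) rfl v₁).left := ⟨_, rfl⟩
    have hlY : l ≫ Y.hom = ω₀ := hl ▸ pullback.lift_snd _ _ _
    rw [← hl]
    have hlr : ω₀ ≫ r = l ≫ Y.hom ≫ r := by rw [← Category.assoc, hlY]
    refine ⟨hb.trans (congrArg (· ≫ f) hlr), ?_⟩
    rw [gv_pullVia]
    have he' : germ ((EtDesc.pullSh r).obj F') (l ≫ Y.hom) Y (CategoryTheory.Over.homMk l rfl) x.1 =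
        tr _ hlY.symm cW := by
      rw [← he]
      exact (tr_germ _ hlY.symm Y _ _ hl.symm x.1).symm
    rw [he', stI_tr, tr_tr, Equiv.apply_symm_apply]
    exact Phi_tr f φ rfl hlr hb _ c₀

end integral

/-- Effective descent along fppf coverings. -/
theorem isEffective_of_fppf {X' X : Scheme.{u}} (f : X' ⟶ X) [Surjective f] [Flat f] [LocallyOfFinitePresentation f]
    {F' : EtDesc.Sh X'}
    (φ : (EtDesc.pullSh (pullback.fst f f)).obj F' ≅ (EtDesc.pullSh (pullback.snd f f)).obj F')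
    (hφ : EtDesc.IsCocycle F' φ) : EtDesc.IsEffective f F' φ := by
  haveI : UniversallyOpen f := inferInstance
  refine isEffective_of_locData f φ hφ (fun V => Scheme.Hom.isOpenMap (pr f V)) fun Ω _ _ ξ₀ c₀ => ?_
  obtain ⟨S', W, e, π, r, he, hs, h1, h2, h3, h4, hr⟩ :=
    exists_etale_finite_flat f ((ξ₀ ≫ f).base (default : Spec (CommRingCat.of Ω)))
  let V : X.Etale := MorphismProperty.Over.mk ⊤ e he
  obtain ⟨y, hy⟩ := hs
  haveI := he
  obtain ⟨l, hl, -⟩ := Scheme.exists_fac_of_etale_of_isSepClosed e (ξ₀ ≫ f) y hy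
  haveI := h1
  haveI := h2
  haveI := h3
  haveI := h4
  haveI : UniversallyOpen π := inferInstance
  exact locData_of_integral f φ hφ ξ₀ V (CategoryTheory.Over.homMk l hl) π r hr c₀

end Groth.Agent.RGLib.DescRefine
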