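import Groth.Agent.EtPBC0.BaseChange
import Groth.Agent.BigSiteLib.EtDescSec.Effective
import Mathlib.AlgebraicGeometry.AlgClosed.Basic
import Mathlib.AlgebraicGeometry.Morphisms.UniversallyClosed

/-!
# Effective descent of etale sheaves of sets along proper morphisms
-/

set_option autoImplicit false

universe u

open CategoryTheory CategoryTheory.Limits AlgebraicGeometry Opposite TopologicalSpace
open Groth.Agent.BigSiteLib.DescSec Groth.Agent.EtPBC0

namespace Groth.Agent.RGLib.DescProper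

set_option backward.isDefEq.respectTransparency false
set_option backward.isDefEq.respectTransparency.types false

variable {Ω : Type u} [Field Ω] [IsAlgClosed Ω]

section points

variable {P : Scheme.{u}} (pP : P ⟶ Spec (CommRingCat.of Ω)) [LocallyOfFiniteType pP]

include pP in
/-- An open subset containing every rational point is everything. -/
theorem mem_of_forall_pt {O : Set P} (hO : IsOpen O)
    (h : ∀ τ : Spec (CommRingCat.of Ω) ⟶ P, τ ≫ pP = 𝟙 _ →
      τ.base (default : Spec (CommRingCat.of Ω)) ∈ O) (p : P) : p ∈ O := by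
  haveI : JacobsonSpace P := LocallyOfFiniteType.jacobsonSpace pP
  by_contra hp
  obtain ⟨q, hq, hqc⟩ := nonempty_inter_closedPoints (Z := Oᶜ) ⟨p, hp⟩ hO.isClosed_compl.isLocallyClosed
  obtain ⟨⟨τ, hτ⟩, e⟩ := (pointEquivClosedPoint pP).surjective ⟨q, hqc⟩
  refine hq ?_
  have e' : τ.base (IsLocalRing.closedPoint Ω) = q := congrArg Subtype.val e
  rw [← e', Subsingleton.elim (IsLocalRing.closedPoint Ω) (default : Spec (CommRingCat.of Ω))]
  exact h τ hτ

/-- A point seen in the final etale scheme. -/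
noncomputable def topPt {Q : Scheme.{u}} (τ : Spec (CommRingCat.of Ω) ⟶ Q) :
    (Scheme.pointSmallEtale τ).fiber.obj (EtCoh.top Q) :=
  CategoryTheory.Over.homMk τ (Category.comp_id τ)

include pP in
/-- Global sections with the same germ at every rational point are equal. -/
theorem eq_of_pt_germs (G : EtDesc.Sh P) (a b : G.obj.obj (op (EtCoh.top P)))
    (h : ∀ τ : Spec (CommRingCat.of Ω) ⟶ P, τ ≫ pP = 𝟙 _ →
      germ G τ (EtCoh.top P) (topPt τ) a = germ G τ (EtCoh.top P) (topPt τ) b) : a = b :=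
  eq_of_locEq G fun p => mem_of_forall_pt pP (O := {z : P | LocEq G.obj a b (show (EtCoh.top P).left from z)})
    (isOpen_locEq a b) (fun τ hτ => locEq_of_germ τ (topPt τ) (h τ hτ) _ rfl) p

end points

/-- The germ of a section pulled back along a lift. -/
theorem germ_atPt {X P : Scheme.{u}} (k : P ⟶ X) (F : EtDesc.Sh X) (U : X.Etale) (σ : P ⟶ U.left)
    (w : σ ≫ U.hom = k) (x : ToType (F.obj.obj (op U))) (τ : Spec (CommRingCat.of Ω) ⟶ P)
    (ξ : Spec (CommRingCat.of Ω) ⟶ X) (hξ : τ ≫ k = ξ) (u : (Scheme.pointSmallEtale ξ).fiber.obj U)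
    (hu : τ ≫ σ = (u.left : Spec (CommRingCat.of Ω) ⟶ U.left)) :
    tr F hξ (stI k τ F (germ ((EtDesc.pullSh k).obj F) τ (EtCoh.top P) (topPt τ) (atPt k F U σ w x))) =
      germ F ξ U u x := by
  rw [atPt, germ_map, stI_germ]
  refine tr_germ F hξ U _ u ?_ x
  rw [bcFiberEquiv_left]
  show (τ ≫ (secHom k U σ w).left) ≫ pullback.fst U.hom k = _
  rw [Category.assoc, secHom_fst]
  exact hu

variable {X' X : Scheme.{u}} (f : X' ⟶ X) {F' : EtDesc.Sh X'}
  (φ : (EtDesc.pullSh (pullback.fst f f)).obj F' ≅ (EtDesc.pullSh (pullback.snd f f)).obj F')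

local notation "pb" => IsPullback.of_hasPullback f f
local notation "Gl" => glueSh f (pullback.fst f f) (pullback.snd f f) (pullback.fst f f ≫ f) rfl pullback.condition.symm φ.hom
local notation "ψψ" => gluePsi f (pullback.fst f f) (pullback.snd f f) (pullback.fst f f ≫ f) rfl pullback.condition.symm φ.hom

/-- The germ of the restriction to the fibre. -/
theorem germ_phi {η : Spec (CommRingCat.of Ω) ⟶ X} {V : X.Etale} (v : (Scheme.pointSmallEtale η).fiber.obj V)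
    (F : EtDesc.Sh X') (x : ToType (F.obj.obj (op ((EtCoh.bc f).obj V))))
    (τ : Spec (CommRingCat.of Ω) ⟶ pullback f η) (hτ : τ ≫ pullback.snd f η = 𝟙 _)
    (ξ : Spec (CommRingCat.of Ω) ⟶ X') (hξ : ξ ≫ f = η) (hτξ : τ ≫ pullback.fst f η = ξ) :
    tr F hτξ (stI (pullback.fst f η) τ F (germ ((EtDesc.pullSh (pullback.fst f η)).obj F) τ _ (topPt τ)
      (phi f (pullback.fst f η) (pullback.snd f η) pullback.condition F V v x))) =
      germ F ξ _ (EtFound.liftPt f hξ v) x := by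
  refine germ_atPt _ F _ _ _ x τ ξ hτξ (EtFound.liftPt f hξ v) (pullback.hom_ext ?_ ?_)
  · refine (Category.assoc _ _ _).trans ?_
    refine (congrArg (τ ≫ ·) (pullback.lift_fst _ _ _)).trans ?_
    refine ((Category.assoc _ _ _).symm.trans (congrArg (· ≫ _) hτ)).trans ?_
    exact (Category.id_comp _).trans (EtFound.liftPt_fst f hξ v).symm
  · refine (Category.assoc _ _ _).trans ?_
    refine (congrArg (τ ≫ ·) (pullback.lift_snd _ _ _)).trans ?_
    exact hτξ.trans (pullback.lift_snd _ _ _).symm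

variable (hφ : EtDesc.IsCocycle F' φ) [IsProper f] (ξ₀ : Spec (CommRingCat.of Ω) ⟶ X')

omit [IsProper f] in
/-- The germ of a section transported by the datum along two maps with the same image. -/
theorem germ_transport {P : Scheme.{u}} (m : P ⟶ pullback f f) (σ k : P ⟶ X')
    (w₁ : m ≫ pullback.fst f f = σ) (w₂ : m ≫ pullback.snd f f = k)
    (sσ : ((EtDesc.pullSh σ).obj F').obj.obj (op (EtCoh.top P))) (τ : Spec (CommRingCat.of Ω) ⟶ P)
    {ξ₁ ξ₂ : Spec (CommRingCat.of Ω) ⟶ X'} (h₁ : τ ≫ σ = ξ₁) (h₂ : τ ≫ k = ξ₂) (h : ξ₁ ≫ f = ξ₂ ≫ f) :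
    tr F' h₂ (stI k τ F' (germ ((EtDesc.pullSh k).obj F') τ (EtCoh.top P) (topPt τ)
      (((EtDesc.pullVia m (pullback.fst f f) σ w₁ F').symm ≪≫ (EtDesc.pullSh m).mapIso φ ≪≫
        EtDesc.pullVia m (pullback.snd f f) k w₂ F').hom.hom.app (op (EtCoh.top P)) sσ))) =
    Phi φ.hom pb ξ₁ ξ₂ h (tr F' h₁ (stI σ τ F' (germ ((EtDesc.pullSh σ).obj F') τ (EtCoh.top P) (topPt τ) sσ))) := by
  subst h₁ h₂
  rw [← germ_natural]
  obtain ⟨d, hd⟩ : ∃ d, d = stI σ τ F' (germ ((EtDesc.pullSh σ).obj F') τ (EtCoh.top P) (topPt τ) sσ) := ⟨_, rfl⟩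
  rw [(Equiv.eq_symm_apply _).2 hd.symm, Equiv.apply_symm_apply,
    pullIso_stalk φ m σ k w₁ w₂ τ ((Category.assoc _ _ _).trans (congrArg (τ ≫ ·) w₁))
      ((Category.assoc _ _ _).trans (congrArg (τ ≫ ·) w₂)) d,
    Phi_eq φ.hom pb h (τ ≫ m) ((Category.assoc _ _ _).trans (congrArg (τ ≫ ·) w₁))
      ((Category.assoc _ _ _).trans (congrArg (τ ≫ ·) w₂))]
  simp only [tr_rfl]

omit [IsProper f] in
/-- The section on the fibre transported from a point. -/
theorem exists_fibre_section {P : Scheme.{u}} (kP : P ⟶ X') (pP : P ⟶ Spec (CommRingCat.of Ω))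
    (w : (pP ≫ ξ₀) ≫ f = kP ≫ f) (c₀ : St F' ξ₀) :
    ∃ s : ((EtDesc.pullSh kP).obj F').obj.obj (op (EtCoh.top P)),
      ∀ (τ : Spec (CommRingCat.of Ω) ⟶ P) (_ : τ ≫ pP = 𝟙 _)
        (ξ : Spec (CommRingCat.of Ω) ⟶ X') (h : ξ₀ ≫ f = ξ ≫ f) (hτξ : τ ≫ kP = ξ),
        tr F' hτξ (stI kP τ F' (germ _ τ _ (topPt τ) s)) = Phi φ.hom pb ξ₀ ξ h c₀ := by
  obtain ⟨U, u, s₀, rfl⟩ := germ_surjective F' ξ₀ c₀
  have hU : (pP ≫ (u.left : Spec (CommRingCat.of Ω) ⟶ U.left)) ≫ U.hom = pP ≫ ξ₀ :=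
    (Category.assoc _ _ _).trans (congrArg (pP ≫ ·) (CategoryTheory.Over.w u))
  refine ⟨((EtDesc.pullVia (pullback.lift (pP ≫ ξ₀) kP w) (pullback.fst f f) (pP ≫ ξ₀)
      (pullback.lift_fst _ _ _) F').symm ≪≫ (EtDesc.pullSh _).mapIso φ ≪≫
    EtDesc.pullVia _ (pullback.snd f f) kP (pullback.lift_snd _ _ _) F').hom.hom.app (op (EtCoh.top P))
      (atPt (pP ≫ ξ₀) F' U _ hU s₀), fun τ hτ ξ h hτξ => ?_⟩
  have h₀ : τ ≫ pP ≫ ξ₀ = ξ₀ :=
    (Category.assoc _ _ _).symm.trans ((congrArg (· ≫ ξ₀) hτ).trans (Category.id_comp _))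
  refine (germ_transport f φ _ _ _ _ _ _ τ h₀ hτξ h).trans (congrArg (Phi φ.hom pb ξ₀ ξ h) ?_)
  exact germ_atPt _ F' U _ hU s₀ τ ξ₀ h₀ u
    ((Category.assoc _ _ _).symm.trans ((congrArg (· ≫ _) hτ).trans (Category.id_comp _)))

include hφ in
theorem psi_stalk_surjective :
    Function.Surjective ((Scheme.pointSmallEtale ξ₀).presheafFiber.map (ψψ).hom) := by
  intro c₀
  let η := ξ₀ ≫ f
  let c : ∀ ξ : {ξ : Spec (CommRingCat.of Ω) ⟶ X' // ξ ≫ f = η}, St F' ξ.1 := fun ξ =>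
    Phi φ.hom pb ξ₀ ξ.1 ξ.2.symm c₀
  have hc : ∀ ξ₁ ξ₂ : {ξ : Spec (CommRingCat.of Ω) ⟶ X' // ξ ≫ f = η},
      Phi φ.hom pb ξ₁.1 ξ₂.1 (ξ₁.2.trans ξ₂.2.symm) (c ξ₁) = c ξ₂ := fun ξ₁ ξ₂ => Phi_trans f φ hφ _ _ _ _ _ c₀
  obtain ⟨sf, hsf⟩ := exists_fibre_section f φ ξ₀ (pullback.fst f η) (pullback.snd f η)
    ((Category.assoc _ _ _).trans pullback.condition.symm) c₀
  obtain ⟨V, v, s, hs⟩ := exists_phi_eq f (pullback.fst f η) (pullback.snd f η)
    (IsPullback.of_hasPullback f η) F' sf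
  have hgerm : ∀ ξ : {ξ : Spec (CommRingCat.of Ω) ⟶ X' // ξ ≫ f = η},
      germ F' ξ.1 ((EtCoh.bc f).obj V) (EtFound.liftPt f ξ.2 v) s = c ξ := fun ξ => by
    let τ : Spec (CommRingCat.of Ω) ⟶ pullback f η := pullback.lift ξ.1 (𝟙 _) (ξ.2.trans (Category.id_comp _).symm)
    have hτ : τ ≫ pullback.snd f η = 𝟙 _ := pullback.lift_snd _ _ _
    have hτξ : τ ≫ pullback.fst f η = ξ.1 := pullback.lift_fst _ _ _
    rw [← germ_phi f v F' s τ hτ ξ.1 ξ.2 hτξ, hs]
    exact hsf τ hτ ξ.1 ξ.2.symm hτξ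
  let b := pullback.fst f f ≫ f
  let pV := pullback.fst V.hom b
  let L := {z : ((EtCoh.bc b).obj V).left |
    LocEq ((EtDesc.pullSh (pullback.snd f f)).obj F').obj
      (lhs f (pullback.fst f f) (pullback.snd f f) b rfl φ.hom V s)
      (side b (pullback.snd f f) f pullback.condition.symm F' V s) z}
  haveI : IsProper (pullback.fst f f) := MorphismProperty.pullback_fst (P := @IsProper) f f inferInstance
  haveI : IsProper b := inferInstance
  haveI : IsProper pV := MorphismProperty.pullback_fst (P := @IsProper) _ _ inferInstance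
  haveI : IsProper (pullback.snd b η) := MorphismProperty.pullback_snd (P := @IsProper) _ _ inferInstance
  let κ : pullback b η ⟶ ((EtCoh.bc b).obj V).left :=
    pullback.lift (pullback.snd b η ≫ (v.left : Spec (CommRingCat.of Ω) ⟶ V.left)) (pullback.fst b η) (by
      rw [Category.assoc, pullback.condition]
      exact congrArg (pullback.snd b η ≫ ·) (CategoryTheory.Over.w v))
  have hL : ∀ p, κ p ∈ L := fun p => by
    refine mem_of_forall_pt (pullback.snd b η) (O := κ ⁻¹' L)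
      ((isOpen_locEq _ _).preimage κ.continuous) (fun τ hτ => ?_) p
    let ζ := τ ≫ pullback.fst b η
    have hζ : ζ ≫ b = η := by rw [Category.assoc, pullback.condition, ← Category.assoc, hτ, Category.id_comp]
    have h₁ : (ζ ≫ pullback.fst f f) ≫ f = η := (Category.assoc _ _ _).trans hζ
    have h₂ : (ζ ≫ pullback.snd f f) ≫ f = η := by rw [Category.assoc, ← pullback.condition]; exact hζ
    refine locEq_of_germ ζ (EtFound.liftPt b hζ v) ?_ (κ (τ.base (default : Spec (CommRingCat.of Ω)))) ?_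
    · refine (germ_sides_iff f (pullback.fst f f) (pullback.snd f f) _ rfl pullback.condition.symm φ.hom pb h₁ h₂ ζ rfl rfl hζ v s).2 ?_
      rw [hgerm ⟨_, h₁⟩, hgerm ⟨_, h₂⟩]
      exact hc ⟨_, h₁⟩ ⟨_, h₂⟩
    · refine Eq.trans ?_ (Scheme.Hom.comp_apply τ κ _)
      refine congrArg (fun k : Spec (CommRingCat.of Ω) ⟶ pullback V.hom b => k.base (default : Spec (CommRingCat.of Ω))) ?_
      refine pullback.hom_ext ?_ ?_
      · refine (EtFound.liftPt_fst b hζ v).trans ?_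
        exact ((Category.assoc _ _ _).trans ((congrArg (τ ≫ ·) (pullback.lift_fst _ _ _)).trans
          ((Category.assoc _ _ _).symm.trans ((congrArg (· ≫ _) hτ).trans (Category.id_comp _))))).symm
      · refine (pullback.lift_snd _ _ _).trans ?_
        rw [Category.assoc, pullback.lift_snd]
  let N : V.left.Opens := ⟨(pV '' Lᶜ)ᶜ,
    ((Scheme.Hom.isClosedMap pV) _ (isOpen_locEq _ _).isClosed_compl).isOpen_compl⟩
  have sq : IsPullback κ (pullback.snd b η) pV (v.left : Spec (CommRingCat.of Ω) ⟶ V.left) := by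
    refine IsPullback.of_right ?_ (pullback.lift_fst _ _ _) (IsPullback.of_hasPullback V.hom b).flip
    exact Eq.mpr (congrArg₂ (fun a c => IsPullback a (pullback.snd b η) b c) (pullback.lift_snd _ _ _)
      (CategoryTheory.Over.w v : (v.left : Spec (CommRingCat.of Ω) ⟶ V.left) ≫ V.hom = η))
      (IsPullback.of_hasPullback b η)
  have hv : (v.left : Spec (CommRingCat.of Ω) ⟶ V.left).base (default : Spec (CommRingCat.of Ω)) ∈ N := by
    rintro ⟨z, hz, hzv⟩
    obtain ⟨p, hp, -⟩ := Scheme.exists_preimage_of_isPullback sq z (default : Spec (CommRingCat.of Ω)) hzv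
    exact hz (hp ▸ hL p)
  let V' := EtFound.restrictEtale V N
  let j := EtFound.restrictEtaleHom V N
  obtain ⟨v', hv', -⟩ := EtFound.exists_lift_point j v ⟨_, hv⟩ rfl
  let x : ToType ((Gl).obj.obj (op V')) := ⟨F'.obj.map ((EtCoh.bc f).map j).op s, eq_of_locEq _ fun z => by
    rw [lhs_map, side_map]
    refine LocEq.map _ (Classical.byContradiction fun hz => ?_)
    exact (pr b V' z).2 ⟨_, hz, pr_map b j z⟩⟩
  refine ⟨germ ((EtDesc.pullSh f).obj Gl) ξ₀ ((EtCoh.bc f).obj V') (EtFound.liftPt f (η := η) rfl v') (up f Gl V' x), ?_⟩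
  rw [psi_germ]
  show germ F' ξ₀ _ (EtFound.liftPt f (η := η) rfl v') (F'.obj.map ((EtCoh.bc f).map j).op s) = c₀
  rw [germ_map, EtFound.liftPt_map, hv', hgerm ⟨ξ₀, rfl⟩]
  exact Phi_self f φ hφ ξ₀ c₀

theorem psi_stalk_injective :
    Function.Injective ((Scheme.pointSmallEtale ξ₀).presheafFiber.map (ψψ).hom) := by
  intro e₁ e₂ he
  let η := ξ₀ ≫ f
  obtain ⟨V₁, v₁, x₁, h₁, k₁⟩ := exists_up_germ f (η := η) rfl Gl e₁
  obtain ⟨V₂, v₂, x₂, h₂, k₂⟩ := exists_up_germ f (η := η) rfl Gl e₂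
  rw [h₁, h₂, psi_germ, psi_germ] at he
  refine (stI f ξ₀ Gl).injective ?_
  rw [tr_rfl] at k₁ k₂
  rw [k₁, k₂]
  let ι := glueι f (pullback.fst f f) (pullback.snd f f) (pullback.fst f f ≫ f) rfl pullback.condition.symm φ.hom
  haveI : Mono ι := (sheafToPresheaf _ _).mono_of_mono_map (inferInstanceAs (Mono (Subfunctor.ι _)))
  refine germ_injective ι (injective_app_of_mono ι) η ?_
  rw [germ_natural, germ_natural]
  obtain ⟨⟨V, v⟩, ⟨a₁, ha₁⟩, ⟨a₂, ha₂⟩, -⟩ := IsCofilteredOrEmpty.cone_objs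
    ((Scheme.pointSmallEtale η).fiber.elementsMk V₁ v₁) ((Scheme.pointSmallEtale η).fiber.elementsMk V₂ v₂)
  obtain ⟨a₁', ha₁'⟩ : ∃ a : V ⟶ V₁, (Scheme.pointSmallEtale η).fiber.map a v = v₁ := ⟨a₁, ha₁⟩
  obtain ⟨a₂', ha₂'⟩ : ∃ a : V ⟶ V₂, (Scheme.pointSmallEtale η).fiber.map a v = v₂ := ⟨a₂, ha₂⟩
  rw [← ha₁', ← ha₂', ← germ_map, ← germ_map]
  refine germ_eq_of_phi_eq f (pullback.fst f η) (pullback.snd f η) (IsPullback.of_hasPullback f η) F' V v _ _
    (eq_of_pt_germs (pullback.snd f η) _ _ _ fun τ hτ => ?_)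
  let ξ : {ξ : Spec (CommRingCat.of Ω) ⟶ X' // ξ ≫ f = η} := ⟨τ ≫ pullback.fst f η, by
    rw [Category.assoc, pullback.condition, ← Category.assoc, hτ, Category.id_comp]⟩
  refine (stI (pullback.fst f η) τ F').injective ?_
  have hg : ∀ s, stI (pullback.fst f η) τ F' (germ _ τ _ (topPt τ)
      (phi f (pullback.fst f η) (pullback.snd f η) pullback.condition F' V v s)) =
      germ F' ξ.1 _ (EtFound.liftPt f ξ.2 v) s := fun s => germ_phi f v F' s τ hτ ξ.1 ξ.2 rfl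
  rw [hg, hg]
  have key : ∀ {W : X.Etale} (a : V ⟶ W) (w : (Scheme.pointSmallEtale η).fiber.obj W)
      (_ : (Scheme.pointSmallEtale η).fiber.map a v = w) (x : ToType ((Gl).obj.obj (op W))),
      germ F' ξ.1 _ (EtFound.liftPt f ξ.2 v) (((EtDesc.pushSh f).obj F').obj.map a.op (ι.hom.app (op W) x)) =
        Phi φ.hom pb ξ₀ ξ.1 ξ.2.symm (germ F' ξ₀ _ (EtFound.liftPt f (η := η) rfl w) (ι.hom.app (op W) x)) := by
    intro W a w ha x
    show germ F' ξ.1 _ (EtFound.liftPt f ξ.2 v) (F'.obj.map ((EtCoh.bc f).map a).op (ι.hom.app (op W) x)) = _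
    rw [germ_map, EtFound.liftPt_map, ha]
    let hζ₁ := (pb).lift_fst ξ₀ ξ.1 ξ.2.symm
    let hζ₂ := (pb).lift_snd ξ₀ ξ.1 ξ.2.symm
    have hζ : (pb).lift ξ₀ ξ.1 ξ.2.symm ≫ pullback.fst f f ≫ f = η := by rw [← Category.assoc, hζ₁]
    refine ((germ_sides_iff f (pullback.fst f f) (pullback.snd f f) _ rfl pullback.condition.symm φ.hom pb rfl ξ.2 _ hζ₁ hζ₂ hζ w _).1 ?_).symm
    exact congrArg _ x.2
  exact (key a₁' v₁ ha₁' x₁).trans ((congrArg _ he).trans (key a₂' v₂ ha₂' x₂).symm)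

include hφ in
theorem isIso_psi : IsIso (ψψ) := by
  refine EtFound.isIso_of_stalks _ fun Ω₀ _ _ ξ => ?_
  let Ω := AlgebraicClosure Ω₀
  let l : Spec (CommRingCat.of Ω) ⟶ Spec (CommRingCat.of Ω₀) :=
    Spec.map (CommRingCat.ofHom (algebraMap Ω₀ Ω))
  have : IsIso ((Scheme.pointSmallEtale (l ≫ ξ)).sheafFiber.map (ψψ)) :=
    (ConcreteCategory.isIso_iff_bijective _).2
      ⟨psi_stalk_injective f φ (l ≫ ξ), psi_stalk_surjective f φ hφ (l ≫ ξ)⟩
  have := (NatIso.isIso_map_iff (EtFound.stalkExtIso (Type (u + 1)) ξ l) (ψψ)).2 this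
  exact (ConcreteCategory.isIso_iff_bijective ((Scheme.pointSmallEtale ξ).sheafFiber.map (ψψ))).1 this

include hφ in
theorem isEffective_of_proper : EtDesc.IsEffective f F' φ := by
  haveI := isIso_psi f φ hφ
  refine ⟨Gl, asIso (ψψ), ?_⟩
  rw [canIso_eq]
  exact compat_iso _ _ ((EtDesc.pullSh (pullback.fst f f)).mapIso (asIso ψψ))
    ((EtDesc.pullSh (pullback.snd f f)).mapIso (asIso ψψ)) φ
    (gluePsi_compat f (pullback.fst f f) (pullback.snd f f) (pullback.fst f f ≫ f) rfl pullback.condition.symm φ.hom)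

end Groth.Agent.RGLib.DescProper
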