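import Groth.Agent.RGLib.DescRefine

/-!
# Gluing a compatible section from a universally open cover of an etale neighbourhood
-/

set_option autoImplicit false

universe u

open CategoryTheory CategoryTheory.Limits AlgebraicGeometry Opposite TopologicalSpace
open Groth.Agent.BigSiteLib.DescSec Groth.Agent.EtPBC0

namespace Groth.Agent.RGLib.DescRefine

set_option backward.isDefEq.respectTransparency false
set_option backward.isDefEq.respectTransparency.types false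

variable {X' X : Scheme.{u}} (f : X' ⟶ X) {F' : EtDesc.Sh X'}
  (φ : (EtDesc.pullSh (pullback.fst f f)).obj F' ≅ (EtDesc.pullSh (pullback.snd f f)).obj F')
  {V : X.Etale} {W : Scheme.{u}} (q : W ⟶ V.left) (r : W ⟶ X')
  (s : ((EtDesc.pullSh r).obj F').obj.obj (op (EtCoh.top W)))

/-- The stalk element given by the section on the cover. -/
noncomputable abbrev gv {Ω : Type u} [Field Ω] [IsSepClosed Ω] (ω : Spec (CommRingCat.of Ω) ⟶ W) : St F' (ω ≫ r) :=
  stI r ω F' (gtop _ ω s)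

/-- A local section with the prescribed germs. -/
def Good (U : X'.Etale) (m : U ⟶ (EtCoh.bc f).obj V) (sU : ToType (F'.obj.obj (op U))) : Prop :=
  ∀ (Ω : Type u) [Field Ω] [IsSepClosed Ω] (ξ : Spec (CommRingCat.of Ω) ⟶ X')
    (u : (Scheme.pointSmallEtale ξ).fiber.obj U) (ω : Spec (CommRingCat.of Ω) ⟶ W)
    (_ : (u.left : Spec (CommRingCat.of Ω) ⟶ U.left) ≫ m.left ≫ pullback.fst V.hom f = ω ≫ q)
    (h : (ω ≫ r) ≫ f = ξ ≫ f),
    germ F' ξ U u sU = Phi φ.hom (IsPullback.of_hasPullback f f) (ω ≫ r) ξ h (gv r s ω)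

theorem good_map {U U' : X'.Etale} {m : U ⟶ (EtCoh.bc f).obj V} {sU : ToType (F'.obj.obj (op U))}
    (hg : Good f φ q r s U m sU) (k : U' ⟶ U) :
    Good f φ q r s U' (k ≫ m) (F'.obj.map k.op sU) := fun Ω _ _ ξ u ω hω h => by
  rw [germ_map]
  refine hg Ω ξ _ ω ?_ h
  refine Eq.trans ?_ hω
  exact (Category.assoc (u.left : Spec (CommRingCat.of Ω) ⟶ U'.left) k.left _).trans
    (congrArg ((u.left : Spec (CommRingCat.of Ω) ⟶ U'.left) ≫ ·) (Category.assoc _ _ _).symm)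

variable (w : r ≫ f = q ≫ V.hom)

include w in
theorem base_eq {Ω : Type u} [Field Ω] [IsSepClosed Ω] {ξ : Spec (CommRingCat.of Ω) ⟶ X'} {U : X'.Etale}
    (m : U ⟶ (EtCoh.bc f).obj V) (u : (Scheme.pointSmallEtale ξ).fiber.obj U) (ω : Spec (CommRingCat.of Ω) ⟶ W)
    (hω : (u.left : Spec (CommRingCat.of Ω) ⟶ U.left) ≫ m.left ≫ pullback.fst V.hom f = ω ≫ q) :
    (ω ≫ r) ≫ f = ξ ≫ f := by
  rw [Category.assoc, w, ← Category.assoc ω q, ← hω]
  refine Eq.trans ?_ (congrArg (· ≫ f) (CategoryTheory.Over.w u))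
  show ((u.left : Spec (CommRingCat.of Ω) ⟶ U.left) ≫ m.left ≫ pullback.fst V.hom f) ≫ V.hom =
    ((u.left : Spec (CommRingCat.of Ω) ⟶ U.left) ≫ U.hom) ≫ f
  rw [← MorphismProperty.Over.w m]
  exact (Category.assoc _ _ _).trans ((congrArg (_ ≫ ·) ((Category.assoc _ _ _).trans
    ((congrArg (m.left ≫ ·) pullback.condition).trans (Category.assoc _ _ _).symm))).trans (Category.assoc _ _ _).symm)

variable [Surjective q]

omit w in
theorem exists_good_point (U : X'.Etale) (m : U ⟶ (EtCoh.bc f).obj V) (y : U.left) :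
    ∃ (Ω : Type u) (_ : Field Ω) (_ : IsSepClosed Ω) (ξ : Spec (CommRingCat.of Ω) ⟶ X')
      (u : (Scheme.pointSmallEtale ξ).fiber.obj U) (ω : Spec (CommRingCat.of Ω) ⟶ W),
      (u.left : Spec (CommRingCat.of Ω) ⟶ U.left) ≫ m.left ≫ pullback.fst V.hom f = ω ≫ q ∧
      (u.left : Spec (CommRingCat.of Ω) ⟶ U.left).base (default : Spec (CommRingCat.of Ω)) = y := by
  let a : U.left ⟶ V.left := m.left ≫ pullback.fst V.hom f
  obtain ⟨ω₀, hω₀⟩ := q.surjective (a y)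
  obtain ⟨z, hz, -⟩ := Scheme.Pullback.exists_preimage_pullback (f := a) (g := q) y ω₀ hω₀.symm
  obtain ⟨Ω, _, _, τ, hτ⟩ := exists_geom_point z
  refine ⟨Ω, inferInstance, inferInstance, (τ ≫ pullback.fst a q) ≫ U.hom,
    CategoryTheory.Over.homMk (τ ≫ pullback.fst a q) rfl, τ ≫ pullback.snd a q, ?_, ?_⟩
  · exact (Category.assoc _ _ _).trans ((congrArg (τ ≫ ·) pullback.condition).trans (Category.assoc _ _ _).symm)
  · exact (Scheme.Hom.comp_apply _ _ _).trans ((congrArg _ hτ).trans hz)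

include w in
theorem good_unique {U : X'.Etale} {m : U ⟶ (EtCoh.bc f).obj V} {a b : ToType (F'.obj.obj (op U))}
    (ha : Good f φ q r s U m a) (hb : Good f φ q r s U m b) : a = b :=
  eq_of_locEq F' fun y => by
    obtain ⟨Ω, _, _, ξ, u, ω, hω, hy⟩ := exists_good_point f q U m y
    have h := base_eq f q r w m u ω hω
    exact locEq_of_germ ξ u ((ha Ω ξ u ω hω h).trans (hb Ω ξ u ω hω h).symm) y hy

variable (hφ : EtDesc.IsCocycle F' φ)
  (hs : ∀ (Ω : Type u) [Field Ω] [IsSepClosed Ω] (ω₁ ω₂ : Spec (CommRingCat.of Ω) ⟶ W) (_ : ω₁ ≫ q = ω₂ ≫ q)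
    (h : (ω₁ ≫ r) ≫ f = (ω₂ ≫ r) ≫ f),
    Phi φ.hom (IsPullback.of_hasPullback f f) (ω₁ ≫ r) (ω₂ ≫ r) h (gv r s ω₁) = gv r s ω₂)
  [UniversallyOpen q]

include w hφ hs in
theorem exists_good_near (y : ((EtCoh.bc f).obj V).left) :
    ∃ (U : X'.Etale) (m : U ⟶ (EtCoh.bc f).obj V) (u₀ : U.left) (sU : ToType (F'.obj.obj (op U))),
      m.left u₀ = y ∧ Good f φ q r s U m sU := by
  obtain ⟨Ω, _, _, ξ, u, ω, hω, hy⟩ := exists_good_point f q ((EtCoh.bc f).obj V) (𝟙 _) y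
  have hb : (ω ≫ r) ≫ f = ξ ≫ f := base_eq f q r w (𝟙 _) u ω hω
  let c := Phi φ.hom (IsPullback.of_hasPullback f f) (ω ≫ r) ξ hb (gv r s ω)
  obtain ⟨U₀, t₀, s₀, hs₀⟩ := germ_surjective F' ξ c
  obtain ⟨⟨U, t⟩, ⟨α, hα⟩, ⟨β, hβ⟩, -⟩ := IsCofilteredOrEmpty.cone_objs
    ((Scheme.pointSmallEtale ξ).fiber.elementsMk U₀ t₀)
    ((Scheme.pointSmallEtale ξ).fiber.elementsMk ((EtCoh.bc f).obj V) u)
  obtain ⟨α', hα'⟩ : ∃ a : U ⟶ U₀, (Scheme.pointSmallEtale ξ).fiber.map a t = t₀ := ⟨α, hα⟩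
  obtain ⟨β', hβ'⟩ : ∃ b : U ⟶ (EtCoh.bc f).obj V, (Scheme.pointSmallEtale ξ).fiber.map b t = u := ⟨β, hβ⟩
  let sU : ToType (F'.obj.obj (op U)) := F'.obj.map α'.op s₀
  let a : U.left ⟶ V.left := β'.left ≫ pullback.fst V.hom f
  let k₁ : pullback a q ⟶ X' := pullback.snd a q ≫ r
  let k₂ : pullback a q ⟶ X' := pullback.fst a q ≫ U.hom
  have ha : a ≫ V.hom = U.hom ≫ f := by
    refine (Category.assoc _ _ _).trans ((congrArg (β'.left ≫ ·) pullback.condition).trans ?_)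
    exact (Category.assoc _ _ _).symm.trans (congrArg (· ≫ f) (MorphismProperty.Over.w β'))
  have hk : k₁ ≫ f = k₂ ≫ f := by
    refine (Category.assoc _ _ _).trans ((congrArg (pullback.snd a q ≫ ·) w).trans ?_)
    refine ((Category.assoc _ _ _).symm.trans (congrArg (· ≫ V.hom) pullback.condition.symm)).trans ?_
    exact (Category.assoc _ _ _).trans ((congrArg (pullback.fst a q ≫ ·) ha).trans (Category.assoc _ _ _).symm)
  let A := ((EtDesc.pullVia (pullback.lift k₁ k₂ hk) (pullback.fst f f) k₁ (pullback.lift_fst _ _ _) F').symm ≪≫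
      (EtDesc.pullSh _).mapIso φ ≪≫
      EtDesc.pullVia _ (pullback.snd f f) k₂ (pullback.lift_snd _ _ _) F').hom.hom.app (op (EtCoh.top (pullback a q)))
    (EtH0Lib.tau (pullback.snd a q) r k₁ rfl s)
  let B := atPt k₂ F' U (pullback.fst a q) rfl sU
  have key : ∀ (Ω' : Type u) [Field Ω'] [IsSepClosed Ω'] (τ : Spec (CommRingCat.of Ω') ⟶ pullback a q)
      (ξ' : Spec (CommRingCat.of Ω') ⟶ X') (u' : (Scheme.pointSmallEtale ξ').fiber.obj U)
      (_ : τ ≫ pullback.fst a q = (u'.left : Spec (CommRingCat.of Ω') ⟶ U.left))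
      (ω' : Spec (CommRingCat.of Ω') ⟶ W) (_ : τ ≫ pullback.snd a q = ω') (h : (ω' ≫ r) ≫ f = ξ' ≫ f),
      (gtop ((EtDesc.pullSh k₂).obj F') τ A = gtop _ τ B ↔
        Phi φ.hom (IsPullback.of_hasPullback f f) (ω' ≫ r) ξ' h (gv r s ω') = germ F' ξ' U u' sU) := by
    intro Ω' _ _ τ ξ' u' hu' ω' hω' h
    have h₁ : τ ≫ k₁ = ω' ≫ r := (Category.assoc _ _ _).symm.trans (congrArg (· ≫ r) hω')
    have h₂ : τ ≫ k₂ = ξ' :=
      (Category.assoc _ _ _).symm.trans ((congrArg (· ≫ U.hom) hu').trans (CategoryTheory.Over.w u'))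
    have eA := germ_transport φ (pullback.lift k₁ k₂ hk) k₁ k₂ (pullback.lift_fst _ _ _) (pullback.lift_snd _ _ _)
      (EtH0Lib.tau (pullback.snd a q) r k₁ rfl s) τ h₁ h₂ h
    have eB : tr F' h₂ (stI k₂ τ F' (gtop _ τ B)) = germ F' ξ' U u' sU :=
      germ_atPt k₂ F' U (pullback.fst a q) rfl sU τ ξ' h₂ u' hu'
    have eg : tr F' h₁ (stI k₁ τ F' (gtop _ τ (EtH0Lib.tau (pullback.snd a q) r k₁ rfl s))) = gv r s ω' := by
      rw [germ_tau (pullback.snd a q) r k₁ rfl F' s τ (Category.assoc _ _ _), tr_tr]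
      subst hω'
      rw [tr_rfl]
    rw [eg] at eA
    rw [← eA, ← eB]
    refine ⟨fun e => by rw [e], fun e => (stI k₂ τ F').injective ?_⟩
    have e' := congrArg (tr F' h₂.symm) e
    rwa [tr_tr, tr_tr, tr_rfl, tr_rfl] at e'
  let O := {z : ↥(pullback a q) | LocEq ((EtDesc.pullSh k₂).obj F').obj A B (show (EtCoh.top (pullback a q)).left from z)}
  have hO : IsOpen O := isOpen_locEq A B
  have hpt : ∀ (Ω' : Type u) [Field Ω'] [IsSepClosed Ω'] (τ : Spec (CommRingCat.of Ω') ⟶ pullback a q),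
      (τ.base (default : Spec (CommRingCat.of Ω')) ∈ O ↔
        gtop ((EtDesc.pullSh k₂).obj F') τ A = gtop _ τ B) := fun Ω' _ _ τ =>
    ⟨fun hz => germ_eq_of_locEq' _ hz τ (topPt τ) rfl, fun e => locEq_of_germ τ (topPt τ) e _ rfl⟩
  have hsat : ∀ z₁ z₂ : ↥(pullback a q), pullback.fst a q z₁ = pullback.fst a q z₂ → z₁ ∈ O → z₂ ∈ O := by
    intro z₁ z₂ hz hz₁
    obtain ⟨z, hzl, hzr⟩ := Scheme.Pullback.exists_preimage_pullback (f := pullback.fst a q) (g := pullback.fst a q) z₁ z₂ hz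
    obtain ⟨Ω', _, _, τ, hτ⟩ := exists_geom_point z
    let τ₁ := τ ≫ pullback.fst (pullback.fst a q) (pullback.fst a q)
    let τ₂ := τ ≫ pullback.snd (pullback.fst a q) (pullback.fst a q)
    have hτ₁ : τ₁.base (default : Spec (CommRingCat.of Ω')) = z₁ :=
      (Scheme.Hom.comp_apply _ _ _).trans ((congrArg _ hτ).trans hzl)
    have hτ₂ : τ₂.base (default : Spec (CommRingCat.of Ω')) = z₂ :=
      (Scheme.Hom.comp_apply _ _ _).trans ((congrArg _ hτ).trans hzr)
    have e : τ₂ ≫ pullback.fst a q = τ₁ ≫ pullback.fst a q := by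
      simp only [τ₁, τ₂, Category.assoc, pullback.condition]
    let u' : (Scheme.pointSmallEtale ((τ₁ ≫ pullback.fst a q) ≫ U.hom)).fiber.obj U :=
      CategoryTheory.Over.homMk (τ₁ ≫ pullback.fst a q) rfl
    have eq₁ : (τ₁ ≫ pullback.fst a q) ≫ β'.left ≫ pullback.fst V.hom f = (τ₁ ≫ pullback.snd a q) ≫ q :=
      (Category.assoc _ _ _).trans ((congrArg (τ₁ ≫ ·) pullback.condition).trans (Category.assoc _ _ _).symm)
    have eq₂ : (τ₁ ≫ pullback.fst a q) ≫ β'.left ≫ pullback.fst V.hom f = (τ₂ ≫ pullback.snd a q) ≫ q :=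
      (congrArg (· ≫ β'.left ≫ pullback.fst V.hom f) e.symm).trans
        ((Category.assoc _ _ _).trans ((congrArg (τ₂ ≫ ·) pullback.condition).trans (Category.assoc _ _ _).symm))
    have b₁ := base_eq f q r w β' u' _ eq₁
    have b₂ := base_eq f q r w β' u' _ eq₂
    have g₁ := (key Ω' τ₁ _ u' rfl _ rfl b₁).1 ((hpt Ω' τ₁).1 (hτ₁.symm ▸ hz₁))
    rw [← hτ₂]
    refine (hpt Ω' τ₂).2 ((key Ω' τ₂ _ u' e _ rfl b₂).2 ?_)
    rw [← g₁, ← hs Ω' _ _ (eq₂.symm.trans eq₁) (b₂.trans b₁.symm), Phi_trans f φ hφ]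
  haveI : UniversallyOpen (pullback.fst a q) := inferInstance
  let N : U.left.Opens := ⟨pullback.fst a q '' O, (Scheme.Hom.isOpenMap (pullback.fst a q)) _ hO⟩
  have hN : (t.left : Spec (CommRingCat.of Ω) ⟶ U.left).base (default : Spec (CommRingCat.of Ω)) ∈ N := by
    have ht : (t.left : Spec (CommRingCat.of Ω) ⟶ U.left) ≫ a = ω ≫ q := by
      refine Eq.trans ?_ ((congrArg (fun v : (Scheme.pointSmallEtale ξ).fiber.obj ((EtCoh.bc f).obj V) =>
        (v.left : Spec (CommRingCat.of Ω) ⟶ ((EtCoh.bc f).obj V).left) ≫ pullback.fst V.hom f) hβ').trans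
          ((congrArg (_ ≫ ·) (Category.id_comp _).symm).trans hω))
      exact (Category.assoc _ _ _).symm
    refine ⟨(pullback.lift (t.left : Spec (CommRingCat.of Ω) ⟶ U.left) ω ht).base (default : Spec (CommRingCat.of Ω)),
      (hpt Ω _).2 ((key Ω _ ξ t (pullback.lift_fst _ _ _) ω (pullback.lift_snd _ _ _) hb).2 ?_), ?_⟩
    · show c = _
      rw [germ_map, hα', hs₀]
    · exact (Scheme.Hom.comp_apply _ _ _).symm.trans
        (congrArg (fun k : Spec (CommRingCat.of Ω) ⟶ U.left => k.base (default : Spec (CommRingCat.of Ω)))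
          (pullback.lift_fst _ _ _))
  let k := EtFound.restrictEtaleHom U N
  refine ⟨EtFound.restrictEtale U N, k ≫ β', ⟨_, hN⟩, F'.obj.map k.op sU, ?_, fun Ω' _ _ ξ' u' ω' hω' h => ?_⟩
  · refine Eq.trans ?_ hy
    refine (Scheme.Hom.comp_apply _ _ _).trans ?_
    show β'.left ((t.left : Spec (CommRingCat.of Ω) ⟶ U.left).base (default : Spec (CommRingCat.of Ω))) = _
    rw [← hβ']
    exact (Scheme.Hom.comp_apply _ _ _).symm
  · rw [germ_map]
    let v := (Scheme.pointSmallEtale ξ').fiber.map k u'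
    have hv : (v.left : Spec (CommRingCat.of Ω') ⟶ U.left) ≫ a = ω' ≫ q := by
      refine Eq.trans ?_ hω'
      exact (Category.assoc (u'.left : Spec (CommRingCat.of Ω') ⟶ (EtFound.restrictEtale U N).left) k.left a).trans
        (congrArg ((u'.left : Spec (CommRingCat.of Ω') ⟶ (EtFound.restrictEtale U N).left) ≫ ·)
          (Category.assoc _ _ _).symm)
    let τ := pullback.lift (v.left : Spec (CommRingCat.of Ω') ⟶ U.left) ω' hv
    refine ((key Ω' τ ξ' v (pullback.lift_fst _ _ _) ω' (pullback.lift_snd _ _ _) h).1 ((hpt Ω' τ).1 ?_)).symm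
    obtain ⟨z₁, hz₁, hz⟩ : (v.left : Spec (CommRingCat.of Ω') ⟶ U.left).base (default : Spec (CommRingCat.of Ω')) ∈ N :=
      EtFound.mem_opens_congr (Scheme.Hom.comp_apply _ _ _) (Subtype.coe_prop _)
    refine hsat z₁ _ (hz.trans ?_) hz₁
    exact ((congrArg (fun k : Spec (CommRingCat.of Ω') ⟶ U.left => k.base (default : Spec (CommRingCat.of Ω')))
      (pullback.lift_fst _ _ _)).symm).trans (Scheme.Hom.comp_apply τ _ _)

include w hφ hs in
/-- The glued section. -/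
theorem exists_good : ∃ t : ToType (F'.obj.obj (op ((EtCoh.bc f).obj V))),
    Good f φ q r s ((EtCoh.bc f).obj V) (𝟙 _) t := by
  choose U m u₀ c hu hc using exists_good_near f φ q r s w hφ hs
  have hcomp : ∀ i j (Y : X'.Etale) (p : Y ⟶ U i) (p' : Y ⟶ U j), p ≫ m i = p' ≫ m j →
      F'.obj.map p.op (c i) = F'.obj.map p'.op (c j) := fun i j Y p p' e =>
    good_unique f φ q r s w (good_map f φ q r s (hc i) p) (e ▸ good_map f φ q r s (hc j) p')
  have hcov : Sieve.generate (Presieve.ofArrows U m) ∈ X'.smallEtaleTopology ((EtCoh.bc f).obj V) := by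
    rw [EtFound.mem_topology_iff]
    intro y
    exact ⟨U y, m y, u₀ y, ⟨U y, 𝟙 _, m y, ⟨y⟩, Category.id_comp _⟩, hu y⟩
  obtain ⟨t, ht, -⟩ := (Presieve.isSheafFor_arrows_iff _ _).1 ((Presieve.isSheafFor_iff_generate _).2
    (((isSheaf_iff_isSheaf_of_type _ _).1 F'.property) _ hcov)) c hcomp
  refine ⟨t, fun Ω _ _ ξ u ω hω h => ?_⟩
  obtain ⟨i, hi⟩ : ∃ i, i = (u.left : Spec (CommRingCat.of Ω) ⟶ ((EtCoh.bc f).obj V).left).base
    (default : Spec (CommRingCat.of Ω)) := ⟨_, rfl⟩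
  obtain ⟨u', hu', -⟩ := EtFound.exists_lift_point (m i) u (u₀ i) ((hu i).trans hi)
  rw [← hu', ← germ_map, ht i]
  refine hc i Ω ξ u' ω ?_ h
  refine Eq.trans ?_ hω
  rw [← hu']
  exact (Category.assoc _ _ _).symm.trans (congrArg (_ ≫ ·) (Category.id_comp _).symm)

include w hφ in
omit [UniversallyOpen q] in
/-- The glued section is compatible with the datum. -/
theorem good_compat {t : ToType (F'.obj.obj (op ((EtCoh.bc f).obj V)))}
    (ht : Good f φ q r s ((EtCoh.bc f).obj V) (𝟙 _) t) :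
    lhs f (pullback.fst f f) (pullback.snd f f) (pullback.fst f f ≫ f) rfl φ.hom V t =
      side (pullback.fst f f ≫ f) (pullback.snd f f) f pullback.condition.symm F' V t := by
  refine eq_of_locEq _ fun z => ?_
  let pV := pullback.fst V.hom (pullback.fst f f ≫ f)
  obtain ⟨ω₀, hω₀⟩ := q.surjective (pV z)
  obtain ⟨zz, hzz, -⟩ := Scheme.Pullback.exists_preimage_pullback (f := pV) (g := q) z ω₀ hω₀.symm
  obtain ⟨Ω, _, _, τ, hτ⟩ := exists_geom_point zz
  let l := τ ≫ pullback.fst pV q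
  let ω := τ ≫ pullback.snd pV q
  let ζ := l ≫ pullback.snd V.hom (pullback.fst f f ≫ f)
  let η := (l ≫ pV) ≫ V.hom
  have hl : l ≫ pV = ω ≫ q :=
    (Category.assoc _ _ _).trans ((congrArg (τ ≫ ·) pullback.condition).trans (Category.assoc _ _ _).symm)
  have hζ : ζ ≫ pullback.fst f f ≫ f = η := by
    simp only [ζ, η, pV, Category.assoc, pullback.condition]
  let v : (Scheme.pointSmallEtale η).fiber.obj V := CategoryTheory.Over.homMk (l ≫ pV) rfl
  have h₁ : (ζ ≫ pullback.fst f f) ≫ f = η := (Category.assoc _ _ _).trans hζ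
  have h₂ : (ζ ≫ pullback.snd f f) ≫ f = η := by rw [Category.assoc, ← pullback.condition]; exact hζ
  have hb : ∀ {ξ : Spec (CommRingCat.of Ω) ⟶ X'}, ξ ≫ f = η → (ω ≫ r) ≫ f = ξ ≫ f := fun {ξ} e => by
    rw [e, Category.assoc, w, ← Category.assoc, ← hl]
  refine locEq_of_germ ζ (EtFound.liftPt (pullback.fst f f ≫ f) hζ v) ?_ z ?_
  · refine (germ_sides_iff f (pullback.fst f f) (pullback.snd f f) _ rfl pullback.condition.symm φ.hom
      (IsPullback.of_hasPullback f f) h₁ h₂ ζ rfl rfl hζ v t).2 ?_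
    have e : ∀ {ξ : Spec (CommRingCat.of Ω) ⟶ X'} (hξ : ξ ≫ f = η),
        germ F' ξ _ (EtFound.liftPt f hξ v) t =
          Phi φ.hom (IsPullback.of_hasPullback f f) (ω ≫ r) ξ (hb hξ) (gv r s ω) := fun {ξ} hξ =>
      ht Ω ξ _ ω ((congrArg (_ ≫ ·) (Category.id_comp _)).trans ((EtFound.liftPt_fst f hξ v).trans hl)) (hb hξ)
    rw [e h₁, e h₂, Phi_trans f φ hφ]
  · refine Eq.trans ?_ (((Scheme.Hom.comp_apply τ (pullback.fst pV q) _).trans (congrArg _ hτ)).trans hzz)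
    refine congrArg (fun k : Spec (CommRingCat.of Ω) ⟶ pullback V.hom (pullback.fst f f ≫ f) =>
      k.base (default : Spec (CommRingCat.of Ω))) (pullback.hom_ext ?_ ?_)
    · exact EtFound.liftPt_fst _ hζ v
    · exact pullback.lift_snd _ _ _

end Groth.Agent.RGLib.DescRefine
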