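import Groth.Agent.RGLib.Core
import Groth.Agent.CILib.Basic

/-! Reduction of universal injectivity over an arbitrary local base to a complete Noetherian one. -/

universe u

noncomputable section

open TensorProduct IsLocalRing MvPolynomial

namespace Groth.Agent.RGLib

theorem lTensor_restrict_injective {A A' X Y : Type u} [CommRing A] [CommRing A'] [Algebra A A']
    [AddCommGroup X] [Module A X] [Module A' X] [IsScalarTower A A' X]
    [AddCommGroup Y] [Module A Y] [Module A' Y] [IsScalarTower A A' Y] (f : X →ₗ[A'] Y)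
    (hf : ∀ (Q : Type u) [AddCommGroup Q] [Module A' Q], Function.Injective (f.lTensor Q))
    (Q : Type u) [AddCommGroup Q] [Module A Q] : Function.Injective ((f.restrictScalars A).rTensor Q) := by
  have h1 : Function.Injective (f.rTensor (A' ⊗[A] Q)) := (LinearMap.lTensor_inj_iff_rTensor_inj _ _).1 (hf _)
  let eX : X ⊗[A'] (A' ⊗[A] Q) ≃ₗ[A'] X ⊗[A] Q := AlgebraTensorModule.cancelBaseChange A A' A' X Q
  let eY : Y ⊗[A'] (A' ⊗[A] Q) ≃ₗ[A'] Y ⊗[A] Q := AlgebraTensorModule.cancelBaseChange A A' A' Y Q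
  have h2 : ∀ z, (f.restrictScalars A).rTensor Q (eX z) = eY (f.rTensor _ z) := by
    intro z
    induction z using TensorProduct.induction_on with
    | zero => simp
    | tmul x w =>
      induction w using TensorProduct.induction_on with
      | zero => simp
      | tmul c y => simp [eX, eY, map_smul]
      | add a b ha hb => simp only [tmul_add, map_add, ha, hb]
    | add a b ha hb => simp only [map_add, ha, hb]
  intro a b hab
  obtain ⟨a, rfl⟩ := eX.surjective a
  obtain ⟨b, rfl⟩ := eX.surjective b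
  rw [h2, h2] at hab
  exact congrArg eX (h1 (eY.injective hab))

/-- The elements killed off a prime modulo a submodule are killed by a single element outside the prime. -/
theorem exists_uniform_killer {A : Type u} [CommRing A] (m : Ideal A) [m.IsMaximal] {ι : Type} [Finite ι] {n : ℕ}
    (q : Ideal (MvPolynomial (Fin n) A)) [q.IsPrime]
    (L : Submodule (MvPolynomial (Fin n) A) (ι → MvPolynomial (Fin n) A))
    (hL : (m.map (MvPolynomial.C : A →+* MvPolynomial (Fin n) A)) • (⊤ : Submodule _ _) ≤ L) :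
    ∃ g ∉ q, ∀ w, ∀ τ ∉ q, τ • w ∈ L → g • w ∈ L := by
  classical
  let P := MvPolynomial (Fin n) A
  let m' : Ideal P := m.map MvPolynomial.C
  let T : Submodule P (ι → P) :=
    { carrier := {w | ∃ τ ∉ q, τ • w ∈ L}
      add_mem' := by
        rintro a b ⟨s, hs, hsa⟩ ⟨t, ht, htb⟩
        refine ⟨s * t, fun h => (Ideal.IsPrime.mem_or_mem ‹_› h).elim hs ht, ?_⟩
        rw [smul_add]
        exact add_mem (by rw [mul_comm, mul_smul]; exact L.smul_mem t hsa) (by rw [mul_smul]; exact L.smul_mem s htb)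
      zero_mem' := ⟨1, (Ideal.ne_top_iff_one q).1 (Ideal.IsPrime.ne_top ‹_›), by simp⟩
      smul_mem' := by
        rintro c a ⟨s, hs, hsa⟩
        exact ⟨s, hs, by rw [smul_comm]; exact L.smul_mem c hsa⟩ }
  haveI : IsNoetherianRing (P ⧸ m') := by
    letI : Field (A ⧸ m) := Ideal.Quotient.field m
    exact isNoetherianRing_of_ringEquiv (MvPolynomial (Fin n) (A ⧸ m))
      (MvPolynomial.quotientEquivQuotientMvPolynomial m).toRingEquiv
  haveI : Module.Finite (P ⧸ m') ((ι → P) ⧸ (m' • ⊤ : Submodule P (ι → P))) :=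
    Module.Finite.of_restrictScalars_finite P _ _
  haveI : IsNoetherian P ((ι → P) ⧸ (m' • ⊤ : Submodule P (ι → P))) :=
    by
      haveI : RingHomSurjective (algebraMap P (P ⧸ m')) := ⟨Ideal.Quotient.mk_surjective⟩
      let l : ((ι → P) ⧸ (m' • ⊤ : Submodule P (ι → P))) →ₛₗ[algebraMap P (P ⧸ m')] ((ι → P) ⧸ (m' • ⊤ : Submodule P (ι → P))) :=
        { toFun := id
          map_add' := fun _ _ => rfl
          map_smul' := fun c x => (algebraMap_smul (P ⧸ m') c x).symm }
      exact (l.isNoetherian_iff_of_bijective Function.bijective_id).2 inferInstance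
  obtain ⟨s, hs⟩ : (T.map (m' • ⊤ : Submodule P (ι → P)).mkQ).FG := IsNoetherian.noetherian _
  have hlift : ∀ x ∈ s, ∃ τ ∉ q, ∀ w, (m' • ⊤ : Submodule P (ι → P)).mkQ w = x → τ • w ∈ L := by
    intro x hx
    obtain ⟨w₀, ⟨τ, hτ, hτw⟩, rfl⟩ : x ∈ T.map (m' • ⊤ : Submodule P (ι → P)).mkQ := hs ▸ Submodule.subset_span hx
    refine ⟨τ, hτ, fun w hw => ?_⟩
    have : w - w₀ ∈ L := hL ((Submodule.Quotient.eq _).1 hw)
    rw [show τ • w = τ • w₀ + τ • (w - w₀) by rw [smul_sub, add_sub_cancel]]
    exact add_mem hτw (L.smul_mem τ this)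
  choose τ hτq hτ using hlift
  refine ⟨∏ x ∈ s.attach, τ x.1 x.2, fun h => ?_, fun w t ht htw => ?_⟩
  · obtain ⟨x, -, hx⟩ := (Ideal.IsPrime.prod_mem_iff (hp := ‹q.IsPrime›)).1 h
    exact hτq x.1 x.2 hx
  · let g := ∏ x ∈ s.attach, τ x.1 x.2
    have hw : (m' • ⊤ : Submodule P (ι → P)).mkQ w ∈ Submodule.span P (s : Set _) :=
      hs.symm ▸ ⟨w, ⟨t, ht, htw⟩, rfl⟩
    suffices ∀ y ∈ Submodule.span P (s : Set ((ι → P) ⧸ (m' • ⊤ : Submodule P (ι → P)))),
        ∀ v, (m' • ⊤ : Submodule P (ι → P)).mkQ v = y → g • v ∈ L from this _ hw w rfl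
    intro y hy
    induction hy using Submodule.span_induction with
    | mem y hy =>
      intro v hv
      obtain ⟨c, hc⟩ := Finset.dvd_prod_of_mem (fun x : s => τ x.1 x.2) (Finset.mem_attach s ⟨y, hy⟩)
      show g • v ∈ L
      rw [show g = _ from hc, mul_comm, mul_smul]
      exact L.smul_mem c (hτ y hy v hv)
    | zero =>
      intro v hv
      exact L.smul_mem g (hL ((Submodule.Quotient.mk_eq_zero _).1 hv))
    | add a b _ _ iha ihb =>
      intro v hv
      obtain ⟨va, rfl⟩ := Submodule.mkQ_surjective _ a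
      have := add_mem (iha va rfl) (ihb (v - va) (by rw [map_sub, hv, add_sub_cancel_left]))
      rwa [← smul_add, add_sub_cancel] at this
    | smul c a _ iha =>
      intro v hv
      obtain ⟨va, rfl⟩ := Submodule.mkQ_surjective _ a
      have h1 : v - c • va ∈ L := hL ((Submodule.Quotient.eq _).1 (hv.trans (map_smul _ c va).symm))
      rw [show g • v = c • (g • va) + g • (v - c • va) by rw [smul_sub, smul_comm c g, add_sub_cancel]]
      exact add_mem (L.smul_mem c (iha va rfl)) (L.smul_mem g h1)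

end Groth.Agent.RGLib

end
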