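import Groth.Agent.RGLib.Descend

/-! Descent of universal injectivity from a local model. -/

universe u

noncomputable section

open TensorProduct

namespace Groth.Agent.RGLib

theorem injective_of_model {A A' S S' : Type u} [CommRing A] [CommRing A'] [CommRing S] [CommRing S']
    [Algebra A A'] [Algebra A S] [Algebra S S'] [Algebra A S'] [Algebra A' S'] [IsScalarTower A A' S']
    [IsScalarTower A S S'] [Module.FaithfullyFlat S S']
    {N M : Type u} [AddCommGroup N] [Module S N] [Module A N] [IsScalarTower A S N]
    [AddCommGroup M] [Module S M] [Module A M] [IsScalarTower A S M] (u : N →ₗ[S] M)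
    {X : Type u} [AddCommGroup X] [Module A' X] [Module A X] [IsScalarTower A A' X]
    (UN : X →ₗ[A'] S' ⊗[S] N) (D : Submonoid S')
    (hstable : ∀ d ∈ D, ∀ x ∈ LinearMap.range UN, d • x ∈ LinearMap.range UN)
    (hUN : ∀ x : S' ⊗[S] N, ∃ d ∈ D, IsUnit d ∧ d • x ∈ LinearMap.range UN)
    (Q : Type u) [AddCommGroup Q] [Module A Q]
    (hcore : Function.Injective ((((u.baseChange S').restrictScalars A').comp UN).restrictScalars A |>.rTensor Q)) :
    Function.Injective ((u.restrictScalars A).rTensor Q) := by
  rw [injective_iff_map_eq_zero]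
  intro x hx
  let u' := u.baseChange S'
  let eN : (S' ⊗[S] N) ⊗[A] Q ≃ₗ[S'] S' ⊗[S] (N ⊗[A] Q) := AlgebraTensorModule.assoc A S S' S' N Q
  apply Module.FaithfullyFlat.tensorProduct_mk_injective (A := S) (B := S') (N ⊗[A] Q)
  rw [map_zero]
  obtain ⟨y, hy⟩ := eN.surjective (TensorProduct.mk S S' (N ⊗[A] Q) 1 x)
  rw [← hy]
  suffices h : y = 0 by rw [h, map_zero]
  have hy0 : (u'.restrictScalars A).rTensor Q y = 0 := by
    apply (AlgebraTensorModule.assoc A S S' S' M Q).injective
    rw [map_zero]
    have hnat : ∀ y, (AlgebraTensorModule.assoc A S S' S' M Q) ((u'.restrictScalars A).rTensor Q y) =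
        (AlgebraTensorModule.rTensor A Q u).baseChange S' (eN y) := fun y => by
      induction y using TensorProduct.induction_on with
      | zero => simp only [map_zero]
      | add y z hy hz => simp only [map_add, hy, hz]
      | tmul y t =>
        induction y using TensorProduct.induction_on with
        | zero => simp only [zero_tmul, map_zero]
        | add y z hy hz => simp only [add_tmul, map_add, hy, hz]
        | tmul c d => simp [eN, u']
    rw [hnat, hy, TensorProduct.mk_apply, LinearMap.baseChange_tmul,
      show AlgebraTensorModule.rTensor A Q u x = 0 from hx, TensorProduct.tmul_zero]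
  have hst : ∀ d ∈ D, ∀ w : X ⊗[A] Q,
      d • ((UN.restrictScalars A).rTensor Q w) ∈ LinearMap.range ((UN.restrictScalars A).rTensor Q) := by
    intro d hd w
    induction w using TensorProduct.induction_on with
    | zero => rw [map_zero, smul_zero]; exact zero_mem _
    | add a b ha hb => rw [map_add, smul_add]; exact add_mem ha hb
    | tmul a t =>
      obtain ⟨a', ha'⟩ := hstable d hd (UN a) ⟨a, rfl⟩
      exact ⟨a' ⊗ₜ t, by
        rw [LinearMap.rTensor_tmul, LinearMap.rTensor_tmul, TensorProduct.smul_tmul']
        exact congrArg (· ⊗ₜ t) ha'⟩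
  have hlift : ∃ d ∈ D, IsUnit d ∧ d • y ∈ LinearMap.range ((UN.restrictScalars A).rTensor Q) := by
    clear hy hy0
    induction y using TensorProduct.induction_on with
    | zero => exact ⟨1, one_mem _, isUnit_one, by rw [smul_zero]; exact zero_mem _⟩
    | tmul y t =>
      obtain ⟨d, hd, hdu, z, hz⟩ := hUN y
      exact ⟨d, hd, hdu, z ⊗ₜ t, by rw [LinearMap.rTensor_tmul, TensorProduct.smul_tmul']; exact congrArg (· ⊗ₜ t) hz⟩
    | add y z hy hz =>
      obtain ⟨p, hp, hpu, ⟨y', hy'⟩⟩ := hy
      obtain ⟨r, hr, hru, ⟨z', hz'⟩⟩ := hz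
      refine ⟨p * r, mul_mem hp hr, hpu.mul hru, ?_⟩
      rw [smul_add]
      refine add_mem ?_ ?_
      · rw [mul_comm, mul_smul, ← hy']; exact hst r hr y'
      · rw [mul_smul, ← hz']; exact hst p hp z'
  obtain ⟨d, -, hdu, w, hw⟩ := hlift
  refine hdu.smul_eq_zero.1 ?_
  have hw0 : (((u'.restrictScalars A').comp UN).restrictScalars A).rTensor Q w = 0 := by
    show ((u'.restrictScalars A).comp (UN.restrictScalars A)).rTensor Q w = 0
    rw [LinearMap.rTensor_comp_apply, hw,
      show (u'.restrictScalars A).rTensor Q (d • y) = d • (u'.restrictScalars A).rTensor Q y from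
        (AlgebraTensorModule.rTensor A Q u').map_smul d y, hy0, smul_zero]
  rw [← hw, hcore (hw0.trans (map_zero _).symm), map_zero]

end Groth.Agent.RGLib

end
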