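import Groth.Agent.DimFormula.Scheme
import Groth.Agent.DimFormula.QuasiSection
import Groth.Agent.FibDim.Minimal
import Groth.Agent.FibDim.LocDim
import Mathlib.AlgebraicGeometry.FunctionField

/-!
# Dimension bounds for morphisms locally of finite type
-/

set_option autoImplicit false

universe u

open CategoryTheory CategoryTheory.Limits AlgebraicGeometry TopologicalSpace Order

attribute [local instance] specializationOrder

namespace Groth.Agent.RGLib.DimBound

set_option backward.isDefEq.respectTransparency false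
set_option backward.isDefEq.respectTransparency.types false

open Groth.Agent.DimFormula

variable {X Y : Scheme.{u}} (f : X ⟶ Y) [LocallyOfFiniteType f] [IsLocallyNoetherian Y]

theorem rd_eq_of_trdeg {x : X} {n : ℕ}
    (hn : letI := (f.residueFieldMap x).hom.toAlgebra
      Algebra.trdeg (Y.residueField (f x)) (X.residueField x) = n) : FibDim.rd f x = n := by
  exact_mod_cast (FibDim.rd_eq_rdeg f x).trans hn

theorem rd_le_of_trdeg {x : X} {n : ℕ}
    (hn : letI := (f.residueFieldMap x).hom.toAlgebra
      Algebra.trdeg (Y.residueField (f x)) (X.residueField x) ≤ n) : FibDim.rd f x ≤ n := by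
  exact_mod_cast (FibDim.rd_eq_rdeg f x).le.trans hn

theorem mem_irreducibleComponents_of_maximal {ξ : X} (h : ∀ z, z ⤳ ξ → z = ξ) :
    closure {ξ} ∈ irreducibleComponents ↥X := by
  refine ⟨isIrreducible_singleton.closure, fun Z hZ hle => ?_⟩
  obtain ⟨w, hw⟩ := QuasiSober.sober hZ.closure isClosed_closure
  have hwξ : w ⤳ ξ := hw.specializes (subset_closure (hle (subset_closure (Set.mem_singleton ξ))))
  rw [← h w hwξ, hw.def]
  exact subset_closure

theorem codim_add_rd_le (x : X) (E : ℕ)
    (hE : ∀ ξ : X, closure {ξ} ∈ irreducibleComponents ↥X → ξ ⤳ x → FibDim.rd f ξ ≤ E) :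
    haveI := LocallyOfFiniteType.isLocallyNoetherian f
    codim x + FibDim.rd f x ≤ codim (f x) + E := by
  haveI := LocallyOfFiniteType.isLocallyNoetherian f
  obtain ⟨η, hη, hmax, he⟩ := exists_maximal_cd_eq_codim x
  have h1 := (cd_formula f hη).1
  have h2 := cd_le_codim (hη.map f.continuous)
  have h3 := hE η (mem_irreducibleComponents_of_maximal hmax) hη
  omega

theorem topologicalKrullDim_le (E : ℕ)
    (hE : ∀ ξ : X, closure {ξ} ∈ irreducibleComponents ↥X → FibDim.rd f ξ ≤ E) :
    topologicalKrullDim ↥X ≤ topologicalKrullDim ↥Y + E := by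
  haveI := LocallyOfFiniteType.isLocallyNoetherian f
  rw [FibDim.topologicalKrullDim_eq_iSup_codim]
  refine iSup_le fun x => ?_
  have h := codim_add_rd_le f x E fun ξ hξ _ => hE ξ hξ
  have h2 : ((codim (f x) : ℕ∞) : WithBot ℕ∞) ≤ topologicalKrullDim ↥Y := by
    rw [FibDim.topologicalKrullDim_eq_iSup_codim]
    exact le_iSup (fun y : Y => ((codim y : ℕ∞) : WithBot ℕ∞)) (f x)
  refine le_trans ?_ (add_le_add h2 le_rfl)
  rw [show ((E : ℕ) : WithBot ℕ∞) = (((E : ℕ) : ℕ∞) : WithBot ℕ∞) from rfl, ← WithBot.coe_add,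
    WithBot.coe_le_coe, ← Nat.cast_add]
  exact ENat.coe_le_coe.mpr (by omega)

omit [LocallyOfFiniteType f] [IsLocallyNoetherian Y] in
theorem exists_lift_specializes (hc : IsClosedMap f.base) {z : X} {y : Y} (h : f z ⤳ y) :
    ∃ z', z ⤳ z' ∧ f z' = y := by
  have hcl : IsClosed (f '' closure {z}) := hc _ isClosed_closure
  have : y ∈ f '' closure {z} :=
    hcl.closure_subset_iff.mpr (Set.singleton_subset_iff.mpr ⟨z, subset_closure rfl, rfl⟩)
      (specializes_iff_mem_closure.mp h)
  obtain ⟨z', hz', rfl⟩ := this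
  exact ⟨z', specializes_iff_mem_closure.mpr hz', rfl⟩

theorem le_topologicalKrullDim [IsIntegral X] [IsIntegral Y] [IsDominant f]
    (hc : IsClosedMap f.base) :
    topologicalKrullDim ↥Y + FibDim.rd f (genericPoint X) ≤ topologicalKrullDim ↥X := by
  haveI := LocallyOfFiniteType.isLocallyNoetherian f
  set η := genericPoint X
  have hηY : f η = genericPoint Y := by
    refine ((genericPoint_spec X).image f.continuous).eq ?_
    rw [Set.image_univ, f.denseRange.closure_range]
    exact genericPoint_spec Y
  obtain ⟨w, hw⟩ : (closedPoints ↥(f.fiber (f η))).Nonempty := by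
    haveI : Nonempty ↥(f.fiber (f η)) := ⟨f.asFiber η⟩
    by_contra hne
    have := closure_closedPoints (X := ↥(f.fiber (f η)))
    rw [Set.not_nonempty_iff_eq_empty.mp hne, closure_empty] at this
    exact Set.univ_nonempty.ne_empty this.symm
  have hwy : f (f.fiberι _ w) = f η := by
    have : f.fiberι _ w ∈ Set.range (f.fiberι (f η)) := ⟨w, rfl⟩
    rwa [Scheme.Hom.range_fiberι] at this
  set x := f.fiberι _ w with hx
  have hrd : FibDim.rd f x = 0 := rd_eq_zero_of_closed f fun x' hx' hspec => by
    obtain ⟨w', rfl⟩ : x' ∈ Set.range (f.fiberι (f η)) := by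
      rw [Scheme.Hom.range_fiberι]; exact hx'.trans hwy
    have : w ⤳ w' := (f.fiberι _).isEmbedding.isInducing.specializes_iff.mp hspec
    rw [mem_closedPoints_iff] at hw
    have h3 := specializes_iff_mem_closure.mp this
    rw [hw.closure_eq] at h3
    rw [hx, show w' = w from h3]
  have hcat : CAlg.IsUniversallyCatenary (Y.presheaf.stalk (f x)) := by
    rw [hwy, hηY]
    exact isUniversallyCatenary_field Y.functionField
  have hηx : η ⤳ x := (genericPoint_spec X).specializes trivial
  have hcd := (cd_formula f hηx).2 hcat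
  have h0 : cd (f η) (f x) = 0 := (cd_eq_zero_iff (hwy ▸ specializes_rfl)).2 hwy.symm
  have hn : (FibDim.rd f η : ℕ∞) ≤ coheight x := by
    rw [← coe_codim]
    have := cd_le_codim hηx
    exact ENat.coe_le_coe.mpr (by omega)
  have key : ∀ (k : ℕ) (p : LTSeries Y), p.length = k →
      ∃ z, f z = p.head ∧ (k : ℕ∞) + FibDim.rd f η ≤ coheight z := by
    intro k
    induction k with
    | zero =>
      intro p hp
      obtain ⟨z, hz, hzy⟩ := exists_lift_specializes f hc (z := x) (y := p.head)
        (by rw [hwy, hηY]; exact (genericPoint_spec Y).specializes trivial)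
      exact ⟨z, hzy, by simpa using hn.trans (coheight_anti hz)⟩
    | succ k ih =>
      intro p hp
      obtain ⟨z, hz, hzk⟩ := ih (p.tail (by omega)) (by simp [hp])
      have hlt : p.head < (p.tail (by omega)).head := by
        rw [RelSeries.head_tail]
        refine p.rel_of_lt (i := 0) ?_
        rw [Fin.lt_def, Fin.val_zero, Fin.val_one']
        exact Nat.pos_of_ne_zero (by rw [Nat.mod_eq_of_lt (by omega)]; omega)
      rw [← hz] at hlt
      obtain ⟨z', hz', hzy⟩ := exists_lift_specializes f hc (z := z) (y := p.head) hlt.le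
      refine ⟨z', hzy, ?_⟩
      have hne : z' < z := lt_of_le_of_ne hz' fun e => hlt.ne (by rw [← hzy, e])
      calc ((k + 1 : ℕ) : ℕ∞) + FibDim.rd f η = (k : ℕ∞) + FibDim.rd f η + 1 := by
            push_cast; ring
        _ ≤ coheight z + 1 := add_le_add hzk le_rfl
        _ ≤ coheight z' := coheight_add_one_le hne
  rw [FibDim.topologicalKrullDim_eq_iSup_codim (X := Y), ← WithBot.coe_iSup (OrderTop.bddAbove _),
    show ((FibDim.rd f η : ℕ) : WithBot ℕ∞) = (((FibDim.rd f η : ℕ) : ℕ∞) : WithBot ℕ∞) from rfl,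
    ← WithBot.coe_add, ENat.iSup_add, WithBot.coe_iSup (OrderTop.bddAbove _)]
  refine iSup_le fun y => ?_
  obtain ⟨p, hp0, hp⟩ := exists_series_of_coheight_eq_coe y (coe_codim y).symm
  obtain ⟨z, -, hz⟩ := key _ p hp
  rw [FibDim.topologicalKrullDim_eq_iSup_codim (X := X)]
  refine le_iSup_of_le z ?_
  rw [coe_codim z]
  exact_mod_cast hz

end Groth.Agent.RGLib.DimBound
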