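import Groth.Agent.RGLib.PushoutSections
import Mathlib

/-!
# The fibre square of rings attached to a pushout of ringed spaces
-/

set_option autoImplicit false
set_option linter.style.haveILetI false
set_option backward.isDefEq.respectTransparency false
set_option backward.isDefEq.respectTransparency.types false

open AlgebraicGeometry CategoryTheory CategoryTheory.Limits TopologicalSpace Opposite

namespace Groth.Agent.RGLib.PinchFlat

universe u

variable {X Z Z' X' : Scheme.{u}} {ι : Z ⟶ X} {q : Z ⟶ Z'} {π : X ⟶ X'} {ι' : Z' ⟶ X'}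

theorem comm_of_isPushout
    (hpo : IsPushout ((Scheme.forgetToLocallyRingedSpace ⋙ LocallyRingedSpace.forgetToSheafedSpace).map ι)
      ((Scheme.forgetToLocallyRingedSpace ⋙ LocallyRingedSpace.forgetToSheafedSpace).map q)
      ((Scheme.forgetToLocallyRingedSpace ⋙ LocallyRingedSpace.forgetToSheafedSpace).map π)
      ((Scheme.forgetToLocallyRingedSpace ⋙ LocallyRingedSpace.forgetToSheafedSpace).map ι')) :
    ι ≫ π = q ≫ ι' :=
  (Scheme.forgetToLocallyRingedSpace ⋙ LocallyRingedSpace.forgetToSheafedSpace).map_injective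
    (by rw [Functor.map_comp, Functor.map_comp]; exact hpo.w)

theorem preimage_le (hw : ι ≫ π = q ≫ ι') (V : X'.Opens) : ι ⁻¹ᵁ π ⁻¹ᵁ V ≤ q ⁻¹ᵁ ι' ⁻¹ᵁ V := by
  rw [← Scheme.Hom.comp_preimage, ← Scheme.Hom.comp_preimage, hw]

theorem exists_unique_section
    (hpo : IsPushout ((Scheme.forgetToLocallyRingedSpace ⋙ LocallyRingedSpace.forgetToSheafedSpace).map ι)
      ((Scheme.forgetToLocallyRingedSpace ⋙ LocallyRingedSpace.forgetToSheafedSpace).map q)
      ((Scheme.forgetToLocallyRingedSpace ⋙ LocallyRingedSpace.forgetToSheafedSpace).map π)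
      ((Scheme.forgetToLocallyRingedSpace ⋙ LocallyRingedSpace.forgetToSheafedSpace).map ι'))
    (V : X'.Opens) (x : Γ(X, π ⁻¹ᵁ V)) (z : Γ(Z', ι' ⁻¹ᵁ V))
    (hxz : ι.app _ x = q.appLE (ι' ⁻¹ᵁ V) (ι ⁻¹ᵁ π ⁻¹ᵁ V) (preimage_le (comm_of_isPushout hpo) V) z) :
    ∃! y : Γ(X', V), π.app V y = x ∧ ι'.app V y = z :=
  PushoutSections.exists_unique_section (hpo.map SheafedSpace.forgetToPresheafedSpace) V
    (preimage_le (comm_of_isPushout hpo) V) x z hxz

end Groth.Agent.RGLib.PinchFlat
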