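import Groth.Agent.RGLib.PullbackFrame
import Groth.Agent.RGLib.PinchFlat
import Mathlib

/-!
# Morphisms of locally free modules descend along a square with unique descent of functions
-/

set_option autoImplicit false
set_option linter.style.haveILetI false
set_option backward.isDefEq.respectTransparency false
set_option backward.isDefEq.respectTransparency.types false

open AlgebraicGeometry CategoryTheory CategoryTheory.Limits TopologicalSpace Opposite

namespace Groth.Agent.RGLib.EqualizerFF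

universe u

open Groth.Agent Groth.Agent.RGLib

variable {X Y Z T : Scheme.{u}} {fX : Z ⟶ X} {fY : Z ⟶ Y} {gX : X ⟶ T} {gY : Y ⟶ T} (hw : fX ≫ gX = fY ≫ gY)

/-- The canonical isomorphism of the two iterated pullbacks. -/
noncomputable abbrev xi (N : T.Modules) :
    (Scheme.Modules.pullback fX).obj ((Scheme.Modules.pullback gX).obj N) ≅
      (Scheme.Modules.pullback fY).obj ((Scheme.Modules.pullback gY).obj N) :=
  (Scheme.Modules.pullbackComp fX gX).app N ≪≫ (Scheme.Modules.pullbackCongr hw).app N ≪≫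
    ((Scheme.Modules.pullbackComp fY gY).app N).symm

theorem xi_pullSec (N : T.Modules) {V : T.Opens} {W : Z.Opens} (h₁ : W ≤ fX ⁻¹ᵁ gX ⁻¹ᵁ V)
    (h₂ : W ≤ fY ⁻¹ᵁ gY ⁻¹ᵁ V) (n : Γ(N, V)) :
    (xi hw N).hom.app W (QCoh.pullSec fX _ h₁ (QCoh.pullSec gX N le_rfl n)) =
      QCoh.pullSec fY _ h₂ (QCoh.pullSec gY N le_rfl n) := by
  refine (congrArg (fun t => ((Scheme.Modules.pullbackComp fY gY).inv.app N).app W
    (((Scheme.Modules.pullbackCongr hw).hom.app N).app W t)) (ExistEasy.pullSec_comp fX gX N le_rfl h₁ n)).trans ?_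
  refine (congrArg (((Scheme.Modules.pullbackComp fY gY).inv.app N).app W)
    (ExistEasy.pullSec_congr hw N _ n)).trans ?_
  refine Eq.trans ?_ (congrArg (fun φ : (Scheme.Modules.pullback gY ⋙ Scheme.Modules.pullback fY).obj N ⟶
      (Scheme.Modules.pullback gY ⋙ Scheme.Modules.pullback fY).obj N => Scheme.Modules.Hom.app φ W
        (QCoh.pullSec fY _ h₂ (QCoh.pullSec gY N le_rfl n)))
    ((Scheme.Modules.pullbackComp fY gY).hom_inv_id_app N))
  exact congrArg (((Scheme.Modules.pullbackComp fY gY).inv.app N).app W)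
    (ExistEasy.pullSec_comp fY gY N le_rfl h₂ n).symm

theorem pullSec_comb' {A B : Scheme.{u}} (g : A ⟶ B) (N : B.Modules) {m : ℕ} {U : B.Opens} (e : Fin m → Γ(N, U))
    {W : B.Opens} {W' : A.Opens} (hW : W ≤ U) (hW' : W' ≤ g ⁻¹ᵁ W) (c : Fin m → Γ(B, W)) :
    QCoh.pullSec g N hW' (H23.Frame.comb N e W hW c) =
      H23.Frame.comb ((Scheme.Modules.pullback g).obj N) (fun i => QCoh.pullSec g N le_rfl (e i))
        W' (hW'.trans (g.preimage_mono hW)) (fun i => g.appLE W W' hW' (c i)) := by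
  let φ : Γ(N, W) →+ Γ((Scheme.Modules.pullback g).obj N, W') :=
    AddMonoidHom.mk' (QCoh.pullSec g N hW') (QCoh.pullSec_add g N hW')
  show φ _ = _
  unfold H23.Frame.comb
  rw [map_sum]
  refine Finset.sum_congr rfl fun i _ => ?_
  show QCoh.pullSec g N hW' (c i • _) = _
  rw [QCoh.pullSec_smul, ← ExistEasy.pullSec_res g N hW (hW'.trans (g.preimage_mono hW)) le_rfl hW']

theorem pullSec_comb {A B : Scheme.{u}} (g : A ⟶ B) (N : B.Modules) {m : ℕ} {U : B.Opens} (e : Fin m → Γ(N, U))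
    {W : B.Opens} (hW : W ≤ U) (c : Fin m → Γ(B, W)) :
    QCoh.pullSec g N le_rfl (H23.Frame.comb N e W hW c) =
      H23.Frame.comb ((Scheme.Modules.pullback g).obj N) (fun i => QCoh.pullSec g N le_rfl (e i))
        (g ⁻¹ᵁ W) (g.preimage_mono hW) (fun i => g.app W (c i)) := by
  let φ : Γ(N, W) →+ Γ((Scheme.Modules.pullback g).obj N, g ⁻¹ᵁ W) :=
    AddMonoidHom.mk' (QCoh.pullSec g N le_rfl) (QCoh.pullSec_add g N le_rfl)
  show φ _ = _
  unfold H23.Frame.comb
  rw [map_sum]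
  refine Finset.sum_congr rfl fun i _ => ?_
  show QCoh.pullSec g N le_rfl (c i • _) = _
  rw [QCoh.pullSec_smul, ← ExistEasy.pullSec_res g N hW (g.preimage_mono hW) le_rfl le_rfl, Scheme.Hom.app_eq_appLE]

/-- Compatibility of a pair of sections of the two pullbacks. -/
def Compat (N : T.Modules) (V : T.Opens) (hle : fX ⁻¹ᵁ gX ⁻¹ᵁ V ≤ fY ⁻¹ᵁ gY ⁻¹ᵁ V)
    (x : Γ((Scheme.Modules.pullback gX).obj N, gX ⁻¹ᵁ V)) (y : Γ((Scheme.Modules.pullback gY).obj N, gY ⁻¹ᵁ V)) :
    Prop :=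
  (xi hw N).hom.app (fX ⁻¹ᵁ gX ⁻¹ᵁ V) (QCoh.pullSec fX _ le_rfl x) = QCoh.pullSec fY _ hle y

/-- Functions on `T` are pairs of functions on `X` and `Y` agreeing on `Z`. -/
def SectDesc (fX : Z ⟶ X) (fY : Z ⟶ Y) (gX : X ⟶ T) (gY : Y ⟶ T) : Prop :=
  ∀ (V : T.Opens) (a : Γ(X, gX ⁻¹ᵁ V)) (b : Γ(Y, gY ⁻¹ᵁ V))
    (h : fX ⁻¹ᵁ gX ⁻¹ᵁ V ≤ fY ⁻¹ᵁ gY ⁻¹ᵁ V),
    fX.app (gX ⁻¹ᵁ V) a = fY.appLE (gY ⁻¹ᵁ V) (fX ⁻¹ᵁ gX ⁻¹ᵁ V) h b →
      ∃! r : Γ(T, V), gX.app V r = a ∧ gY.app V r = b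

variable (hpo : SectDesc fX fY gX gY)

include hpo in
theorem existsUnique_of_frame {N : T.Modules} (hN : Coh.IsQCoh N) {m : ℕ} {U : T.Opens} {e : Fin m → Γ(N, U)}
    (he : H23.Frame.IsFrame N e) {V : T.Opens} (hV : V ≤ U) (hle : fX ⁻¹ᵁ gX ⁻¹ᵁ V ≤ fY ⁻¹ᵁ gY ⁻¹ᵁ V)
    (x : Γ((Scheme.Modules.pullback gX).obj N, gX ⁻¹ᵁ V)) (y : Γ((Scheme.Modules.pullback gY).obj N, gY ⁻¹ᵁ V))
    (hc : Compat hw N V hle x y) :
    ∃! n : Γ(N, V), QCoh.pullSec gX N le_rfl n = x ∧ QCoh.pullSec gY N le_rfl n = y := by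
  have hX := PullbackFrame.isFrame_pullback gX hN he
  have hY := PullbackFrame.isFrame_pullback gY hN he
  obtain ⟨a, rfl⟩ := (hX (gX ⁻¹ᵁ V) (gX.preimage_mono hV)).2 x
  obtain ⟨b, rfl⟩ := (hY (gY ⁻¹ᵁ V) (gY.preimage_mono hV)).2 y
  have hYN : Coh.IsQCoh ((Scheme.Modules.pullback gY).obj N) := QCoh.isQCoh_pullback gY hN
  have hZ := PullbackFrame.isFrame_pullback fY hYN hY
  let W := fX ⁻¹ᵁ gX ⁻¹ᵁ V
  have hW : W ≤ fY ⁻¹ᵁ gY ⁻¹ᵁ U := hle.trans (fY.preimage_mono (gY.preimage_mono hV))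
  have hWX : W ≤ fX ⁻¹ᵁ gX ⁻¹ᵁ U := fX.preimage_mono (gX.preimage_mono hV)
  have h1 : (xi hw N).hom.app W (QCoh.pullSec fX _ le_rfl
      (H23.Frame.comb ((Scheme.Modules.pullback gX).obj N) (fun i => QCoh.pullSec gX N le_rfl (e i))
        (gX ⁻¹ᵁ V) (gX.preimage_mono hV) a)) =
      H23.Frame.comb ((Scheme.Modules.pullback fY).obj ((Scheme.Modules.pullback gY).obj N))
        (fun i => QCoh.pullSec fY _ le_rfl (QCoh.pullSec gY N le_rfl (e i))) W hW
        (fun i => fX.app (gX ⁻¹ᵁ V) (a i)) := by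
    rw [pullSec_comb fX _ _ (gX.preimage_mono hV) a]
    unfold H23.Frame.comb
    rw [map_sum]
    refine Finset.sum_congr rfl fun i _ => ?_
    rw [Scheme.Modules.Hom.app_smul, QCoh.map_app_comm, xi_pullSec hw N le_rfl (PinchFlat.preimage_le hw U)]
    unfold QCoh.pullSec
    rw [QCoh.map_map, QCoh.map_map]; rfl
  have h2 : QCoh.pullSec fY _ hle
      (H23.Frame.comb ((Scheme.Modules.pullback gY).obj N) (fun i => QCoh.pullSec gY N le_rfl (e i))
        (gY ⁻¹ᵁ V) (gY.preimage_mono hV) b) =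
      H23.Frame.comb ((Scheme.Modules.pullback fY).obj ((Scheme.Modules.pullback gY).obj N))
        (fun i => QCoh.pullSec fY _ le_rfl (QCoh.pullSec gY N le_rfl (e i))) W hW
        (fun i => fY.appLE (gY ⁻¹ᵁ V) W hle (b i)) :=
    pullSec_comb' fY _ _ (gY.preimage_mono hV) hle b
  have hcoef := (hZ W hW).1 (h1.symm.trans (hc.trans h2))
  have hsec : ∀ i, ∃! r : Γ(T, V), gX.app V r = a i ∧ gY.app V r = b i := fun i =>
    hpo V (a i) (b i) hle (congrFun hcoef i)
  choose r hr hru using hsec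
  refine ⟨H23.Frame.comb N e V hV r, ⟨?_, ?_⟩, fun n' hn' => ?_⟩
  · exact (pullSec_comb gX N e hV r).trans (congrArg (H23.Frame.comb _ _ _ _) (funext fun i => (hr i).1))
  · exact (pullSec_comb gY N e hV r).trans (congrArg (H23.Frame.comb _ _ _ _) (funext fun i => (hr i).2))
  · obtain ⟨r', rfl⟩ := (he V hV).2 n'
    obtain ⟨hn1, hn2⟩ := hn'
    rw [pullSec_comb gX N e hV r'] at hn1
    rw [pullSec_comb gY N e hV r'] at hn2
    have i1 := (hX (gX ⁻¹ᵁ V) (gX.preimage_mono hV)).1 hn1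
    have i2 := (hY (gY ⁻¹ᵁ V) (gY.preimage_mono hV)).1 hn2
    exact congrArg (H23.Frame.comb N e V hV) (funext fun i => hru i (r' i) ⟨congrFun i1 i, congrFun i2 i⟩)

include hpo in
theorem existsUnique_section {N : T.Modules} (hN : FlatMod.IsFinLocFree N) (V : T.Opens)
    (hle : ∀ W : T.Opens, fX ⁻¹ᵁ gX ⁻¹ᵁ W ≤ fY ⁻¹ᵁ gY ⁻¹ᵁ W)
    (x : Γ((Scheme.Modules.pullback gX).obj N, gX ⁻¹ᵁ V)) (y : Γ((Scheme.Modules.pullback gY).obj N, gY ⁻¹ᵁ V))
    (hc : Compat hw N V (hle V) x y) :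
    ∃! n : Γ(N, V), QCoh.pullSec gX N le_rfl n = x ∧ QCoh.pullSec gY N le_rfl n = y := by
  choose U m e hpU he using fun p : V => PullbackFrame.exists_frame_nhd hN p.1
  let PX := (Scheme.Modules.pullback gX).obj N
  let PY := (Scheme.Modules.pullback gY).obj N
  let ZZ := (Scheme.Modules.pullback fY).obj PY
  have hres : ∀ (V' : T.Opens) (i : V' ≤ V), Compat hw N V' (hle V')
      (PX.presheaf.map (homOfLE (gX.preimage_mono i)).op x) (PY.presheaf.map (homOfLE (gY.preimage_mono i)).op y) := by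
    intro V' i
    unfold Compat
    rw [← ExistEasy.pullSec_res fX PX (gX.preimage_mono i) (fX.preimage_mono (gX.preimage_mono i)) le_rfl le_rfl,
      QCoh.map_app_comm, hc,
      ExistEasy.pullSec_res fY PY (gY.preimage_mono i) (fX.preimage_mono (gX.preimage_mono i)) (hle V) (hle V')]
  have key : ∀ (p : V) (V' : T.Opens) (h1 : V' ≤ V) (h2 : V' ≤ U p), ∃! n : Γ(N, V'),
      QCoh.pullSec gX N le_rfl n = PX.presheaf.map (homOfLE (gX.preimage_mono h1)).op x ∧
      QCoh.pullSec gY N le_rfl n = PY.presheaf.map (homOfLE (gY.preimage_mono h1)).op y := fun p V' h1 h2 =>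
    existsUnique_of_frame hw hpo (QCoh.isQCoh_of_isFinLocFree hN) (he p) h2 (hle V') _ _ (hres V' h1)
  have hnat : ∀ {V' V'' : T.Opens} (i : V'' ≤ V') (n : Γ(N, V')),
      QCoh.pullSec gX N le_rfl (N.presheaf.map (homOfLE i).op n) =
        PX.presheaf.map (homOfLE (gX.preimage_mono i)).op (QCoh.pullSec gX N le_rfl n) ∧
      QCoh.pullSec gY N le_rfl (N.presheaf.map (homOfLE i).op n) =
        PY.presheaf.map (homOfLE (gY.preimage_mono i)).op (QCoh.pullSec gY N le_rfl n) := fun i n =>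
    ⟨(ExistEasy.pullSec_res gX N i (gX.preimage_mono i) le_rfl le_rfl n).symm,
      (ExistEasy.pullSec_res gY N i (gY.preimage_mono i) le_rfl le_rfl n).symm⟩
  let B : V → T.Opens := fun p => V ⊓ U p
  choose n hn hnu using fun p => key p (B p) inf_le_left inf_le_right
  have hcov : V ≤ ⨆ p, B p := fun p hp => Opens.mem_iSup.2 ⟨⟨p, hp⟩, hp, hpU ⟨p, hp⟩⟩
  obtain ⟨s, hs, -⟩ := TopCat.Sheaf.existsUnique_gluing' ⟨N.presheaf, N.isSheaf⟩ B V
    (fun p => homOfLE inf_le_left) hcov n fun p q => by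
      show N.presheaf.map (homOfLE (inf_le_left : B p ⊓ B q ≤ B p)).op (n p) =
        N.presheaf.map (homOfLE (inf_le_right : B p ⊓ B q ≤ B q)).op (n q)
      refine (key p (B p ⊓ B q) (inf_le_left.trans inf_le_left) (inf_le_left.trans inf_le_right)).unique ?_ ?_
      · refine ⟨?_, ?_⟩
        · rw [(hnat _ _).1, (hn p).1]; exact QCoh.map_map _ _ _
        · rw [(hnat _ _).2, (hn p).2]; exact QCoh.map_map _ _ _
      · refine ⟨?_, ?_⟩
        · rw [(hnat _ _).1, (hn q).1]; exact QCoh.map_map _ _ _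
        · rw [(hnat _ _).2, (hn q).2]; exact QCoh.map_map _ _ _
  have hs' : ∀ p, N.presheaf.map (homOfLE (inf_le_left : B p ≤ V)).op s = n p := hs
  refine ⟨s, ⟨?_, ?_⟩, fun s' hs2 => ?_⟩
  · refine TopCat.Sheaf.eq_of_locally_eq' ⟨PX.presheaf, PX.isSheaf⟩ (fun p => gX ⁻¹ᵁ B p) (gX ⁻¹ᵁ V)
      (fun p => homOfLE (gX.preimage_mono inf_le_left)) ?_ _ _ fun p => ?_
    · rw [← Scheme.Hom.preimage_iSup]; exact gX.preimage_mono hcov
    · exact ((hnat _ _).1.symm.trans (congrArg (QCoh.pullSec gX N le_rfl) (hs' p))).trans (hn p).1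
  · refine TopCat.Sheaf.eq_of_locally_eq' ⟨PY.presheaf, PY.isSheaf⟩ (fun p => gY ⁻¹ᵁ B p) (gY ⁻¹ᵁ V)
      (fun p => homOfLE (gY.preimage_mono inf_le_left)) ?_ _ _ fun p => ?_
    · rw [← Scheme.Hom.preimage_iSup]; exact gY.preimage_mono hcov
    · exact ((hnat _ _).2.symm.trans (congrArg (QCoh.pullSec gY N le_rfl) (hs' p))).trans (hn p).2
  · refine TopCat.Sheaf.eq_of_locally_eq' ⟨N.presheaf, N.isSheaf⟩ B V (fun p => homOfLE inf_le_left) hcov _ _
      fun p => ?_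
    refine (hnu p _ ⟨?_, ?_⟩).trans (hs' p).symm
    · rw [(hnat _ _).1, hs2.1]
    · rw [(hnat _ _).2, hs2.2]

include hpo in
theorem fullyFaithful (M N : T.Modules) (hN : FlatMod.IsFinLocFree N) :
    (∀ φ ψ : M ⟶ N, (Scheme.Modules.pullback gX).map φ = (Scheme.Modules.pullback gX).map ψ →
        (Scheme.Modules.pullback gY).map φ = (Scheme.Modules.pullback gY).map ψ → φ = ψ) ∧
      (∀ (a : (Scheme.Modules.pullback gX).obj M ⟶ (Scheme.Modules.pullback gX).obj N)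
        (b : (Scheme.Modules.pullback gY).obj M ⟶ (Scheme.Modules.pullback gY).obj N),
        (Scheme.Modules.pullback fX).map a ≫ (xi hw N).hom = (xi hw M).hom ≫ (Scheme.Modules.pullback fY).map b →
        ∃ φ : M ⟶ N, (Scheme.Modules.pullback gX).map φ = a ∧ (Scheme.Modules.pullback gY).map φ = b) := by
  have hle : ∀ W : T.Opens, fX ⁻¹ᵁ gX ⁻¹ᵁ W ≤ fY ⁻¹ᵁ gY ⁻¹ᵁ W := fun W => PinchFlat.preimage_le hw W
  have hcan : ∀ (V : T.Opens) (n : Γ(N, V)), Compat hw N V (hle V) (QCoh.pullSec gX N le_rfl n)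
      (QCoh.pullSec gY N le_rfl n) := fun V n => xi_pullSec hw N le_rfl (hle V) n
  refine ⟨fun φ ψ h1 h2 => Scheme.Modules.hom_ext _ _ fun V => ?_, fun a b hab => ?_⟩
  · ext s
    refine (existsUnique_section hw hpo hN V hle _ _ (hcan V (φ.app V s))).unique ⟨rfl, rfl⟩ ⟨?_, ?_⟩
    · rw [← ExistEasy.pullSec_natural gX φ, ← ExistEasy.pullSec_natural gX ψ, h1]
    · rw [← ExistEasy.pullSec_natural gY φ, ← ExistEasy.pullSec_natural gY ψ, h2]
  · have hcompat : ∀ (V : T.Opens) (s : Γ(M, V)), Compat hw N V (hle V)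
        (a.app _ (QCoh.pullSec gX M le_rfl s)) (b.app _ (QCoh.pullSec gY M le_rfl s)) := fun V s => by
      unfold Compat
      rw [← ExistEasy.pullSec_natural fX a, ← ExistEasy.pullSec_natural fY b,
        ← xi_pullSec hw M le_rfl (hle V) s]
      exact congrArg (fun φ => Scheme.Modules.Hom.app φ _ (QCoh.pullSec fX _ le_rfl (QCoh.pullSec gX M le_rfl s))) hab
    choose f hf hfu using fun (V : T.Opens) (s : Γ(M, V)) => existsUnique_section hw hpo hN V hle _ _ (hcompat V s)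
    let φ : M ⟶ N :=
      { val := PresheafOfModules.homMk
          { app := fun V => AddCommGrpCat.ofHom (AddMonoidHom.mk' (f V.unop) fun s t => (hfu _ _ _ ⟨by
              rw [QCoh.pullSec_add, QCoh.pullSec_add, (hf _ s).1, (hf _ t).1, map_add], by
              rw [QCoh.pullSec_add, QCoh.pullSec_add, (hf _ s).2, (hf _ t).2, map_add]⟩).symm)
            naturality := fun V V' i => by
              ext s
              have hi : V'.unop ≤ V.unop := i.unop.le
              show f V'.unop (M.presheaf.map (homOfLE hi).op s) = N.presheaf.map (homOfLE hi).op (f V.unop s)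
              refine (hfu _ _ _ ⟨?_, ?_⟩).symm
              · rw [← ExistEasy.pullSec_res gX N hi (gX.preimage_mono hi) le_rfl le_rfl, (hf _ s).1,
                  ← ExistEasy.pullSec_res gX M hi (gX.preimage_mono hi) le_rfl le_rfl, QCoh.map_app_comm]
              · rw [← ExistEasy.pullSec_res gY N hi (gY.preimage_mono hi) le_rfl le_rfl, (hf _ s).2,
                  ← ExistEasy.pullSec_res gY M hi (gY.preimage_mono hi) le_rfl le_rfl, QCoh.map_app_comm] }
          fun V r s => by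
            let r' : Γ(T, V.unop) := r
            let s' : Γ(M, V.unop) := s
            show f V.unop (r' • s') = r' • f V.unop s'
            refine (hfu _ _ _ ⟨?_, ?_⟩).symm
            · rw [QCoh.pullSec_smul, QCoh.pullSec_smul, (hf _ s').1, Scheme.Modules.Hom.app_smul]
            · rw [QCoh.pullSec_smul, QCoh.pullSec_smul, (hf _ s').2, Scheme.Modules.Hom.app_smul] }
    have ext' : ∀ {A : Scheme.{u}} (g : A ⟶ T) (α β : (Scheme.Modules.pullback g).obj M ⟶ (Scheme.Modules.pullback g).obj N),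
        (∀ (V : T.Opens) (s : Γ(M, V)), α.app _ (QCoh.pullSec g M (le_refl (g ⁻¹ᵁ V)) s) =
          β.app _ (QCoh.pullSec g M (le_refl (g ⁻¹ᵁ V)) s)) → α = β := fun g α β h => by
      refine ((Scheme.Modules.pullbackPushforwardAdjunction g).homEquiv _ _).injective ?_
      rw [Adjunction.homEquiv_unit, Adjunction.homEquiv_unit]
      refine Scheme.Modules.hom_ext _ _ fun V => ?_
      ext s
      have e : ((Scheme.Modules.pullbackPushforwardAdjunction g).unit.app M).app V s =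
          QCoh.pullSec g M (le_refl (g ⁻¹ᵁ V)) s :=
        (ConcreteCategory.congr_hom (((Scheme.Modules.pullback g).obj M).presheaf.map_id _) _).symm
      show α.app (g ⁻¹ᵁ V) (((Scheme.Modules.pullbackPushforwardAdjunction g).unit.app M).app V s) =
        β.app (g ⁻¹ᵁ V) (((Scheme.Modules.pullbackPushforwardAdjunction g).unit.app M).app V s)
      rw [e]; exact h V s
    exact ⟨φ, ext' gX _ _ fun V s => (ExistEasy.pullSec_natural gX φ le_rfl s).trans (hf V s).1,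
      ext' gY _ _ fun V s => (ExistEasy.pullSec_natural gY φ le_rfl s).trans (hf V s).2⟩

end Groth.Agent.RGLib.EqualizerFF

namespace Groth.Agent.RGLib.EqualizerFF

universe u

open AlgebraicGeometry CategoryTheory CategoryTheory.Limits Opposite

variable {X Y : Scheme.{u}} (f : X ⟶ Y)

theorem sectDesc_of_equalizer
    (hU : ∀ U : Y.Opens, (pullback.fst f f) ⁻¹ᵁ (f ⁻¹ᵁ U) = (pullback.snd f f) ⁻¹ᵁ (f ⁻¹ᵁ U))
    (hinj : ∀ U : Y.Opens, Function.Injective (f.app U))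
    (hex : ∀ (U : Y.Opens) (a : Γ(X, f ⁻¹ᵁ U)),
      (pullback.fst f f).app (f ⁻¹ᵁ U) a =
        ((pullback f f).presheaf.map (eqToHom (hU U)).op) ((pullback.snd f f).app (f ⁻¹ᵁ U) a) →
      a ∈ Set.range (f.app U)) :
    SectDesc (pullback.fst f f) (pullback.snd f f) f f := by
  intro V a b h hab
  have key : ∀ (p : pullback f f ⟶ X) (hp : pullback.diagonal f ≫ p = 𝟙 X) (W : (pullback f f).Opens)
      (hW : W ≤ p ⁻¹ᵁ (f ⁻¹ᵁ V)) (hd : f ⁻¹ᵁ V ≤ pullback.diagonal f ⁻¹ᵁ W) (c : Γ(X, f ⁻¹ᵁ V)),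
      (pullback.diagonal f).appLE W (f ⁻¹ᵁ V) hd (p.appLE (f ⁻¹ᵁ V) W hW c) = c := by
    intro p hp W hW hd c
    have e : p.appLE (f ⁻¹ᵁ V) W hW ≫ (pullback.diagonal f).appLE W (f ⁻¹ᵁ V) hd = 𝟙 _ := by
      rw [Scheme.Hom.appLE_comp_appLE]
      have h1 : ∀ (q : X ⟶ X) (_ : q = 𝟙 X) (h' : f ⁻¹ᵁ V ≤ q ⁻¹ᵁ (f ⁻¹ᵁ V)),
          q.appLE (f ⁻¹ᵁ V) (f ⁻¹ᵁ V) h' = 𝟙 _ := by
        rintro q rfl h'
        simp [Scheme.Hom.appLE]
        exact X.presheaf.map_id _
      exact h1 _ hp _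
    exact ConcreteCategory.congr_hom e c
  have hd : f ⁻¹ᵁ V ≤ pullback.diagonal f ⁻¹ᵁ (pullback.fst f f ⁻¹ᵁ (f ⁻¹ᵁ V)) := by
    intro x hx
    show pullback.fst f f (pullback.diagonal f x) ∈ f ⁻¹ᵁ V
    rw [← Scheme.Hom.comp_apply, pullback.diagonal_fst]
    exact hx
  have hab' : a = b := by
    have h1 := congrArg ((pullback.diagonal f).appLE _ _ hd) hab
    rw [Scheme.Hom.app_eq_appLE, key _ (pullback.diagonal_fst f) _ le_rfl hd,
      key _ (pullback.diagonal_snd f) _ h hd] at h1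
    exact h1
  subst hab'
  obtain ⟨r, rfl⟩ := hex V a (hab.trans rfl)
  exact ⟨r, ⟨rfl, rfl⟩, fun r' hr' => hinj V hr'.1⟩

theorem existsUnique_hom (hsec : SectDesc (pullback.fst f f) (pullback.snd f f) f f)
    (L M : Y.Modules) (hM : FlatMod.IsFinLocFree M)
    (φ : (Scheme.Modules.pullback f).obj L ⟶ (Scheme.Modules.pullback f).obj M)
    (hφ : ((Scheme.Modules.pullbackComp (pullback.fst f f) f).app L).inv ≫
        (Scheme.Modules.pullback (pullback.fst f f)).map φ ≫ ((Scheme.Modules.pullbackComp (pullback.fst f f) f).app M).hom =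
      ((Scheme.Modules.pullbackCongr (pullback.condition (f := f) (g := f))).app L).hom ≫
        ((Scheme.Modules.pullbackComp (pullback.snd f f) f).app L).inv ≫
        (Scheme.Modules.pullback (pullback.snd f f)).map φ ≫ ((Scheme.Modules.pullbackComp (pullback.snd f f) f).app M).hom ≫
        ((Scheme.Modules.pullbackCongr (pullback.condition (f := f) (g := f))).app M).inv) :
    ∃! ψ : L ⟶ M, (Scheme.Modules.pullback f).map ψ = φ := by
  have hw := pullback.condition (f := f) (g := f)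
  obtain ⟨h1, h2⟩ := fullyFaithful hw hsec L M hM
  obtain ⟨ψ, hψ, -⟩ := h2 φ φ (by
    have h3 := congrArg (fun t => ((Scheme.Modules.pullbackComp (pullback.fst f f) f).app L).hom ≫ t ≫
      ((Scheme.Modules.pullbackCongr hw).app M).hom ≫ ((Scheme.Modules.pullbackComp (pullback.snd f f) f).app M).inv) hφ
    simp only [Category.assoc, Iso.hom_inv_id_assoc, Iso.inv_hom_id_assoc, Iso.hom_inv_id, Category.comp_id] at h3
    simp only [xi, Iso.trans_hom, Iso.symm_hom, Category.assoc]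
    exact h3)
  exact ⟨ψ, hψ, fun ψ' hψ' => h1 ψ' ψ (hψ'.trans hψ.symm) (hψ'.trans hψ.symm)⟩

end Groth.Agent.RGLib.EqualizerFF
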