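import Groth.Agent.RGLib.Jacobian
import Groth.Agent.SliceLib.Ring

/-!
# Étale coordinates adapted to a smooth closed subscheme
-/

set_option autoImplicit false
set_option maxHeartbeats 1600000
set_option backward.isDefEq.respectTransparency false
set_option backward.isDefEq.respectTransparency.types false
universe u

open TensorProduct IsLocalRing

noncomputable section

namespace Groth.Agent.RGLib.EtaleCoord

open Groth.Agent.RGLib.Jacobian

section

variable {R A : Type u} [CommRing R] [CommRing A] [Algebra R A]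

/-- Smoothness of `A / I` at a point as the injectivity of the conormal map. -/
theorem isSmoothAt_iff_of_fg (I : Ideal A) (hI : I.FG) (P : Ideal (A ⧸ I)) [P.IsPrime]
    (q : Ideal A) [q.IsPrime] (hq : q = P.comap (Ideal.Quotient.mk I)) [Algebra.IsSmoothAt R q]
    [Module.Free (Localization.AtPrime q) Ω[Localization.AtPrime q⁄R]]
    [Module.Finite (Localization.AtPrime q) Ω[Localization.AtPrime q⁄R]] :
    Algebra.IsSmoothAt R P ↔ ∀ y ∈ I.map (algebraMap A (Localization.AtPrime q)),
      (1 : q.ResidueField) ⊗ₜ[Localization.AtPrime q] KaehlerDifferential.D R (Localization.AtPrime q) y = 0 →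
      y ∈ maximalIdeal (Localization.AtPrime q) • I.map (algebraMap A (Localization.AtPrime q)) := by
  subst hq
  let q := P.comap (Ideal.Quotient.mk I)
  let Aq := Localization.AtPrime q
  let S := Localization.AtPrime P
  let ρ : Aq →+* S := Localization.localRingHom q P (Ideal.Quotient.mk I) rfl
  letI : Algebra Aq S := ρ.toAlgebra
  haveI : IsScalarTower R Aq S := .of_algebraMap_eq fun r => by
    show _ = ρ (algebraMap R Aq r)
    rw [IsScalarTower.algebraMap_apply R A Aq, Localization.localRingHom_to_map]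
    exact IsScalarTower.algebraMap_apply R (A ⧸ I) S r
  have hsurj : Function.Surjective (algebraMap Aq S) :=
    (RingHom.surjectiveOnStalks_of_surjective Ideal.Quotient.mk_surjective).localRingHom_surjective _ _ rfl
  have hT : Submonoid.map (Ideal.Quotient.mk I) q.primeCompl = P.primeCompl := by
    ext z
    refine ⟨?_, fun hz => ?_⟩
    · rintro ⟨a, ha, rfl⟩
      exact ha
    · obtain ⟨a, rfl⟩ := Ideal.Quotient.mk_surjective z
      exact ⟨a, hz, rfl⟩
  have hker : RingHom.ker (algebraMap Aq S) = I.map (algebraMap A Aq) := by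
    have := IsLocalization.ker_map (S := Aq) (M := q.primeCompl) (T := P.primeCompl) S (Ideal.Quotient.mk I) hT
    rw [Ideal.mk_ker] at this
    exact this
  let k := q.ResidueField
  haveI : IsLocalHom (algebraMap Aq S) := Localization.isLocalHom_localRingHom _ _ _ rfl
  let g₀ : { g : Aq →+* k // RingHom.ker (algebraMap Aq S) ≤ RingHom.ker g } := ⟨algebraMap Aq k, fun z hz => by
    rw [RingHom.mem_ker] at hz ⊢
    refine (IsLocalRing.residue_eq_zero_iff _).2 fun hu => ?_
    have := hu.map (algebraMap Aq S)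
    rw [hz] at this
    exact not_isUnit_zero this⟩
  let χ : S →+* k := (algebraMap Aq S).liftOfRightInverse _ (Function.rightInverse_surjInv hsurj) g₀
  letI : Algebra S k := χ.toAlgebra
  haveI : IsScalarTower Aq S k := .of_algebraMap_eq fun z => by
    show _ = χ (algebraMap Aq S z)
    exact (RingHom.liftOfRightInverse_comp_apply (C := k) (algebraMap Aq S) _ (Function.rightInverse_surjInv hsurj) g₀ z).symm
  have hm : maximalIdeal S ≤ RingHom.ker (algebraMap S k) := fun z hz => by
    obtain ⟨w, rfl⟩ := hsurj z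
    rw [RingHom.mem_ker, ← IsScalarTower.algebraMap_apply]
    exact (IsLocalRing.residue_eq_zero_iff _).2 fun hu => hz (hu.map _)
  rw [show Algebra.IsSmoothAt R P ↔ _ from Algebra.FormallySmooth.iff_injective_cotangentComplexBaseChange
    (R := R) (S := S) Aq k hsurj (hker ▸ hI.map _) hm]
  refine ⟨fun h y hy h0 => ?_, fun h => (injective_iff_map_eq_zero _).2 fun z hz => ?_⟩
  · have h1 : (1 : k) ⊗ₜ[Aq] (⟨y, hker ▸ hy⟩ : RingHom.ker (algebraMap Aq S)) = 0 := by
      refine (injective_iff_map_eq_zero _).1 h _ ?_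
      rw [KaehlerDifferential.cotangentComplexBaseChange_tmul, one_smul, KaehlerDifferential.kerToTensor_apply]
      exact h0
    have h3 : (⟨y, hker ▸ hy⟩ : RingHom.ker (algebraMap Aq S)) ∈
        maximalIdeal Aq • (⊤ : Submodule Aq (RingHom.ker (algebraMap Aq S))) := mem_smul_of_tmul_eq_zero h1
    have h4 := Submodule.mem_map_of_mem (f := (RingHom.ker (algebraMap Aq S)).subtype) h3
    rw [Submodule.map_smul'', Submodule.map_top, Submodule.range_subtype] at h4
    have h5 : y ∈ maximalIdeal Aq • RingHom.ker (algebraMap Aq S) := h4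
    rwa [hker] at h5
  · obtain ⟨⟨y, hy⟩, rfl⟩ := exists_tmul_one (surjective_residueField q) z
    rw [KaehlerDifferential.cotangentComplexBaseChange_tmul, one_smul, KaehlerDifferential.kerToTensor_apply] at hz
    have h4 := h y (hker ▸ hy) hz
    have h3 : (⟨y, hy⟩ : RingHom.ker (algebraMap Aq S)) ∈
        maximalIdeal Aq • (⊤ : Submodule Aq (RingHom.ker (algebraMap Aq S))) := by
      rw [← hker] at h4
      have : y ∈ (maximalIdeal Aq • (⊤ : Submodule Aq (RingHom.ker (algebraMap Aq S)))).map
          (RingHom.ker (algebraMap Aq S)).subtype := by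
        rw [Submodule.map_smul'', Submodule.map_top, Submodule.range_subtype]
        exact h4
      obtain ⟨w, hw, hwy⟩ := this
      rwa [show (⟨y, hy⟩ : RingHom.ker (algebraMap Aq S)) = w from Subtype.ext hwy.symm]
    refine Submodule.smul_induction_on h3 (fun c hc w _ => ?_) (fun a b ha hb => by rw [TensorProduct.tmul_add, ha, hb, add_zero])
    rw [← TensorProduct.smul_tmul, Algebra.smul_def, mul_one,
      show algebraMap Aq k c = 0 from (IsLocalRing.residue_eq_zero_iff c).2 hc, TensorProduct.zero_tmul]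

end

/-- A smooth algebra whose differentials have the `d (b i)` as a basis is étale over the polynomial ring. -/
theorem etale_aeval_of_basis {A B : Type u} [CommRing A] [CommRing B] [Algebra A B] [Algebra.Smooth A B]
    {σ : Type} [Finite σ] (b : σ → B) (β : Module.Basis σ B (Ω[B⁄A]))
    (hβ : ∀ i, β i = KaehlerDifferential.D A B (b i)) :
    (MvPolynomial.aeval (R := A) b).toRingHom.Etale := by
  let M := MvPolynomial σ A
  let : Algebra M B := (MvPolynomial.aeval b).toRingHom.toAlgebra
  have : IsScalarTower A M B := IsScalarTower.of_algebraMap_eq fun r =>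
    ((MvPolynomial.aeval b).commutes r).symm
  let γ : Module.Basis σ B (B ⊗[M] Ω[M⁄A]) :=
    (KaehlerDifferential.mvPolynomialBasis A σ).baseChange B
  have he : γ.equiv β (Equiv.refl _) = (KaehlerDifferential.mapBaseChange A M B :
      B ⊗[M] Ω[M⁄A] →ₗ[B] Ω[B⁄A]) := by
    refine γ.ext fun i => ?_
    have hb : KaehlerDifferential.mvPolynomialBasis A σ i =
        KaehlerDifferential.D A M (MvPolynomial.X i) :=
      (KaehlerDifferential.mvPolynomialBasis A σ).repr.injective (by
        rw [Module.Basis.repr_self, KaehlerDifferential.mvPolynomialBasis_repr_D_X])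
    rw [LinearEquiv.coe_coe, Module.Basis.equiv_apply, Equiv.refl_apply, hβ]
    simp only [γ]
    erw [Module.Basis.baseChange_apply, hb]
    erw [KaehlerDifferential.mapBaseChange_tmul, one_smul, KaehlerDifferential.map_D]
    exact congrArg _ (MvPolynomial.aeval_X b i).symm
  exact SliceLib.etale_of_bijective_mapBaseChange A M B (he ▸ (γ.equiv β (Equiv.refl _)).bijective)

variable {A B : Type u} [CommRing A] [CommRing B] [Algebra A B]

/-- Generators of a fibre of minimal number have independent differentials. -/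
theorem linearIndependent_diff (J : Ideal B) (hJ : J.FG) (q : Ideal B) [q.IsPrime] (hJq : J ≤ q)
    [Algebra.IsSmoothAt A q] [Module.Free (Localization.AtPrime q) Ω[Localization.AtPrime q⁄A]]
    [Module.Finite (Localization.AtPrime q) Ω[Localization.AtPrime q⁄A]]
    (Q : Ideal (B ⧸ J)) [Q.IsPrime] (hQ : Q.comap (Ideal.Quotient.mk J) = q) [Algebra.IsSmoothAt A Q]
    {r : ℕ} (g : Fin r → B) (hg : ∀ i, g i ∈ J)
    (hgen : J.map (algebraMap B (Localization.AtPrime q)) =
      Ideal.span (Set.range fun i => algebraMap B (Localization.AtPrime q) (g i)))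
    (hmin : r = Module.finrank q.ResidueField (q.ResidueField ⊗[B] J)) :
    LinearIndependent q.ResidueField fun i : Fin r =>
      (1 : q.ResidueField) ⊗ₜ[Localization.AtPrime q]
        KaehlerDifferential.D A (Localization.AtPrime q) (algebraMap B _ (g i)) := by
  classical
  have hinj := (isSmoothAt_iff_of_fg (R := A) J hJ Q q hQ.symm).1 inferInstance
  let Bq := Localization.AtPrime q
  let k := q.ResidueField
  have hk0 : ∀ b ∈ q, algebraMap B k b = 0 := fun b hb => Ideal.algebraMap_residueField_eq_zero.2 hb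
  have hku : ∀ s ∉ q, algebraMap B k s ≠ 0 := fun s hs h => hs (Ideal.algebraMap_residueField_eq_zero.1 h)
  -- the generators span the fibre of `J`
  let w : Fin r → k ⊗[B] J := fun i => 1 ⊗ₜ (⟨g i, hg i⟩ : J)
  have hspan : ⊤ ≤ Submodule.span k (Set.range w) := by
    intro z _
    induction z using TensorProduct.induction_on with
    | zero => exact zero_mem _
    | add a b ha hb => exact add_mem (ha trivial) (hb trivial)
    | tmul c x =>
      have hx : algebraMap B Bq x.1 ∈ (Ideal.span (Set.range g)).map (algebraMap B Bq) := by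
        rw [Ideal.map_span, ← Set.range_comp]
        exact hgen ▸ Ideal.mem_map_of_mem _ x.2
      obtain ⟨s, hs, hsx⟩ := (IsLocalization.algebraMap_mem_map_algebraMap_iff q.primeCompl Bq _ _).1 hx
      obtain ⟨cf, hcf⟩ := (Ideal.mem_span_range_iff_exists_fun).1 hsx
      have hsx' : (s • x : J) = ∑ i, cf i • (⟨g i, hg i⟩ : J) := by
        apply Subtype.ext
        simp only [Submodule.coe_smul, Submodule.coe_sum, smul_eq_mul, hcf]
      have h1 : algebraMap B k s • ((1 : k) ⊗ₜ[B] x) = ∑ i, algebraMap B k (cf i) • w i := by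
        simp only [w, algebraMap_smul, ← TensorProduct.tmul_smul, ← TensorProduct.tmul_sum, hsx']
      have h2 : (1 : k) ⊗ₜ[B] x ∈ Submodule.span k (Set.range w) := by
        rw [← inv_smul_smul₀ (hku s hs) ((1 : k) ⊗ₜ[B] x), h1]
        exact Submodule.smul_mem _ _ (sum_mem fun i _ => Submodule.smul_mem _ _ (Submodule.subset_span ⟨i, rfl⟩))
      rw [show c ⊗ₜ[B] x = c • ((1 : k) ⊗ₜ[B] x) by rw [TensorProduct.smul_tmul', smul_eq_mul, mul_one]]
      exact Submodule.smul_mem _ _ h2
  have hli : LinearIndependent k w :=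
    linearIndependent_of_top_le_span_of_card_eq_finrank hspan (by rw [Fintype.card_fin]; exact hmin)
  refine Fintype.linearIndependent_iff.2 fun c hc => ?_
  choose cc hcc using fun i => surjective_residueField q (c i)
  obtain ⟨s, hs⟩ := IsLocalization.exist_integer_multiples_of_finite q.primeCompl cc
  choose b hb using hs
  have hbk : ∀ i, algebraMap B k (b i) = algebraMap B k (s : B) * c i := fun i => by
    rw [← hcc i, IsScalarTower.algebraMap_apply B Bq k (b i), hb i, Algebra.smul_def, map_mul,
      ← IsScalarTower.algebraMap_apply]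
  let y₀ : B := ∑ i, b i * g i
  have hy₀ : y₀ ∈ J := sum_mem fun i _ => J.mul_mem_left _ (hg i)
  have hD : (1 : k) ⊗ₜ[Bq] KaehlerDifferential.D A Bq (algebraMap B Bq y₀) = 0 := by
    have e : ∀ i, (1 : k) ⊗ₜ[Bq] KaehlerDifferential.D A Bq (algebraMap B Bq (b i * g i)) =
        algebraMap B k (s : B) • c i •
          ((1 : k) ⊗ₜ[Bq] KaehlerDifferential.D A Bq (algebraMap B Bq (g i))) := fun i => by
      rw [map_mul, Derivation.leibniz, TensorProduct.tmul_add, ← TensorProduct.smul_tmul, ← TensorProduct.smul_tmul,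
        Algebra.smul_def, Algebra.smul_def, mul_one, mul_one, ← IsScalarTower.algebraMap_apply,
        ← IsScalarTower.algebraMap_apply, hk0 _ (hJq (hg i)), TensorProduct.zero_tmul, add_zero, hbk, smul_smul,
        TensorProduct.smul_tmul', smul_eq_mul, mul_one]
    simp only [y₀, map_sum, TensorProduct.tmul_sum, e, ← Finset.smul_sum]
    exact (congrArg (algebraMap B k (s : B) • ·) hc).trans (smul_zero _)
  have hm := hinj _ (Ideal.mem_map_of_mem _ hy₀) hD
  rw [smul_eq_mul, ← Localization.AtPrime.map_eq_maximalIdeal, ← Ideal.map_mul] at hm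
  obtain ⟨t, ht, hty⟩ := (IsLocalization.algebraMap_mem_map_algebraMap_iff q.primeCompl Bq _ _).1 hm
  have hz : ∀ y ∈ q * J, ∃ hy : y ∈ J, (1 : k) ⊗ₜ[B] (⟨y, hy⟩ : J) = 0 := fun y hy => by
    refine Submodule.mul_induction_on hy (fun a ha x hx => ⟨J.mul_mem_left a hx, ?_⟩)
      (fun a b ⟨haJ, ha⟩ ⟨hbJ, hb⟩ => ⟨add_mem haJ hbJ, ?_⟩)
    · rw [show (⟨a * x, J.mul_mem_left a hx⟩ : J) = a • ⟨x, hx⟩ from rfl, ← TensorProduct.smul_tmul,
        Algebra.smul_def, mul_one, hk0 a ha, TensorProduct.zero_tmul]
    · rw [show (⟨a + b, add_mem haJ hbJ⟩ : J) = ⟨a, haJ⟩ + ⟨b, hbJ⟩ from rfl, TensorProduct.tmul_add, ha, hb,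
        add_zero]
  have h0 : algebraMap B k t • ((1 : k) ⊗ₜ[B] (⟨y₀, hy₀⟩ : J)) = 0 := by
    rw [algebraMap_smul, ← TensorProduct.tmul_smul]
    obtain ⟨_, h⟩ := hz _ hty
    exact h
  have h1 : ∑ i, algebraMap B k (b i) • w i = 0 := by
    rw [smul_eq_zero, or_iff_right (hku t ht)] at h0
    refine Eq.trans ?_ h0
    simp only [w, algebraMap_smul, ← TensorProduct.tmul_smul, ← TensorProduct.tmul_sum]
    congr 1
    apply Subtype.ext
    simp [y₀]
  intro i
  have h2 := Fintype.linearIndependent_iff.1 hli _ h1 i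
  rw [hbk, mul_eq_zero, or_iff_right (hku _ s.2)] at h2
  exact h2

theorem exists_coords [Algebra.FinitePresentation A B] (J : Ideal B) (hJ : J.FG) (q : Ideal B) [q.IsPrime]
    (hJq : J ≤ q) [Algebra.IsSmoothAt A q] (Q : Ideal (B ⧸ J)) [Q.IsPrime]
    (hQ : Q.comap (Ideal.Quotient.mk J) = q) [Algebra.IsSmoothAt A Q] (r : ℕ) (g : Fin r → B)
    (hg : ∀ i, g i ∈ J)
    (hgen : J.map (algebraMap B (Localization.AtPrime q)) =
      Ideal.span (Set.range fun i => algebraMap B (Localization.AtPrime q) (g i)))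
    (hmin : r = Module.finrank q.ResidueField (q.ResidueField ⊗[B] J)) :
    ∃ (f : B) (_ : f ∉ q) (m : ℕ) (g' : Fin m → Localization.Away f),
      (MvPolynomial.aeval (Sum.elim (fun i => algebraMap B (Localization.Away f) (g i)) g') :
          MvPolynomial (Fin r ⊕ Fin m) A →ₐ[A] Localization.Away f).toRingHom.Etale ∧
      J.map (algebraMap B (Localization.Away f)) =
        Ideal.span (Set.range fun i => algebraMap B (Localization.Away f) (g i)) := by
  classical
  let Bq := Localization.AtPrime q
  let k := q.ResidueField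
  haveI : Algebra.FormallySmooth A Bq := ‹Algebra.IsSmoothAt A q›
  haveI : Algebra.EssFiniteType A Bq := Algebra.EssFiniteType.comp A B Bq
  haveI : Module.Free Bq Ω[Bq⁄A] := Module.free_of_flat_of_isLocalRing
  let v₀ : Fin r → k ⊗[Bq] Ω[Bq⁄A] := fun i => 1 ⊗ₜ KaehlerDifferential.D A Bq (algebraMap B Bq (g i))
  have hv₀ : LinearIndependent k v₀ := linearIndependent_diff J hJ q hJq Q hQ g hg hgen hmin
  -- exact differentials span the fibre
  let d : B → k ⊗[Bq] Ω[Bq⁄A] := fun b => 1 ⊗ₜ KaehlerDifferential.D A Bq (algebraMap B Bq b)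
  have hd : Submodule.span k (Set.range d) = ⊤ := by
    have h := span_eq_top_of_isLocalizedModule Bq q.primeCompl (KaehlerDifferential.map A A B Bq)
      (KaehlerDifferential.span_range_derivation A B)
    refine eq_top_iff.2 fun z _ => ?_
    obtain ⟨y, rfl⟩ := exists_tmul_one (surjective_residueField q) z
    have hy : y ∈ Submodule.span Bq (KaehlerDifferential.map A A B Bq '' Set.range (KaehlerDifferential.D A B)) := by
      rw [h]; trivial
    induction hy using Submodule.span_induction with
    | mem x hx =>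
      obtain ⟨_, ⟨b, rfl⟩, rfl⟩ := hx
      rw [KaehlerDifferential.map_D]
      exact Submodule.subset_span ⟨b, rfl⟩
    | zero => rw [TensorProduct.tmul_zero]; exact zero_mem _
    | add x y _ _ hx hy => rw [TensorProduct.tmul_add]; exact add_mem (hx trivial) (hy trivial)
    | smul c x _ hx => rw [TensorProduct.tmul_smul]; exact Submodule.smul_of_tower_mem _ c (hx trivial)
  let N := Submodule.span k (Set.range v₀)
  obtain ⟨κ, a, hainj, hasp, hali⟩ := exists_linearIndependent' k (fun b => N.mkQ (d b))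
  have hWspan : Submodule.span k (Set.range fun b => N.mkQ (d b)) = ⊤ := by
    rw [Set.range_comp', ← Submodule.map_span, hd, Submodule.map_top, Submodule.range_mkQ]
  haveI : Finite κ := hali.finite
  obtain ⟨m, ⟨ε⟩⟩ := Finite.exists_equiv_fin κ
  let el : Fin r ⊕ Fin m → B := Sum.elim g fun j => a (ε.symm j)
  have hsp : ⊤ ≤ Submodule.span k (Set.range fun i => d (el i)) := fun z _ => by
    have hz : N.mkQ z ∈ (Submodule.span k (Set.range fun i => d (el i))).map N.mkQ := by
      have : N.mkQ z ∈ Submodule.span k (Set.range ((fun b => N.mkQ (d b)) ∘ a)) := by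
        rw [hasp, hWspan]; trivial
      refine Submodule.span_le.2 ?_ this
      rintro _ ⟨j, rfl⟩
      exact ⟨d (a j), Submodule.subset_span ⟨Sum.inr (ε j), by simp [el]⟩, rfl⟩
    obtain ⟨z', hz', e⟩ := hz
    have : z - z' ∈ N := (Submodule.Quotient.eq N).1 e.symm
    have hN : N ≤ Submodule.span k (Set.range fun i => d (el i)) :=
      Submodule.span_le.2 fun _ ⟨i, hi⟩ => Submodule.subset_span ⟨Sum.inl i, hi⟩
    simpa using add_mem (hN this) hz'
  have hcard : Fintype.card (Fin r ⊕ Fin m) = Module.finrank Bq Ω[Bq⁄A] := by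
    rw [← Module.finrank_baseChange (R := k), ← N.finrank_quotient_add_finrank]
    have h1 : Module.finrank k N = r := by
      simp only [N]; rw [finrank_span_eq_card hv₀, Fintype.card_fin]
    let bW : Module.Basis κ k _ := Module.Basis.mk hali (by rw [hasp, hWspan])
    rw [h1, Module.finrank_eq_card_basis (bW.reindex ε), Fintype.card_sum, Fintype.card_fin, Fintype.card_fin,
      add_comm]
  have hspΩ : ⊤ ≤ Submodule.span Bq (Set.range fun i => KaehlerDifferential.D A Bq (algebraMap B Bq (el i))) := by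
    refine le_of_eq (IsLocalRing.map_tensorProduct_mk_eq_top.1 (eq_top_iff.2 fun z _ => ?_)).symm
    rw [Submodule.map_span, ← Set.range_comp, ← Submodule.restrictScalars_span Bq k (surjective_residueField q)]
    exact hsp (Submodule.mem_top (x := z))
  let bas := basisOfTopLeSpanOfCardEqFinrank _ hspΩ hcard
  have hbas : ∀ i, bas i = KaehlerDifferential.D A Bq (algebraMap B Bq (el i)) := fun i => by simp [bas]
  -- spread out
  let e : ((Fin r ⊕ Fin m) →₀ B) →ₗ[B] Ω[B⁄A] :=
    Finsupp.linearCombination B fun i => KaehlerDifferential.D A B (el i)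
  let l₁ : ((Fin r ⊕ Fin m) →₀ B) →ₗ[B] ((Fin r ⊕ Fin m) →₀ Bq) :=
    Finsupp.mapRange.linearMap (Algebra.linearMap B Bq)
  let l₂ : Ω[B⁄A] →ₗ[B] Ω[Bq⁄A] := KaehlerDifferential.map A A B Bq
  let eq' := IsLocalizedModule.mapExtendScalars q.primeCompl l₁ l₂ Bq e
  have heq : eq' = bas.repr.symm := by
    ext i
    trans IsLocalizedModule.map q.primeCompl l₁ l₂ e <| l₁ <| Finsupp.single i 1
    · simp [eq', -IsLocalizedModule.map_apply, l₁]
    · simp [l₂, e, hbas]
  obtain ⟨g₁, hg₁, hbij⟩ := Module.FinitePresentation.exists_notMem_bijective e q l₁ l₂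
    (show Function.Bijective eq' from heq ▸ bas.repr.symm.bijective)
  obtain ⟨f₀, hf₀, hsm⟩ := Algebra.IsSmoothAt.exists_notMem_smooth A q
  obtain ⟨t, ht⟩ := hJ
  have hx : ∀ x : {x // x ∈ t}, ∃ s ∈ q.primeCompl, s * x.1 ∈ Ideal.span (Set.range g) := fun x => by
    refine (IsLocalization.algebraMap_mem_map_algebraMap_iff q.primeCompl Bq _ _).1 ?_
    rw [Ideal.map_span, ← Set.range_comp]
    exact hgen ▸ Ideal.mem_map_of_mem _ (ht ▸ Ideal.subset_span x.2)
  choose s hs hsx using hx
  let f := f₀ * g₁ * ∏ x, s x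
  have hf : f ∉ q := Ideal.IsPrime.mul_notMem ‹_› (Ideal.IsPrime.mul_notMem ‹_› hf₀ hg₁)
    (show ∏ x, s x ∈ q.primeCompl from prod_mem fun x _ => hs x)
  let Bf := Localization.Away f
  let Bg := Localization.Away g₁
  have hu : ∀ a, a ∣ f → IsUnit (algebraMap B Bf a) := fun a ha =>
    isUnit_of_dvd_unit (map_dvd _ ha) (IsLocalization.Away.algebraMap_isUnit f)
  letI : Algebra Bg Bf := (IsLocalization.Away.lift g₁ (g := algebraMap B Bf)
    (hu g₁ (dvd_mul_of_dvd_left (dvd_mul_left g₁ f₀) _))).toAlgebra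
  haveI : IsScalarTower B Bg Bf := .of_algebraMap_eq fun b => by
    rw [RingHom.algebraMap_toAlgebra]
    exact (IsLocalization.Away.lift_eq _ _ _).symm
  haveI : IsScalarTower A Bg Bf := .of_algebraMap_eq fun a => by
    rw [IsScalarTower.algebraMap_apply A B Bf, IsScalarTower.algebraMap_apply A B Bg,
      ← IsScalarTower.algebraMap_apply B Bg Bf]
  haveI : Algebra.FormallyEtale B Bg := Algebra.FormallyEtale.of_isLocalization (.powers g₁)
  haveI : Algebra.FormallyEtale B Bf := Algebra.FormallyEtale.of_isLocalization (.powers f)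
  haveI : Algebra.FormallyEtale Bg Bf := Algebra.FormallyEtale.of_restrictScalars (R := B)
  haveI : Algebra.Smooth A Bf := by
    refine Algebra.basicOpen_subset_smoothLocus_iff_smooth.1 ?_
    refine Set.Subset.trans ?_ (Algebra.basicOpen_subset_smoothLocus_iff_smooth.2 hsm)
    intro x hx
    simp only [f, PrimeSpectrum.basicOpen_mul, TopologicalSpace.Opens.coe_inf, Set.mem_inter_iff] at hx
    exact hx.1.1
  let l₁g : ((Fin r ⊕ Fin m) →₀ B) →ₗ[B] ((Fin r ⊕ Fin m) →₀ Bg) :=
    Finsupp.mapRange.linearMap (Algebra.linearMap B _)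
  let l₂g : Ω[B⁄A] →ₗ[B] Ω[Bg⁄A] := KaehlerDifferential.map A A B Bg
  rw [← IsLocalizedModule.map_bijective_iff_localizedModuleMap_bijective l₁g l₂g] at hbij
  let eg := IsLocalizedModule.mapExtendScalars (Submonoid.powers g₁) l₁g l₂g Bg e
  let βg : Module.Basis (Fin r ⊕ Fin m) Bg (Ω[Bg⁄A]) := .ofRepr (LinearEquiv.ofBijective eg hbij).symm
  have hβg : ∀ i, βg i = KaehlerDifferential.D A Bg (algebraMap B Bg (el i)) := fun i => by
    simp +zetaDelta [IsLocalizedModule.map_linearCombination]
  have hbc := KaehlerDifferential.isBaseChange_of_formallyEtale A Bg Bf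
  let βf : Module.Basis (Fin r ⊕ Fin m) Bf (Ω[Bf⁄A]) := (βg.baseChange Bf).map hbc.equiv
  have hβf : ∀ i, βf i = KaehlerDifferential.D A Bf (algebraMap B Bf (el i)) := fun i => by
    simp only [βf, Module.Basis.map_apply, Module.Basis.baseChange_apply, IsBaseChange.equiv_tmul, one_smul, hβg]
    rw [KaehlerDifferential.map_D, ← IsScalarTower.algebraMap_apply]
  refine ⟨f, hf, m, fun j => algebraMap B Bf (a (ε.symm j)), ?_, ?_⟩
  · refine etale_aeval_of_basis _ βf fun i => ?_
    rw [hβf]
    cases i <;> rfl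
  · refine le_antisymm ?_ ?_
    · rw [← ht, Ideal.map_span, Ideal.span_le]
      rintro _ ⟨x, hx, rfl⟩
      have h1 := Ideal.mem_map_of_mem (algebraMap B Bf) (hsx ⟨x, hx⟩)
      rw [map_mul, Ideal.map_span, ← Set.range_comp] at h1
      exact (Ideal.unit_mul_mem_iff_mem _ (hu _ (dvd_mul_of_dvd_right (Finset.dvd_prod_of_mem s (Finset.mem_univ _)) _))).1 h1
    · rw [Ideal.span_le]
      rintro _ ⟨i, rfl⟩
      exact Ideal.mem_map_of_mem _ (hg i)

end Groth.Agent.RGLib.EtaleCoord
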