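import Groth.Agent.RGLib.FPModuleModel
import Groth.Agent.QCoh.SpecFT
import Groth.Agent.QCoh.Pullback
import Groth.Agent.S2265
import Groth.Agent.S2394
import Groth.Agent.KFlatLib.Scheme.CohD
import Groth.Agent.PinchLib.Scheme
import Groth.Agent.PerfLocus7.RelFlatBasic

/-!
# Noetherian models of finitely presented sheaves on affine schemes
-/

universe u

set_option autoImplicit false
set_option backward.isDefEq.respectTransparency false
set_option backward.isDefEq.respectTransparency.types false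

open CategoryTheory CategoryTheory.Limits AlgebraicGeometry TensorProduct

namespace Groth.Agent.RGLib

/-- An open immersion at the target does not change flatness over the base. -/
theorem isFlatOver_comp_openImmersion {X Y S : Scheme.{u}} (f : X ⟶ Y) (g : Y ⟶ S) [IsOpenImmersion g]
    {M : X.Modules} (h : FlatMod.IsFlatOver f M) : FlatMod.IsFlatOver (f ≫ g) M := fun x => by
  let R₁ := S.presheaf.stalk (g (f x))
  let R₂ := Y.presheaf.stalk (f x)
  letI := FlatMod.moduleStalkOver f M x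
  letI : Algebra R₁ R₂ := (g.stalkMap (f x)).hom.toAlgebra
  letI : Module R₁ (M.presheaf.stalk x) := Module.compHom _ (g.stalkMap (f x)).hom
  haveI : IsScalarTower R₁ R₂ (M.presheaf.stalk x) := IsScalarTower.of_algebraMap_smul fun _ _ => rfl
  haveI : Module.Flat R₁ R₂ := Module.Flat.of_linearEquiv
    (LinearEquiv.ofBijective (Algebra.linearMap R₁ R₂) (ConcreteCategory.bijective_of_isIso (g.stalkMap (f x)))).symm
  haveI : Module.Flat R₂ (M.presheaf.stalk x) := h x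
  have h2 : Module.Flat R₁ (M.presheaf.stalk x) := Module.Flat.trans R₁ R₂ _
  show @Module.Flat R₁ (M.presheaf.stalk x) _ _ (Module.compHom _ ((f ≫ g).stalkMap x).hom)
  rw [Scheme.Hom.stalkMap_comp]
  exact h2

/-- The module of a finitely presented sheaf on an affine scheme. -/
theorem exists_module {X S : Scheme.{u}} (f : X ⟶ S) [IsAffine X] [IsAffine S] (F : X.Modules)
    (hq : Coh.IsQCoh F) (hF : CohB1.IsFP F) :
    ∃ M : ModuleCat.{u} Γ(X, ⊤), Module.FinitePresentation Γ(X, ⊤) M ∧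
      Nonempty ((Scheme.Modules.pullback X.isoSpec.hom).obj (tilde M) ≅ F) ∧
      (FlatMod.IsFlatOver f F → FlatMod.IsFlatOver (Spec.map f.appTop) (tilde M)) := by
  let N := (Scheme.Modules.pullback X.isoSpec.inv).obj F
  have hqN : Coh.IsQCoh N := QCoh.isQCoh_pullback _ hq
  have hFN : CohB1.IsFP N := PinchLib.finitePresentation_pullback X.isoSpec.inv hq hF
  obtain ⟨M, ⟨e⟩⟩ := QCoh.isQCoh_spec_iff.1 hqN
  refine ⟨M, ?_, ⟨?_⟩, fun h => ?_⟩
  · have h1 := (QCoh.isFP_iff_finitePresentation N hqN).1 hFN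
    exact Module.FinitePresentation.of_equiv
      (moduleSpecΓFunctor.mapIso e.symm ≪≫ (tilde.toTildeΓNatIso.app M).symm).toLinearEquiv
  · exact (Scheme.Modules.pullback X.isoSpec.hom).mapIso e ≪≫
      (Scheme.Modules.pullbackComp X.isoSpec.hom X.isoSpec.inv).app F ≪≫
      (Scheme.Modules.pullbackCongr X.isoSpec.hom_inv_id).app F ≪≫ (Scheme.Modules.pullbackId X).app F
  · have h1 := PerfLocus7.isFlatOver_restrict f X.isoSpec.inv h
    have h2 := isFlatOver_comp_openImmersion _ S.isoSpec.hom h1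
    rw [Category.assoc, ← Scheme.isoSpec_hom_naturality, Iso.inv_hom_id_assoc] at h2
    exact PerfLocus7.isFlatOver_of_iso _
      ((Scheme.Modules.restrictFunctorIsoPullback X.isoSpec.inv).app F ≪≫ e.symm) h2

/-- The scheme theoretic content of an algebraic model. -/
theorem exists_scheme_model {X S : Scheme.{u}} (f : X ⟶ S) [IsAffine X] [IsAffine S] (F : X.Modules)
    (M : ModuleCat.{u} Γ(X, ⊤)) (eF : (Scheme.Modules.pullback X.isoSpec.hom).obj (tilde M) ≅ F)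
    (C : Type u) [CommRing C] [Algebra.FiniteType ℤ C] [Algebra C Γ(S, ⊤)]
    (B₀ : Type u) [CommRing B₀] [Algebra C B₀] [Algebra.FinitePresentation C B₀] [Algebra B₀ Γ(X, ⊤)]
    (h : letI := f.appTop.hom.toAlgebra; letI : Algebra C Γ(X, ⊤) := ((algebraMap Γ(S, ⊤) Γ(X, ⊤)).comp (algebraMap C _)).toAlgebra
      IsScalarTower C B₀ Γ(X, ⊤) ∧
        CategoryTheory.IsPushout (CommRingCat.ofHom (algebraMap C Γ(S, ⊤))) (CommRingCat.ofHom (algebraMap C B₀))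
          f.appTop (CommRingCat.ofHom (algebraMap B₀ Γ(X, ⊤))))
    (M₀ : Type u) [AddCommGroup M₀] [Module B₀ M₀] [Module.FinitePresentation B₀ M₀]
    (eM : Γ(X, ⊤) ⊗[B₀] M₀ ≃ₗ[Γ(X, ⊤)] M) :
    ∃ (g : S ⟶ Spec (CommRingCat.of C)) (g' : X ⟶ Spec (CommRingCat.of B₀)),
      IsPullback g' f (Spec.map (CommRingCat.ofHom (algebraMap C B₀))) g ∧
      Algebra.FiniteType ℤ Γ(Spec (CommRingCat.of C), ⊤) ∧
      LocallyOfFiniteType (Spec.map (CommRingCat.ofHom (algebraMap C B₀))) ∧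
      Coh.IsCoh (tilde (R := CommRingCat.of B₀) (ModuleCat.of B₀ M₀)) ∧
      Nonempty ((Scheme.Modules.pullback g').obj (tilde (R := CommRingCat.of B₀) (ModuleCat.of B₀ M₀)) ≅ F) := by
  haveI : IsNoetherianRing C := Algebra.FiniteType.isNoetherianRing ℤ C
  haveI : IsNoetherianRing B₀ := Algebra.FiniteType.isNoetherianRing C B₀
  haveI : IsNoetherianRing (CommRingCat.of B₀) := ‹IsNoetherianRing B₀›
  let ψ : CommRingCat.of B₀ ⟶ Γ(X, ⊤) := CommRingCat.ofHom (algebraMap B₀ Γ(X, ⊤))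
  let φ : CommRingCat.of C ⟶ Γ(S, ⊤) := CommRingCat.ofHom (algebraMap C Γ(S, ⊤))
  refine ⟨S.isoSpec.hom ≫ Spec.map φ, X.isoSpec.hom ≫ Spec.map ψ, ?_, ?_, ?_, ?_, ?_⟩
  · have hp := (isPullback_SpecMap_of_isPushout _ _ _ _ h.2).flip
    exact hp.of_iso X.isoSpec.symm (Iso.refl _) S.isoSpec.symm (Iso.refl _) (by simp [ψ]) (by
      simp [Scheme.isoSpec_inv_naturality]) (by simp) (by simp [φ])
  · exact Algebra.FiniteType.equiv ‹Algebra.FiniteType ℤ C›
      (Scheme.ΓSpecIso (CommRingCat.of C)).commRingCatIsoToRingEquiv.symm.toIntAlgEquiv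
  · exact (HasRingHomProperty.Spec_iff (P := @LocallyOfFiniteType)).2
      (RingHom.finiteType_algebraMap.2 inferInstance)
  · exact (KFlatLib.isCoh_tilde_iff _).2 (inferInstanceAs (Module.Finite B₀ M₀))
  · obtain ⟨e⟩ := S2265.result B₀ Γ(X, ⊤) M₀
    exact ⟨((Scheme.Modules.pullbackComp X.isoSpec.hom (Spec.map ψ)).app _).symm ≪≫
      (Scheme.Modules.pullback X.isoSpec.hom).mapIso (e ≪≫ (tilde.functor _).mapIso eM.toModuleIso) ≪≫ eF⟩

theorem noetherian_approximation_module {X S : Scheme.{u}} (f : X ⟶ S) [IsAffine X] [IsAffine S]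
    [LocallyOfFinitePresentation f] (F : X.Modules) (hq : Coh.IsQCoh F) (hF : CohB1.IsFP F) :
    ∃ (X₀ S₀ : Scheme.{u}) (f₀ : X₀ ⟶ S₀) (g : S ⟶ S₀) (g' : X ⟶ X₀), IsAffine X₀ ∧ IsAffine S₀ ∧ IsPullback g' f f₀ g ∧
      Algebra.FiniteType ℤ Γ(S₀, ⊤) ∧ LocallyOfFiniteType f₀ ∧
      ∃ F₀ : X₀.Modules, Coh.IsCoh F₀ ∧ Nonempty ((Scheme.Modules.pullback g').obj F₀ ≅ F) := by
  letI := f.appTop.hom.toAlgebra
  haveI : Algebra.FinitePresentation Γ(S, ⊤) Γ(X, ⊤) :=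
    (HasRingHomProperty.iff_of_isAffine (P := @LocallyOfFinitePresentation)).mp ‹_›
  obtain ⟨M, hM, ⟨eF⟩, -⟩ := exists_module f F hq hF
  haveI := hM
  obtain ⟨C, _, _, iCB, hCAB, B₀, _, _, _, hCB, M₀, _, _, hC, hB₀, hpo, hM₀, ⟨eM⟩⟩ :=
    exists_fp_module_model Γ(S, ⊤) Γ(X, ⊤) M
  haveI := hC; haveI := hB₀; haveI := hM₀
  have hi : iCB = ((algebraMap Γ(S, ⊤) Γ(X, ⊤)).comp (algebraMap C _)).toAlgebra :=
    Algebra.algebra_ext _ _ fun r => IsScalarTower.algebraMap_apply C Γ(S, ⊤) Γ(X, ⊤) r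
  subst hi
  letI : Algebra C Γ(X, ⊤) := ((algebraMap Γ(S, ⊤) Γ(X, ⊤)).comp (algebraMap C _)).toAlgebra
  haveI := hpo
  haveI := hCAB
  haveI := hCB
  obtain ⟨g, g', h1, h2, h3, h4, h5⟩ := exists_scheme_model f F M eF C B₀
    ⟨hCB, CommRingCat.isPushout_of_isPushout C Γ(S, ⊤) B₀ Γ(X, ⊤)⟩ M₀ eM
  exact ⟨_, _, _, g, g', inferInstance, inferInstance, h1, h2, h3, _, h4, h5⟩

theorem noetherian_approximation_flat_module {X S : Scheme.{u}} (f : X ⟶ S) [IsAffine X] [IsAffine S]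
    [LocallyOfFinitePresentation f] (F : X.Modules) (hq : Coh.IsQCoh F) (hF : CohB1.IsFP F)
    (hfl : FlatMod.IsFlatOver f F) :
    ∃ (X₀ S₀ : Scheme.{u}) (f₀ : X₀ ⟶ S₀) (g : S ⟶ S₀) (g' : X ⟶ X₀), IsAffine X₀ ∧ IsAffine S₀ ∧ IsPullback g' f f₀ g ∧
      Algebra.FiniteType ℤ Γ(S₀, ⊤) ∧ LocallyOfFiniteType f₀ ∧
      ∃ F₀ : X₀.Modules, Coh.IsCoh F₀ ∧ FlatMod.IsFlatOver f₀ F₀ ∧
        Nonempty ((Scheme.Modules.pullback g').obj F₀ ≅ F) := by
  letI := f.appTop.hom.toAlgebra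
  haveI : Algebra.FinitePresentation Γ(S, ⊤) Γ(X, ⊤) :=
    (HasRingHomProperty.iff_of_isAffine (P := @LocallyOfFinitePresentation)).mp ‹_›
  obtain ⟨M, hM, ⟨eF⟩, hMfl⟩ := exists_module f F hq hF
  haveI := hM
  letI : Module Γ(S, ⊤) M := Module.compHom M f.appTop.hom
  haveI : IsScalarTower Γ(S, ⊤) Γ(X, ⊤) M := IsScalarTower.of_algebraMap_smul fun _ _ => rfl
  haveI : Module.Flat Γ(S, ⊤) M := (S2394.result Γ(S, ⊤) Γ(X, ⊤) M).1 (hMfl hfl)
  obtain ⟨C, _, _, iCB, hCAB, B₀, _, _, _, hCB, M₀, _, _, _, _, hC, hB₀, hpo, hM₀, ⟨eM⟩, hflat⟩ :=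
    exists_fp_flat_module_model Γ(S, ⊤) Γ(X, ⊤) M
  haveI := hC; haveI := hB₀; haveI := hM₀
  have hi : iCB = ((algebraMap Γ(S, ⊤) Γ(X, ⊤)).comp (algebraMap C _)).toAlgebra :=
    Algebra.algebra_ext _ _ fun r => IsScalarTower.algebraMap_apply C Γ(S, ⊤) Γ(X, ⊤) r
  subst hi
  letI : Algebra C Γ(X, ⊤) := ((algebraMap Γ(S, ⊤) Γ(X, ⊤)).comp (algebraMap C _)).toAlgebra
  haveI := hpo
  haveI := hCAB
  haveI := hCB
  obtain ⟨g, g', h1, h2, h3, h4, h5⟩ := exists_scheme_model f F M eF C B₀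
    ⟨hCB, CommRingCat.isPushout_of_isPushout C Γ(S, ⊤) B₀ Γ(X, ⊤)⟩ M₀ eM
  exact ⟨_, _, _, g, g', inferInstance, inferInstance, h1, h2, h3, _, h4, (S2394.result C B₀ M₀).2 hflat, h5⟩

end Groth.Agent.RGLib
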