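import Groth.Agent.RGLib.Complete

/-! Injectivity on the closed fibre of the model of a cokernel. -/

universe u

noncomputable section

open TensorProduct

namespace Groth.Agent.RGLib

theorem fibre_injective {A₀ κ R₀ P₀ Pκ P B : Type u} [CommRing A₀] [CommRing κ] [Algebra A₀ κ]
    [CommRing R₀] [Algebra A₀ R₀] [CommRing P₀] [Algebra P₀ R₀] (T : Submonoid P₀) [IsLocalization T R₀]
    [CommRing Pκ] [CommRing P] [CommRing B]
    (res : P →+* Pκ) (hres : Function.Surjective res) (πκ : Pκ →+* κ ⊗[A₀] R₀) (jκ : P₀ →+* Pκ)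
    (hjκ : ∀ c, πκ (jκ c) = (1 : κ) ⊗ₜ algebraMap P₀ R₀ c) (hκ : ∀ c : κ, ∃ p, πκ p = c ⊗ₜ 1)
    {a b : ℕ} (G₀ : Fin b → Fin a → R₀) (L : Submodule P (Fin a → P))
    (hL : ∀ l ∈ L, mapTuple (πκ.comp res) l ∈ Submodule.span (κ ⊗[A₀] R₀)
      (Set.range fun j => mapTuple (Algebra.TensorProduct.includeRight : R₀ →ₐ[A₀] κ ⊗[A₀] R₀).toRingHom (G₀ j)))
    (g : P) (hgu : IsUnit (πκ (res g))) (ρ : κ ⊗[A₀] R₀ →+* B)
    {Nb : Type u} [AddCommGroup Nb] [Module B Nb] (eb : Fin a → Nb)
    (hkill : ∀ p : Fin a → P, ∑ i, ρ (πκ (res (p i))) • eb i = 0 → g • p ∈ L)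
    (Φ : κ ⊗[A₀] ((Fin a → R₀) ⧸ Submodule.span R₀ (Set.range G₀)) →+ Nb)
    (hΦ : ∀ (c : κ) (v : Fin a → R₀), Φ (c ⊗ₜ Submodule.Quotient.mk v) = ∑ i, ρ (c ⊗ₜ v i) • eb i) :
    Function.Injective Φ := by
  classical
  obtain ⟨Ψ, hΨs, hΨ, hΨ0⟩ := exists_fibre_surjection (A₀ := A₀) (κ := κ) G₀
  have hΦΨ : ∀ w, Φ (Ψ w) = ∑ i, ρ (w i) • eb i := by
    intro w
    have hsingle : ∀ i (x : κ ⊗[A₀] R₀), Φ (Ψ (Pi.single i x)) = ρ x • eb i := by
      intro i x
      induction x using TensorProduct.induction_on with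
      | zero => rw [Pi.single_zero, map_zero, map_zero, map_zero, zero_smul]
      | add x y hx hy => rw [Pi.single_add, map_add, map_add, hx, hy, map_add, add_smul]
      | tmul c r =>
        rw [show (Pi.single i (c ⊗ₜ[A₀] r) : Fin a → κ ⊗[A₀] R₀) = fun j => c ⊗ₜ (Pi.single i r : Fin a → R₀) j from
          funext fun j => by by_cases h : j = i <;> simp [Pi.single_apply, h], hΨ, hΦ,
          Finset.sum_eq_single i (fun j _ hj => by
            rw [Pi.single_eq_of_ne hj, TensorProduct.tmul_zero, map_zero, zero_smul]) (by simp),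
          Pi.single_eq_same]
    conv_lhs => rw [← Finset.univ_sum_single w]
    simp only [map_sum, hsingle]
  rw [injective_iff_map_eq_zero]
  intro z hz
  obtain ⟨w, rfl⟩ := hΨs z
  refine hΨ0 w ?_
  rw [hΦΨ] at hz
  choose τ p hp using fun i => exists_mul_unit_mem_range T πκ jκ hjκ hκ (w i)
  let c : κ ⊗[A₀] R₀ := ∏ i, πκ (jκ (τ i))
  have hc : IsUnit c := IsUnit.prod_univ_iff.2 fun i => by
    rw [hjκ]
    exact (IsLocalization.map_units R₀ (τ i)).map (Algebra.TensorProduct.includeRight : R₀ →ₐ[A₀] κ ⊗[A₀] R₀)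
  have hcp : ∀ i, ∃ pi : P, c * w i = πκ (res pi) := fun i => by
    obtain ⟨pi, hpi⟩ := hres (p i * jκ (∏ j ∈ Finset.univ.erase i, (τ j : P₀)))
    refine ⟨pi, ?_⟩
    rw [hpi, map_mul, ← hp i, map_prod, map_prod, mul_assoc, mul_comm c,
      show c = πκ (jκ (τ i)) * ∏ j ∈ Finset.univ.erase i, πκ (jκ (τ j)) from
        (Finset.mul_prod_erase _ _ (Finset.mem_univ i)).symm]
  choose pp hpp using hcp
  have h3 : g • pp ∈ L := hkill pp (by
    have h0 := congrArg (fun y => ρ c • y) hz
    simpa only [smul_zero, Finset.smul_sum, smul_smul, ← map_mul, hpp] using h0)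
  have h4 := hL _ h3
  rw [LinearMap.map_smulₛₗ, show mapTuple (πκ.comp res) pp = c • w from funext fun i => (hpp i).symm,
    smul_smul] at h4
  exact (Submodule.smul_mem_iff_of_isUnit _ (hgu.mul hc)).1 h4

/-- A tuple over a localisation whose value lies in the extended ideal is killed into the given submodule. -/
theorem kill_of_mem {A : Type u} [CommRing A] {P S : Type u} [CommRing P] [CommRing S] [Algebra A P] [Algebra P S]
    [Algebra A S] [IsScalarTower A P S] (q : Ideal P) [q.IsPrime] [IsLocalization q.primeCompl S] (m : Ideal A)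
    {a b : ℕ} (G : Fin b → Fin a → P) (L : Submodule P (Fin a → P))
    (hG : Submodule.span P (Set.range G) ≤ L) (hm : m.map (algebraMap A P) • (⊤ : Submodule P (Fin a → P)) ≤ L)
    {N : Type u} [AddCommGroup N] [Module S N] (e : Fin a → N) (he : Submodule.span S (Set.range e) = ⊤)
    (hker : ∀ v : Fin a → S, ∑ i, v i • e i = 0 →
      v ∈ Submodule.span S (Set.range fun j => mapTuple (algebraMap P S) (G j)))
    (g : P) (hg : ∀ w, ∀ τ ∉ q, τ • w ∈ L → g • w ∈ L)
    (p : Fin a → P) (hp : ∑ i, algebraMap P S (p i) • e i ∈ (m.map (algebraMap A S) • ⊤ : Submodule S N)) :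
    g • p ∈ L := by
  classical
  let LS : Submodule S (Fin a → S) :=
    Submodule.span S ((mapTuple (algebraMap P S)) '' (L : Set (Fin a → P)))
  have h2 : mapTuple (algebraMap P S) p ∈ LS := by
    have hG' : Submodule.span S (Set.range fun j => mapTuple (algebraMap P S) (G j)) ≤ LS := by
      rw [Submodule.span_le]
      rintro _ ⟨j, rfl⟩
      exact Submodule.subset_span ⟨G j, hG (Submodule.subset_span ⟨j, rfl⟩), rfl⟩
    have hmle : (m.map (algebraMap A S) • ⊤ : Submodule S (Fin a → S)) ≤ LS := by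
      rw [Submodule.smul_le]
      intro r hr v _
      induction hr using Submodule.span_induction with
      | zero => rw [zero_smul]; exact zero_mem _
      | add x y _ _ hx hy => rw [add_smul]; exact add_mem hx hy
      | smul d x _ hx => rw [smul_eq_mul, mul_smul]; exact LS.smul_mem d hx
      | mem r hr =>
        obtain ⟨x, hx, rfl⟩ := hr
        rw [pi_eq_sum_univ v, Finset.smul_sum]
        refine Submodule.sum_mem _ fun i _ => ?_
        rw [smul_comm]
        refine LS.smul_mem _ (Submodule.subset_span ⟨algebraMap A P x • (fun j => if i = j then (1 : P) else 0),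
          hm (Submodule.smul_mem_smul (Ideal.mem_map_of_mem _ hx) trivial), ?_⟩)
        funext j
        show algebraMap P S (algebraMap A P x * if i = j then (1 : P) else 0) = algebraMap A S x * if i = j then 1 else 0
        rw [map_mul, ← IsScalarTower.algebraMap_apply]
        split <;> simp
    let le : (Fin a → S) →ₗ[S] N := Fintype.linearCombination S e
    have hle : Function.Surjective le := by
      rw [← LinearMap.range_eq_top, Fintype.range_linearCombination, he]
    have h1' : le (mapTuple (algebraMap P S) p) ∈ (m.map (algebraMap A S) • ⊤ : Submodule S (Fin a → S)).map le := by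
      rw [Submodule.map_smul'', Submodule.map_top, LinearMap.range_eq_top.2 hle]
      simpa [le, Fintype.linearCombination_apply, mapTuple] using hp
    obtain ⟨ν, hν, hνe⟩ := h1'
    have := hker (mapTuple (algebraMap P S) p - ν) (by
      simpa [le, Fintype.linearCombination_apply, sub_smul] using sub_eq_zero.2 hνe.symm)
    simpa using add_mem (hG' this) (hmle hν)
  have key : ∀ v ∈ LS, ∃ t ∉ q, ∃ l ∈ L, algebraMap P S t • v = mapTuple (algebraMap P S) l := by
    intro v hv
    induction hv using Submodule.span_induction with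
    | mem v hv =>
      obtain ⟨l, hl, rfl⟩ := hv
      exact ⟨1, (Ideal.ne_top_iff_one q).1 (Ideal.IsPrime.ne_top ‹_›), l, hl, by rw [map_one, one_smul]⟩
    | zero => exact ⟨1, (Ideal.ne_top_iff_one q).1 (Ideal.IsPrime.ne_top ‹_›), 0, zero_mem _, by simp⟩
    | add x y _ _ hx hy =>
      obtain ⟨s, hs, k, hk, hsk⟩ := hx
      obtain ⟨t, ht, l, hl, htl⟩ := hy
      refine ⟨s * t, fun h => (Ideal.IsPrime.mem_or_mem ‹_› h).elim hs ht, t • k + s • l,
        add_mem (L.smul_mem t hk) (L.smul_mem s hl), ?_⟩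
      rw [map_add, LinearMap.map_smulₛₗ, LinearMap.map_smulₛₗ, ← hsk, ← htl, smul_add, smul_smul, smul_smul,
        map_mul, mul_comm (algebraMap P S t)]
    | smul d x _ hx =>
      obtain ⟨s, hs, k, hk, hsk⟩ := hx
      obtain ⟨⟨c, t⟩, hd⟩ := IsLocalization.surj q.primeCompl d
      refine ⟨s * t, fun h => (Ideal.IsPrime.mem_or_mem ‹_› h).elim hs t.2, c • k, L.smul_mem c hk, ?_⟩
      rw [LinearMap.map_smulₛₗ, ← hsk, ← hd, map_mul, smul_smul, smul_smul]
      exact congrArg (· • x) (by ring)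
  obtain ⟨t, ht, l, hl, htl⟩ := key _ h2
  rw [← LinearMap.map_smulₛₗ] at htl
  choose s hs using fun i => (IsLocalization.eq_iff_exists q.primeCompl S).1 (congrFun htl i)
  refine hg p ((∏ i, (s i : P)) * t) (fun h => (Ideal.IsPrime.mem_or_mem ‹_› h).elim
    (fun h' => by
      obtain ⟨i, -, hi⟩ := (Ideal.IsPrime.prod_mem_iff (hp := ‹q.IsPrime›)).1 h'
      exact (s i).2 hi) ht) ?_
  rw [mul_smul]
  convert L.smul_mem (∏ i, (s i : P)) hl using 1
  funext i
  show (∏ i, (s i : P)) * (t • p) i = (∏ i, (s i : P)) * l i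
  rw [← Finset.prod_erase_mul _ _ (Finset.mem_univ i), mul_assoc, mul_assoc]
  exact congrArg _ (hs i)

end Groth.Agent.RGLib

end
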