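import Groth.Agent.RGLib.Covering
import Groth.Agent.RGLib.PureLocal
import Groth.Agent.W4Lib.Flat

/-!
# The fibre criterion of flatness from universal injectivity on fibres
-/

universe u

noncomputable section

open TensorProduct

set_option linter.style.haveILetI false

namespace Groth.Agent.RGLib

attribute [local instance] Algebra.TensorProduct.rightAlgebra

variable {R S P L M : Type u} [CommRing R] [CommRing S] [CommRing P] [Algebra R S] [Algebra S P]
  [AddCommGroup L] [Module P L] [Module S L] [Module R L] [IsScalarTower S P L] [IsScalarTower R S L]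
  [AddCommGroup M] [Module P M] [Module S M] [Module R M] [IsScalarTower S P M] [IsScalarTower R S M]
  (I : Ideal R) (π : L →ₗ[P] M)

omit [Algebra S P] [IsScalarTower S P L] [IsScalarTower S P M] in
theorem mem_smul_top_map_iff {X : Type u} [AddCommGroup X] [Module S X] [Module R X] [IsScalarTower R S X] {x : X} :
    x ∈ I.map (algebraMap R S) • (⊤ : Submodule S X) ↔ x ∈ I • (⊤ : Submodule R X) := by
  rw [← Submodule.restrictScalars_mem R]
  constructor
  · intro hx
    rw [Submodule.restrictScalars_mem] at hx
    refine Submodule.smul_induction_on hx (fun a ha v _ => ?_) fun a b ha hb => add_mem ha hb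
    induction ha using Submodule.span_induction generalizing v with
    | mem a ha =>
      obtain ⟨r, hr, rfl⟩ := ha
      rw [algebraMap_smul]
      exact Submodule.smul_mem_smul hr trivial
    | zero => rw [zero_smul]; exact zero_mem _
    | add a b _ _ ha hb => rw [add_smul]; exact add_mem (ha v trivial) (hb v trivial)
    | smul c a _ ha => rw [smul_assoc, smul_comm]; exact ha _ trivial
  · intro hx
    refine Submodule.smul_induction_on hx (fun a ha v _ => ?_) fun a b ha hb => add_mem ha hb
    rw [Submodule.restrictScalars_mem, ← algebraMap_smul S a]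
    exact Submodule.smul_mem_smul (Ideal.mem_map_of_mem _ ha) trivial

/-- The kernel of a map to a module flat over the base and flat modulo the ideal stays injective modulo
ideals above. -/
theorem lTensor_ker_injective_of_fibre_flat (hπ : Function.Surjective π) [Module.Flat R M]
    (hM : Module.Flat (S ⧸ I.map (algebraMap R S)) ((S ⧸ I.map (algebraMap R S)) ⊗[S] M))
    (Q : Type u) [AddCommGroup Q] [Module (S ⧸ I.map (algebraMap R S)) Q] [Module S Q]
    [IsScalarTower S (S ⧸ I.map (algebraMap R S)) Q] :
    Function.Injective (((LinearMap.ker π).subtype.restrictScalars S).lTensor Q) := by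
  let IS := I.map (algebraMap R S)
  let S' := S ⧸ IS
  let K := LinearMap.ker π
  let ι : K →ₗ[S] L := K.subtype.restrictScalars S
  let : Module R K := Module.compHom K (algebraMap R S)
  haveI : IsScalarTower R S K := IsScalarTower.of_algebraMap_smul fun _ _ => rfl
  have hexR : Function.Exact (ι.restrictScalars R) ((π.restrictScalars S).restrictScalars R) :=
    LinearMap.exact_subtype_ker_map π
  have hI : ∀ k : K, (k : L) ∈ I • (⊤ : Submodule R L) → k ∈ I • (⊤ : Submodule R K) := by
    intro k hk
    have h := W4Lib.lTensor_injective_of_flat_quotient (f := ι.restrictScalars R)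
      (g := (π.restrictScalars S).restrictScalars R) Subtype.val_injective hexR hπ (R ⧸ I)
      (a₁ := (Ideal.Quotient.mk I 1) ⊗ₜ[R] k) (a₂ := 0) (by
        apply (TensorProduct.quotTensorEquivQuotSMul L I).injective
        rw [LinearMap.lTensor_tmul, map_zero, map_zero, TensorProduct.quotTensorEquivQuotSMul_mk_tmul, one_smul,
          Submodule.Quotient.mk_eq_zero]
        exact hk)
    have h' := congrArg (TensorProduct.quotTensorEquivQuotSMul K I) h
    rwa [map_zero, TensorProduct.quotTensorEquivQuotSMul_mk_tmul, one_smul, Submodule.Quotient.mk_eq_zero] at h'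
  have hinj : Function.Injective (ι.baseChange S') := by
    rw [injective_iff_map_eq_zero]
    intro x hx
    obtain ⟨k, rfl⟩ := TensorProduct.mk_surjective S K S' Ideal.Quotient.mk_surjective x
    have h1 := congrArg (TensorProduct.quotTensorEquivQuotSMul L IS) hx
    rw [TensorProduct.mk_apply, LinearMap.baseChange_tmul, map_zero,
      show (1 : S') = Ideal.Quotient.mk IS 1 from (map_one _).symm, TensorProduct.quotTensorEquivQuotSMul_mk_tmul,
      one_smul, Submodule.Quotient.mk_eq_zero, mem_smul_top_map_iff] at h1
    apply (TensorProduct.quotTensorEquivQuotSMul K IS).injective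
    rw [TensorProduct.mk_apply, map_zero, show (1 : S') = Ideal.Quotient.mk IS 1 from (map_one _).symm,
      TensorProduct.quotTensorEquivQuotSMul_mk_tmul, one_smul, Submodule.Quotient.mk_eq_zero, mem_smul_top_map_iff]
    exact hI k h1
  rw [← lTensor_baseChange_iff (A1 := S') ι Q]
  haveI := hM
  exact W4Lib.lTensor_injective_of_flat_quotient (f := ι.baseChange S') (g := (π.restrictScalars S).baseChange S') hinj
    (lTensor_exact S' (LinearMap.exact_subtype_ker_map π : Function.Exact ι (π.restrictScalars S)) hπ)
    (LinearMap.lTensor_surjective S' (g := π.restrictScalars S) hπ) Q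

/-- A module flat over the base whose reduction is flat over the reduced algebra is flat, when the ideal lies
in every prime of the algebra. -/
theorem flat_of_fibre_flat [Algebra.EssFiniteType S P] [Module.Flat S L] [Module.Finite P (LinearMap.ker π)]
    (hπ : Function.Surjective π) (hI : ∀ q : Ideal S, q.IsPrime → I.map (algebraMap R S) ≤ q) [Module.Flat R M]
    (hM : Module.Flat (S ⧸ I.map (algebraMap R S)) ((S ⧸ I.map (algebraMap R S)) ⊗[S] M)) : Module.Flat S M := by
  let IS := I.map (algebraMap R S)
  let K := LinearMap.ker π
  refine flat_coker_of_lTensor_injective (K.subtype.restrictScalars S) (π.restrictScalars S)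
    (LinearMap.exact_subtype_ker_map π) hπ fun Q _ _ => ?_
  rw [LinearMap.lTensor_inj_iff_rTensor_inj, injective_iff_map_eq_zero]
  intro z hz
  by_contra hne
  have hann : (Submodule.span P {z}).annihilator ≠ ⊤ := fun e => hne (by
    have := (Submodule.mem_annihilator_span_singleton z 1).1 (e ▸ Submodule.mem_top)
    rwa [one_smul] at this)
  obtain ⟨q, hq, hle⟩ := Ideal.exists_le_maximal _ hann
  haveI := hq.isPrime
  let p0 := q.comap (algebraMap S P)
  haveI : p0.IsPrime := Ideal.IsPrime.comap _
  obtain ⟨d, hd, hdz⟩ := exists_killer_of_fibre_reflects K.subtype q p0 (fun a => Iff.rfl) (fun n hn => by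
      refine ⟨1, fun h => hq.isPrime.ne_top ((Ideal.eq_top_iff_one _).2 h), ?_⟩
      rw [one_smul]
      have hn' := AssFiber.mem_smul_top_of_mem_pN p0 L hn
      refine AssFiber.smul_mem_pN p0 (S := P) K ?_
      let : Algebra (S ⧸ IS) (S ⧸ p0) := (Ideal.Quotient.factor (hI p0 inferInstance)).toAlgebra
      haveI : IsScalarTower S (S ⧸ IS) (S ⧸ p0) := IsScalarTower.of_algebraMap_eq fun s => rfl
      have h := lTensor_ker_injective_of_fibre_flat I π hπ hM (S ⧸ p0)
        (a₁ := (Ideal.Quotient.mk p0 1) ⊗ₜ[S] n) (a₂ := 0) (by
          apply (TensorProduct.quotTensorEquivQuotSMul L p0).injective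
          rw [LinearMap.lTensor_tmul, map_zero, map_zero, TensorProduct.quotTensorEquivQuotSMul_mk_tmul, one_smul,
            Submodule.Quotient.mk_eq_zero]
          exact hn')
      have h' := congrArg (TensorProduct.quotTensorEquivQuotSMul K p0) h
      rwa [map_zero, TensorProduct.quotTensorEquivQuotSMul_mk_tmul, one_smul, Submodule.Quotient.mk_eq_zero] at h') Q z hz
  exact hd (hle ((Submodule.mem_annihilator_span_singleton z d).2 hdz))

end Groth.Agent.RGLib

end
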