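import Groth.Agent.AssLib.FlatFibre
import Mathlib.AlgebraicGeometry.Morphisms.FlatMono
import Mathlib.AlgebraicGeometry.Morphisms.SchemeTheoreticallyDominant

/-!
# Flat birational separated morphisms are monomorphisms
-/

set_option autoImplicit false
set_option linter.style.haveILetI false
set_option backward.isDefEq.respectTransparency false
set_option backward.isDefEq.respectTransparency.types false

universe u

open CategoryTheory CategoryTheory.Limits AlgebraicGeometry

namespace Groth.Agent.RGLib.FlatBirational

variable {X' X : Scheme.{u}} [IsIntegral X'] [IsIntegral X] (f : X' ⟶ X)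

set_option maxHeartbeats 1000000 in
theorem isIso_asFiberHom [Flat f] (hK : IsIso (f.stalkMap (genericPoint X'))) :
    IsIso (f.asFiberHom (genericPoint X')) := by
  let η' := genericPoint X'
  let η := f η'
  let i := f.asFiberHom η'
  have hsurj : ∀ z : X', f z = η → z = η' := fun z hz => by
    have hzu : η' ⤳ z := (genericPoint_spec X').specializes trivial
    -- the local ring at `z` sits between two copies of the function field
    have h1 : X.presheaf.stalkSpecializes (hzu.map f.continuous) ≫ f.stalkMap η' =
        f.stalkMap z ≫ X'.presheaf.stalkSpecializes hzu := Scheme.Hom.stalkSpecializes_stalkMap f η' z hzu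
    haveI := hK
    haveI : IsIso (X.presheaf.stalkSpecializes (hzu.map f.continuous)) :=
      ⟨X.presheaf.stalkSpecializes (specializes_of_eq hz),
        by rw [TopCat.Presheaf.stalkSpecializes_comp, TopCat.Presheaf.stalkSpecializes_refl],
        by rw [TopCat.Presheaf.stalkSpecializes_comp, TopCat.Presheaf.stalkSpecializes_refl]⟩
    have hbij : Function.Bijective (f.stalkMap z ≫ X'.presheaf.stalkSpecializes hzu).hom := by
      rw [← h1]; exact ConcreteCategory.bijective_of_isIso _
    have hinj : Function.Injective (X'.presheaf.stalkSpecializes hzu).hom := by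
      haveI := IsIntegral.component_integral (X := X')
      obtain ⟨_, ⟨U, hU, rfl⟩, hzU, -⟩ :=
        X'.isBasis_affineOpens.exists_subset_of_mem_open (Set.mem_univ z) isOpen_univ
      intro a b hab
      obtain ⟨W, hzW, s, rfl⟩ := TopCat.Presheaf.exists_germ_eq X'.presheaf a
      obtain ⟨W', hzW', t, rfl⟩ := TopCat.Presheaf.exists_germ_eq X'.presheaf b
      rw [← X'.presheaf.germ_res_apply (homOfLE (inf_le_left : W ⊓ W' ≤ W)) z ⟨hzW, hzW'⟩ s,
        ← X'.presheaf.germ_res_apply (homOfLE (inf_le_right : W ⊓ W' ≤ W')) z ⟨hzW, hzW'⟩ t] at hab ⊢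
      erw [TopCat.Presheaf.germ_stalkSpecializes_apply, TopCat.Presheaf.germ_stalkSpecializes_apply] at hab
      exact congrArg _ (germ_injective_of_isIntegral X' η' _ hab)
    have hsur : Function.Surjective (X'.presheaf.stalkSpecializes hzu).hom := fun c => by
      obtain ⟨a, ha⟩ := hbij.2 c
      exact ⟨(f.stalkMap z).hom a, ha⟩
    have hfield : IsField (X'.presheaf.stalk z) :=
      (RingEquiv.ofBijective _ ⟨hinj, hsur⟩ : X'.presheaf.stalk z ≃+* X'.functionField).toMulEquiv.isField
        (Field.toIsField _)
    obtain ⟨p, hp⟩ : η' ∈ Set.range (X'.fromSpecStalk z) := by rw [Scheme.range_fromSpecStalk]; exact hzu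
    have hpc : p = IsLocalRing.closedPoint (X'.presheaf.stalk z) := by
      letI := hfield.toField
      exact Subsingleton.elim (α := PrimeSpectrum (X'.presheaf.stalk z)) _ _
    rw [← hp, hpc, Scheme.fromSpecStalk_closedPoint]
  haveI : Surjective i := ⟨fun w => by
    have hw : f (f.fiberι η w) = η := FlatDvr.fiberι_apply_eq f w
    refine ⟨IsLocalRing.closedPoint _, ?_⟩
    refine (f.fiberι η).isEmbedding.injective ?_
    rw [Scheme.Hom.asFiberHom_apply, Scheme.Hom.fiberι_asFiber, hsurj _ hw]⟩
  haveI : Flat (X.fromSpecResidueField η) := by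
    show Flat _
    have hη : η = genericPoint X := by
      haveI := hK
      have hfield : IsField (X.presheaf.stalk η) :=
        ((asIso (f.stalkMap η')).commRingCatIsoToRingEquiv : X.presheaf.stalk η ≃+* X'.functionField).toMulEquiv.isField
          (Field.toIsField _)
      obtain ⟨p, hp⟩ : genericPoint X ∈ Set.range (X.fromSpecStalk η) := by
        rw [Scheme.range_fromSpecStalk]; exact (genericPoint_spec X).specializes trivial
      have hpc : p = IsLocalRing.closedPoint (X.presheaf.stalk η) := by
        letI := hfield.toField
        exact Subsingleton.elim (α := PrimeSpectrum (X.presheaf.stalk η)) _ _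
      rw [← hp, hpc, Scheme.fromSpecStalk_closedPoint]
    rw [hη]
    exact AssLib.flat_fromSpecResidueField_genericPoint X
  haveI : Flat (X'.fromSpecResidueField η') := AssLib.flat_fromSpecResidueField_genericPoint X'
  haveI : Flat (f.fiberι η) := inferInstanceAs (Flat (pullback.fst f (X.fromSpecResidueField η)))
  have hst : ∀ p, IsIso (i.stalkMap p) := fun p => by
    refine (ConcreteCategory.isIso_iff_bijective _).2 ⟨?_, i.stalkMap_surjective p⟩
    have h1 := AssLib.bijective_stalkMap (f.fiberι η) (i p)
    have h2 : Function.Bijective (((i ≫ f.fiberι η) : _ ⟶ X').stalkMap p) := by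
      haveI : Flat (i ≫ f.fiberι η) := by
        rw [show i ≫ f.fiberι η = X'.fromSpecResidueField η' from f.asFiberHom_fiberι η']
        infer_instance
      exact AssLib.bijective_stalkMap (i ≫ f.fiberι η) p
    rw [Scheme.Hom.stalkMap_comp] at h2
    intro a b hab
    obtain ⟨a', rfl⟩ := h1.2 a
    obtain ⟨b', rfl⟩ := h1.2 b
    exact congrArg _ (h2.1 hab)
  have hopen : IsOpenImmersion i :=
    IsOpenImmersion.of_isIso_stalkMap i (i.isEmbedding.isOpenEmbedding_of_surjective i.surjective)
  exact (isIso_iff_isOpenImmersion_and_surjective i).2 ⟨inferInstance, inferInstance⟩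

theorem mono_of_flat_birational [Flat f] [IsSeparated f] (hK : IsIso (f.stalkMap (genericPoint X'))) :
    Mono f := by
  suffices hΔ : IsIso (pullback.diagonal f) by
    refine (mono_iff_isIso_fst (pullbackIsPullback f f)).2 ?_
    show IsIso (pullback.fst f f)
    rw [show pullback.fst f f = inv (pullback.diagonal f) from
      IsIso.eq_inv_of_hom_inv_id (pullback.diagonal_fst f)]
    infer_instance
  let η' := genericPoint X'
  let j := X'.fromSpecResidueField η'
  haveI : IsDominant j := ⟨by
    rw [DenseRange, Scheme.range_fromSpecResidueField, dense_iff_closure_eq]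
    exact (genericPoint_spec X').def⟩
  haveI : IsSchemeTheoreticallyDominant j := .of_isDominant _
  let q := pullback.fst (pullback.fst f f) j
  haveI : Flat (pullback.fst f f) := inferInstance
  haveI : IsSchemeTheoreticallyDominant q := IsSchemeTheoreticallyDominant.pullbackFst _ _
  have hfac : q ≫ pullback.fst f f = q ≫ pullback.snd f f := by
    haveI := isIso_asFiberHom f hK
    let u := pullback.snd (pullback.fst f f) j
    have ha : q ≫ pullback.fst f f = u ≫ j := pullback.condition
    let b := q ≫ pullback.snd f f
    have hb : b ≫ f = (u ≫ Spec.map (f.residueFieldMap η')) ≫ X.fromSpecResidueField (f η') := by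
      show (q ≫ pullback.snd f f) ≫ f = _
      rw [Category.assoc q, ← pullback.condition, reassoc_of% ha, Category.assoc u,
        f.SpecMap_residueFieldMap_fromSpecResidueField η']
    let c := pullback.lift b _ hb
    let v := c ≫ inv (f.asFiberHom η')
    have hv : v ≫ j = b := by
      have hc : c ≫ f.fiberι (f η') = b := pullback.lift_fst _ _ _
      rw [← hc]
      show (c ≫ inv (f.asFiberHom η')) ≫ X'.fromSpecResidueField η' = _
      rw [← f.asFiberHom_fiberι η', Category.assoc, IsIso.inv_hom_id_assoc]
    haveI : IsIso (f.residueFieldMap η') := (ConcreteCategory.isIso_iff_bijective _).2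
      ⟨RingHom.injective _, fun z => by
        haveI := hK
        obtain ⟨a, rfl⟩ := IsLocalRing.residue_surjective z
        obtain ⟨a', rfl⟩ := (ConcreteCategory.bijective_of_isIso (f.stalkMap η')).2 a
        exact ⟨IsLocalRing.residue _ a', rfl⟩⟩
    have huv : u = v := by
      have h' : (v ≫ Spec.map (f.residueFieldMap η')) ≫ X.fromSpecResidueField (f η') =
          (u ≫ Spec.map (f.residueFieldMap η')) ≫ X.fromSpecResidueField (f η') := by
        rw [← hb, Category.assoc, Scheme.Hom.SpecMap_residueFieldMap_fromSpecResidueField, ← Category.assoc,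
          hv]
      exact ((cancel_mono (Spec.map (f.residueFieldMap η'))).1
        ((cancel_mono (X.fromSpecResidueField (f η'))).1 h')).symm
    rw [ha, huv, hv]
  let w := q ≫ pullback.fst f f
  have hq : w ≫ pullback.diagonal f = q := by
    refine pullback.hom_ext ?_ ?_
    · simp [w]
    · simp [w, hfac]
  rw [IsClosedImmersion.isIso_iff_ker_eq_bot, eq_bot_iff]
  calc (pullback.diagonal f).ker ≤ (w ≫ pullback.diagonal f).ker := Scheme.Hom.le_ker_comp _ _
    _ = q.ker := by rw [hq]
    _ = ⊥ := q.ker_eq_bot

end Groth.Agent.RGLib.FlatBirational
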