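import Groth.Agent.FibDim.RelDim
import Groth.Agent.FibDim.BaseField
import Groth.Agent.CycLib.Flat
import Groth.Agent.RGLib.DimBound
import Mathlib.AlgebraicGeometry.Morphisms.UniversallyOpen

/-!
# Equidimensional flat morphisms of schemes of finite type over a field
-/

set_option autoImplicit false

universe u

open CategoryTheory CategoryTheory.Limits AlgebraicGeometry TopologicalSpace

namespace Groth.Agent.RGLib.FlatEquidim

set_option backward.isDefEq.respectTransparency false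
set_option backward.isDefEq.respectTransparency.types false

open Groth.Agent.FibDim

variable {k : Type u} [Field k] {X Y : Scheme.{u}} (qX : X ⟶ Spec (CommRingCat.of k))
  (qY : Y ⟶ Spec (CommRingCat.of k)) [LocallyOfFiniteType qX] [LocallyOfFiniteType qY]

/-- Dimension of a point over a field. -/
theorem dim_closure (x : X) :
    topologicalKrullDim ↥(closure ({x} : Set X)) = ((rd qX x : ℕ∞) : WithBot ℕ∞) :=
  topologicalKrullDim_closure qX x

theorem dim_eq [IrreducibleSpace Y] :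
    topologicalKrullDim ↥Y = ((rd qY (genericPoint Y) : ℕ∞) : WithBot ℕ∞) := by
  rw [← dim_closure qY, (genericPoint_spec Y).def,
    (Homeomorph.Set.univ ↥Y).isHomeomorph.topologicalKrullDim_eq]

theorem exists_generization (f : X ⟶ Y) [Flat f] {x : X} {y : Y} (h : y ⤳ f x) :
    ∃ x', x' ⤳ x ∧ f x' = y :=
  Flat.generalizingMap f h

variable (f : X ⟶ Y)

theorem maximal_maps_generic [IrreducibleSpace Y] [Flat f] {ξ : X} (h : ∀ z, z ⤳ ξ → z = ξ) :
    f ξ = genericPoint Y := by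
  obtain ⟨z, hz, hzy⟩ := exists_generization f (x := ξ) ((genericPoint_spec Y).specializes (Set.mem_univ (f ξ)))
  rw [← h z hz, hzy]

theorem coe_add_eq (a b : ℕ) :
    ((a + b : ℕ) : ℕ∞) = ((a : ℕ∞) + (b : ℕ∞)) := Nat.cast_add a b

theorem components_iff [IrreducibleSpace Y] [Flat f] [LocallyOfFiniteType f] (hf : f ≫ qY = qX) (n : ℕ) :
    (∀ Z : Set ↥X, Z ∈ irreducibleComponents ↥X →
      topologicalKrullDim ↥Z = topologicalKrullDim ↥Y + (n : WithBot ℕ∞)) ↔
    Cyc.HasRelDim f n := by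
  subst hf
  haveI : IsLocallyNoetherian Y := LocallyOfFiniteType.isLocallyNoetherian qY
  haveI : LocallyOfFinitePresentation f := LocallyOfFinitePresentation.iff_locallyOfFiniteType.2 ‹_›
  have key : ∀ ξ : X, (∀ z, z ⤳ ξ → z = ξ) →
      ((topologicalKrullDim ↥(closure ({ξ} : Set X)) = topologicalKrullDim ↥Y + (n : WithBot ℕ∞)) ↔
        rd f ξ = n) := by
    intro ξ hξ
    rw [dim_closure (f ≫ qY), dim_eq qY, rd_comp, maximal_maps_generic f hξ,
      show ((n : ℕ) : WithBot ℕ∞) = (((n : ℕ) : ℕ∞) : WithBot ℕ∞) from rfl, ← WithBot.coe_add,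
      WithBot.coe_inj, ← coe_add_eq, ENat.coe_inj]
    omega
  rw [CycLib.hasRelDim_iff]
  constructor
  · intro h z hz
    obtain ⟨ζ, -, hfζ, hmax, he⟩ := exists_fibMax_eq_of_isOpenAt f hz
      (fun U hU => f.isOpenMap.image_mem_nhds hU) ((genericPoint_spec Y).specializes (Set.mem_univ (f z)))
    have hmax' : ∀ w, w ⤳ ζ → w = ζ := fun w hw => hmax w hw (by
      rw [hfζ]
      exact ((hw.map f.continuous).trans (specializes_of_eq hfζ)).antisymm
        ((genericPoint_spec Y).specializes (Set.mem_univ _)) |>.eq)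
    rw [← he]
    exact (key ζ hmax').mp (h _ (RGLib.DimBound.mem_irreducibleComponents_of_maximal hmax'))
  · intro h Z hZ
    obtain ⟨ξ, rfl, hξ⟩ := FDescent.exists_maximal_of_mem_irreducibleComponents hZ
    exact (key ξ hξ).mpr (h ξ (fibMax_of_maximal f hξ))

theorem dim_component {Y' : Scheme.{u}} {qY' : Y' ⟶ Spec (CommRingCat.of k)} [LocallyOfFiniteType qY']
    (q : X ⟶ Y') [Flat q] [LocallyOfFiniteType q] (hq : q ≫ qY' = qX) {n : ℕ} (hn : Cyc.HasRelDim q n)
    (V : Set ↥Y') (hV : IsClosed V) (hVirr : IsIrreducible V)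
    (W : Set ↥(q ⁻¹' V)) (hW : W ∈ irreducibleComponents ↥(q ⁻¹' V)) :
    topologicalKrullDim ↥W = topologicalKrullDim ↥V + (n : WithBot ℕ∞) := by
  subst hq
  obtain ⟨v, hv⟩ := QuasiSober.sober hVirr hV
  have hpc : IsClosed (q ⁻¹' V) := hV.preimage q.continuous
  have hW' : IsIrreducible (Subtype.val '' W) := hW.1.image _ continuous_subtype_val.continuousOn
  have hWc : IsClosed (Subtype.val '' W) :=
    hpc.isClosedEmbedding_subtypeVal.isClosedMap _ (isClosed_of_mem_irreducibleComponents W hW)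
  obtain ⟨w, hw⟩ := QuasiSober.sober hW' hWc
  obtain ⟨w₀, hw₀W, rfl⟩ := hw.mem
  have hmax : ∀ z : X, z ⤳ w₀.1 → q z ∈ V → z = w₀.1 := by
    intro z hz hzV
    have hz' : (⟨z, hzV⟩ : ↥(q ⁻¹' V)) ⤳ w₀ := (subtype_specializes_iff _ _).mpr hz
    have hsub : W ⊆ closure {(⟨z, hzV⟩ : ↥(q ⁻¹' V))} := fun a ha => by
      refine (specializes_iff_mem_closure).mp (hz'.trans ?_)
      exact (subtype_specializes_iff _ _).mpr (hw.specializes (Set.mem_image_of_mem _ ha))
    have hWmem : (⟨z, hzV⟩ : ↥(q ⁻¹' V)) ∈ W := hW.2 isIrreducible_singleton.closure hsub (subset_closure rfl)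
    exact (hw.specializes (Set.mem_image_of_mem _ hWmem)).antisymm hz |>.eq.symm
  have hqw : q w₀.1 = v := by
    obtain ⟨z, hz, hzv⟩ := exists_generization q (x := w₀.1) (hv.specializes w₀.2)
    rw [← hmax z hz (by rw [hzv]; exact hv.mem), hzv]
  have hfm : FibMax q w₀.1 := fun z hz hqz => hmax z hz (by rw [hqz]; exact w₀.2)
  have hrd := (CycLib.hasRelDim_iff q).1 hn _ hfm
  rw [← (hw.def : closure {w₀.1} = _)] at hWc
  have e₁ : topologicalKrullDim ↥W = topologicalKrullDim ↥(closure ({w₀.1} : Set X)) := by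
    rw [hw.def]
    exact ((Topology.IsEmbedding.subtypeVal).homeomorphImage W).isHomeomorph.topologicalKrullDim_eq
  have eV := dim_closure qY' v
  rw [hv.def] at eV
  rw [e₁, dim_closure (q ≫ qY'), eV, rd_comp, hqw, hrd,
    show ((n : ℕ) : WithBot ℕ∞) = (((n : ℕ) : ℕ∞) : WithBot ℕ∞) from rfl, ← WithBot.coe_add,
    ← coe_add_eq]

theorem components_iff' [Flat f] [LocallyOfFiniteType f] (hf : f ≫ qY = qX) (d n : ℕ)
    (hY : ∀ Z ∈ irreducibleComponents ↥Y, topologicalKrullDim ↥Z = (d : WithBot ℕ∞)) :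
    (∀ Z ∈ irreducibleComponents ↥X, topologicalKrullDim ↥Z = ((d + n : ℕ) : WithBot ℕ∞)) ↔
      Cyc.HasRelDim f n := by
  subst hf
  haveI : IsLocallyNoetherian Y := LocallyOfFiniteType.isLocallyNoetherian qY
  haveI : LocallyOfFinitePresentation f := LocallyOfFinitePresentation.iff_locallyOfFiniteType.2 ‹_›
  have hd : ∀ η : Y, (∀ z, z ⤳ η → z = η) → rd qY η = d := fun η hη => by
    have h := hY _ (RGLib.DimBound.mem_irreducibleComponents_of_maximal hη)
    rw [dim_closure qY] at h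
    exact ENat.coe_inj.mp (WithBot.coe_inj.mp h)
  have hmap : ∀ ξ : X, (∀ z, z ⤳ ξ → z = ξ) → ∀ y, y ⤳ f ξ → y = f ξ := fun ξ hξ y hy => by
    obtain ⟨z, hz, hzy⟩ := exists_generization f hy
    rw [← hzy, hξ z hz]
  have key : ∀ ξ : X, (∀ z, z ⤳ ξ → z = ξ) →
      ((topologicalKrullDim ↥(closure ({ξ} : Set X)) = ((d + n : ℕ) : WithBot ℕ∞)) ↔ rd f ξ = n) := by
    intro ξ hξ
    rw [dim_closure (f ≫ qY), rd_comp, hd _ (hmap ξ hξ)]
    constructor
    · intro h; have := ENat.coe_inj.mp (WithBot.coe_inj.mp h); omega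
    · intro h; rw [h]; rfl
  rw [CycLib.hasRelDim_iff]
  constructor
  · intro h z hz
    obtain ⟨η, hη, hηmax⟩ := FibDim.exists_maximal_generization (f z)
    obtain ⟨ζ, -, hfζ, hmax, he⟩ := exists_fibMax_eq_of_isOpenAt f hz
      (fun U hU => f.isOpenMap.image_mem_nhds hU) hη
    have hmax' : ∀ w, w ⤳ ζ → w = ζ := fun w hw => hmax w hw (by
      rw [hfζ]
      exact hηmax _ (hfζ ▸ hw.map f.continuous))
    rw [← he]
    exact (key ζ hmax').mp (h _ (RGLib.DimBound.mem_irreducibleComponents_of_maximal hmax'))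
  · intro h Z hZ
    obtain ⟨ξ, rfl, hξ⟩ := FDescent.exists_maximal_of_mem_irreducibleComponents hZ
    exact (key ξ hξ).mpr (h ξ (fibMax_of_maximal f hξ))

end Groth.Agent.RGLib.FlatEquidim
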