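import Groth.Agent.RGLib.WeakTensor
import Groth.Agent.RGLib.Harvest
import Groth.Agent.FlatSyz5.NilFree
import Groth.Agent.FlatSyz5.GenFreeNil
import Groth.Agent.UnivInjProj.Basic

/-!
# Coordinates over an artinian-like thickening of a point of the base
-/

universe u

noncomputable section

open TensorProduct IsLocalRing

set_option linter.style.haveILetI false

namespace Groth.Agent.RGLib

attribute [local instance] Algebra.TensorProduct.rightAlgebra

/-- A flat module free modulo a nilpotent ideal is free. -/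
theorem free_of_free_mod_nilpotent {A : Type u} [CommRing A] {M : Type u} [AddCommGroup M] [Module A M]
    [Module.Flat A M] (J : Ideal A) (hJ : IsNilpotent J) (hfree : Module.Free (A ⧸ J) ((A ⧸ J) ⊗[A] M)) :
    Module.Free A M := by
  obtain ⟨κ, f, hf, hk⟩ := FlatSyz5.exists_cover_of_free_mod J hJ hfree
  exact Module.Free.of_equiv (LinearEquiv.ofBijective f ⟨FlatSyz5.injective_of_flat J hJ f hf hk, hf⟩)

variable {R : Type u} [CommRing R] (p : Ideal R) [p.IsPrime] (P' : Ideal R)

/-- The local ring at `p` modulo `P'`. -/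
abbrev LocQuot : Type u := Localization.AtPrime p ⧸ P'.map (algebraMap R (Localization.AtPrime p))

theorem exists_smul_eq_one_tmul (Z : Type u) [AddCommGroup Z] [Module R Z] (x : LocQuot p P' ⊗[R] Z) :
    ∃ s ∉ p, ∃ z : Z, s • x = (1 : LocQuot p P') ⊗ₜ[R] z := by
  let π : Localization.AtPrime p →ₗ[R] LocQuot p P' :=
    (Ideal.Quotient.mkₐ R (P'.map (algebraMap R (Localization.AtPrime p)))).toLinearMap
  obtain ⟨x', rfl⟩ := LinearMap.rTensor_surjective Z (g := π) Ideal.Quotient.mk_surjective x
  obtain ⟨⟨z, s⟩, hz⟩ := IsLocalizedModule.surj p.primeCompl (TensorProduct.mk R (Localization.AtPrime p) Z 1) x'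
  refine ⟨s, s.2, z, ?_⟩
  rw [← map_smul]
  change (s : R) • x' = _ at hz
  rw [hz]
  rfl

theorem exists_smul_mem_of_one_tmul_eq_zero (Z : Type u) [AddCommGroup Z] [Module R Z] (z : Z)
    (hz : (1 : LocQuot p P') ⊗ₜ[R] z = 0) : ∃ s ∉ p, s • z ∈ P' • (⊤ : Submodule R Z) := by
  let Z' := Z ⧸ (P' • ⊤ : Submodule R Z)
  let I : Ideal (Localization.AtPrime p) := P'.map (algebraMap R (Localization.AtPrime p))
  let π : Localization.AtPrime p →ₗ[R] LocQuot p P' := (Ideal.Quotient.mkₐ R I).toLinearMap
  have h0 : π.rTensor Z' ((1 : Localization.AtPrime p) ⊗ₜ[R] (Submodule.Quotient.mk z : Z')) = 0 := by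
    have := congrArg ((P' • ⊤ : Submodule R Z).mkQ.lTensor (LocQuot p P')) hz
    rw [map_zero] at this
    exact this
  have hex : Function.Exact (I.restrictScalars R).subtype π := fun x => by
    show Ideal.Quotient.mk I x = 0 ↔ _
    rw [Ideal.Quotient.eq_zero_iff_mem]
    simp
  obtain ⟨w, hw⟩ := (rTensor_exact Z' hex Ideal.Quotient.mk_surjective _).1 h0
  have hZ' : ∀ a ∈ P', ∀ y : Z', a • y = 0 := fun a ha y => by
    obtain ⟨y, rfl⟩ := Submodule.Quotient.mk_surjective _ y
    exact (Submodule.Quotient.mk_eq_zero _).2 (Submodule.smul_mem_smul ha trivial)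
  have hw0 : (I.restrictScalars R).subtype.rTensor Z' w = 0 := by
    clear hw
    induction w using TensorProduct.induction_on with
    | zero => rw [map_zero]
    | add a b ha hb => rw [map_add, ha, hb, add_zero]
    | tmul i y =>
      rw [LinearMap.rTensor_tmul, Submodule.subtype_apply]
      obtain ⟨i, hi⟩ := i
      change i ⊗ₜ[R] y = 0
      rw [Submodule.restrictScalars_mem] at hi
      induction hi using Submodule.span_induction generalizing y with
      | mem x hx =>
        obtain ⟨a, ha, rfl⟩ := hx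
        rw [Algebra.algebraMap_eq_smul_one, smul_tmul, hZ' a ha, tmul_zero]
      | zero => rw [zero_tmul]
      | add x x' _ _ hx hx' => rw [add_tmul, hx, hx', add_zero]
      | smul c x _ hx =>
        rw [smul_eq_mul]
        have := congrArg ((LinearMap.mulLeft R c).rTensor Z') (hx y)
        rwa [map_zero] at this
  rw [hw0] at hw
  obtain ⟨⟨s, hs⟩, hsz⟩ := (IsLocalizedModule.eq_zero_iff p.primeCompl
    (TensorProduct.mk R (Localization.AtPrime p) Z' 1) (m := (Submodule.Quotient.mk z : Z'))).1 hw.symm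
  exact ⟨s, hs, (Submodule.Quotient.mk_eq_zero _).1 hsz⟩

theorem isUnit_algebraMap_locQuot {s : R} (hs : s ∉ p) : IsUnit (algebraMap R (LocQuot p P') s) :=
  (IsLocalization.map_units (M := p.primeCompl) (Localization.AtPrime p) ⟨s, hs⟩).map (Ideal.Quotient.mk _)

variable {S : Type u} [CommRing S] [Algebra R S] [Algebra.FinitePresentation R S]
  {N : Type u} [AddCommGroup N] [Module S N] [Module R N] [IsScalarTower R S N] [Module.FinitePresentation S N]
  {M : Type u} [AddCommGroup M] [Module R M]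

/-- Multiplication by an element avoiding the relevant associated points reflects `p G` on a basic
neighbourhood. -/
theorem reflect_localized_of_notMem (g : S) (t : S) (ht : ∀ q' ∈ fibreAss p S N, g ∉ q' → t ∉ q')
    [IsScalarTower R (Localization.Away g) (LocalizedModule (Submonoid.powers g) N)]
    (γ : LocalizedModule (Submonoid.powers g) N) (s₀ : R) (hs₀ : s₀ ∉ p)
    (hst : s₀ • (t • γ) ∈ p • (⊤ : Submodule R (LocalizedModule (Submonoid.powers g) N))) :
    ∃ r ∉ p, r • γ ∈ p • (⊤ : Submodule R (LocalizedModule (Submonoid.powers g) N)) := by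
  classical
  let G := LocalizedModule (Submonoid.powers g) N
  let Sg := Localization.Away g
  let lG := LocalizedModule.mkLinearMap (Submonoid.powers g) N
  obtain ⟨⟨n, gi⟩, hn⟩ := IsLocalizedModule.surj (Submonoid.powers g) lG γ
  change (gi : S) • γ = lG n at hn
  have hstn : algebraMap R S s₀ • (t • lG n) ∈ p • (⊤ : Submodule R G) := by
    have h := AssFiber.smul_mem_pN p (S := S) G hst
    rw [← hn, smul_comm t, smul_comm _ (gi : S), algebraMap_smul]
    exact AssFiber.mem_smul_top_of_mem_pN p (S := S) G (Submodule.smul_mem _ _ h)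
  have hTN : ∀ x, x ∈ p • (⊤ : Submodule R G) →
      ∃ d ∈ Submonoid.powers g, ∃ m' ∈ AssFiber.pN p (S := S) N, d • x = lG m' := by
    intro x hx
    refine Submodule.smul_induction_on hx (fun r hr v _ => ?_) fun a b ha hb => ?_
    · induction v using LocalizedModule.induction_on with
      | _ m d =>
      refine ⟨d, d.2, algebraMap R S r • m, Submodule.smul_mem_smul (Ideal.mem_map_of_mem _ hr) trivial, ?_⟩
      rw [algebraMap_smul, LinearMap.map_smul_of_tower, smul_comm]
      refine congrArg (r • ·) ?_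
      show (d : S) • LocalizedModule.mk m d = LocalizedModule.mk m 1
      rw [LocalizedModule.smul'_mk]
      exact LocalizedModule.mk_cancel d m
    · obtain ⟨d, hd, n₁, hn₁, e₁⟩ := ha
      obtain ⟨d', hd', n₂, hn₂, e₂⟩ := hb
      refine ⟨d * d', mul_mem hd hd', d' • n₁ + d • n₂,
        add_mem (Submodule.smul_mem _ _ hn₁) (Submodule.smul_mem _ _ hn₂), ?_⟩
      rw [smul_add, map_add, map_smul, map_smul, ← e₁, ← e₂, smul_smul, smul_smul, mul_comm d d']
  obtain ⟨d, hd, m', hm', hde⟩ := hTN _ hstn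
  have hde' : lG (d • (algebraMap R S s₀ • (t • n))) = lG m' := by
    rw [map_smul, map_smul, map_smul]
    exact hde
  obtain ⟨⟨v, hv⟩, hve⟩ := IsLocalizedModule.exists_of_eq (S := Submonoid.powers g) hde'
  change v • (d • (algebraMap R S s₀ • (t • n))) = v • m' at hve
  have h00 : (v * d * algebraMap R S s₀ * t) • FlatCA.toFiberMod p (S := S) N n = 0 := by
    rw [← map_smul, mul_smul, mul_smul, mul_smul, hve]
    exact AssFiber.toFiberMod_eq_zero_of_mem p N (Submodule.smul_mem _ _ hm')
  obtain ⟨d₂, hd₂, hd₂0⟩ : ∃ d₂ ∈ Submonoid.powers g, d₂ • FlatCA.toFiberMod p (S := S) N n = 0 := by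
    by_contra hne
    push Not at hne
    obtain ⟨Q, hQ, hQx, hQg⟩ := Ideal.exists_le_prime_disjoint
      (Submodule.span S {FlatCA.toFiberMod p (S := S) N n}).annihilator (Submonoid.powers g) (by
        rw [Set.disjoint_right]
        exact fun d hd hd0 => hne d hd ((Submodule.mem_annihilator_span_singleton _ d).1 hd0))
    haveI := hQ
    have hgQ : g ∉ Q := Set.disjoint_right.1 hQg (Submonoid.mem_powers g)
    obtain ⟨d₃, hd₃, hd₃0⟩ := exists_smul_fibre_eq_zero p Q _ _ h00 fun P₁ hP₁ hle h => by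
      haveI : P₁.IsPrime := IsAssociatedPrime.isPrime hP₁
      have hpr : (P₁.comap (algebraMap S (p.Fiber S))).IsPrime := Ideal.IsPrime.comap _
      have hgP : g ∉ P₁.comap (algebraMap S (p.Fiber S)) := fun h => hgQ (hle h)
      have hpw : ∀ z ∈ Submonoid.powers g, z ∉ P₁.comap (algebraMap S (p.Fiber S)) := by
        rintro _ ⟨i, rfl⟩ hz
        exact hgP (hpr.mem_of_pow_mem i hz)
      have hsP : ∀ r ∉ p, algebraMap R S r ∉ P₁.comap (algebraMap S (p.Fiber S)) := fun r hr hrP =>
        hr ((SetLike.ext_iff.1 (comap_comap_fiber p P₁) r).1 hrP)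
      rcases hpr.mem_or_mem h with h | h
      · rcases hpr.mem_or_mem h with h | h
        · rcases hpr.mem_or_mem h with h | h
          · exact hpw v hv h
          · exact hpw d hd h
        · exact hsP _ hs₀ h
      · exact ht _ ⟨P₁, hP₁, rfl⟩ hgP h
    exact hd₃ (hQx ((Submodule.mem_annihilator_span_singleton _ d₃).2 hd₃0))
  rw [← map_smul] at hd₂0
  obtain ⟨r, hr, hrn⟩ := AssFiber.exists_smul_mem_of_toFiberMod_eq_zero p (S := S) N hd₂0
  have hrγ : r • γ ∈ p • (⊤ : Submodule R G) := by
    have h : lG (algebraMap R S r • (d₂ • n)) ∈ AssFiber.pN p (S := S) G := by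
      refine (Submodule.map_le_iff_le_comap (f := lG) (q := AssFiber.pN p (S := S) G)).1 ?_ hrn
      rw [AssFiber.pN, Submodule.map_smul'']
      exact Submodule.smul_mono le_rfl le_top
    rw [map_smul, map_smul, ← hn, algebraMap_smul] at h
    have h' : r • γ ∈ AssFiber.pN p (S := Sg) G := by
      refine (Submodule.smul_mem_iff_of_isUnit _ ((IsLocalization.map_units Sg (⟨d₂, hd₂⟩ * gi : Submonoid.powers g)))).1 ?_
      rw [algebraMap_smul, Submonoid.coe_mul, mul_smul, smul_comm (gi : S), smul_comm d₂]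
      exact AssFiber.smul_mem_pN p G (AssFiber.mem_smul_top_of_mem_pN p G h)
    exact AssFiber.mem_smul_top_of_mem_pN p G h'
  exact ⟨r, hr, hrγ⟩

/-- The case of an element outside a fixed prime. -/
theorem reflect_localized (g : S) (q : Ideal S) [q.IsPrime]
    (hg : ∀ q' ∈ fibreAss p S N, ¬ q' ≤ q → g ∈ q') (t : S) (ht : t ∉ q)
    [IsScalarTower R (Localization.Away g) (LocalizedModule (Submonoid.powers g) N)]
    (γ : LocalizedModule (Submonoid.powers g) N) (s₀ : R) (hs₀ : s₀ ∉ p)
    (hst : s₀ • (t • γ) ∈ p • (⊤ : Submodule R (LocalizedModule (Submonoid.powers g) N))) :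
    ∃ r ∉ p, r • γ ∈ p • (⊤ : Submodule R (LocalizedModule (Submonoid.powers g) N)) :=
  reflect_localized_of_notMem p g t (fun q' hq' hgq htq =>
    hgq (hg q' hq' fun hle => ht (hle htq))) γ s₀ hs₀ hst

/-- A map reflecting `p G` acts universally injectively on a free thickened fibre. -/
theorem rTensor_lsmul_injective (hP'p : P' ≤ p) [IsLocalRing (LocQuot p P')] (G : Type u) [AddCommGroup G]
    [Module R G] [Module.Free (LocQuot p P') (LocQuot p P' ⊗[R] G)] (u : G →ₗ[R] G)
    (hu : ∀ γ, ∀ s₀ ∉ p, s₀ • u γ ∈ p • (⊤ : Submodule R G) → ∃ r ∉ p, r • γ ∈ p • (⊤ : Submodule R G))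
    (X : Type u) [AddCommGroup X] [Module (LocQuot p P') X] :
    Function.Injective ((u.baseChange (LocQuot p P')).rTensor X) := by
  let A' := LocQuot p P'
  let F := A' ⊗[R] G
  have hm : ∀ a, a ∈ maximalIdeal A' → ∃ r ∈ p, ∃ u ∉ p, algebraMap R A' u * a = algebraMap R A' r := by
    intro a ha
    obtain ⟨a, rfl⟩ := Ideal.Quotient.mk_surjective a
    obtain ⟨⟨r, u⟩, rfl⟩ := IsLocalization.mk'_surjective p.primeCompl a
    have hr : r ∈ p := by
      by_contra hr
      exact (mem_maximalIdeal _).1 ha (((IsLocalization.AtPrime.isUnit_mk'_iff (Localization.AtPrime p) p r u).2 hr).map _)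
    refine ⟨r, hr, u, u.2, ?_⟩
    show Ideal.Quotient.mk _ (algebraMap R (Localization.AtPrime p) u) * Ideal.Quotient.mk _ _ = Ideal.Quotient.mk _ _
    rw [← map_mul, mul_comm, IsLocalization.mk'_spec]
  rw [← LinearMap.lTensor_inj_iff_rTensor_inj]
  refine UnivInjProj.univInj _ (fun x hx => ?_) X
  obtain ⟨s, hs, γ, hγ⟩ := exists_smul_eq_one_tmul p P' G x
  have hpred : ∀ w ∈ maximalIdeal A' • (⊤ : Submodule A' F),
      ∃ s ∉ p, ∃ γ' ∈ p • (⊤ : Submodule R G), s • w = (1 : A') ⊗ₜ[R] γ' := by
    intro w hw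
    refine Submodule.smul_induction_on hw (fun a ha v _ => ?_) fun v v' hv hv' => ?_
    · obtain ⟨r, hr, u, hu, hua⟩ := hm a ha
      obtain ⟨s', hs', γ', hγ'⟩ := exists_smul_eq_one_tmul p P' G v
      refine ⟨u * s', fun h => (‹p.IsPrime›.mem_or_mem h).elim hu hs', r • γ', Submodule.smul_mem_smul hr trivial, ?_⟩
      rw [mul_comm, mul_smul, ← algebraMap_smul A' u, smul_smul, hua, algebraMap_smul, smul_comm, hγ', tmul_smul]
    · obtain ⟨s₁, hs₁, γ₁, hγ₁, e₁⟩ := hv
      obtain ⟨s₂, hs₂, γ₂, hγ₂, e₂⟩ := hv'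
      refine ⟨s₁ * s₂, fun h => (‹p.IsPrime›.mem_or_mem h).elim hs₁ hs₂, s₂ • γ₁ + s₁ • γ₂,
        add_mem (Submodule.smul_mem _ _ hγ₁) (Submodule.smul_mem _ _ hγ₂), ?_⟩
      rw [smul_add, tmul_add, tmul_smul, tmul_smul, ← e₁, ← e₂, smul_smul, smul_smul, mul_comm s₁ s₂]
  obtain ⟨s', hs', γ', hγ', hw⟩ := hpred _ hx
  have h0 : (1 : A') ⊗ₜ[R] (s' • u γ - s • γ') = 0 := by
    rw [tmul_sub, tmul_smul, tmul_smul, ← hw, sub_eq_zero, smul_comm]
    refine congrArg (s' • ·) ?_
    rw [← LinearMap.map_smul_of_tower, hγ, LinearMap.baseChange_tmul]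
  obtain ⟨s'', hs'', hmem⟩ := exists_smul_mem_of_one_tmul_eq_zero p P' G _ h0
  have hst : (s'' * s') • u γ ∈ p • (⊤ : Submodule R G) := by
    have h := add_mem (Submodule.smul_mono_left hP'p hmem)
      (Submodule.smul_mem (p • ⊤ : Submodule R G) (s'' * s) hγ')
    rwa [smul_sub, smul_smul, smul_smul, sub_add_cancel] at h
  obtain ⟨r, hr, hrγ⟩ := hu γ (s'' * s') (fun h => (‹p.IsPrime›.mem_or_mem h).elim hs'' hs') hst
  have hγm : ∀ γ ∈ p • (⊤ : Submodule R G), (1 : A') ⊗ₜ[R] γ ∈ maximalIdeal A' • (⊤ : Submodule A' F) := by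
    intro γ hγ
    refine Submodule.smul_induction_on hγ (fun a ha v _ => ?_) fun a b ha hb => by rw [tmul_add]; exact add_mem ha hb
    rw [tmul_smul, ← algebraMap_smul A' a]
    refine Submodule.smul_mem_smul ((mem_maximalIdeal _).2 fun hu => ?_) trivial
    obtain ⟨b, hb⟩ := isUnit_iff_exists_inv.1 hu
    obtain ⟨b, rfl⟩ := Ideal.Quotient.mk_surjective b
    have h' : algebraMap R (Localization.AtPrime p) a * b - 1 ∈ maximalIdeal _ :=
      (Ideal.map_le_iff_le_comap.2 (fun z hz => Ideal.mem_comap.2 ((IsLocalization.AtPrime.to_map_mem_maximal_iff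
          (Localization.AtPrime p) p z).2 (hP'p hz))) : P'.map (algebraMap R (Localization.AtPrime p)) ≤ maximalIdeal _) (Ideal.Quotient.eq.1 hb)
    have h'' := sub_mem (Ideal.mul_mem_right b _
      ((IsLocalization.AtPrime.to_map_mem_maximal_iff (Localization.AtPrime p) p a).2 ha)) h'
    rw [sub_sub_cancel] at h''
    exact (maximalIdeal.isMaximal _).ne_top ((Ideal.eq_top_iff_one _).2 h'')
  have h := hγm _ hrγ
  rw [tmul_smul, ← hγ, smul_smul, ← algebraMap_smul A' (r * s)] at h
  exact (Submodule.smul_mem_iff_of_isUnit _ (isUnit_algebraMap_locQuot p P'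
    fun h => (‹p.IsPrime›.mem_or_mem h).elim hr hs)).1 h

omit [Algebra.FinitePresentation R S] in
/-- Coordinates of a tensor over a free thickened fibre. -/
theorem exists_coordinate (G : Type u) [AddCommGroup G] [Module R G] [Module S G] [IsScalarTower R S G]
    [Module.Free (LocQuot p P') (LocQuot p P' ⊗[R] G)] (K : Type u) [AddCommGroup K] [Module R K]
    (hK : ∀ a ∈ P', ∀ m : K, a • m = 0) (zK : G ⊗[R] K) (hne : ∀ s ∉ p, s • zK ≠ 0)
    (hkills : ∀ a ∈ p, ∃ t : S, (∀ (X : Type u) [AddCommGroup X] [Module (LocQuot p P') X],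
      Function.Injective ((((LinearMap.lsmul S G t).restrictScalars R).baseChange (LocQuot p P')).rTensor X)) ∧
      ∃ l : ℕ, a ^ l • (t • zK) = 0) :
    ∃ m : K, (∀ s ∉ p, s • m ≠ 0) ∧ ∀ a ∈ p, ∃ s ∉ p, ∃ l : ℕ, (s * a ^ l) • m = 0 := by
  classical
  let A' := LocQuot p P'
  let F := A' ⊗[R] G
  let X := A' ⊗[R] K
  let z : F ⊗[A'] X := TensorProduct.AlgebraTensorModule.distribBaseChange R A' G K ((1 : A') ⊗ₜ zK)
  have hP'GK : ∀ a ∈ P', ∀ w : G ⊗[R] K, a • w = 0 := fun a ha w => by
    induction w using TensorProduct.induction_on with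
    | zero => rw [smul_zero]
    | add u v hu hv => rw [smul_add, hu, hv, add_zero]
    | tmul u v => rw [← tmul_smul, hK a ha v, tmul_zero]
  have hkill : ∀ (Z : Type u) [AddCommGroup Z] [Module R Z], (∀ a ∈ P', ∀ w : Z, a • w = 0) →
      ∀ w : Z, (1 : A') ⊗ₜ[R] w = 0 → ∃ s ∉ p, s • w = 0 := by
    intro Z _ _ hZ w hw
    obtain ⟨s, hs, hmem⟩ := exists_smul_mem_of_one_tmul_eq_zero p P' Z w hw
    exact ⟨s, hs, (Submodule.smul_induction_on hmem (fun a ha v _ => hZ a ha v) fun a b ha hb => by rw [ha, hb, add_zero])⟩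
  have hz : z ≠ 0 := by
    intro h0
    have h0' : (1 : A') ⊗ₜ[R] zK = 0 :=
      (TensorProduct.AlgebraTensorModule.distribBaseChange R A' G K).injective (h0.trans (map_zero _).symm)
    obtain ⟨s, hs, hsz⟩ := hkill _ hP'GK zK h0'
    exact hne s hs hsz
  let bF := Module.Free.chooseBasis A' F
  let coord := (TensorProduct.comm A' F X).trans (TensorProduct.equivFinsuppOfBasisRight (M := X) bF)
  have hc0 : coord z ≠ 0 := fun h => hz (coord.map_eq_zero_iff.1 h)
  obtain ⟨α, hα⟩ := Finsupp.ne_iff.1 hc0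
  rw [Finsupp.zero_apply] at hα
  obtain ⟨s, hs, m, hm'⟩ := exists_smul_eq_one_tmul p P' K (coord z α)
  refine ⟨m, fun s' hs' h0 => hα ?_, fun a ha => ?_⟩
  · have h' : (s' * s) • coord z α = 0 := by
      rw [mul_smul, hm', ← tmul_smul, h0, tmul_zero]
    rw [← algebraMap_smul A' (s' * s)] at h'
    exact (isUnit_algebraMap_locQuot p P' fun h => (‹p.IsPrime›.mem_or_mem h).elim hs' hs).smul_eq_zero.1 h'
  · obtain ⟨t, hinj, l, htl⟩ := hkills a ha
    have hz0 : a ^ l • z = 0 := by
      refine hinj X ?_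
      rw [map_zero]
      have hnat : ∀ w : G ⊗[R] K, (((LinearMap.lsmul S G t).restrictScalars R).baseChange A').rTensor X
          (TensorProduct.AlgebraTensorModule.distribBaseChange R A' G K ((1 : A') ⊗ₜ w)) =
          TensorProduct.AlgebraTensorModule.distribBaseChange R A' G K ((1 : A') ⊗ₜ (t • w)) := by
        intro w
        induction w using TensorProduct.induction_on with
        | zero => simp only [tmul_zero, smul_zero, map_zero]
        | add u v hu hv => simp only [tmul_add, smul_add, map_add, hu, hv]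
        | tmul u v => rfl
      show (((LinearMap.lsmul S G t).restrictScalars R).baseChange A').rTensor X (a ^ l •
        TensorProduct.AlgebraTensorModule.distribBaseChange R A' G K ((1 : A') ⊗ₜ zK)) = 0
      rw [LinearMap.map_smul_of_tower, hnat, ← algebraMap_smul A' (a ^ l), ← map_smul, algebraMap_smul, ← tmul_smul, htl,
        tmul_zero, map_zero]
    have hx0 : a ^ l • coord z α = 0 := by
      rw [← algebraMap_smul A' (a ^ l), ← Finsupp.smul_apply, ← map_smul, algebraMap_smul, hz0, map_zero, Finsupp.zero_apply]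
    have hm0 : (1 : A') ⊗ₜ[R] (a ^ l • m) = 0 := by rw [tmul_smul, ← hm', smul_comm, hx0, smul_zero]
    obtain ⟨s', hs', hs'0⟩ := hkill _ hK _ hm0
    exact ⟨s', hs', l, by rw [mul_smul]; exact hs'0⟩


/-- A tensor killed at `q` by powers of every element of `p`, nonzero at `q`, gives a weakly associated
prime of the second factor. -/
theorem mem_weakAss_of_local_killers (q : Ideal S) [q.IsPrime] (hpq : ∀ r, r ∈ p ↔ algebraMap R S r ∈ q)
    (hflat : Module.Flat R (LocalizedModule q.primeCompl N)) (y : N ⊗[R] M) (h1 : ∀ t ∉ q, t • y ≠ 0)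
    (h2 : ∀ a ∈ p, ∃ t ∉ q, ∃ k : ℕ, (t * algebraMap R S a ^ k) • y = 0) : p ∈ FlatCA.weakAss R M := by
  classical
  haveI := hflat
  -- a basic neighbourhood
  obtain ⟨g₀, hg₀, hfl⟩ := FlatModel.exists_flat_nhd (R := R) N q inferInstance
  let W := {q' // q' ∈ fibreAss p S N ∧ ¬ q' ≤ q}
  haveI : Fintype W := ((fibreAss_finite N p).subset fun _ h => h.1).fintype
  have hc : ∀ i : W, ∃ c ∈ i.1, c ∉ q := fun i => Set.not_subset.1 i.2.2
  choose c hc hcq using hc
  let g₁ := ∏ i, c i
  have hg₁ : g₁ ∉ q := prod_mem (S := q.primeCompl) fun i _ => hcq i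
  let g := g₀ * g₁
  have hg : g ∉ q := fun h => (‹q.IsPrime›.mem_or_mem h).elim hg₀ hg₁
  let G := LocalizedModule (Submonoid.powers g) N
  let Sg := Localization.Away g
  haveI : Algebra.FinitePresentation R Sg :=
    haveI : Algebra.FinitePresentation S Sg := IsLocalization.Away.finitePresentation g
    Algebra.FinitePresentation.trans R S Sg
  haveI : IsScalarTower R Sg G := IsScalarTower.of_algebraMap_smul fun r x => by
    rw [IsScalarTower.algebraMap_apply R S Sg, algebraMap_smul, algebraMap_smul]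
  haveI : Module.Flat R G := by
    haveI := hfl (Submonoid.closure {g₀, g₁}) (Submonoid.subset_closure (Set.mem_insert _ _))
    refine flat_localized_mono (A := R) N (Submonoid.powers g) (Submonoid.closure {g₀, g₁}) ?_ ?_
    · rw [Submonoid.powers_le]
      exact mul_mem (Submonoid.subset_closure (Set.mem_insert _ _))
        (Submonoid.subset_closure (Set.mem_insert_of_mem _ rfl))
    · intro x hx
      induction hx using Submonoid.closure_induction with
      | mem x hx =>
        rcases hx with rfl | rfl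
        · exact ⟨g₁, 1, by simp [g, mul_comm]⟩
        · exact ⟨g₀, 1, by simp [g]⟩
      | one => exact ⟨1, by rw [one_mul]; exact one_mem _⟩
      | mul x y _ _ hx hy =>
        obtain ⟨u, hu⟩ := hx
        obtain ⟨v, hv⟩ := hy
        exact ⟨u * v, by rw [mul_mul_mul_comm]; exact mul_mem hu hv⟩
  let lG := LocalizedModule.mkLinearMap (Submonoid.powers g) N
  let lGM := TensorProduct.AlgebraTensorModule.rTensor R M lG
  obtain ⟨P, f, hPfg, hPp, hf, hfree⟩ := FlatSyz5.exists_free_piece (R := R) (S := Sg) G p ‹_›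
  obtain ⟨T, hT⟩ := hPfg
  choose t ht k hk using fun b : T => h2 b (hPp (hT ▸ Submodule.subset_span b.2))
  let e : T → ℕ := fun b => k b + 1
  let Tp := ∏ b, t b
  have hTp : Tp ∉ q := prod_mem (S := q.primeCompl) fun b _ => ht b
  let P' : Ideal R := Ideal.span (Set.range fun b : T => (b : R) ^ e b)
  have hP'p : P' ≤ p := Ideal.span_le.2 (by
    rintro _ ⟨b, rfl⟩
    exact Ideal.pow_mem_of_mem p (hPp (hT ▸ Submodule.subset_span b.2)) _ (Nat.succ_pos _))
  let A' := LocQuot p P'
  have hmap : P'.map (algebraMap R (Localization.AtPrime p)) ≠ ⊤ := fun h => by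
    have h' := Ideal.map_mono (f := algebraMap R (Localization.AtPrime p)) hP'p
    rw [h, top_le_iff, Localization.AtPrime.map_eq_maximalIdeal] at h'
    exact (maximalIdeal.isMaximal _).ne_top h'
  haveI : Nontrivial A' := Ideal.Quotient.nontrivial_iff.2 hmap
  haveI : IsLocalRing A' :=
    IsLocalRing.of_surjective' (Ideal.Quotient.mk (P'.map (algebraMap R (Localization.AtPrime p)))) Ideal.Quotient.mk_surjective
  have hA'P' : ∀ a ∈ P', algebraMap R A' a = 0 := fun a ha =>
    Ideal.Quotient.eq_zero_iff_mem.2 (Ideal.mem_map_of_mem _ ha)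
  -- freeness over the thickening
  let F := A' ⊗[R] G
  haveI : Module.Free A' F := by
    let J : Ideal A' := P.map (algebraMap R A')
    have hJ : IsNilpotent J := by
      obtain ⟨j, hj⟩ := Ideal.exists_pow_le_of_le_radical_of_fg (I := P) (J := P') (by
        rw [← hT, Submodule.span_le]
        exact fun b hb => ⟨e ⟨b, hb⟩, Ideal.subset_span ⟨⟨b, hb⟩, rfl⟩⟩) ⟨T, hT⟩
      refine ⟨j, ?_⟩
      rw [Submodule.zero_eq_bot, ← le_bot_iff, ← Ideal.map_pow, Ideal.map_le_iff_le_comap]
      exact fun a ha => hA'P' a (hj ha)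
    haveI : Module.Flat A' F := inferInstance
    refine free_of_free_mod_nilpotent J hJ ?_
    haveI : Module.Free (A' ⧸ J) ((A' ⧸ J) ⊗[R] G) := hfree (A' ⧸ J)
      (fun x hx => Ideal.Quotient.eq_zero_iff_mem.2 (Ideal.mem_map_of_mem _ hx))
      ((isUnit_algebraMap_locQuot p P' hf).map (Ideal.Quotient.mk J))
    exact Module.Free.of_equiv (TensorProduct.AlgebraTensorModule.cancelBaseChange R A' (A' ⧸ J) (A' ⧸ J) G).symm
  -- elements avoiding the associated points act universally injectively
  have hinj : ∀ t ∉ q, ∀ (X : Type u) [AddCommGroup X] [Module A' X],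
      Function.Injective ((((LinearMap.lsmul S G t).restrictScalars R).baseChange A').rTensor X) := by
    intro t ht X _ _
    refine rTensor_lsmul_injective p P' hP'p G ((LinearMap.lsmul S G t).restrictScalars R) (fun γ s₀ hs₀ h => ?_) X
    exact reflect_localized p g q (fun q' hq' hnle => Ideal.mul_mem_left _ _
      (Ideal.prod_mem _ (Finset.mem_univ (⟨q', hq', hnle⟩ : W)) (hc ⟨q', hq', hnle⟩))) t ht γ s₀ hs₀ h
  -- the part killed by `P'`
  let f' : M →ₗ[R] (T → M) := LinearMap.pi fun b => LinearMap.lsmul R M ((b : R) ^ e b)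
  let K := LinearMap.ker f'
  have hK : ∀ a ∈ P', ∀ m : K, a • m = 0 := by
    intro a ha m
    induction ha using Submodule.span_induction with
    | mem x hx =>
      obtain ⟨b, rfl⟩ := hx
      exact Subtype.ext (congr_fun m.2 b)
    | zero => rw [zero_smul]
    | add x x' _ _ hx hx' => rw [add_smul, hx, hx', add_zero]
    | smul c x _ hx => rw [smul_eq_mul, mul_smul, hx, smul_zero]
  have hyb : ∀ b : T, (b : R) ^ e b • (Tp • lGM y) = 0 := by
    intro b
    rw [← algebraMap_smul S ((b : R) ^ e b), smul_smul, ← map_smul, map_pow,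
      show algebraMap R S (b : R) ^ e b * Tp =
        (algebraMap R S (b : R) * ∏ b' ∈ Finset.univ.erase b, t b') * (t b * algebraMap R S (b : R) ^ k b) by
        rw [show Tp = t b * ∏ b' ∈ Finset.univ.erase b, t b' from (Finset.mul_prod_erase _ t (Finset.mem_univ b)).symm,
          pow_succ]
        ring,
      mul_smul, hk b, smul_zero, map_zero]
  obtain ⟨zK, hzK⟩ := (Module.Flat.lTensor_exact G (LinearMap.exact_subtype_ker_map f') (Tp • lGM y)).1 (by
    refine (TensorProduct.piRight R R G (fun _ : T => M)).injective ?_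
    rw [map_zero]
    funext b
    show _ = (0 : G ⊗[R] M)
    rw [← hyb b]
    generalize Tp • lGM y = w
    induction w using TensorProduct.induction_on with
    | zero => simp
    | add u v hu hv => simp only [map_add, smul_add, Pi.add_apply, hu, hv]
    | tmul u v => simp [f', tmul_smul])
  have hne : ∀ s ∉ p, s • zK ≠ 0 := fun s hs hsz => by
    have h3 : lGM ((algebraMap R S s * Tp) • y) = 0 := by
      rw [map_smul, mul_smul, algebraMap_smul, ← hzK, ← map_smul, hsz, map_zero]
    obtain ⟨⟨d, hd⟩, hd0⟩ := (IsLocalizedModule.eq_zero_iff (Submonoid.powers g) lGM).1 h3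
    change d • ((algebraMap R S s * Tp) • y) = 0 at hd0
    rw [smul_smul] at hd0
    refine h1 _ (fun h => ?_) hd0
    rcases ‹q.IsPrime›.mem_or_mem h with h | h
    · obtain ⟨i, rfl⟩ := hd
      exact hg (‹q.IsPrime›.mem_of_pow_mem i h)
    · exact (‹q.IsPrime›.mem_or_mem h).elim (fun h' => hs ((hpq s).2 h')) hTp
  refine (mem_weakAss_iff_killers p).2 ?_
  obtain ⟨m, hm1, hm2⟩ := exists_coordinate (S := S) p P' G K hK zK hne fun a ha => by
    obtain ⟨t, ht, l, htl⟩ := h2 a ha
    refine ⟨t, hinj t ht, l, ?_⟩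
    refine Module.Flat.lTensor_preserves_injective_linearMap (M := G) K.subtype K.injective_subtype ?_
    have hsS : ∀ w : G ⊗[R] K, K.subtype.lTensor G (t • w) = t • K.subtype.lTensor G w := fun w => by
      induction w using TensorProduct.induction_on with
      | zero => simp only [smul_zero, map_zero]
      | add u v hu hv => simp only [smul_add, map_add, hu, hv]
      | tmul u v => rfl
    rw [map_zero, map_smul, hsS, hzK, ← algebraMap_smul S (a ^ l), smul_smul, smul_smul, ← map_smul, map_pow,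
      show algebraMap R S a ^ l * t * Tp = Tp * (t * algebraMap R S a ^ l) by ring, mul_smul, htl, smul_zero, map_zero]
  exact ⟨m, fun s hs h => hm1 s hs (Subtype.ext h), fun a ha => by
      obtain ⟨s, hs, l, h⟩ := hm2 a ha
      exact ⟨s, hs, l, congrArg Subtype.val h⟩⟩

/-- The base prime of a weakly associated prime of `N ⊗ M` is weakly associated to `M`. -/
theorem mem_weakAss_base {R S : Type u} [CommRing R] [CommRing S] [Algebra R S] [Algebra.FiniteType R S]
    {N : Type u} [AddCommGroup N] [Module S N] [Module R N] [IsScalarTower R S N] [Module.Finite S N]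
    {M : Type u} [AddCommGroup M] [Module R M] (p : Ideal R) [p.IsPrime] (q : Ideal S) [q.IsPrime]
    (hpq : ∀ r, r ∈ p ↔ algebraMap R S r ∈ q) (hflat : Module.Flat R (LocalizedModule q.primeCompl N))
    (hq : q ∈ FlatCA.weakAss S (N ⊗[R] M)) : p ∈ FlatCA.weakAss R M := by
  classical
  obtain ⟨n, π, hπ⟩ := Algebra.FiniteType.iff_quotient_mvPolynomial''.mp ‹Algebra.FiniteType R S›
  let P := MvPolynomial (Fin n) R
  letI : Algebra P S := π.toRingHom.toAlgebra
  haveI : IsScalarTower R P S := IsScalarTower.of_algebraMap_eq fun r => (π.commutes r).symm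
  letI : Module P N := Module.compHom N (algebraMap P S)
  haveI : IsScalarTower P S N := IsScalarTower.of_algebraMap_smul fun _ _ => rfl
  haveI : IsScalarTower R P N := IsScalarTower.of_algebraMap_smul fun r x => by
    show algebraMap P S (algebraMap R P r) • x = r • x
    rw [← IsScalarTower.algebraMap_apply, algebraMap_smul]
  haveI : Module.Finite P S := Module.Finite.of_surjective (Algebra.linearMap P S) hπ
  haveI : Module.Finite P N := Module.Finite.trans S N
  let q' : Ideal P := q.comap (algebraMap P S)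
  haveI : q'.IsPrime := Ideal.IsPrime.comap _
  haveI : Module.Flat R (LocalizedModule q'.primeCompl N) := (flat_localized_comap_iff (A := R) hπ q).2 hflat
  haveI := finitePresentation_localization_of_flatAt (R := R) N q'
  obtain ⟨a, J, b, hJ, hb, hbq⟩ := exists_adapted_presentation N q'
  let N'' := (Fin a → P) ⧸ J
  haveI : Module.FinitePresentation P N'' :=
    Module.finitePresentation_of_surjective J.mkQ J.mkQ_surjective (by rwa [Submodule.ker_mkQ])
  have hflat'' : Module.Flat R (LocalizedModule q'.primeCompl N'') :=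
    Module.Flat.of_linearEquiv ((LinearEquiv.ofBijective _ (bijective_map_of_kills _ hb hbq)).restrictScalars R)
  obtain ⟨y, hy⟩ := hq
  let bM := TensorProduct.AlgebraTensorModule.rTensor R M b
  have hbMs : Function.Surjective bM := LinearMap.rTensor_surjective M (g := b.restrictScalars R) hb
  obtain ⟨y₀, hy₀⟩ := hbMs y
  have hker : ∀ z, bM z = 0 → ∃ d ∈ q'.primeCompl, d • z = 0 := by
    intro z hz
    obtain ⟨w, rfl⟩ := (rTensor_exact M (LinearMap.exact_subtype_ker_map (b.restrictScalars R)) hb z).1 hz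
    clear hz
    induction w using TensorProduct.induction_on with
    | zero => exact ⟨1, one_mem _, by rw [map_zero, smul_zero]⟩
    | tmul k m =>
      obtain ⟨d, hd, hdk⟩ := hbq k.1 k.2
      exact ⟨d, hd, by rw [LinearMap.rTensor_tmul, Submodule.subtype_apply, TensorProduct.smul_tmul', hdk, zero_tmul]⟩
    | add u v hu hv =>
      obtain ⟨d, hd, hdu⟩ := hu
      obtain ⟨d', hd', hdv⟩ := hv
      exact ⟨d * d', mul_mem hd hd', by
        rw [map_add, smul_add, mul_comm, mul_smul, hdu, smul_zero, mul_comm, mul_smul, hdv, smul_zero, zero_add]⟩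
  have hS : ∀ (c : P) (z : N ⊗[R] M), c • z = algebraMap P S c • z := fun c z => (algebraMap_smul S c z).symm
  refine mem_weakAss_of_local_killers p q' (fun r => ?_) hflat'' y₀ (fun t ht h0 => ?_) fun r hr => ?_
  · rw [hpq r, IsScalarTower.algebraMap_apply R P S]
    rfl
  · have h := congrArg bM h0
    rw [map_smul, hy₀, map_zero, hS] at h
    exact WeakAss.smul_ne_zero_of_notMem hy.1.2 ht h
  · obtain ⟨s, hs, k, hk⟩ := WeakAss.exists_mul_pow_mem hy ((hpq r).1 hr)
    rw [WeakAss.mem_annEl] at hk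
    obtain ⟨s', rfl⟩ := hπ s
    have h0 : bM ((s' * algebraMap R P r ^ k) • y₀) = 0 := by
      rw [map_smul, hy₀, hS, map_mul, map_pow, ← IsScalarTower.algebraMap_apply]
      exact hk
    obtain ⟨d, hd, hd0⟩ := hker _ h0
    refine ⟨d * s', fun h => (‹q'.IsPrime›.mem_or_mem h).elim hd hs, k, ?_⟩
    rw [mul_assoc, mul_smul]
    exact hd0

end Groth.Agent.RGLib

end
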