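import Groth.Agent.SchTorsor.Props
import Groth.Agent.GrpSchLib.GaPts
import Groth.Agent.DescLib.Amitsur

/-!
# Torsors under the additive group are Zariski locally trivial
-/

set_option autoImplicit false
set_option backward.isDefEq.respectTransparency.types false
set_option linter.style.haveILetI false

universe u
set_option synthInstance.maxHeartbeats 100000
set_option maxHeartbeats 800000

open CategoryTheory MonoidalCategory CartesianMonoidalCategory MonObj AlgebraicGeometry
open CategoryTheory.Limits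
open scoped TensorProduct
open Groth.Agent.GrpSchLib.TopDescent Groth.Agent.SchTorsor

namespace Groth.Agent.RGLib.GaTorsorZar

variable {S : Scheme.{u}} {R : CommRingCat.{u}} (v : Spec R ⟶ S)

/-- An algebra over an affine piece of the base, as a test object. -/
noncomputable abbrev tst (C : Type u) [CommRing C] [Algebra R C] : Over S :=
  Over.mk (Spec.map (CommRingCat.ofHom (algebraMap R C)) ≫ v)

/-- An algebra map as a map of test objects. -/
noncomputable abbrev pt {B C : Type u} [CommRing B] [CommRing C] [Algebra R B] [Algebra R C] (φ : B →ₐ[R] C) :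
    tst v C ⟶ tst v B :=
  Over.homMk (Spec.map (CommRingCat.ofHom φ.toRingHom)) (by
    show Spec.map _ ≫ Spec.map _ ≫ v = Spec.map _ ≫ v
    rw [← Category.assoc, ← Spec.map_comp, ← CommRingCat.ofHom_comp, AlgHom.toRingHom_eq_coe,
      AlgHom.comp_algebraMap])

theorem pt_comp {B C D : Type u} [CommRing B] [CommRing C] [CommRing D] [Algebra R B] [Algebra R C] [Algebra R D]
    (φ : B →ₐ[R] C) (χ : C →ₐ[R] D) : pt v χ ≫ pt v φ = pt v (χ.comp φ) := by
  refine Over.OverMorphism.ext ?_
  show Spec.map _ ≫ Spec.map _ = Spec.map _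
  rw [← Spec.map_comp]
  rfl

/-- The coordinate of a point of the additive group with values in an algebra. -/
noncomputable def coord {C : Type u} [CommRing C] [Algebra R C] (x : tst v C ⟶ Red.Ga S) : C :=
  (Scheme.ΓSpecIso (CommRingCat.of C)).hom (Red.gaFn x)

theorem coord_mul {C : Type u} [CommRing C] [Algebra R C] (x y : tst v C ⟶ Red.Ga S) :
    coord v (x * y) = coord v x + coord v y := by
  simp only [coord, GrpSchLib.GaPts.gaFn_mul]
  exact map_add (Scheme.ΓSpecIso (CommRingCat.of C)).hom.hom _ _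

theorem coord_comp {B C : Type u} [CommRing B] [CommRing C] [Algebra R B] [Algebra R C] (φ : B →ₐ[R] C)
    (x : tst v B ⟶ Red.Ga S) : coord v (pt v φ ≫ x) = φ (coord v x) := by
  simp only [coord]
  rw [GrpSchLib.GaPts.gaFn_comp]
  exact DFunLike.congr_fun (congrArg CommRingCat.Hom.hom
    (Scheme.ΓSpecIso_naturality (CommRingCat.ofHom φ.toRingHom))) _

theorem coord_injective {C : Type u} [CommRing C] [Algebra R C] :
    Function.Injective (coord v (C := C)) := fun x y h => GrpSchLib.GaPts.gaFn_injective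
  ((Scheme.ΓSpecIso (CommRingCat.of C)).commRingCatIsoToRingEquiv.injective h)

theorem coord_surjective {C : Type u} [CommRing C] [Algebra R C] :
    Function.Surjective (coord v (C := C)) := fun c => by
  refine ⟨GrpSchLib.GaPts.ptOfFn ((Scheme.ΓSpecIso (CommRingCat.of C)).inv c), ?_⟩
  rw [coord, GrpSchLib.GaPts.gaFn_ptOfFn, ← CategoryTheory.comp_apply, Iso.inv_hom_id]
  rfl

variable {X : Over S} (a : AlgGrp.Action (Red.Ga S) X)

/-- A section over a faithfully flat algebra gives one over the affine piece. -/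
theorem hasSectionOver_of_faithfullyFlat (ha : NonAbH1.IsPseudoTorsorSch a) (B : Type u) [CommRing B] [Algebra R B]
    [Module.FaithfullyFlat R B] (s : tst v B ⟶ X) : NonAbH1.HasSectionOver X v := by
  let iL : B →ₐ[R] B ⊗[R] B := Algebra.TensorProduct.includeLeft
  let iR : B →ₐ[R] B ⊗[R] B := Algebra.TensorProduct.includeRight
  obtain ⟨c, hc⟩ := exists_div ha (pt v iL ≫ s) (pt v iR ≫ s)
  -- pulling the comparison to a triple product
  have hpb : ∀ {C : Type u} [CommRing C] [Algebra R C] (φ : B ⊗[R] B →ₐ[R] C),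
      lift (pt v φ ≫ c) (pt v (φ.comp iR) ≫ s) ≫ a.act = pt v (φ.comp iL) ≫ s := fun φ => by
    have h := congrArg (fun t => pt v φ ≫ t) hc
    simpa only [comp_lift_assoc, reassoc_of% (pt_comp v iR φ), reassoc_of% (pt_comp v iL φ)] using h
  let j₂₃ : B ⊗[R] B →ₐ[R] B ⊗[R] (B ⊗[R] B) := Algebra.TensorProduct.includeRight
  let j₁₃ : B ⊗[R] B →ₐ[R] B ⊗[R] (B ⊗[R] B) := Algebra.TensorProduct.map (AlgHom.id R B) iR
  let j₁₂ : B ⊗[R] B →ₐ[R] B ⊗[R] (B ⊗[R] B) := Algebra.TensorProduct.map (AlgHom.id R B) iL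
  have e1 : j₁₂.comp iR = j₂₃.comp iL := by ext x; simp [j₁₂, j₂₃, iL, iR]
  have e2 : j₁₂.comp iL = j₁₃.comp iL := by ext x; simp [j₁₂, j₁₃, iL, iR, Algebra.TensorProduct.one_def]
  have e3 : j₁₃.comp iR = j₂₃.comp iR := by ext x; simp [j₁₃, j₂₃, iR]
  have hcoc : (pt v j₁₂ ≫ c) * (pt v j₂₃ ≫ c) = pt v j₁₃ ≫ c := by
    refine act_free ha (y := pt v (j₁₃.comp iR) ≫ s) ?_
    rw [act_assoc a, hpb j₁₃, e3, hpb j₂₃, ← e1, hpb j₁₂, e2]
  have hadd : j₁₂ (coord v c) + j₂₃ (coord v c) = j₁₃ (coord v c) := by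
    rw [← coord_comp, ← coord_comp, ← coord_comp, ← coord_mul, hcoc]
  obtain ⟨y, hy⟩ := (Groth.Agent.DescLib.amitsur_degree_one (R := R) (A := B) R ((1 : R) ⊗ₜ[R] coord v c)).1 (by
    simp only [LinearMap.add_apply, LinearMap.sub_apply, LinearMap.lTensor_tmul, AlgHom.toLinearMap_apply,
      ← TensorProduct.tmul_sub, ← TensorProduct.tmul_add]
    show (1 : R) ⊗ₜ[R] (j₂₃ (coord v c) - j₁₃ (coord v c) + j₁₂ (coord v c)) = 0
    rw [show j₂₃ (coord v c) - j₁₃ (coord v c) + j₁₂ (coord v c) = 0 by rw [← hadd]; abel, TensorProduct.tmul_zero])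
  obtain ⟨b, hb⟩ : ∃ b : B, coord v c = iR b - iL b := by
    refine ⟨TensorProduct.lid R B y, ?_⟩
    have hnat : ∀ (f : B →ₐ[R] B ⊗[R] B) (z : R ⊗[R] B),
        TensorProduct.lid R (B ⊗[R] B) (f.toLinearMap.lTensor R z) = f (TensorProduct.lid R B z) := fun f z => by
      induction z using TensorProduct.induction_on with
      | zero => simp
      | tmul r x => simp
      | add p q hp hq => simp only [map_add, hp, hq]
    have h := congrArg (TensorProduct.lid R (B ⊗[R] B)) hy
    rw [LinearMap.sub_apply, map_sub, hnat, hnat, TensorProduct.lid_tmul, one_smul] at h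
    exact h.symm
  obtain ⟨g, hg⟩ := coord_surjective v b
  let s' : tst v B ⟶ X := lift g s ≫ a.act
  have hs' : pt v iL ≫ s' = pt v iR ≫ s' := by
    have h1 : (pt v iL ≫ g) * c = pt v iR ≫ g := coord_injective v (by
      rw [coord_mul, coord_comp, coord_comp, hg, hb, add_sub_cancel])
    simp only [s', comp_lift_assoc]
    rw [← hc, ← act_assoc a, h1]
  -- descent
  let q : Spec (CommRingCat.of B) ⟶ Spec R := Spec.map (CommRingCat.ofHom (algebraMap R B))
  have hff := (flat_and_surjective_SpecMap_iff (CommRingCat.ofHom (algebraMap R B))).mpr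
    (RingHom.faithfullyFlat_algebraMap_iff.2 ‹_›)
  haveI : Flat q := hff.1
  haveI : Surjective q := hff.2
  let j : tst v B ⟶ Over.mk v := Over.homMk q rfl
  have hj : HasLocSec Scheme.fpqcTopology j :=
    ⟨Sieve.generate (Presieve.singleton q), Precoverage.generate_mem_toGrothendieck q.singleton_mem_fpqcPrecoverage,
      fun T t ⟨_, b', f, hf, e⟩ => by
        cases hf
        exact ⟨b', e⟩⟩
  obtain ⟨χ, -, -⟩ := hj.existsUnique_desc s' fun T f₁ f₂ hf => by
    have hw : f₁.left ≫ q = f₂.left ≫ q := congrArg CommaMorphism.left hf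
    let m : T.left ⟶ Spec (CommRingCat.of (B ⊗[R] B)) :=
      pullback.lift f₁.left f₂.left hw ≫ (pullbackSpecIso R B B).hom
    have h1 : m ≫ (pt v iL).left = f₁.left := by
      show (pullback.lift f₁.left f₂.left hw ≫ (pullbackSpecIso R B B).hom) ≫ Spec.map _ = _
      rw [Category.assoc]
      exact (congrArg _ (pullbackSpecIso_hom_fst R B B)).trans (pullback.lift_fst _ _ _)
    have h2 : m ≫ (pt v iR).left = f₂.left := by
      show (pullback.lift f₁.left f₂.left hw ≫ (pullbackSpecIso R B B).hom) ≫ Spec.map _ = _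
      rw [Category.assoc]
      exact (congrArg _ (pullbackSpecIso_hom_snd R B B)).trans (pullback.lift_snd _ _ _)
    refine Over.OverMorphism.ext ?_
    show f₁.left ≫ s'.left = f₂.left ≫ s'.left
    rw [← h1, ← h2]
    simp only [Category.assoc]
    rw [show (pt v iL).left ≫ s'.left = (pt v iR).left ≫ s'.left from congrArg CommaMorphism.left hs']
  exact ⟨χ.left, Over.w χ⟩

theorem isTorsorFor_zariski {X : Over S} (a : AlgGrp.Action (Red.Ga S) X)
    (h : NonAbH1.IsTorsorFor Scheme.fpqcPrecoverage a) : NonAbH1.IsTorsorFor Scheme.zariskiPrecoverage a := by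
  refine ⟨h.1, Presieve.ofArrows _ S.affineCover.f, S.affineCover.mem₀, ?_⟩
  rintro _ _ ⟨i⟩
  haveI : IsAffine (S.affineCover.X i) := inferInstance
  let R₀ : CommRingCat.{u} := Γ(S.affineCover.X i, ⊤)
  let e : S.affineCover.X i ≅ Spec R₀ := (S.affineCover.X i).isoSpec
  let v : Spec R₀ ⟶ S := e.inv ≫ S.affineCover.f i
  suffices hv : NonAbH1.HasSectionOver X v by
    obtain ⟨t, ht⟩ := hv
    exact ⟨e.hom ≫ t, by simp [ht, v]⟩
  obtain ⟨Z, p, hp₁, hp₂, hp₃, s, hs⟩ := exists_single h.2 v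
  haveI : CompactSpace Z := QuasiCompact.compactSpace_of_compactSpace p
  let 𝒰 := Z.affineCover.finiteSubcover
  let W : Scheme.{u} := ∐ fun k => 𝒰.X k
  haveI : ∀ k, IsAffine (𝒰.X k) := fun k => inferInstanceAs (IsAffine (Z.affineCover.X _))
  let w : W ⟶ Z := Sigma.desc fun k => 𝒰.f k
  haveI : Surjective w := ⟨fun z => by
    obtain ⟨k, y, hy⟩ := 𝒰.exists_eq z
    refine ⟨Sigma.ι (fun k => 𝒰.X k) k y, ?_⟩
    rw [← Scheme.Hom.comp_apply, Sigma.ι_desc]
    exact hy⟩
  haveI : Flat w := IsZariskiLocalAtSource.sigmaDesc fun k => inferInstance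
  let B := Γ(W, ⊤)
  let q : Spec B ⟶ Spec R₀ := W.isoSpec.inv ≫ w ≫ p
  letI : Algebra R₀ B := (Spec.preimage q).hom.toAlgebra
  have hq : Spec.map (CommRingCat.ofHom (algebraMap R₀ B)) = q := Spec.map_preimage q
  haveI : Module.FaithfullyFlat R₀ B := by
    refine RingHom.faithfullyFlat_algebraMap_iff.1 ((flat_and_surjective_SpecMap_iff (CommRingCat.ofHom (algebraMap R₀ B))).1 ?_)
    rw [hq]
    exact ⟨inferInstance, inferInstance⟩
  refine hasSectionOver_of_faithfullyFlat v a h.1 B (Over.homMk (W.isoSpec.inv ≫ w ≫ s) ?_)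
  show (W.isoSpec.inv ≫ w ≫ s) ≫ X.hom = Spec.map _ ≫ v
  rw [hq, Category.assoc, Category.assoc, hs]
  simp [q]

end Groth.Agent.RGLib.GaTorsorZar
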