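import Groth.Agent.RGLib.GenPSheaf
import Groth.Agent.FlatBC5.Basic
import Groth.Agent.GrFlat5.FlatAtIso
import Groth.Prelude.Def_FGA

/-!
# Flatness of base changes is local for the fpqc topology
-/

set_option autoImplicit false

universe u

open CategoryTheory CategoryTheory.Limits AlgebraicGeometry Opposite

namespace Groth.Agent.RGLib.GenPSheaf

variable {S X : Scheme.{u}} (f : X ⟶ S) (F : X.Modules) [Coh.IsQCoh F]

theorem isSheaf_flat : Presheaf.IsSheaf (QuotSh.J Scheme.fpqcPrecoverage S)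
    (FlatFun.genPSp S (fun T => FlatMod.IsFlatOver (PicF.XTproj f T) (FGA.ET f F T))) := by
  refine isSheaf_genPSp _ (fun T T₀ g h x => ?_) fun T ι Ti g hg hs h x => ?_
  · exact GrFlat5.isFlatOverAt_of_iso _ ((Scheme.Modules.pullbackComp (bcMap f g) (pullback.fst f T₀.hom) ≪≫
      Scheme.Modules.pullbackCongr (bcMap_fst f g)).app F) x
      (MorLib.FlatBC.isFlatOverAt_baseChange _ _ (bcMap f g) g.left (bcMap_isPullback f g) _ x (h _))
  · obtain ⟨i, t, ht⟩ := hs (pullback.snd f T.hom x)
    refine FlatBC5.isFlatOverAt_of_faithful (bcMap_isPullback f (g i)) (QCoh.isQCoh_pullback _ ‹_›) x t ht.symm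
      (haveI := hg i; Flat.stalkMap (g i).left t) fun x' => ?_
    exact GrFlat5.isFlatOverAt_of_iso _ ((Scheme.Modules.pullbackComp (bcMap f (g i)) (pullback.fst f T.hom) ≪≫
      Scheme.Modules.pullbackCongr (bcMap_fst f (g i))).app F).symm x' (h i x')

end Groth.Agent.RGLib.GenPSheaf
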