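import Groth.Agent.SmoothReg.Field
import Groth.Agent.FibDim.Comp
import Mathlib.AlgebraicGeometry.Morphisms.Smooth
import Mathlib.AlgebraicGeometry.FunctionField
import Mathlib.RingTheory.Etale.Basic
import Mathlib.AlgebraicGeometry.Morphisms.FinitePresentation

/-!
# Generic smoothness over a perfect function field
-/

set_option autoImplicit false

universe u

open CategoryTheory CategoryTheory.Limits AlgebraicGeometry TopologicalSpace Topology

namespace Groth.Agent.RGLib.GenSmooth

set_option backward.isDefEq.respectTransparency false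
set_option backward.isDefEq.respectTransparency.types false

theorem isSmoothAt_of_regular {A B : Type u} [CommRing A] [IsDomain A] [CommRing B] [Algebra A B]
    [Algebra.FiniteType A B] [PerfectField (FractionRing A)] (q : Ideal B) [q.IsPrime]
    (h0 : q.under A = ⊥) (hreg : IsRegularLocalRing (Localization.AtPrime q)) :
    Algebra.IsSmoothAt A q := by
  let M := nonZeroDivisors A
  let K := FractionRing A
  let N := Algebra.algebraMapSubmonoid B M
  let S := Localization N
  letI : Algebra K S := localizationAlgebra M B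
  haveI : IsScalarTower A K S := IsScalarTower.of_algebraMap_eq' (IsLocalization.map_comp _).symm
  haveI : Algebra.FiniteType K S := by
    let ψ : TensorProduct A K B →ₐ[K] S :=
      Algebra.TensorProduct.lift (Algebra.ofId K S) (IsScalarTower.toAlgHom A B S) (fun _ _ => .all _ _)
    refine Algebra.FiniteType.of_surjective ψ fun z => ?_
    obtain ⟨b, ⟨_, a, ha, rfl⟩, rfl⟩ := IsLocalization.exists_mk'_eq N z
    refine ⟨TensorProduct.tmul A (IsLocalization.mk' K 1 ⟨a, ha⟩) b, ?_⟩
    rw [IsLocalization.eq_mk'_iff_mul_eq]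
    simp only [ψ, Algebra.TensorProduct.lift_tmul, Algebra.ofId_apply, IsScalarTower.coe_toAlgHom']
    rw [mul_right_comm, ← IsScalarTower.algebraMap_apply A B S, IsScalarTower.algebraMap_apply A K S,
      ← map_mul, IsLocalization.mk'_spec, map_one, map_one, one_mul]
  have hdisj : Disjoint (N : Set B) q := by
    rw [Set.disjoint_left]
    rintro _ ⟨a, ha, rfl⟩ haq
    have : a ∈ q.under A := haq
    rw [h0, Ideal.mem_bot] at this
    exact nonZeroDivisors.ne_zero ha this
  let q' : Ideal S := q.map (algebraMap B S)
  haveI : q'.IsPrime := IsLocalization.isPrime_of_isPrime_disjoint N S q ‹_› hdisj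
  have hcomap : q'.comap (algebraMap B S) = q :=
    IsLocalization.under_map_of_isPrime_disjoint N S ‹_› hdisj
  haveI hloc : IsLocalization.AtPrime (Localization.AtPrime q') q := by
    have := IsLocalization.isLocalization_atPrime_localization_atPrime N q'
    have e0 : (q'.comap (algebraMap B S)).primeCompl = q.primeCompl := by
      ext b; exact not_congr (SetLike.ext_iff.mp hcomap b)
    unfold IsLocalization.AtPrime at this ⊢
    rwa [← e0]
  let e : Localization.AtPrime q ≃ₐ[B] Localization.AtPrime q' :=
    IsLocalization.algEquiv q.primeCompl _ _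
  have hreg' : IsRegularLocalRing (Localization.AtPrime q') :=
    IsRegularLocalRing.of_ringEquiv e.toRingEquiv
  haveI hs : Algebra.FormallySmooth K (Localization.AtPrime q') :=
    (Groth.Agent.SmoothReg.isSmoothAt_iff_isRegularLocalRing q').mpr hreg'
  haveI : Algebra.FormallyEtale A K := Algebra.FormallyEtale.of_isLocalization M
  haveI : Algebra.FormallySmooth A (Localization.AtPrime q') := Algebra.FormallySmooth.comp A K _
  exact Algebra.FormallySmooth.of_equiv (e.restrictScalars A).symm

theorem exists_dense_smooth {X Y : Scheme.{u}} [IsIntegral X] [IsIntegral Y]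
    (hreg : ∀ x : X, IsRegularLocalRing (X.presheaf.stalk x)) (f : X ⟶ Y)
    [LocallyOfFinitePresentation f] [QuasiCompact f] [IsLocallyNoetherian X] [PerfectField Y.functionField] :
    ∃ V : Y.Opens, Dense (V : Set Y) ∧ Smooth (f ∣_ V) := by
  let η := genericPoint Y
  have hsm : ∀ x, f x = η → x ∈ f.smoothLocus := by
    intro x hx
    obtain ⟨W, hW, hxW, -⟩ := exists_isAffineOpen_mem_and_subset (x := f x) (U := ⊤) trivial
    obtain ⟨V, hV, hxV, hVW⟩ := exists_isAffineOpen_mem_and_subset (x := x) (U := f ⁻¹ᵁ W) hxW
    rw [Scheme.Hom.mem_smoothLocus, formallySmooth_stalkMap_iff W hW V hV hVW hxV]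
    letI := (f.appLE W V hVW).hom.toAlgebra
    haveI : Nonempty W.toScheme := ⟨⟨f x, hxW⟩⟩
    haveI : Algebra.FiniteType Γ(Y, W) Γ(X, V) := f.finiteType_appLE hW hV hVW
    haveI := functionField_isFractionRing_of_isAffineOpen Y W hW
    haveI : PerfectField (FractionRing Γ(Y, W)) :=
      PerfectField.of_ringEquiv (FractionRing.algEquiv Γ(Y, W) Y.functionField).symm.toRingEquiv
    refine isSmoothAt_of_regular (hV.primeIdealOf ⟨x, hxV⟩).asIdeal ?_ ?_
    · have h1 := IsAffineOpen.comap_primeIdealOf_appLE W hW V hV hVW hxV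
      have h2 : (hW.primeIdealOf ⟨f x, hVW hxV⟩).asIdeal = ⊥ := by
        have := genericPoint_eq_bot_of_affine Γ(Y, W)
        have h3 : hW.primeIdealOf ⟨f x, hVW hxV⟩ = genericPoint (Spec Γ(Y, W)) := by
          apply hW.fromSpec.isOpenEmbedding.injective
          rw [hW.fromSpec_primeIdealOf, genericPoint_eq_of_isOpenImmersion hW.fromSpec]
          exact hx
        rw [h3, this]
        rfl
      exact (congrArg PrimeSpectrum.asIdeal h1).trans h2
    · haveI := hreg x
      letI := X.presheaf.algebra_section_stalk ⟨x, hxV⟩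
      haveI := hV.isLocalization_stalk ⟨x, hxV⟩
      exact IsRegularLocalRing.of_ringEquiv
        (IsLocalization.algEquiv (hV.primeIdealOf ⟨x, hxV⟩).asIdeal.primeCompl
          (X.presheaf.stalk x) (Localization.AtPrime (hV.primeIdealOf ⟨x, hxV⟩).asIdeal)).toRingEquiv
  let C := f '' (f.smoothLocus : Set X)ᶜ
  have hηC : η ∉ closure C := by
    intro hmem
    have hcons : IsLocallyConstructible C := by
      refine f.isLocallyConstructible_image ?_
      have := Groth.Agent.FibDim.isLocallyConstructible_inter (X := X) (W := Set.univ) isOpen_univ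
        f.smoothLocus.isOpen.isClosed_compl
      rwa [Set.univ_inter] at this
    have hnb : Cᶜ ∈ nhds η := by
      refine Groth.Agent.FibDim.mem_nhds_of_generizations (fun x => let ⟨U, hU, ho, hcu⟩ := hcons x
        ⟨U, hU, ho, by rw [Set.preimage_compl]; exact hcu.compl⟩) fun y' hy' => ?_
      rintro ⟨z, hz, rfl⟩
      exact hz (hsm z (hy'.antisymm ((genericPoint_spec Y).specializes trivial)).eq)
    obtain ⟨w, hw1, hw2⟩ := mem_closure_iff_nhds.mp hmem _ hnb
    exact hw1 hw2
  refine ⟨⟨(closure C)ᶜ, isClosed_closure.isOpen_compl⟩, ?_, ?_⟩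
  · exact isClosed_closure.isOpen_compl.dense ⟨η, hηC⟩
  · rw [← Scheme.Hom.smoothLocus_eq_top_iff, ← top_le_iff]
    rintro z -
    rw [Scheme.Hom.mem_smoothLocus]
    refine (RingHom.FormallySmooth.respectsIso.arrow_mk_iso_iff (morphismRestrictStalkMap f _ z)).mpr ?_
    by_contra hc
    exact z.2 (subset_closure ⟨_, hc, rfl⟩)

end Groth.Agent.RGLib.GenSmooth
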