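import Groth.Agent.AssLib.FlatFibre
import Groth.Agent.EtPBC0.Discrete
import Groth.Agent.QCoh.PullbackBC
import Groth.Agent.QCoh.FlatOver
import Groth.Agent.QCoh.Qcqs
import Groth.Agent.QCoh.Support
import Groth.Agent.RGLib.FlatSubscheme
import Mathlib.RingTheory.Flat.TorsionFree
import Mathlib.RingTheory.Localization.BaseChange

/-!
# Restriction to the generic fibre and torsion
-/

set_option autoImplicit false
set_option linter.style.haveILetI false
set_option backward.isDefEq.respectTransparency false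
set_option backward.isDefEq.respectTransparency.types false

universe u

open CategoryTheory CategoryTheory.Limits AlgebraicGeometry TopologicalSpace Opposite

namespace Groth.Agent.RGLib.GenericQuot

open Groth.Agent

variable {X Y : Scheme.{u}} [IsIntegral Y] (f : X ⟶ Y)

theorem genericPoint_mem {V : Y.Opens} (hne : (V : Set Y).Nonempty) : genericPoint Y ∈ V :=
  ((genericPoint_spec Y).mem_open_set_iff V.2).2 (by obtain ⟨y, hy⟩ := hne; exact ⟨y, trivial, hy⟩)

omit [IsIntegral Y] in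
theorem preimage_eq_top_or_bot (y : Y) (V : Y.Opens) :
    Y.fromSpecResidueField y ⁻¹ᵁ V = ⊤ ∨ Y.fromSpecResidueField y ⁻¹ᵁ V = ⊥ := by
  by_cases hy : y ∈ V
  · exact .inl (Opens.ext (Set.eq_univ_of_forall fun t => by
      show Y.fromSpecResidueField y t ∈ V
      rw [Scheme.fromSpecResidueField_apply]; exact hy))
  · exact .inr (Opens.ext (Set.eq_empty_of_forall_notMem fun t ht => hy (by
      have : Y.fromSpecResidueField y t ∈ V := ht
      rwa [Scheme.fromSpecResidueField_apply] at this)))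

omit [IsIntegral Y] in
theorem isAffineHom_fromSpecResidueField (y : Y) : IsAffineHom (Y.fromSpecResidueField y) := by
  refine ⟨fun V hV => ?_⟩
  rcases preimage_eq_top_or_bot y V with h | h <;> rw [h]
  · exact isAffineOpen_top _
  · exact isAffineOpen_bot _

omit [IsIntegral Y] in
theorem isAffineHom_fiberι (y : Y) : IsAffineHom (f.fiberι y) :=
  MorphismProperty.pullback_fst (P := @IsAffineHom) _ _ (isAffineHom_fromSpecResidueField y)

theorem isLocalization_generic {V : Y.Opens} (hV : IsAffineOpen V) (hη : genericPoint Y ∈ V)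
    (e : (⊤ : (Spec (Y.residueField (genericPoint Y))).Opens) ≤ Y.fromSpecResidueField (genericPoint Y) ⁻¹ᵁ V)
    [Algebra Γ(Y, V) Γ(Spec (Y.residueField (genericPoint Y)), ⊤)]
    (halg : ∀ a, algebraMap Γ(Y, V) Γ(Spec (Y.residueField (genericPoint Y)), ⊤) a =
      (Y.fromSpecResidueField (genericPoint Y)).appLE V ⊤ e a) :
    IsLocalization (nonZeroDivisors Γ(Y, V)) Γ(Spec (Y.residueField (genericPoint Y)), ⊤) := by
  haveI : Nonempty V := ⟨⟨_, hη⟩⟩
  let κ := Y.residueField (genericPoint Y)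
  let j := Y.fromSpecResidueField (genericPoint Y)
  let pt : ↥(Spec κ) := IsLocalRing.closedPoint _
  haveI : Flat j := AssLib.flat_fromSpecResidueField_genericPoint Y
  have hj : j pt = genericPoint Y := Scheme.fromSpecResidueField_apply _ _
  letI : Algebra Γ(Y, V) (Y.presheaf.stalk (j pt)) := (Y.presheaf.germ V (j pt) (e trivial)).hom.toAlgebra
  haveI : IsFractionRing Γ(Y, V) (Y.presheaf.stalk (j pt)) := by
    have key : ∀ (q : Y) (hq : q ∈ V), q = genericPoint Y →
        (letI : Algebra Γ(Y, V) (Y.presheaf.stalk q) := (Y.presheaf.germ V q hq).hom.toAlgebra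
         IsFractionRing Γ(Y, V) (Y.presheaf.stalk q)) := by
      rintro q hq rfl
      exact functionField_isFractionRing_of_isAffineOpen Y V hV
    exact key _ _ hj
  have hb₁ := AssLib.bijective_stalkMap j pt
  have hb₂ : Function.Bijective ((Spec κ).presheaf.germ ⊤ pt trivial) := by
    letI : Algebra κ ((Spec κ).presheaf.stalk pt) := StructureSheaf.stalkAlgebra κ pt
    haveI : IsLocalization.AtPrime ((Spec κ).presheaf.stalk pt) pt.asIdeal :=
      StructureSheaf.IsLocalization.to_stalk κ pt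
    have h : Function.Bijective (algebraMap κ ((Spec κ).presheaf.stalk pt)) := by
      refine ⟨RingHom.injective _, fun z => ?_⟩
      obtain ⟨⟨a, s⟩, hz⟩ := IsLocalization.surj pt.asIdeal.primeCompl z
      have hs : (s : κ) ≠ 0 := fun h0 => s.2 (h0 ▸ zero_mem _)
      refine ⟨a * (s : κ)⁻¹, ?_⟩
      rw [map_mul, ← hz, mul_assoc, ← map_mul, mul_inv_cancel₀ hs, map_one, mul_one]
    have heq : ∀ a : κ, (Spec κ).presheaf.germ ⊤ pt trivial ((Scheme.ΓSpecIso κ).inv a) =
        algebraMap κ ((Spec κ).presheaf.stalk pt) a := fun a => rfl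
    have hi : Function.Bijective (Scheme.ΓSpecIso κ).inv := ConcreteCategory.bijective_of_isIso _
    refine (Function.Bijective.of_comp_iff _ hi).1 ?_
    exact (funext heq : (Spec κ).presheaf.germ ⊤ pt trivial ∘ (Scheme.ΓSpecIso κ).inv = _) ▸ h
  let ε : Y.presheaf.stalk (j pt) ≃+* Γ(Spec κ, ⊤) :=
    (RingEquiv.ofBijective (j.stalkMap pt).hom hb₁).trans
      (RingEquiv.ofBijective ((Spec κ).presheaf.germ ⊤ pt trivial).hom hb₂).symm
  refine IsLocalization.isLocalization_of_algEquiv _ (AlgEquiv.ofRingEquiv (f := ε) fun a => ?_)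
  rw [halg]
  refine (RingEquiv.ofBijective ((Spec κ).presheaf.germ ⊤ pt trivial).hom hb₂).injective ?_
  show RingEquiv.ofBijective _ hb₂ ((RingEquiv.ofBijective _ hb₂).symm _) = _
  rw [RingEquiv.apply_symm_apply]
  show j.stalkMap pt (Y.presheaf.germ V (j pt) (e trivial) a) = (Spec κ).presheaf.germ ⊤ pt trivial (j.appLE V ⊤ e a)
  erw [Scheme.Hom.germ_stalkMap_apply]
  exact ((Spec κ).presheaf.germ_res_apply (homOfLE e) pt trivial _).symm

/-- The generic fibre over an affine open is the localisation at the nonzero functions on the base. -/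
theorem isLocalizedModule_pullSec {M : X.Modules} (hM : Coh.IsQCoh M) {U : X.Opens} (hU : IsAffineOpen U)
    {V : Y.Opens} (hV : IsAffineOpen V) (hη : genericPoint Y ∈ V) (hle : U ≤ f ⁻¹ᵁ V) :
    (∀ a : Γ(Y, V), a ≠ 0 →
        IsUnit ((f.fiberι (genericPoint Y)).appLE U (f.fiberι (genericPoint Y) ⁻¹ᵁ U) le_rfl (f.appLE V U hle a))) ∧
      (∀ c : Γ((Scheme.Modules.pullback (f.fiberι (genericPoint Y))).obj M, f.fiberι (genericPoint Y) ⁻¹ᵁ U),
        ∃ a : Γ(Y, V), a ≠ 0 ∧ ∃ x : Γ(M, U),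
          (f.fiberι (genericPoint Y)).appLE U (f.fiberι (genericPoint Y) ⁻¹ᵁ U) le_rfl (f.appLE V U hle a) • c =
            QCoh.pullSec (f.fiberι (genericPoint Y)) M le_rfl x) ∧
      (∀ x : Γ(M, U), QCoh.pullSec (f.fiberι (genericPoint Y)) M
          (W := f.fiberι (genericPoint Y) ⁻¹ᵁ U) le_rfl x = 0 →
        ∃ a : Γ(Y, V), a ≠ 0 ∧ f.appLE V U hle a • x = 0) := by
  let ι := f.fiberι (genericPoint Y)
  let j := Y.fromSpecResidueField (genericPoint Y)
  let snd := f.fiberToSpecResidueField (genericPoint Y)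
  haveI : Nonempty V := ⟨⟨_, hη⟩⟩
  haveI := isAffineHom_fiberι f (genericPoint Y)
  haveI : IsDomain Γ(Y, V) := inferInstance
  have eT : (⊤ : (Spec (Y.residueField (genericPoint Y))).Opens) ≤ j ⁻¹ᵁ V := by
    rcases preimage_eq_top_or_bot (genericPoint Y) V with h | h
    · exact h.ge
    · intro t _
      show j t ∈ V
      rw [Scheme.fromSpecResidueField_apply]; exact hη
  obtain ⟨-, hpo⟩ := EtPBC0.isPushout_appLE_of_opens
    (show IsPullback ι snd f j from IsPullback.of_hasPullback _ _) hV (isAffineOpen_top _) hU eT hle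
  have hW : ι ⁻¹ᵁ U ⊓ snd ⁻¹ᵁ ⊤ = ι ⁻¹ᵁ U := inf_top_eq _
  have hpo' : IsPushout (f.appLE V U hle) (j.appLE V ⊤ eT) (ι.appLE U (ι ⁻¹ᵁ U) le_rfl)
      (snd.appLE ⊤ (ι ⁻¹ᵁ U) le_top) := by
    suffices h : ∀ (W : (f.fiber (genericPoint Y)).Opens) (p₁ : W ≤ ι ⁻¹ᵁ U) (p₂ : W ≤ snd ⁻¹ᵁ ⊤),
        W = ι ⁻¹ᵁ U ⊓ snd ⁻¹ᵁ ⊤ →
        IsPushout (f.appLE V U hle) (j.appLE V ⊤ eT) (ι.appLE U W p₁) (snd.appLE ⊤ W p₂) from
      h _ le_rfl le_top hW.symm
    rintro _ _ _ rfl
    exact hpo
  let A := Γ(Y, V)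
  let B := Γ(X, U)
  let K := Γ(Spec (Y.residueField (genericPoint Y)), ⊤)
  let C := Γ(f.fiber (genericPoint Y), ι ⁻¹ᵁ U)
  letI : Algebra A B := (f.appLE V U hle).hom.toAlgebra
  letI : Algebra A K := (j.appLE V ⊤ eT).hom.toAlgebra
  letI : Algebra B C := (ι.appLE U (ι ⁻¹ᵁ U) le_rfl).hom.toAlgebra
  letI : Algebra K C := (snd.appLE ⊤ (ι ⁻¹ᵁ U) le_top).hom.toAlgebra
  letI : Algebra A C := (f.appLE V U hle ≫ ι.appLE U (ι ⁻¹ᵁ U) le_rfl).hom.toAlgebra
  haveI : IsScalarTower A B C := IsScalarTower.of_algebraMap_eq fun _ => rfl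
  haveI : IsScalarTower A K C := IsScalarTower.of_algebraMap_eq fun a => by
    exact congrArg (fun φ : A ⟶ C => φ.hom a) hpo'.w
  haveI hPO : Algebra.IsPushout A B K C := CommRingCat.isPushout_iff_isPushout.1 hpo'
  haveI : IsLocalization (nonZeroDivisors A) K := isLocalization_generic hV hη eT fun _ => rfl
  haveI hC : IsLocalization (Algebra.algebraMapSubmonoid B (nonZeroDivisors A)) C :=
    (Algebra.isLocalization_iff_isPushout (nonZeroDivisors A) (A := K) (T := B) (B := C)).2 hPO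
  let N := (Scheme.Modules.pullback ι).obj M
  letI : Module B Γ(N, ι ⁻¹ᵁ U) := Module.compHom _ (algebraMap B C)
  haveI : IsScalarTower B C Γ(N, ι ⁻¹ᵁ U) := IsScalarTower.of_algebraMap_smul fun _ _ => rfl
  let l : Γ(M, U) →ₗ[B] Γ(N, ι ⁻¹ᵁ U) :=
    { toFun := fun x => QCoh.pullSec ι M le_rfl x
      map_add' := QCoh.pullSec_add ι M le_rfl
      map_smul' := QCoh.pullSec_smul ι M le_rfl }
  have hl : IsLocalizedModule (Algebra.algebraMapSubmonoid B (nonZeroDivisors A)) l :=
    (isLocalizedModule_iff_isBaseChange (Algebra.algebraMapSubmonoid B (nonZeroDivisors A)) C l).2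
      (QCoh.isBaseChange_pullback hU ι (hU.preimage ι) hM le_rfl (fun _ => rfl) l (fun _ => rfl))
  refine ⟨fun a ha => ?_, fun c => ?_, fun x hx => ?_⟩
  · exact IsLocalization.map_units C (⟨f.appLE V U hle a,
      Algebra.mem_algebraMapSubmonoid_of_mem ⟨a, mem_nonZeroDivisors_of_ne_zero ha⟩⟩ :
        Algebra.algebraMapSubmonoid B (nonZeroDivisors A))
  · obtain ⟨⟨x, ⟨_, a, ha, rfl⟩⟩, hx⟩ := IsLocalizedModule.surj (Algebra.algebraMapSubmonoid B (nonZeroDivisors A)) l c
    exact ⟨a, nonZeroDivisors.ne_zero ha, x, hx⟩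
  · obtain ⟨⟨_, a, ha, rfl⟩, hc⟩ :=
      (IsLocalizedModule.eq_zero_iff (Algebra.algebraMapSubmonoid B (nonZeroDivisors A)) l).1 hx
    exact ⟨a, nonZeroDivisors.ne_zero ha, hc⟩

end Groth.Agent.RGLib.GenericQuot
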