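import Groth.Agent.H23.SpreadFP
import Mathlib.AlgebraicGeometry.Morphisms.QuasiCompact
import Mathlib.AlgebraicGeometry.Gluing

/-!
# Gluing morphisms near a closed point
-/

set_option autoImplicit false

universe u

open CategoryTheory CategoryTheory.Limits AlgebraicGeometry TopologicalSpace

namespace Groth.Agent.RGLib.GlueClosedPt

set_option backward.isDefEq.respectTransparency false
set_option backward.isDefEq.respectTransparency.types false

/-- In a spectrum, an open containing all generisations of `p` lying in a quasi-compact open `O`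
contains the trace of `O` on a neighbourhood of `p`. -/
theorem exists_basicOpen {R : Type u} [CommRing R] (p : PrimeSpectrum R) (O E : Set (PrimeSpectrum R))
    (hOc : IsCompact O) (hO : IsOpen O) (hE : IsOpen E) (h : ∀ q ∈ O, q ⤳ p → q ∈ E) :
    ∃ f : R, f ∉ p.asIdeal ∧ ∀ q ∈ O, f ∉ q.asIdeal → q ∈ E := by
  classical
  obtain ⟨I, hI⟩ := (PrimeSpectrum.isClosed_iff_zeroLocus_ideal _).mp hE.isClosed_compl
  obtain ⟨T, hT⟩ := PrimeSpectrum.isCompact_isOpen_iff.mp ⟨hOc, hO⟩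
  have hs : ∀ q : PrimeSpectrum R, q ∈ O ↔ ∃ a ∈ T, a ∉ q.asIdeal := by
    intro q
    rw [← hT]
    simp [PrimeSpectrum.mem_zeroLocus, Set.not_subset]
  have key : ∀ a ∈ T, ∃ f : R, f ∉ p.asIdeal ∧ ∀ q : PrimeSpectrum R, f ∉ q.asIdeal → a ∉ q.asIdeal → q ∈ E := by
    intro a ha
    by_contra hc
    have hd : Disjoint (I : Set R) (p.asIdeal.primeCompl ⊔ Submonoid.powers a : Submonoid R) := by
      rw [Set.disjoint_left]
      intro z hz hz'
      obtain ⟨c, hc', d, ⟨n, rfl⟩, rfl⟩ := Submonoid.mem_sup.mp hz'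
      refine hc ⟨c, hc', fun q hcq haq => ?_⟩
      by_contra hq
      have : q ∈ PrimeSpectrum.zeroLocus (I : Set R) := hI ▸ hq
      rcases q.2.mem_or_mem (this hz) with h1 | h1
      · exact hcq h1
      · exact haq (q.2.mem_of_pow_mem n h1)
    obtain ⟨q, hq, hIq, hqd⟩ := Ideal.exists_le_prime_disjoint I _ hd
    have hqp : q ≤ p.asIdeal := fun z hz => by
      by_contra hzp
      exact Set.disjoint_left.mp hqd hz (Submonoid.mem_sup_left hzp)
    have haq : a ∉ q := fun hz =>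
      Set.disjoint_left.mp hqd hz (Submonoid.mem_sup_right ⟨1, pow_one a⟩)
    have hqE : (⟨q, hq⟩ : PrimeSpectrum R) ∈ E := by
      exact h _ ((hs _).mpr ⟨a, ha, haq⟩) ((PrimeSpectrum.le_iff_specializes _ _).mp hqp)
    have : (⟨q, hq⟩ : PrimeSpectrum R) ∈ Eᶜ := hI ▸ hIq
    exact this hqE
  choose f hfp hf using key
  refine ⟨∏ a : T, f a.1 a.2, ?_, fun q hq hq' => ?_⟩
  · intro hmem
    obtain ⟨a, -, ha⟩ := (Ideal.IsPrime.prod_mem_iff).mp hmem
    exact hfp _ _ ha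
  · obtain ⟨a, ha, haq⟩ := (hs _).mp hq
    refine hf a ha q (fun hfa => hq' ?_) haq
    exact Ideal.IsPrime.prod_mem_iff.mpr ⟨⟨a, ha⟩, Finset.mem_univ _, hfa⟩

variable {X Y S : Scheme.{u}}

/-- An open containing all generisations of `x` in a retrocompact open `U` contains the trace of
`U` on a neighbourhood of `x`. -/
theorem exists_nhd (x : X) (U E : X.Opens) [QuasiCompact U.ι]
    (h : ∀ u ∈ U, u ⤳ x → u ∈ E) : ∃ W : X.Opens, x ∈ W ∧ (U ⊓ W : X.Opens) ≤ E := by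
  obtain ⟨W, hW, hxW, -⟩ := exists_isAffineOpen_mem_and_subset (Opens.mem_top x)
  have hc : IsCompact ((U : Set X) ∩ W) := by
    have := (QuasiCompact.isCompact_preimage (f := U.ι) (W : Set X) W.isOpen hW.isCompact).image
      U.ι.continuous
    rwa [Set.image_preimage_eq_range_inter, Scheme.Opens.range_ι] at this
  have hc' : IsCompact (hW.fromSpec ⁻¹' (U : Set X)) := by
    rw [hW.fromSpec.isOpenEmbedding.isInducing.isCompact_iff, Set.image_preimage_eq_range_inter,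
      IsAffineOpen.range_fromSpec, Set.inter_comm]
    exact hc
  obtain ⟨f, hfp, hf⟩ := exists_basicOpen (hW.primeIdealOf ⟨x, hxW⟩) _ (hW.fromSpec ⁻¹' (E : Set X))
    hc' (U.isOpen.preimage hW.fromSpec.continuous) (E.isOpen.preimage hW.fromSpec.continuous)
    (fun q hq hqp => h _ hq (by simpa [hW.fromSpec_primeIdealOf] using hqp.map hW.fromSpec.continuous))
  refine ⟨X.basicOpen f, ?_, ?_⟩
  · have h1 : hW.primeIdealOf ⟨x, hxW⟩ ∈ hW.fromSpec ⁻¹ᵁ X.basicOpen f := by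
      rw [hW.fromSpec_preimage_basicOpen]; exact hfp
    have h2 : hW.fromSpec (hW.primeIdealOf ⟨x, hxW⟩) = x := hW.fromSpec_primeIdealOf ⟨x, hxW⟩
    exact h2 ▸ h1
  · rintro u ⟨huU, huf⟩
    have huW : u ∈ W := X.basicOpen_le f huf
    have h2 : hW.fromSpec (hW.primeIdealOf ⟨u, huW⟩) = u := hW.fromSpec_primeIdealOf ⟨u, huW⟩
    have h3 : hW.primeIdealOf ⟨u, huW⟩ ∈ hW.fromSpec ⁻¹ᵁ X.basicOpen f := by
      show hW.fromSpec (hW.primeIdealOf ⟨u, huW⟩) ∈ X.basicOpen f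
      rw [h2]; exact huf
    rw [hW.fromSpec_preimage_basicOpen] at h3
    have h4 := hf (hW.primeIdealOf ⟨u, huW⟩) (show hW.fromSpec _ ∈ U by rw [h2]; exact huU) h3
    exact h2 ▸ h4

theorem cancel_stalk (O : X.Opens) (v : X) (hv : v ∈ O) {f₁ f₂ : O.toScheme ⟶ Y}
    (h : O.fromSpecStalkOfMem v hv ≫ f₁ = O.fromSpecStalkOfMem v hv ≫ f₂) :
    O.toScheme.fromSpecStalk ⟨v, hv⟩ ≫ f₁ = O.toScheme.fromSpecStalk ⟨v, hv⟩ ≫ f₂ := by
  simp only [Scheme.Opens.fromSpecStalkOfMem, Category.assoc] at h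
  exact (cancel_epi _).mp h

theorem hom_ext_stalks (g₁ g₂ : X ⟶ Y) (h : ∀ u, X.fromSpecStalk u ≫ g₁ = X.fromSpecStalk u ≫ g₂) :
    g₁ = g₂ := by
  have hb : ∀ u, g₁ u = g₂ u := fun u => by
    simpa using congr($(h u) (IsLocalRing.closedPoint _))
  have H : ∀ u, g₁.stalkMap u =
      Y.presheaf.stalkSpecializes (Inseparable.of_eq (hb u).symm).specializes ≫ g₂.stalkMap u := by
    intro u
    apply Spec.map_injective
    rw [← cancel_mono (Y.fromSpecStalk _)]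
    simpa [Scheme.SpecMap_stalkSpecializes_fromSpecStalk] using h u
  refine Scheme.Hom.ext (by ext u; exact hb u) fun V => ?_
  ext r
  refine TopCat.Presheaf.section_ext X.sheaf _ _ _ fun u hu => ?_
  have h1 : g₁ u ∈ V := by rw [hb]; exact hu
  show X.presheaf.germ _ u hu ((X.presheaf.map _) (g₁.app V r)) = X.presheaf.germ _ u hu (g₂.app V r)
  rw [TopCat.Presheaf.germ_res_apply', ← Scheme.Hom.germ_stalkMap_apply, ← Scheme.Hom.germ_stalkMap_apply,
    H u, CommRingCat.comp_apply, TopCat.Presheaf.germ_stalkSpecializes_apply]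

variable (p : X ⟶ S) (q : Y ⟶ S) [LocallyOfFinitePresentation q] (x : X) (U : X.Opens)

theorem eq_of_restrict_eq (hU : (U : Set X) = {x}ᶜ) (g₁ g₂ : X ⟶ Y) (hp₁ : g₁ ≫ q = g₂ ≫ q)
    (h₁ : U.ι ≫ g₁ = U.ι ≫ g₂) (h₂ : X.fromSpecStalk x ≫ g₁ = X.fromSpecStalk x ≫ g₂) : g₁ = g₂ := by
  obtain ⟨W, hxW, hW⟩ := H23.SpreadFP.spread_out_unique' (g₂ ≫ q) q g₁ g₂ hp₁ rfl h₂
  refine (X.openCoverOfIsOpenCover (fun b : Bool => bif b then U else W) ?_).hom_ext _ _ fun b => ?_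
  · refine top_unique fun y _ => Opens.mem_iSup.mpr ?_
    by_cases hy : y = x
    · exact ⟨false, hy ▸ hxW⟩
    · exact ⟨true, (Set.ext_iff.mp hU y).mpr hy⟩
  · rcases b with _ | _
    · exact hW
    · exact h₁

theorem exists_glue [QuasiCompact U.ι] (hU : (U : Set X) = {x}ᶜ) (a : U.toScheme ⟶ Y)
    (b : Spec (X.presheaf.stalk x) ⟶ Y) (ha : a ≫ q = U.ι ≫ p) (hb : b ≫ q = X.fromSpecStalk x ≫ p)
    (hab : ((X.fromSpecStalk x) ⁻¹ᵁ U).ι ≫ b = ((X.fromSpecStalk x) ∣_ U) ≫ a) :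
    ∃ g : X ⟶ Y, g ≫ q = p ∧ U.ι ≫ g = a ∧ X.fromSpecStalk x ≫ g = b := by
  obtain ⟨W, hxW, gW, hgW, hgWq⟩ := H23.SpreadFP.spread_out p q (x := x)
    (y := b (IsLocalRing.closedPoint _))
    (by rw [← Scheme.Hom.comp_apply, hb, Scheme.Hom.comp_apply, Scheme.fromSpecStalk_closedPoint])
    (Scheme.stalkClosedPointTo b) (by
      apply Spec.map_injective
      rw [← cancel_mono (S.fromSpecStalk _)]
      simpa only [Spec.map_comp, Category.assoc, Scheme.SpecMap_stalkMap_fromSpecStalk,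
        Scheme.Spec_stalkClosedPointTo_fromSpecStalk_assoc,
        Scheme.SpecMap_stalkSpecializes_fromSpecStalk] using hb)
  rw [Scheme.Spec_stalkClosedPointTo_fromSpecStalk] at hgW
  let E : X.Opens := ⨆ O : {O : X.Opens // ∃ (h₁ : O ≤ U) (h₂ : O ≤ W),
    X.homOfLE h₁ ≫ a = X.homOfLE h₂ ≫ gW}, O.1
  have hgen : ∀ v ∈ U ⊓ W, v ⤳ x → v ∈ E := by
    intro v hv hvx
    let f₁ : (U ⊓ W : X.Opens).toScheme ⟶ Y := X.homOfLE inf_le_left ≫ a
    let f₂ : (U ⊓ W : X.Opens).toScheme ⟶ Y := X.homOfLE inf_le_right ≫ gW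
    have hr : Set.range (Spec.map (X.presheaf.stalkSpecializes hvx)) ⊆
        (X.fromSpecStalk x) ⁻¹' (U : Set X) := by
      rintro _ ⟨t, rfl⟩
      show X.fromSpecStalk x (Spec.map (X.presheaf.stalkSpecializes hvx) t) ∈ U
      rw [← Scheme.Hom.comp_apply, Scheme.SpecMap_stalkSpecializes_fromSpecStalk]
      have : X.fromSpecStalk v t ⤳ v := by
        have : X.fromSpecStalk v t ∈ Set.range (X.fromSpecStalk v) := ⟨t, rfl⟩
        rwa [Scheme.range_fromSpecStalk] at this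
      exact this.mem_open U.isOpen hv.1
    let l := IsOpenImmersion.lift ((X.fromSpecStalk x) ⁻¹ᵁ U).ι
      (Spec.map (X.presheaf.stalkSpecializes hvx)) (by rwa [Scheme.Opens.range_ι])
    have hl : l ≫ ((X.fromSpecStalk x) ⁻¹ᵁ U).ι = Spec.map (X.presheaf.stalkSpecializes hvx) :=
      IsOpenImmersion.lift_fac _ _ _
    have e₁ : (U ⊓ W).fromSpecStalkOfMem v hv ≫ X.homOfLE inf_le_left =
        l ≫ (X.fromSpecStalk x ∣_ U) := by
      rw [← cancel_mono U.ι]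
      simp [reassoc_of% hl, Scheme.SpecMap_stalkSpecializes_fromSpecStalk]
    have e₂ : (U ⊓ W).fromSpecStalkOfMem v hv ≫ X.homOfLE inf_le_right =
        Spec.map (X.presheaf.stalkSpecializes hvx) ≫ W.fromSpecStalkOfMem x hxW := by
      rw [← cancel_mono W.ι]
      simp [Scheme.SpecMap_stalkSpecializes_fromSpecStalk]
    have hf : (U ⊓ W).fromSpecStalkOfMem v hv ≫ f₁ = (U ⊓ W).fromSpecStalkOfMem v hv ≫ f₂ := by
      simp only [f₁, f₂, reassoc_of% e₁, reassoc_of% e₂, ← hgW, ← hab, reassoc_of% hl]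
    let v' : (U ⊓ W : X.Opens).toScheme := ⟨v, hv⟩
    have hf' : (U ⊓ W : X.Opens).toScheme.fromSpecStalk v' ≫ f₁ =
        (U ⊓ W : X.Opens).toScheme.fromSpecStalk v' ≫ f₂ := by
      exact cancel_stalk (U ⊓ W) v hv hf
    obtain ⟨O, hvO, hO⟩ := H23.SpreadFP.spread_out_unique' ((U ⊓ W : X.Opens).ι ≫ p) q f₁ f₂
      (by simp [f₁, ha]) (by simp [f₂, hgWq]) hf'
    refine Opens.mem_iSup.mpr ⟨⟨(U ⊓ W).ι ''ᵁ O, ?_, ?_, ?_⟩, ⟨v', hvO, rfl⟩⟩
    · exact ((U ⊓ W).ι_image_le O).trans inf_le_left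
    · exact ((U ⊓ W).ι_image_le O).trans inf_le_right
    · rw [← cancel_epi (((U ⊓ W).ι.isoImage O).hom)]
      have i₁ : ((U ⊓ W).ι.isoImage O).hom ≫ X.homOfLE (((U ⊓ W).ι_image_le O).trans inf_le_left) =
          O.ι ≫ X.homOfLE (inf_le_left : U ⊓ W ≤ U) := by
        rw [← cancel_mono U.ι]; simp
      have i₂ : ((U ⊓ W).ι.isoImage O).hom ≫ X.homOfLE (((U ⊓ W).ι_image_le O).trans inf_le_right) =
          O.ι ≫ X.homOfLE (inf_le_right : U ⊓ W ≤ W) := by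
        rw [← cancel_mono W.ι]; simp
      rw [reassoc_of% i₁, reassoc_of% i₂]
      exact hO
  obtain ⟨W₀, hxW₀, hW₀⟩ := exists_nhd x U E (fun v hv hvx =>
    hgen v ⟨hv, hvx.mem_open W.isOpen hxW⟩ hvx)
  have hle : U ⊓ W₀ ≤ E := hW₀
  let O : Bool → X.Opens := fun c => bif c then U else W ⊓ W₀
  let F : ∀ c, (O c).toScheme ⟶ Y := fun c => match c with
    | true => a
    | false => X.homOfLE (inf_le_left : W ⊓ W₀ ≤ W) ≫ gW
  have hcov : IsOpenCover O := by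
    refine top_unique fun y _ => Opens.mem_iSup.mpr ?_
    by_cases hy : y = x
    · exact ⟨false, hy ▸ ⟨hxW, hxW₀⟩⟩
    · exact ⟨true, (Set.ext_iff.mp hU y).mpr hy⟩
  let 𝒰 := X.openCoverOfIsOpenCover O hcov
  have key : ∀ {P : Scheme.{u}} (l : P ⟶ U.toScheme) (r : P ⟶ (W ⊓ W₀ : X.Opens).toScheme),
      l ≫ U.ι = r ≫ (W ⊓ W₀).ι → l ≫ a = r ≫ X.homOfLE inf_le_left ≫ gW := by
    intro P l r h
    have hE : ∀ t, (r ≫ (W ⊓ W₀).ι) t ∈ E := fun t => by
      refine hle ⟨?_, ?_⟩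
      · rw [← h, Scheme.Hom.comp_apply]; exact (l t).2
      · rw [Scheme.Hom.comp_apply]; exact (r t).2.2
    refine (P.openCoverOfIsOpenCover (fun Q : {Q : X.Opens // ∃ (h₁ : Q ≤ U) (h₂ : Q ≤ W),
        X.homOfLE h₁ ≫ a = X.homOfLE h₂ ≫ gW} => (r ≫ (W ⊓ W₀).ι) ⁻¹ᵁ Q.1) ?_).hom_ext _ _ fun Q => ?_
    · refine top_unique fun t _ => ?_
      obtain ⟨Q, hQ⟩ := Opens.mem_iSup.mp (hE t)
      exact Opens.mem_iSup.mpr ⟨Q, hQ⟩
    · obtain ⟨h₁, h₂, hQe⟩ := Q.2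
      let m := (r ≫ (W ⊓ W₀).ι) ∣_ Q.1
      have m₁ : ((r ≫ (W ⊓ W₀).ι) ⁻¹ᵁ Q.1).ι ≫ l = m ≫ X.homOfLE h₁ := by
        rw [← cancel_mono U.ι]; simp [m, h]
      have m₂ : ((r ≫ (W ⊓ W₀).ι) ⁻¹ᵁ Q.1).ι ≫ r ≫ X.homOfLE inf_le_left = m ≫ X.homOfLE h₂ := by
        rw [← cancel_mono W.ι]; simp [m]
      simp only [Scheme.openCoverOfIsOpenCover_f]
      rw [reassoc_of% m₁, reassoc_of% m₂, hQe]
  refine ⟨𝒰.glueMorphisms F ?_, ?_, 𝒰.ι_glueMorphisms F _ true, ?_⟩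
  · intro c d
    have h : pullback.fst (𝒰.f c) (𝒰.f d) ≫ (O c).ι = pullback.snd _ _ ≫ (O d).ι :=
      pullback.condition
    rcases c with _ | _ <;> rcases d with _ | _
    · rw [(cancel_mono _).mp h]
    · exact (key _ _ h.symm).symm
    · exact key _ _ h
    · rw [(cancel_mono _).mp h]
  · refine 𝒰.hom_ext _ _ fun c => ?_
    rw [Scheme.Cover.ι_glueMorphisms_assoc]
    rcases c with _ | _
    · simp [F, 𝒰, O, hgWq]
    · simp [F, 𝒰, O, ha]
  · have e : X.fromSpecStalk x = (W ⊓ W₀).fromSpecStalkOfMem x ⟨hxW, hxW₀⟩ ≫ (W ⊓ W₀).ι := by simp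
    rw [e, Category.assoc]
    have := 𝒰.ι_glueMorphisms F (by
      intro c d
      have h : pullback.fst (𝒰.f c) (𝒰.f d) ≫ (O c).ι = pullback.snd _ _ ≫ (O d).ι :=
        pullback.condition
      rcases c with _ | _ <;> rcases d with _ | _
      · rw [(cancel_mono _).mp h]
      · exact (key _ _ h.symm).symm
      · exact key _ _ h
      · rw [(cancel_mono _).mp h]) false
    simp only [𝒰, O, F, Scheme.openCoverOfIsOpenCover_f, cond_false] at this
    rw [this, ← Category.assoc, H23.SpreadFP.fromSpecStalkOfMem_homOfLE, hgW]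

end Groth.Agent.RGLib.GlueClosedPt
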