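import Groth.Agent.DescLib.Amitsur
import Mathlib

/-!
# A unit cocycle for a faithfully flat algebra is a coboundary locally on the base
-/

set_option autoImplicit false
set_option maxHeartbeats 1000000

universe u

open scoped TensorProduct

noncomputable section

namespace Groth.Agent.RGLib.UnitCocycle

variable {R B : Type u} [CommRing R] [CommRing B] [Algebra R B]

local notation "iL" => (Algebra.TensorProduct.includeLeft : B →ₐ[R] B ⊗[R] B)
local notation "iR" => (Algebra.TensorProduct.includeRight : B →ₐ[R] B ⊗[R] B)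
local notation "j₂₃" => (Algebra.TensorProduct.includeRight : B ⊗[R] B →ₐ[R] B ⊗[R] (B ⊗[R] B))
local notation "j₁₃" => (Algebra.TensorProduct.map (AlgHom.id R B) iR)
local notation "j₁₂" => (Algebra.TensorProduct.map (AlgHom.id R B) iL)

theorem mem_smul_top_of_tmul_eq_zero (I : Ideal R) {y : B} (h : (1 : R ⧸ I) ⊗ₜ[R] y = 0) :
    y ∈ I • (⊤ : Submodule R B) := by
  have h2 := congrArg (TensorProduct.quotTensorEquivQuotSMul B I) h
  refine (Submodule.Quotient.mk_eq_zero _).1 ?_
  rw [LinearEquiv.map_zero] at h2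
  rw [← h2]
  simpa using (TensorProduct.quotTensorEquivQuotSMul_mk_tmul I (1 : R) y).symm

theorem exists_generator [Module.FaithfullyFlat R B] (γ : B ⊗[R] B) (hγ : IsUnit γ)
    (hcoc : j₁₂ γ * j₂₃ γ = j₁₃ γ) (p : Ideal R) [p.IsPrime] :
    ∃ g ∉ p, ∃ l w : B, iR l = γ * iL l ∧ l * w = algebraMap R B g := by
  classical
  let d : B →ₗ[R] B ⊗[R] B := (iR).toLinearMap - (LinearMap.mulLeft R γ).comp (iL).toLinearMap
  let L := LinearMap.ker d
  have hmem : ∀ x : B, x ∈ L → iR x = γ * iL x := fun x hx => by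
    have h : iR x - γ * iL x = 0 := hx
    exact sub_eq_zero.1 h
  -- every `γ (x ⊗ 1)` comes from `B ⊗ L`
  let ψ : B →ₗ[R] B ⊗[R] B := (LinearMap.mulLeft R γ).comp (iL).toLinearMap
  have hlT : ∀ z, LinearMap.lTensor B d z = j₁₃ z - j₂₃ γ * j₁₂ z := fun z => by
    induction z using TensorProduct.induction_on with
    | zero => simp
    | add a b ha hb => simp only [map_add, ha, hb, mul_add]; abel
    | tmul a b =>
      simp [d, TensorProduct.tmul_sub, Algebra.TensorProduct.tmul_mul_tmul]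
  have hψ : ∀ x : B, ψ x ∈ LinearMap.range (LinearMap.lTensor B L.subtype) := fun x => by
    refine ((Module.Flat.lTensor_exact B (LinearMap.exact_subtype_ker_map d)) (ψ x)).1 ?_
    rw [hlT]
    show j₁₃ (γ * iL x) - j₂₃ γ * j₁₂ (γ * iL x) = 0
    rw [map_mul, map_mul, ← mul_assoc, mul_comm (j₂₃ γ), hcoc]
    simp [Algebra.TensorProduct.one_def]
  -- `γ` is a combination of elements of `B ⊗ L`
  obtain ⟨z, hz⟩ := hψ 1
  obtain ⟨T, hT⟩ := TensorProduct.exists_finset z
  have hγT : γ = ∑ k ∈ T, k.1 ⊗ₜ[R] (k.2 : B) := by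
    rw [hT, map_sum] at hz
    simpa [ψ, ← Algebra.TensorProduct.one_def] using hz.symm
  let μ : B ⊗[R] B →ₐ[R] B := Algebra.TensorProduct.lmul' R
  let μ₃ : B ⊗[R] (B ⊗[R] B) →ₐ[R] B := μ.comp (Algebra.TensorProduct.map (AlgHom.id R B) μ)
  have hμγ : μ γ = 1 := by
    have e : ∀ z, μ₃ (j₁₂ z) = μ z ∧ μ₃ (j₁₃ z) = μ z ∧ μ₃ (j₂₃ z) = μ z := fun z => by
      induction z using TensorProduct.induction_on with
      | zero => simp
      | add a b ha hb => simp only [map_add, ha, hb, and_self]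
      | tmul a b => simp [μ, μ₃]
    have h1 := congrArg μ₃ hcoc
    rw [map_mul, (e γ).1, (e γ).2.1, (e γ).2.2] at h1
    exact (hγ.map μ).mul_eq_left.1 h1
  have hone : (1 : B) = ∑ k ∈ T, k.1 * (k.2 : B) := by
    rw [← hμγ, hγT, map_sum]
    simp [μ]
  -- these elements generate `L`
  let N : Submodule R B := Submodule.span R ((fun k : B × L => (k.2 : B)) '' (T : Set (B × L)))
  have hgen : ∀ x ∈ L, x ∈ N := fun x hx => by
    have h1 : x ∈ LinearMap.range N.subtype := by
      refine DescLib.mem_range_of_one_tmul_mem (A := B) _ x ?_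
      rw [show (1 : B) ⊗ₜ[R] x = iR x from rfl, hmem x hx, hγT, Finset.sum_mul]
      refine sum_mem fun k hk => ⟨(k.1 * x) ⊗ₜ ⟨k.2, Submodule.subset_span ⟨k, hk, rfl⟩⟩, ?_⟩
      simp [Algebra.TensorProduct.tmul_mul_tmul]
    rwa [Submodule.range_subtype] at h1
  haveI : Module.Finite R L := by
    have hLN : L = N := le_antisymm hgen (Submodule.span_le.2 fun _ ⟨k, _, hk⟩ => hk ▸ k.2.2)
    refine Module.Finite.iff_fg.2 ?_
    rw [hLN]
    exact Submodule.fg_span (T.finite_toSet.image _)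
  -- `L` is pure in `B` at `p`
  have hpure : ∀ x ∈ L, x ∈ p • (⊤ : Submodule R B) → x ∈ p • L := fun x hx hxp => by
    have h1 : x ∈ LinearMap.range (p • L).subtype := by
      refine DescLib.mem_range_of_one_tmul_mem (A := B) _ x ?_
      rw [show (1 : B) ⊗ₜ[R] x = ψ x from hmem x hx]
      refine Submodule.smul_induction_on hxp (fun r hr b _ => ?_) (fun a b ha hb => by rw [map_add]; exact add_mem ha hb)
      obtain ⟨zb, hzb⟩ := hψ b
      rw [map_smul, ← hzb]
      clear hzb
      induction zb using TensorProduct.induction_on with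
      | zero => simp
      | add a b ha hb => rw [map_add, smul_add]; exact add_mem ha hb
      | tmul a l =>
        refine ⟨a ⊗ₜ ⟨r • (l : B), Submodule.smul_mem_smul hr l.2⟩, ?_⟩
        simp [TensorProduct.tmul_smul]
    rwa [Submodule.range_subtype] at h1
  -- the fibre
  let κ := p.ResidueField
  let π : B →ₐ[R] κ ⊗[R] B := Algebra.TensorProduct.includeRight
  haveI : Nontrivial (κ ⊗[R] B) := inferInstance
  obtain ⟨k₀, -, hk₀⟩ : ∃ k ∈ T, π (k.2 : B) ≠ 0 := by
    by_contra hall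
    push Not at hall
    refine one_ne_zero (α := κ ⊗[R] B) ?_
    rw [← map_one π, hone, map_sum]
    exact Finset.sum_eq_zero fun k hk => by rw [map_mul, hall k hk, mul_zero]
  let l : B := (k₀.2 : B)
  have hl : l ∈ L := k₀.2.2
  obtain ⟨φ, hφ⟩ : ∃ φ : Module.Dual κ (κ ⊗[R] B), φ (π l) = 1 := by
    obtain ⟨φ, hφ⟩ : ∃ φ : Module.Dual κ (κ ⊗[R] B), φ (π l) ≠ 0 := by
      by_contra hall
      push Not at hall
      exact hk₀ ((Module.forall_dual_apply_eq_zero_iff κ _).1 hall)
    exact ⟨(φ (π l))⁻¹ • φ, by simp [inv_mul_cancel₀ hφ]⟩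
  let F : B ⊗[R] B →ₗ[R] κ ⊗[R] B :=
    TensorProduct.lift
      (((LinearMap.lsmul κ (κ ⊗[R] B)).restrictScalars₁₂ R R).compl₁₂ ((φ.restrictScalars R).comp π.toLinearMap)
        π.toLinearMap)
  have hF : ∀ a b : B, F (a ⊗ₜ b) = φ (π a) • π b := fun a b => rfl
  have hlam : ∀ x ∈ L, π x = φ (π x) • π l := fun x hx => by
    have h1 : l ⊗ₜ[R] x = x ⊗ₜ[R] l := by
      have e1 : l ⊗ₜ[R] x = iL l * iR x := by simp
      have e2 : x ⊗ₜ[R] l = iL x * iR l := by simp
      rw [e1, e2, hmem x hx, hmem l hl]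
      ring
    have h2 := congrArg F h1
    rwa [hF, hF, hφ, one_smul] at h2
  have hκ : ∀ x : B, π x = 0 → x ∈ p • (⊤ : Submodule R B) := fun x hx => by
    refine mem_smul_top_of_tmul_eq_zero p ?_
    let f : R ⧸ p →ₗ[R] κ := (Algebra.linearMap (R ⧸ p) κ).restrictScalars R
    refine Module.Flat.rTensor_preserves_injective_linearMap (M := B) f
      p.injective_algebraMap_quotient_residueField ?_
    rw [LinearMap.rTensor_tmul, map_zero, show f 1 = 1 from map_one (algebraMap (R ⧸ p) κ)]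
    exact hx
  have hfr : ∀ k : B × L, ∃ s ∉ p, ∃ r : R, s • (k.2 : B) - r • l ∈ p • L := fun k => by
    obtain ⟨a, b, hb, hab⟩ := IsFractionRing.div_surjective (R ⧸ p) (φ (π (k.2 : B)))
    obtain ⟨r, rfl⟩ := Ideal.Quotient.mk_surjective a
    obtain ⟨s, rfl⟩ := Ideal.Quotient.mk_surjective b
    have hs : s ∉ p := fun h => nonZeroDivisors.ne_zero hb (Ideal.Quotient.eq_zero_iff_mem.2 h)
    refine ⟨s, hs, r, hpure _ (sub_mem (L.smul_mem _ k.2.2) (L.smul_mem _ hl)) (hκ _ ?_)⟩
    have hs0 : algebraMap R κ s ≠ 0 := fun h => hs (Ideal.algebraMap_residueField_eq_zero.1 h)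
    have e : algebraMap R κ s * φ (π (k.2 : B)) = algebraMap R κ r := by
      rw [← hab]
      exact mul_div_cancel₀ _ hs0
    rw [map_sub, map_smul, map_smul, hlam _ k.2.2, ← algebraMap_smul κ s (φ (π (k.2 : B)) • π l), smul_smul, e,
      algebraMap_smul, sub_self]
  choose s hs r hsr using hfr
  let S₀ := ∏ k ∈ T, s k
  have hS₀ : S₀ ∉ p := fun h => by
    obtain ⟨k, -, hk⟩ := (Ideal.IsPrime.prod_mem_iff (s := T)).1 h
    exact hs k hk
  let M := L ⧸ Submodule.span R {(⟨l, hl⟩ : L)}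
  let q : L →ₗ[R] M := Submodule.mkQ _
  have hp : ∀ m : L, (m : B) ∈ p • L → q m ∈ p • (⊤ : Submodule R M) := fun m hm => by
    have : m ∈ p • (⊤ : Submodule R L) := by
      rw [← Submodule.comap_map_eq_of_injective Subtype.val_injective (p • (⊤ : Submodule R L)) (f := L.subtype)]
      show (m : B) ∈ Submodule.map _ _
      rwa [Submodule.map_smul'', Submodule.map_top, Submodule.range_subtype]
    have h := Submodule.mem_map_of_mem (f := q) this
    rw [Submodule.map_smul''] at h
    exact Submodule.smul_mono le_rfl le_top h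
  have hS : ∀ m : L, q (S₀ • m) ∈ p • (⊤ : Submodule R M) := by
    have hNL : N ≤ L := Submodule.span_le.2 fun _ ⟨k, _, hk⟩ => hk ▸ k.2.2
    suffices key : ∀ x ∈ N, ∀ h : x ∈ L, q (S₀ • ⟨x, h⟩) ∈ p • (⊤ : Submodule R M) by
      exact fun m => key m.1 (hgen _ m.2) m.2
    intro x hx
    induction hx using Submodule.span_induction with
    | mem x hx =>
      obtain ⟨k, hk, rfl⟩ := hx
      intro _
      obtain ⟨t, ht⟩ := Finset.dvd_prod_of_mem s hk
      have h1 := hp ⟨s k • (k.2 : B) - r k • l, sub_mem (L.smul_mem _ k.2.2) (L.smul_mem _ hl)⟩ (hsr k)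
      have e : q (S₀ • k.2) = t • q ⟨s k • (k.2 : B) - r k • l, sub_mem (L.smul_mem _ k.2.2) (L.smul_mem _ hl)⟩ := by
        rw [show (⟨s k • (k.2 : B) - r k • l, _⟩ : L) = s k • k.2 - r k • ⟨l, hl⟩ from rfl, map_sub, map_smul,
          map_smul, map_smul, show q ⟨l, hl⟩ = 0 from (Submodule.Quotient.mk_eq_zero _).2 (Submodule.subset_span rfl),
          smul_zero, sub_zero, smul_smul, show S₀ = s k * t from ht, mul_comm t]
      rw [show (⟨(k.2 : B), _⟩ : L) = k.2 from rfl, e]
      exact Submodule.smul_mem _ _ h1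
    | zero => intro h; rw [show (⟨0, h⟩ : L) = 0 from rfl, smul_zero, map_zero]; exact zero_mem _
    | add x y hx hy ihx ihy =>
      intro h
      rw [show (⟨x + y, h⟩ : L) = ⟨x, hNL hx⟩ + ⟨y, hNL hy⟩ from rfl, smul_add, map_add]
      exact add_mem (ihx _) (ihy _)
    | smul a x hx ih =>
      intro h
      rw [show (⟨a • x, h⟩ : L) = a • ⟨x, hNL hx⟩ from rfl, smul_comm, map_smul]
      exact Submodule.smul_mem _ _ (ih _)
  have hsupp : (⟨p, inferInstance⟩ : PrimeSpectrum R) ∉ Module.support R M := by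
    rw [Module.mem_support_iff_nontrivial_residueField_tensorProduct, not_nontrivial_iff_subsingleton]
    refine subsingleton_of_forall_eq 0 fun z => ?_
    induction z using TensorProduct.induction_on with
    | zero => rfl
    | add a b ha hb => rw [ha, hb, add_zero]
    | tmul c m =>
      obtain ⟨m, rfl⟩ := Submodule.mkQ_surjective _ m
      have h0 : ∀ y ∈ p • (⊤ : Submodule R M), c ⊗ₜ[R] y = (0 : κ ⊗[R] M) := fun y hy => by
        refine Submodule.smul_induction_on hy (fun a ha w _ => ?_)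
          (fun a b ha hb => by rw [TensorProduct.tmul_add, ha, hb, add_zero])
        rw [← TensorProduct.smul_tmul, Algebra.smul_def, Ideal.algebraMap_residueField_eq_zero.2 ha, zero_mul,
          TensorProduct.zero_tmul]
      have h1 := h0 _ (hS m)
      rw [map_smul, TensorProduct.tmul_smul, ← algebraMap_smul κ S₀, smul_eq_zero,
        or_iff_right (fun h => hS₀ (Ideal.algebraMap_residueField_eq_zero.1 h))] at h1
      exact h1
  rw [Module.notMem_support_iff'] at hsupp
  choose g hg hgm using hsupp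
  let G := ∏ k ∈ T, g (q k.2)
  have hG : G ∉ p := fun h => by
    obtain ⟨k, -, hk⟩ := (Ideal.IsPrime.prod_mem_iff (s := T)).1 h
    exact hg _ hk
  have hGk : ∀ k ∈ T, ∃ c : R, G • (k.2 : B) = c • l := fun k hk => by
    have h0 : q (G • k.2) = 0 := by
      obtain ⟨t, ht⟩ := Finset.dvd_prod_of_mem (fun k => g (q k.2)) hk
      rw [map_smul, show G = g (q k.2) * t from ht, mul_comm, mul_smul, hgm, smul_zero]
    obtain ⟨c, hc⟩ := Submodule.mem_span_singleton.1 ((Submodule.Quotient.mk_eq_zero _).1 h0)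
    exact ⟨c, (congrArg Subtype.val hc).symm⟩
  choose! c hc using hGk
  refine ⟨G, hG, l, ∑ k ∈ T, c k • k.1, hmem l hl, ?_⟩
  rw [Algebra.algebraMap_eq_smul_one, hone, Finset.smul_sum, Finset.mul_sum]
  refine Finset.sum_congr rfl fun k hk => ?_
  rw [← mul_smul_comm G k.1 (k.2 : B), hc k hk, mul_smul_comm, mul_smul_comm, mul_comm]

end Groth.Agent.RGLib.UnitCocycle
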