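import Groth.Agent.SchTorsor.Props
import Groth.Agent.RGLib.UnitCocycle
import Groth.Prelude.Def_GmPts

/-!
# Torsors under the multiplicative group are Zariski locally trivial
-/

set_option autoImplicit false
set_option backward.isDefEq.respectTransparency.types false
set_option linter.style.haveILetI false

universe u
set_option synthInstance.maxHeartbeats 100000
set_option maxHeartbeats 800000

open CategoryTheory MonoidalCategory CartesianMonoidalCategory MonObj AlgebraicGeometry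
open CategoryTheory.Limits
open scoped TensorProduct
open Groth.Agent.GrpSchLib.TopDescent Groth.Agent.SchTorsor

namespace Groth.Agent.RGLib.GmTorsorZar

variable {S : Scheme.{u}} {R : CommRingCat.{u}} (v : Spec R ⟶ S)

/-- An algebra over an affine piece of the base, as a test object. -/
noncomputable abbrev tst (C : Type u) [CommRing C] [Algebra R C] : Over S :=
  Over.mk (Spec.map (CommRingCat.ofHom (algebraMap R C)) ≫ v)

/-- An algebra map as a map of test objects. -/
noncomputable abbrev pt {B C : Type u} [CommRing B] [CommRing C] [Algebra R B] [Algebra R C] (φ : B →ₐ[R] C) :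
    tst v C ⟶ tst v B :=
  Over.homMk (Spec.map (CommRingCat.ofHom φ.toRingHom)) (by
    show Spec.map _ ≫ Spec.map _ ≫ v = Spec.map _ ≫ v
    rw [← Category.assoc, ← Spec.map_comp, ← CommRingCat.ofHom_comp, AlgHom.toRingHom_eq_coe,
      AlgHom.comp_algebraMap])

theorem pt_comp {B C D : Type u} [CommRing B] [CommRing C] [CommRing D] [Algebra R B] [Algebra R C] [Algebra R D]
    (φ : B →ₐ[R] C) (χ : C →ₐ[R] D) : pt v χ ≫ pt v φ = pt v (χ.comp φ) := by
  refine Over.OverMorphism.ext ?_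
  show Spec.map _ ≫ Spec.map _ = Spec.map _
  rw [← Spec.map_comp]
  rfl

/-- An element of an algebra as a function. -/
noncomputable def el {C : Type u} [CommRing C] [Algebra R C] (x : C) : Γ((tst v C).left, ⊤) :=
  (Scheme.ΓSpecIso (CommRingCat.of C)).inv x

theorem el_comp {B C : Type u} [CommRing B] [CommRing C] [Algebra R B] [Algebra R C] (φ : B →ₐ[R] C) (x : B) :
    (pt v φ).left.appTop (el v x) = el v (φ x) :=
  (DFunLike.congr_fun (congrArg CommRingCat.Hom.hom
    (Scheme.ΓSpecIso_inv_naturality (CommRingCat.ofHom φ.toRingHom))) x).symm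

theorem el_mul {C : Type u} [CommRing C] [Algebra R C] (x y : C) : el v (x * y) = el v x * el v y :=
  map_mul (Scheme.ΓSpecIso (CommRingCat.of C)).inv.hom x y

theorem el_injective {C : Type u} [CommRing C] [Algebra R C] : Function.Injective (el v (C := C)) :=
  (Scheme.ΓSpecIso (CommRingCat.of C)).commRingCatIsoToRingEquiv.symm.injective

theorem el_surjective {C : Type u} [CommRing C] [Algebra R C] : Function.Surjective (el v (C := C)) :=
  (Scheme.ΓSpecIso (CommRingCat.of C)).commRingCatIsoToRingEquiv.symm.surjective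

theorem isUnit_el {C : Type u} [CommRing C] [Algebra R C] {x : C} :
    IsUnit (el v x) ↔ IsUnit x :=
  MulEquiv.isUnit_map (Scheme.ΓSpecIso (CommRingCat.of C)).commRingCatIsoToRingEquiv.symm.toMulEquiv

variable {X : Over S} (a : AlgGrp.Action (Red.Gm S) X)

/-- A section over a faithfully flat algebra gives one near each point of the affine piece. -/
theorem exists_nhd (ha : NonAbH1.IsPseudoTorsorSch a) (B : Type u) [CommRing B] [Algebra R B]
    [Module.FaithfullyFlat R B] (s : tst v B ⟶ X) (p : Ideal R) [p.IsPrime] :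
    ∃ g ∉ p, NonAbH1.HasSectionOver X
      (Spec.map (CommRingCat.ofHom (algebraMap R (Localization.Away g))) ≫ v) := by
  let iL : B →ₐ[R] B ⊗[R] B := Algebra.TensorProduct.includeLeft
  let iR : B →ₐ[R] B ⊗[R] B := Algebra.TensorProduct.includeRight
  obtain ⟨c, hc⟩ := exists_div ha (pt v iL ≫ s) (pt v iR ≫ s)
  have hpb : ∀ {C : Type u} [CommRing C] [Algebra R C] (φ : B ⊗[R] B →ₐ[R] C),
      lift (pt v φ ≫ c) (pt v (φ.comp iR) ≫ s) ≫ a.act = pt v (φ.comp iL) ≫ s := fun φ => by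
    have h := congrArg (fun t => pt v φ ≫ t) hc
    simpa only [comp_lift_assoc, reassoc_of% (pt_comp v iR φ), reassoc_of% (pt_comp v iL φ)] using h
  let j₂₃ : B ⊗[R] B →ₐ[R] B ⊗[R] (B ⊗[R] B) := Algebra.TensorProduct.includeRight
  let j₁₃ : B ⊗[R] B →ₐ[R] B ⊗[R] (B ⊗[R] B) := Algebra.TensorProduct.map (AlgHom.id R B) iR
  let j₁₂ : B ⊗[R] B →ₐ[R] B ⊗[R] (B ⊗[R] B) := Algebra.TensorProduct.map (AlgHom.id R B) iL
  have e1 : j₁₂.comp iR = j₂₃.comp iL := by ext x; simp [j₁₂, j₂₃, iL, iR]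
  have e2 : j₁₂.comp iL = j₁₃.comp iL := by ext x; simp [j₁₂, j₁₃, iL, iR, Algebra.TensorProduct.one_def]
  have e3 : j₁₃.comp iR = j₂₃.comp iR := by ext x; simp [j₁₃, j₂₃, iR]
  have hcoc : (pt v j₁₂ ≫ c) * (pt v j₂₃ ≫ c) = pt v j₁₃ ≫ c := by
    refine act_free ha (y := pt v (j₁₃.comp iR) ≫ s) ?_
    rw [act_assoc a, hpb j₁₃, e3, hpb j₂₃, ← e1, hpb j₁₂, e2]
  obtain ⟨cu, hcu⟩ := el_surjective v (Red.gmFn c)
  have hmul : j₁₂ cu * j₂₃ cu = j₁₃ cu := el_injective v (by
    rw [el_mul, ← el_comp, ← el_comp, ← el_comp, hcu, ← GmPts.gmFn_comp, ← GmPts.gmFn_comp, ← GmPts.gmFn_comp,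
      ← GmPts.gmFn_mul, hcoc])
  have hu : IsUnit cu := (isUnit_el v).1 (hcu ▸ GmPts.isUnit_gmFn c)
  obtain ⟨g, hg, l, w, hl, hlw⟩ := UnitCocycle.exists_generator cu hu hmul p
  refine ⟨g, hg, ?_⟩
  let Rg := Localization.Away g
  let C := Rg ⊗[R] B
  let ρ : B →ₐ[R] C := Algebra.TensorProduct.includeRight
  have hlu : IsUnit (ρ l) := by
    refine isUnit_of_mul_isUnit_left (y := ρ w) ?_
    rw [← map_mul, hlw, AlgHom.commutes, IsScalarTower.algebraMap_apply R Rg C]
    exact (IsLocalization.Away.algebraMap_isUnit g).map _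
  have hlu' : IsUnit (el v (ρ l)) := (isUnit_el v).2 hlu
  let G : tst v C ⟶ Red.Gm S := GmPts.ptOfUnit hlu'.unit
  have hG : Red.gmFn G = el v (ρ l) := GmPts.gmFn_ptOfUnit _
  let s' : tst v C ⟶ X := lift G (pt v ρ ≫ s) ≫ a.act
  let v' := Spec.map (CommRingCat.ofHom (algebraMap R Rg)) ≫ v
  let q : Spec (CommRingCat.of C) ⟶ Spec (CommRingCat.of Rg) := Spec.map (CommRingCat.ofHom (algebraMap Rg C))
  haveI : Module.FaithfullyFlat Rg C := inferInstance
  have hff := (flat_and_surjective_SpecMap_iff (CommRingCat.ofHom (algebraMap Rg C))).mpr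
    (RingHom.faithfullyFlat_algebraMap_iff.2 ‹_›)
  haveI : Flat q := hff.1
  haveI : Surjective q := hff.2
  have hqR : q ≫ Spec.map (CommRingCat.ofHom (algebraMap R Rg)) = Spec.map (CommRingCat.ofHom (algebraMap R C)) := by
    rw [← Spec.map_comp, ← CommRingCat.ofHom_comp, ← IsScalarTower.algebraMap_eq]
  let j : tst v C ⟶ Over.mk v' := Over.homMk q (by
    show q ≫ Spec.map _ ≫ v = Spec.map _ ≫ v
    rw [← Category.assoc, hqR])
  have hj : HasLocSec Scheme.fpqcTopology j :=
    ⟨Sieve.generate (Presieve.singleton q), Precoverage.generate_mem_toGrothendieck q.singleton_mem_fpqcPrecoverage,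
      fun T t ⟨_, b', f, hf, e⟩ => by
        cases hf
        exact ⟨b', e⟩⟩
  obtain ⟨χ, -, -⟩ := hj.existsUnique_desc s' fun T f₁ f₂ hf => by
    have hρ : (pt v ρ).left ≫ Spec.map (CommRingCat.ofHom (algebraMap R B)) =
        Spec.map (CommRingCat.ofHom (algebraMap R C)) := by
      show Spec.map _ ≫ Spec.map _ = _
      rw [← Spec.map_comp, ← CommRingCat.ofHom_comp, AlgHom.toRingHom_eq_coe, AlgHom.comp_algebraMap]
    have hw : (f₁.left ≫ (pt v ρ).left) ≫ Spec.map (CommRingCat.ofHom (algebraMap R B)) =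
        (f₂.left ≫ (pt v ρ).left) ≫ Spec.map (CommRingCat.ofHom (algebraMap R B)) := by
      rw [Category.assoc, Category.assoc, hρ, ← hqR]
      have h0 : f₁.left ≫ q = f₂.left ≫ q := congrArg CommaMorphism.left hf
      rw [reassoc_of% h0]
    let m₀ : T.left ⟶ Spec (CommRingCat.of (B ⊗[R] B)) :=
      pullback.lift _ _ hw ≫ (pullbackSpecIso R B B).hom
    have h1 : m₀ ≫ (pt v iL).left = f₁.left ≫ (pt v ρ).left := by
      show (pullback.lift _ _ hw ≫ (pullbackSpecIso R B B).hom) ≫ Spec.map _ = _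
      rw [Category.assoc]
      exact (congrArg _ (pullbackSpecIso_hom_fst R B B)).trans (pullback.lift_fst _ _ _)
    have h2 : m₀ ≫ (pt v iR).left = f₂.left ≫ (pt v ρ).left := by
      show (pullback.lift _ _ hw ≫ (pullbackSpecIso R B B).hom) ≫ Spec.map _ = _
      rw [Category.assoc]
      exact (congrArg _ (pullbackSpecIso_hom_snd R B B)).trans (pullback.lift_snd _ _ _)
    let m : T ⟶ tst v (B ⊗[R] B) := Over.homMk m₀ (by
      show m₀ ≫ _ = T.hom
      rw [← Over.w (pt v iL), ← Category.assoc, h1]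
      exact Over.w (f₁ ≫ pt v ρ))
    have hm1 : m ≫ pt v iL = f₁ ≫ pt v ρ := Over.OverMorphism.ext h1
    have hm2 : m ≫ pt v iR = f₂ ≫ pt v ρ := Over.OverMorphism.ext h2
    have hfn : ∀ (i : B →ₐ[R] B ⊗[R] B) (f : T ⟶ tst v C), m ≫ pt v i = f ≫ pt v ρ →
        Red.gmFn (f ≫ G) = m.left.appTop (el v (i l)) := fun i f e => by
      have e' : f.left ≫ (pt v ρ).left = m.left ≫ (pt v i).left := congrArg CommaMorphism.left e.symm
      rw [GmPts.gmFn_comp, hG, ← el_comp, ← el_comp, ← GmPts.appTop_comp_apply, ← GmPts.appTop_comp_apply, e']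
    have key : (f₁ ≫ G) * (m ≫ c) = f₂ ≫ G := GmPts.gmFn_injective (by
      simp only []
      rw [GmPts.gmFn_mul, hfn iL f₁ hm1, hfn iR f₂ hm2, GmPts.gmFn_comp, ← hcu]
      rw [show iR l = cu * iL l from hl, el_mul, map_mul]
      ring)
    simp only [s', comp_lift_assoc]
    rw [← reassoc_of% hm1, ← reassoc_of% hm2, ← hc, comp_lift_assoc, ← act_assoc a, key]
  exact ⟨χ.left, Over.w χ⟩

theorem isTorsorFor_zariski {X : Over S} (a : AlgGrp.Action (Red.Gm S) X)
    (h : NonAbH1.IsTorsorFor Scheme.fpqcPrecoverage a) : NonAbH1.IsTorsorFor Scheme.zariskiPrecoverage a := by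
  have H : ∀ x : S, ∃ (W : Scheme.{u}) (t : W ⟶ S), IsOpenImmersion t ∧ x ∈ Set.range t ∧
      NonAbH1.HasSectionOver X t := by
    intro x
    obtain ⟨i, y, rfl⟩ := S.affineCover.exists_eq x
    let R₀ : CommRingCat.{u} := Γ(S.affineCover.X i, ⊤)
    let e : S.affineCover.X i ≅ Spec R₀ := (S.affineCover.X i).isoSpec
    let v : Spec R₀ ⟶ S := e.inv ≫ S.affineCover.f i
    obtain ⟨Z, p, hp₁, hp₂, hp₃, s, hs⟩ := exists_single h.2 v
    haveI : CompactSpace Z := QuasiCompact.compactSpace_of_compactSpace p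
    let 𝒰 := Z.affineCover.finiteSubcover
    let W : Scheme.{u} := ∐ fun k => 𝒰.X k
    haveI : ∀ k, IsAffine (𝒰.X k) := fun k => inferInstanceAs (IsAffine (Z.affineCover.X _))
    let w : W ⟶ Z := Sigma.desc fun k => 𝒰.f k
    haveI : Surjective w := ⟨fun z => by
      obtain ⟨k, y, hy⟩ := 𝒰.exists_eq z
      refine ⟨Sigma.ι (fun k => 𝒰.X k) k y, ?_⟩
      rw [← Scheme.Hom.comp_apply, Sigma.ι_desc]
      exact hy⟩
    haveI : Flat w := IsZariskiLocalAtSource.sigmaDesc fun k => inferInstance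
    let B := Γ(W, ⊤)
    let q : Spec B ⟶ Spec R₀ := W.isoSpec.inv ≫ w ≫ p
    letI : Algebra R₀ B := (Spec.preimage q).hom.toAlgebra
    have hq : Spec.map (CommRingCat.ofHom (algebraMap R₀ B)) = q := Spec.map_preimage q
    haveI : Module.FaithfullyFlat R₀ B := by
      refine RingHom.faithfullyFlat_algebraMap_iff.1 ((flat_and_surjective_SpecMap_iff (CommRingCat.ofHom (algebraMap R₀ B))).1 ?_)
      rw [hq]
      exact ⟨inferInstance, inferInstance⟩
    obtain ⟨g, hg, hsec⟩ := exists_nhd v a h.1 B (Over.homMk (W.isoSpec.inv ≫ w ≫ s) (by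
      show (W.isoSpec.inv ≫ w ≫ s) ≫ X.hom = Spec.map _ ≫ v
      rw [hq, Category.assoc, Category.assoc, hs]
      simp [q])) (e.hom y).asIdeal
    haveI : IsOpenImmersion (Spec.map (CommRingCat.ofHom (algebraMap R₀ (Localization.Away g)))) :=
      IsOpenImmersion.of_isLocalization g
    refine ⟨_, _, inferInstance, ?_, hsec⟩
    obtain ⟨z, hz⟩ : e.hom y ∈ Set.range (Spec.map (CommRingCat.ofHom (algebraMap R₀ (Localization.Away g)))) := by
      show e.hom y ∈ Set.range (PrimeSpectrum.comap (algebraMap R₀ (Localization.Away g)))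
      rw [PrimeSpectrum.localization_away_comap_range (Localization.Away g) g]
      exact hg
    refine ⟨z, ?_⟩
    rw [Scheme.Hom.comp_apply, hz]
    show (e.hom ≫ e.inv ≫ S.affineCover.f i) y = _
    rw [Iso.hom_inv_id_assoc]
  choose W t ht hx hsec using H
  refine ⟨h.1, Presieve.ofArrows W t, ?_, ?_⟩
  · exact (Scheme.ofArrows_mem_precoverage_iff _).2 ⟨fun x => ⟨x, hx x⟩, ht⟩
  · rintro _ _ ⟨x⟩
    exact hsec x

end Groth.Agent.RGLib.GmTorsorZar
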