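import Groth.Agent.RGLib.AugSmooth
import Mathlib.Algebra.DirectSum.Internal
import Mathlib.RingTheory.GradedAlgebra.Basic
import Mathlib.RingTheory.Smooth.Basic
import Mathlib.GroupTheory.Finiteness
import Mathlib.Data.Finsupp.PWO
import Mathlib.Order.WellQuasiOrder

/-!
# Smooth algebras graded by a fine sharp monoid are symmetric algebras over the degree zero part
-/

universe u

open DirectSum

set_option autoImplicit false

namespace Groth.Agent.RGLib.GradedVB

section monoid

variable {N : Type} [AddCommMonoid N]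

/-- `m` precedes `n` if `n` is `m` plus a nonzero element. -/
def Prec (m n : N) : Prop := ∃ k, k ≠ 0 ∧ n = m + k

theorem wellFounded_prec [AddMonoid.FG N] [IsCancelAdd N] (hsharp : ∀ n : N, IsAddUnit n → n = 0) :
    WellFounded (Prec (N := N)) := by
  classical
  obtain ⟨S, hS⟩ := AddMonoid.fg_def.mp (inferInstance : AddMonoid.FG N)
  let π : ((↥S) →₀ ℕ) →+ N := Finsupp.liftAddHom fun s => multiplesHom N (s : N)
  have hsurj : Function.Surjective π := by
    rw [← AddMonoidHom.mrange_eq_top, eq_top_iff, ← hS, AddSubmonoid.closure_le]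
    exact fun x hx => ⟨Finsupp.single ⟨x, hx⟩ 1, by simp [π, Finsupp.liftAddHom_apply_single]⟩
  rw [wellFounded_iff_isEmpty_descending_chain]
  refine ⟨fun ⟨f, hf⟩ => ?_⟩
  have hlt : ∀ i j, i < j → ∃ k, k ≠ 0 ∧ f i = f j + k := fun i j hij => by
    induction j, hij using Nat.le_induction with
    | base => exact hf i
    | succ j _ ih =>
      obtain ⟨k, hk, e⟩ := ih
      obtain ⟨k', hk', e'⟩ := hf j
      exact ⟨k' + k, fun h => hk' (hsharp k' ⟨⟨k', k, h, by rw [add_comm]; exact h⟩, rfl⟩),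
        by rw [e, e', add_assoc]⟩
  choose g hg using fun i => hsurj (f i)
  obtain ⟨i, j, hij, hle⟩ := (wellQuasiOrdered_le (α := (↥S) →₀ ℕ)) g
  obtain ⟨z, hz⟩ := exists_add_of_le hle
  obtain ⟨k, hk, e⟩ := hlt i j hij
  have h1 : f j = f i + π z := by rw [← hg j, hz, map_add, hg i]
  have h2 : k + π z = 0 := by
    have h3 : f j + 0 = f j + (k + π z) := by rw [add_zero, ← add_assoc, ← e, ← h1]
    exact (add_left_cancel h3).symm
  exact hk (hsharp k ⟨⟨k, π z, h2, by rw [add_comm]; exact h2⟩, rfl⟩)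

end monoid

variable {R : Type u} [CommRing R] {A : Type u} [CommRing A] [Algebra R A] {N : Type} [AddCommMonoid N]
  [DecidableEq N] (𝒜 : N → Submodule R A) [GradedAlgebra 𝒜]

instance : IsScalarTower R (𝒜 0) A := IsScalarTower.of_algebraMap_eq fun _ => rfl

/-- The degree `n` component, linear over the degree zero part. -/
noncomputable def comp (n : N) : A →ₗ[𝒜 0] A where
  toFun y := decompose 𝒜 y n
  map_add' y z := by simp
  map_smul' a y := by
    rw [RingHom.id_apply]
    induction y using Decomposition.inductionOn 𝒜 with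
    | zero => simp
    | homogeneous m =>
      rename_i i
      have hm : a • (m : A) ∈ 𝒜 i := by
        rw [Algebra.smul_def, SetLike.GradeZero.algebraMap_apply]
        simpa using SetLike.mul_mem_graded a.2 m.2
      by_cases h : i = n
      · subst h; rw [decompose_of_mem_same 𝒜 hm, decompose_of_mem_same 𝒜 m.2]
      · rw [decompose_of_mem_ne 𝒜 hm h, decompose_of_mem_ne 𝒜 m.2 h, smul_zero]
    | add y z hy hz =>
      simp only [smul_add, decompose_add, DirectSum.add_apply, Submodule.coe_add, hy, hz]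

lemma comp_mem (n : N) (y : A) : comp 𝒜 n y ∈ 𝒜 n := SetLike.coe_mem _

lemma comp_of_mem {n : N} {y : A} (h : y ∈ 𝒜 n) : comp 𝒜 n y = y := decompose_of_mem_same 𝒜 h

lemma comp_of_mem_ne {m n : N} {y : A} (h : y ∈ 𝒜 m) (hne : m ≠ n) : comp 𝒜 n y = 0 := decompose_of_mem_ne 𝒜 h hne

variable (hsharp : ∀ n : N, IsAddUnit n → n = 0)

/-- The augmentation onto the degree zero part. -/
noncomputable def augm : A →ₐ[𝒜 0] (𝒜 0) where
  toFun y := ⟨comp 𝒜 0 y, comp_mem 𝒜 0 y⟩
  map_one' := Subtype.ext (comp_of_mem 𝒜 (SetLike.one_mem_graded 𝒜))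
  map_mul' y z := by
    refine Subtype.ext ?_
    show comp 𝒜 0 (y * z) = comp 𝒜 0 y * comp 𝒜 0 z
    induction y using Decomposition.inductionOn 𝒜 with
    | zero => simp
    | homogeneous m =>
      rename_i i
      induction z using Decomposition.inductionOn 𝒜 with
      | zero => simp
      | homogeneous m' =>
        rename_i j
        have hm : (m : A) * m' ∈ 𝒜 (i + j) := SetLike.mul_mem_graded m.2 m'.2
        by_cases hi : i = 0
        · subst hi
          rw [comp_of_mem 𝒜 m.2]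
          by_cases hj : j = 0
          · subst hj
            rw [comp_of_mem 𝒜 m'.2, comp_of_mem 𝒜 (by simpa using hm)]
          · rw [comp_of_mem_ne 𝒜 m'.2 hj, mul_zero, comp_of_mem_ne 𝒜 hm (by simpa using hj)]
        · rw [comp_of_mem_ne 𝒜 m.2 hi, zero_mul, comp_of_mem_ne 𝒜 hm]
          exact fun h => hi (hsharp i ⟨⟨i, j, h, by rw [add_comm]; exact h⟩, rfl⟩)
      | add z z' hz hz' => simp only [mul_add, map_add, hz, hz']
    | add y y' hy hy' => simp only [add_mul, map_add, hy, hy']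
  map_zero' := Subtype.ext (map_zero _)
  map_add' y z := Subtype.ext (map_add _ _ _)
  commutes' a := Subtype.ext (comp_of_mem 𝒜 (show algebraMap (𝒜 0) A a ∈ 𝒜 0 from a.2))

lemma coe_augm (y : A) : ((augm 𝒜 hsharp y : 𝒜 0) : A) = comp 𝒜 0 y := rfl

lemma mem_ker {y : A} : y ∈ RingHom.ker (augm 𝒜 hsharp).toRingHom ↔ comp 𝒜 0 y = 0 := by
  rw [RingHom.mem_ker]
  exact ⟨fun h => congrArg Subtype.val h, fun h => Subtype.ext h⟩

local notation "J" => RingHom.ker (AlgHom.toRingHom (augm 𝒜 hsharp))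

lemma mem_ker_of_mem {n : N} (hn : n ≠ 0) {y : A} (h : y ∈ 𝒜 n) : y ∈ J :=
  (mem_ker 𝒜 hsharp).2 (comp_of_mem_ne 𝒜 h hn)

lemma comp_mem_ker (n : N) {y : A} (h : y ∈ J) : comp 𝒜 n y ∈ J := by
  by_cases hn : n = 0
  · subst hn; rw [(mem_ker 𝒜 hsharp).1 h]; exact zero_mem _
  · exact mem_ker_of_mem 𝒜 hsharp hn (comp_mem 𝒜 n y)

/-- A property of pairs additive in each variable holds on `J × J` if it does on homogeneous pairs of
nonzero degrees. -/
lemma bilinear_induction (P : A → A → Prop) (h0l : ∀ b, P 0 b) (h0r : ∀ a, P a 0)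
    (hl : ∀ a a' b, P a b → P a' b → P (a + a') b) (hr : ∀ a b b', P a b → P a b' → P a (b + b'))
    (hh : ∀ i j (a b : A), i ≠ 0 → j ≠ 0 → a ∈ 𝒜 i → b ∈ 𝒜 j → P a b) {a b : A} (ha : a ∈ J) (hb : b ∈ J) :
    P a b := by
  have e : ∀ y ∈ J, y = y - comp 𝒜 0 y := fun y hy => by rw [(mem_ker 𝒜 hsharp).1 hy, sub_zero]
  rw [e a ha, e b hb]
  clear ha hb
  induction a using Decomposition.inductionOn 𝒜 with
  | zero => simpa using h0l _
  | homogeneous m =>
    rename_i i
    by_cases hi : i = 0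
    · subst hi; rw [comp_of_mem 𝒜 m.2, sub_self]; exact h0l _
    rw [comp_of_mem_ne 𝒜 m.2 hi, sub_zero]
    induction b using Decomposition.inductionOn 𝒜 with
    | zero => simpa using h0r _
    | homogeneous m' =>
      rename_i j
      by_cases hj : j = 0
      · subst hj; rw [comp_of_mem 𝒜 m'.2, sub_self]; exact h0r _
      rw [comp_of_mem_ne 𝒜 m'.2 hj, sub_zero]
      exact hh i j _ _ hi hj m.2 m'.2
    | add b b' hb hb' =>
      rw [map_add, show b + b' - (comp 𝒜 0 b + comp 𝒜 0 b') = (b - comp 𝒜 0 b) + (b' - comp 𝒜 0 b') by abel]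
      exact hr _ _ _ hb hb'
  | add a a' ha ha' =>
    rw [map_add, show a + a' - (comp 𝒜 0 a + comp 𝒜 0 a') = (a - comp 𝒜 0 a) + (a' - comp 𝒜 0 a') by abel]
    exact hl _ _ _ ha ha'

lemma comp_mem_sq (n : N) {y : A} (h : y ∈ J ^ 2) : comp 𝒜 n y ∈ J ^ 2 := by
  rw [pow_two] at h
  refine Submodule.mul_induction_on h (fun a ha b hb => ?_) fun a b ha hb => by rw [map_add]; exact add_mem ha hb
  refine bilinear_induction 𝒜 hsharp (fun a b => comp 𝒜 n (a * b) ∈ J ^ 2) (fun b => by simp) (fun a => by simp)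
    (fun a a' b h h' => by rw [add_mul, map_add]; exact add_mem h h')
    (fun a b b' h h' => by rw [mul_add, map_add]; exact add_mem h h') (fun i j a b hi hj ha hb => ?_) ha hb
  by_cases hn : i + j = n
  · rw [comp_of_mem 𝒜 (hn ▸ SetLike.mul_mem_graded ha hb), pow_two]
    exact Ideal.mul_mem_mul (mem_ker_of_mem 𝒜 hsharp hi ha) (mem_ker_of_mem 𝒜 hsharp hj hb)
  · rw [comp_of_mem_ne 𝒜 (SetLike.mul_mem_graded ha hb) hn]; exact zero_mem _

include hsharp in
omit [DecidableEq N] in
theorem exists_generators [DecidableEq N] [GradedAlgebra 𝒜] [Algebra.FiniteType R A] :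
    ∃ (X : Finset A) (deg : X → N), (∀ x : X, deg x ≠ 0 ∧ (x : A) ∈ 𝒜 (deg x)) ∧
      J = Ideal.span (Set.range (fun x : X => (x : A))) := by
  classical
  obtain ⟨s, hs⟩ := (inferInstance : Algebra.FiniteType R A).out
  let X : Finset A := s.biUnion fun y => ((decompose 𝒜 y).support.filter (· ≠ 0)).image fun n => comp 𝒜 n y
  have hX : ∀ x : X, ∃ n : N, n ≠ 0 ∧ (x : A) ∈ 𝒜 n := fun x => by
    obtain ⟨y, -, hy⟩ := Finset.mem_biUnion.1 x.2
    obtain ⟨n, hn, e⟩ := Finset.mem_image.1 hy
    exact ⟨n, (Finset.mem_filter.1 hn).2, e ▸ comp_mem 𝒜 n y⟩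
  choose deg hdeg using hX
  refine ⟨X, deg, hdeg, le_antisymm ?_ ?_⟩
  · intro y hy
    rw [show y = y - comp 𝒜 0 y by rw [(mem_ker 𝒜 hsharp).1 hy, sub_zero]]
    clear hy
    have hmem : y ∈ Algebra.adjoin R (s : Set A) := hs ▸ Algebra.mem_top
    induction hmem using Algebra.adjoin_induction with
    | mem z hz =>
      conv in z - _ => arg 1; rw [← sum_support_decompose 𝒜 z]
      rw [← Finset.sum_filter_add_sum_filter_not (decompose 𝒜 z).support (· ≠ 0),
        show (∑ x ∈ (decompose 𝒜 z).support.filter (fun n => ¬ n ≠ 0), (decompose 𝒜 z x : A)) = comp 𝒜 0 z by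
          simp only [not_not, Finset.filter_eq']
          split_ifs with h0
          · rw [Finset.sum_singleton]; rfl
          · rw [Finset.sum_empty]
            show (0 : A) = (decompose 𝒜 z 0 : A)
            rw [DFinsupp.notMem_support_iff.1 h0]; rfl,
        add_sub_cancel_right]
      refine Ideal.sum_mem _ fun n hn => Ideal.subset_span ⟨⟨_, Finset.mem_biUnion.2 ⟨z, hz, ?_⟩⟩, rfl⟩
      exact Finset.mem_image.2 ⟨n, hn, rfl⟩
    | algebraMap r => rw [comp_of_mem 𝒜 (SetLike.algebraMap_mem_graded 𝒜 r), sub_self]; exact zero_mem _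
    | add a b _ _ ha hb =>
      rw [map_add, show a + b - (comp 𝒜 0 a + comp 𝒜 0 b) = (a - comp 𝒜 0 a) + (b - comp 𝒜 0 b) by abel]
      exact add_mem ha hb
    | mul a b _ _ ha hb =>
      rw [show comp 𝒜 0 (a * b) = comp 𝒜 0 a * comp 𝒜 0 b from congrArg Subtype.val (map_mul (augm 𝒜 hsharp) a b),
        show a * b - comp 𝒜 0 a * comp 𝒜 0 b = (a - comp 𝒜 0 a) * b + comp 𝒜 0 a * (b - comp 𝒜 0 b) by ring]
      exact add_mem (Ideal.mul_mem_right _ _ ha) (Ideal.mul_mem_left _ _ hb)
  · rw [Ideal.span_le]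
    rintro _ ⟨x, rfl⟩
    exact mem_ker_of_mem 𝒜 hsharp (hdeg x).1 (hdeg x).2

include hsharp in
theorem main [AddMonoid.FG N] [IsCancelAdd N] [Algebra.FiniteType R A] [Algebra.FormallySmooth R A] :
    ∃ (P : Type u) (_ : AddCommGroup P) (_ : Module (𝒜 0) P), Module.Finite (𝒜 0) P ∧
      Module.Projective (𝒜 0) P ∧ Nonempty (A ≃ₐ[𝒜 0] SymmetricAlgebra (𝒜 0) P) := by
  classical
  obtain ⟨X, deg, hdeg, hJ⟩ := exists_generators 𝒜 hsharp
  obtain ⟨hfin, hproj, hcomb, hinj⟩ := AugSmooth.main R (augm 𝒜 hsharp) (fun x : X => (x : A)) hJ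
  refine ⟨(J).Cotangent, inferInstance, inferInstance, hfin, hproj, ?_⟩
  haveI := hproj
  obtain ⟨s0, hs0⟩ := Module.projective_lifting_property ((J).toCotangent.restrictScalars (𝒜 0)) LinearMap.id
    (J).toCotangent_surjective
  have hs0' : ∀ p, (J).toCotangent (s0 p) = p := fun p => LinearMap.congr_fun hs0 p
  -- the component operators on the cotangent module
  let r := Function.surjInv (J).toCotangent_surjective
  have hr : ∀ p, (J).toCotangent (r p) = p := Function.surjInv_eq _
  have hwd : ∀ n (z w : J), (J).toCotangent z = (J).toCotangent w →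
      (J).toCotangent ⟨_, comp_mem_ker 𝒜 hsharp n z.2⟩ = (J).toCotangent ⟨_, comp_mem_ker 𝒜 hsharp n w.2⟩ :=
    fun n z w h => (J).toCotangent_eq.2 (by
      show comp 𝒜 n z.1 - comp 𝒜 n w.1 ∈ _
      rw [← map_sub]; exact comp_mem_sq 𝒜 hsharp n ((J).toCotangent_eq.1 h))
  let e : N → (J).Cotangent → (J).Cotangent := fun n p => (J).toCotangent ⟨_, comp_mem_ker 𝒜 hsharp n (r p).2⟩
  have he : ∀ n (z : J), e n ((J).toCotangent z) = (J).toCotangent ⟨_, comp_mem_ker 𝒜 hsharp n z.2⟩ :=
    fun n z => hwd n _ _ (hr _)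
  let eL : N → (J).Cotangent →ₗ[𝒜 0] (J).Cotangent := fun n =>
    { toFun := e n
      map_add' := fun p q => by
        obtain ⟨z, rfl⟩ := (J).toCotangent_surjective p
        obtain ⟨w, rfl⟩ := (J).toCotangent_surjective q
        rw [← map_add, he, he, he, ← map_add]
        exact congrArg _ (Subtype.ext (map_add _ _ _))
      map_smul' := fun a p => by
        obtain ⟨z, rfl⟩ := (J).toCotangent_surjective p
        rw [RingHom.id_apply, ← LinearMap.map_smul_of_tower, he, he, ← LinearMap.map_smul_of_tower]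
        exact congrArg _ (Subtype.ext ((comp 𝒜 n).map_smul a z.1)) }
  let T : Finset N := Finset.univ.image deg
  let s : (J).Cotangent →ₗ[𝒜 0] A :=
    ∑ n ∈ T, (comp 𝒜 n) ∘ₗ (((J).restrictScalars (𝒜 0)).subtype ∘ₗ s0) ∘ₗ eL n
  have hsum : ∀ p, s p = ∑ n ∈ T, comp 𝒜 n (s0 (e n p)).1 := fun p => by
    simp only [s, LinearMap.sum_apply, LinearMap.comp_apply]; rfl
  have hs : ∀ p, s p ∈ J := fun p => by
    rw [hsum]; exact Ideal.sum_mem _ fun n _ => comp_mem_ker 𝒜 hsharp n (s0 _).2
  have hee : ∀ n m p, e m (e n p) = if n = m then e n p else 0 := fun n m p => by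
    show e m ((J).toCotangent _) = _
    rw [he]
    split_ifs with h
    · subst h; exact congrArg _ (Subtype.ext (comp_of_mem 𝒜 (comp_mem 𝒜 n _)))
    · rw [← map_zero (J).toCotangent]
      exact congrArg _ (Subtype.ext (comp_of_mem_ne 𝒜 (comp_mem 𝒜 n _) h))
  -- the class of a homogeneous lift
  have hclass : ∀ n p, (J).toCotangent ⟨_, comp_mem_ker 𝒜 hsharp n (s0 (e n p)).2⟩ = e n p := fun n p => by
    rw [← he, hs0', hee, if_pos rfl]
  have hid : ∀ p, ∑ n ∈ T, e n p = p := fun p => by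
    obtain ⟨f, rfl⟩ := hcomb p
    simp only [he]
    rw [← map_sum]
    refine congrArg _ (Subtype.ext ?_)
    rw [AddSubmonoidClass.coe_finset_sum]
    show ∑ n ∈ T, comp 𝒜 n (Fintype.linearCombination (𝒜 0) _ f) = _
    simp only [Fintype.linearCombination_apply, map_sum, LinearMap.map_smul]
    rw [Finset.sum_comm]
    refine Finset.sum_congr rfl fun x _ => ?_
    rw [← Finset.smul_sum]; congr 1
    rw [Finset.sum_eq_single_of_mem (deg x) (Finset.mem_image_of_mem _ (Finset.mem_univ x))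
      fun n _ hn => comp_of_mem_ne 𝒜 (hdeg x).2 hn.symm]
    exact comp_of_mem 𝒜 (hdeg x).2
  have hsp : ∀ p, (J).toCotangent ⟨s p, hs p⟩ = p := fun p => by
    conv_rhs => rw [← hid p]
    rw [← Finset.sum_congr rfl fun n _ => hclass n p, ← map_sum]
    refine congrArg _ (Subtype.ext ?_)
    rw [AddSubmonoidClass.coe_finset_sum]
    exact hsum p
  let φ := SymmetricAlgebra.lift s
  have hsB : ∀ p, s p ∈ φ.range := fun p => ⟨SymmetricAlgebra.ι _ _ p, SymmetricAlgebra.lift_ι_apply _ p⟩
  have hB : ∀ n, ∀ y ∈ 𝒜 n, y ∈ φ.range := fun n => by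
    induction n using (wellFounded_prec hsharp).induction with
    | h n ih =>
      intro y hy
      by_cases hn : n = 0
      · subst hn; exact φ.range.algebraMap_mem ⟨y, hy⟩
      let z : J := ⟨y, mem_ker_of_mem 𝒜 hsharp hn hy⟩
      have h2 : comp 𝒜 n (y - s ((J).toCotangent z)) ∈ φ.range := by
        have hd : y - s ((J).toCotangent z) ∈ J ^ 2 := ((J).toCotangent_eq (x := z) (y := ⟨_, hs _⟩)).1 (hsp _).symm
        rw [pow_two] at hd
        refine Submodule.mul_induction_on hd (fun a ha b hb => ?_) fun a b ha hb => by rw [map_add]; exact add_mem ha hb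
        refine bilinear_induction 𝒜 hsharp (fun a b => comp 𝒜 n (a * b) ∈ φ.range) (fun b => by simp) (fun a => by simp)
          (fun a a' b h h' => by rw [add_mul, map_add]; exact add_mem h h')
          (fun a b b' h h' => by rw [mul_add, map_add]; exact add_mem h h') (fun i j a b hi hj ha hb => ?_) ha hb
        by_cases hij : i + j = n
        · subst hij
          rw [comp_of_mem 𝒜 (SetLike.mul_mem_graded ha hb)]
          exact mul_mem (ih i ⟨j, hj, rfl⟩ a ha) (ih j ⟨i, hi, add_comm i j⟩ b hb)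
        · rw [comp_of_mem_ne 𝒜 (SetLike.mul_mem_graded ha hb) hij]; exact zero_mem _
      have h3 : comp 𝒜 n (s ((J).toCotangent z)) ∈ φ.range := by
        by_cases hnT : n ∈ T
        · have : comp 𝒜 n (s ((J).toCotangent z)) = s (e n ((J).toCotangent z)) := by
            rw [hsum, hsum, map_sum]
            refine Finset.sum_congr rfl fun m _ => ?_
            rw [hee]
            split_ifs with h
            · subst h; exact comp_of_mem 𝒜 (comp_mem 𝒜 _ _)
            · rw [map_zero, Submodule.coe_zero, map_zero]; exact comp_of_mem_ne 𝒜 (comp_mem 𝒜 _ _) (Ne.symm h)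
          exact this ▸ hsB _
        · rw [hsum, map_sum]
          exact sum_mem fun m hm => by
            rw [comp_of_mem_ne 𝒜 (comp_mem 𝒜 _ _) (fun h : m = n => hnT (h ▸ hm))]; exact zero_mem _
      have h4 := add_mem h2 h3
      rwa [← map_add, sub_add_cancel, comp_of_mem 𝒜 hy] at h4
  have hsurj : Function.Surjective φ := fun y => by
    show y ∈ φ.range
    induction y using Decomposition.inductionOn 𝒜 with
    | zero => exact zero_mem _
    | homogeneous m => exact hB _ _ m.2
    | add a b ha hb => exact add_mem ha hb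
  exact ⟨(AlgEquiv.ofBijective φ ⟨hinj s hs hsp, hsurj⟩).symm⟩

end Groth.Agent.RGLib.GradedVB
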