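import Groth.Agent.ChowX.Prod

/-!
# Composites of H-projective morphisms
-/

set_option autoImplicit false
set_option linter.style.haveILetI false
set_option backward.isDefEq.respectTransparency false
set_option backward.isDefEq.respectTransparency.types false

universe u

open CategoryTheory CategoryTheory.Limits AlgebraicGeometry
open CohB1 (ProjSpaceOver)

namespace Groth.Agent.RGLib.HProjComp

theorem isHProjective_comp {X Y Z : Scheme.{u}} (f : X ⟶ Y) (g : Y ⟶ Z)
    (hf : RelProj.IsHProjective f) (hg : RelProj.IsHProjective g) : RelProj.IsHProjective (f ≫ g) := by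
  obtain ⟨n, a, ha, haf⟩ := hf
  obtain ⟨m, i, hi, hig⟩ := hg
  let bn := CohB1.ProjSpaceOver.toBase n Z
  let bm := CohB1.ProjSpaceOver.toBase m Z
  let F : ProjSpaceOver n Y ⟶ ProjSpaceOver n Z :=
    pullback.map _ _ _ _ (𝟙 _) g (𝟙 _) (by simp) (specULiftZIsTerminal.hom_ext _ _)
  have hF : IsPullback F (CohB1.ProjSpaceOver.toBase n Y) bn g := by
    refine IsPullback.of_right ?_ (pullback.lift_snd _ _ _) (IsPullback.of_hasPullback _ _)
    rw [show F ≫ pullback.fst _ _ = pullback.fst _ _ from (pullback.lift_fst _ _ _).trans (Category.comp_id _),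
      specULiftZIsTerminal.hom_ext (g ≫ _) (specULiftZIsTerminal.from Y)]
    exact IsPullback.of_hasPullback _ _
  let l : ProjSpaceOver n Y ⟶ pullback bn bm :=
    pullback.lift F (CohB1.ProjSpaceOver.toBase n Y ≫ i) (by rw [Category.assoc, hig, hF.w])
  have hl : IsPullback l (CohB1.ProjSpaceOver.toBase n Y) (pullback.snd bn bm) i := by
    refine IsPullback.of_right ?_ (pullback.lift_snd _ _ _) (IsPullback.of_hasPullback bn bm)
    rw [pullback.lift_fst, hig]
    exact hF
  haveI := ha
  haveI : IsClosedImmersion l := MorphismProperty.of_isPullback hl.flip hi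
  obtain ⟨φ, hφ, hφb⟩ := S1616.result Z n m
  haveI := hφ
  refine ⟨_, (a ≫ l) ≫ φ, inferInstance, ?_⟩
  rw [Category.assoc, Category.assoc, hφb, pullback.lift_fst_assoc, hF.w, reassoc_of% haf]

end Groth.Agent.RGLib.HProjComp
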