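import Groth.Agent.RelSpecX.Spec
import Mathlib.AlgebraicGeometry.Morphisms.Immersion
import Mathlib.AlgebraicGeometry.Morphisms.SchemeTheoreticallyDominant

/-!
# Schematically dominant immersions into a relative spectrum
-/

set_option autoImplicit false
set_option linter.style.haveILetI false
set_option backward.isDefEq.respectTransparency false
set_option backward.isDefEq.respectTransparency.types false

universe u

open CategoryTheory CategoryTheory.Limits AlgebraicGeometry TopologicalSpace Opposite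

namespace Groth.Agent.RGLib.ImmSpec

open Groth.Agent.RelSpecX RelSpec

theorem result {X Y : Scheme.{u}} (f : X ⟶ Y)
    [QuasiCompact f] [QuasiSeparated f] (C : RelSpec.QCAlg Y) (g : X ⟶ C.spec) (w : g ≫ C.π = f)
    [IsImmersion g] (φ : C ⟶ RelSpec.QCAlg.directImage f)
    (hφ : C.gammaMap ≫ φ.hom = AffAlg.algHom C.π f g w) :
    (g.ker = ⊥ ↔ ∀ U : Y.Opens, Function.Injective (φ.hom.app (Opposite.op U)).hom) ∧
      (g.ker = ⊥ → IsOpenImmersion g) := by
  haveI : QuasiCompact (g ≫ C.π) := w.symm ▸ inferInstance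
  haveI : QuasiCompact g := QuasiCompact.of_comp g C.π
  have key : ∀ U : Y.Opens, (C.gammaMap.app (op U) ≫ φ.hom.app (op U)) =
      g.appLE (C.π ⁻¹ᵁ U) (f ⁻¹ᵁ U) (preimage_eq C.π f g w U).le := fun U => by
    rw [← algHom_app C.π f g w U, ← hφ]
    rfl
  refine ⟨⟨fun h U => ?_, fun h => ?_⟩, fun h => ?_⟩
  · haveI : IsSchemeTheoreticallyDominant g := ⟨h⟩
    haveI : IsIso (C.gammaMap.app (op U)) := inferInstanceAs (IsIso ((NatIso.ofComponents
      (fun V => (asIso C.gammaMap).app V) fun _ => (asIso C.gammaMap).hom.naturality _).hom.app (op U)))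
    have hinj : Function.Injective (g.appLE (C.π ⁻¹ᵁ U) (f ⁻¹ᵁ U) (preimage_eq C.π f g w U).le).hom := by
      rw [Scheme.Hom.appLE]
      haveI : IsIso (homOfLE (preimage_eq C.π f g w U).le).op :=
        ⟨(homOfLE (preimage_eq C.π f g w U).ge).op, rfl, rfl⟩
      exact (ConcreteCategory.bijective_of_isIso (X.presheaf.map (homOfLE (preimage_eq C.π f g w U).le).op)).1.comp
        (g.app_injective _)
    rw [← key U] at hinj
    intro a b hab
    obtain ⟨a, rfl⟩ := (ConcreteCategory.bijective_of_isIso (C.gammaMap.app (op U))).2 a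
    obtain ⟨b, rfl⟩ := (ConcreteCategory.bijective_of_isIso (C.gammaMap.app (op U))).2 b
    exact congrArg _ (hinj hab)
  · refine Scheme.IdealSheafData.ext_of_iSup_eq_top (fun U : Y.affineOpens => ⟨C.π ⁻¹ᵁ U.1, U.2.preimage C.π⟩)
      (IsOpenCover.comap (iSup_affineOpens_eq_top Y) C.π.base.1) fun U => ?_
    rw [Scheme.Hom.ker_apply, Scheme.IdealSheafData.ideal_bot, Pi.bot_apply, ← RingHom.injective_iff_ker_eq_bot]
    have hinj : Function.Injective (g.appLE (C.π ⁻¹ᵁ U.1) (f ⁻¹ᵁ U.1) (preimage_eq C.π f g w U.1).le).hom := by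
      rw [← key U.1]
      haveI : IsIso (C.gammaMap.app (op U.1)) := by
        rw [C.gammaMap_app U.1 U.2]
        exact isIso_gammaAff C U.1 U.2
      exact (h U.1).comp (ConcreteCategory.bijective_of_isIso (C.gammaMap.app (op U.1))).1
    rw [Scheme.Hom.appLE] at hinj
    exact Function.Injective.of_comp hinj
  · haveI : IsClosedImmersion g.imageι := inferInstance
    haveI : IsIso g.imageι := by
      rw [IsClosedImmersion.isIso_iff_ker_eq_bot, show g.imageι.ker = g.ker from Scheme.IdealSheafData.ker_subschemeι _, h]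
    rw [← g.toImage_imageι]
    infer_instance

end Groth.Agent.RGLib.ImmSpec
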