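import Groth.Agent.RGLib.LocalModel
import Groth.Agent.RGLib.Fibre
import Groth.Agent.RGLib.Descent

/-! Universal injectivity for a cokernel over the local ring of a point of affine space. -/

universe u

noncomputable section

open TensorProduct IsLocalRing MvPolynomial

set_option linter.style.haveILetI false
set_option maxHeartbeats 1600000

namespace Groth.Agent.RGLib

/-- The universal injectivity modulo the maximal ideal transferred to the closed fibre map. -/
theorem lTensor_mod_injective {A₀ A' κ Y M' S' B Nb Mb : Type u} [CommRing A₀] [CommRing A'] [IsLocalRing A']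
    [Algebra A₀ A'] [CommRing κ] [Algebra A₀ κ] (ε : A' →+* κ) (hε : Function.Surjective ε)
    (hεA : ∀ r, ε (algebraMap A₀ A' r) = algebraMap A₀ κ r) (hker : RingHom.ker ε = maximalIdeal A')
    [AddCommGroup Y] [Module A₀ Y] [AddCommGroup M'] [Module A' M']
    [CommRing S'] [CommRing B] (θ : S' →+* B) [Algebra A' S'] [Module S' M'] [IsScalarTower A' S' M']
    [AddCommGroup Nb] [Module B Nb] [AddCommGroup Mb] [Module B Mb]
    (UM : A' ⊗[A₀] Y →ₗ[A'] M') (rM : M' →+ Mb) (hrM : ∀ (c : S') x, rM (c • x) = θ c • rM x)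
    (hθ : ∀ r, ε r = 0 → θ (algebraMap A' S' r) = 0)
    (ub : Nb →+ Mb) (hub : Function.Injective ub) (Φ : κ ⊗[A₀] Y →+ Nb) (hΦ : Function.Injective Φ)
    (hcomm : ∀ (c : A') y, rM (UM (c ⊗ₜ y)) = ub (Φ (ε c ⊗ₜ y))) :
    Function.Injective (UM.lTensor (A' ⧸ maximalIdeal A')) := by
  rw [injective_iff_map_eq_zero]
  intro z hz
  obtain ⟨x, rfl⟩ := TensorProduct.mk_surjective A' _ (A' ⧸ maximalIdeal A') Ideal.Quotient.mk_surjective z
  rw [TensorProduct.mk_apply, LinearMap.lTensor_tmul] at hz
  have h1 := congrArg (TensorProduct.quotTensorEquivQuotSMul M' (maximalIdeal A')) hz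
  rw [map_zero, show (1 : A' ⧸ maximalIdeal A') = Ideal.Quotient.mk _ 1 from rfl,
    TensorProduct.quotTensorEquivQuotSMul_mk_tmul, one_smul, Submodule.Quotient.mk_eq_zero] at h1
  have h2 : rM (UM x) = 0 := by
    refine Submodule.smul_induction_on h1 (fun r hr v _ => ?_) (fun x y hx hy => by rw [map_add, hx, hy, add_zero])
    rw [← IsScalarTower.algebraMap_smul S' r v, hrM, hθ r (hker.symm ▸ hr : r ∈ RingHom.ker ε), zero_smul]
  let εL : A' →ₗ[A₀] κ :=
    { toFun := ε
      map_add' := map_add ε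
      map_smul' := fun r x => by
        rw [RingHom.id_apply, Algebra.smul_def, map_mul, Algebra.smul_def, hεA] }
  have h3 : εL.rTensor Y x = 0 := by
    apply hΦ
    rw [map_zero]
    apply hub
    rw [map_zero]
    have hUx : ∀ x, ub (Φ (εL.rTensor Y x)) = rM (UM x) := fun x => by
      induction x using TensorProduct.induction_on with
      | zero => simp only [map_zero]
      | add x y hx hy => simp only [map_add, hx, hy]
      | tmul c y => exact (hcomm c y).symm
    rw [hUx]
    exact h2
  obtain ⟨x', rfl⟩ := (rTensor_exact Y (LinearMap.exact_subtype_ker_map εL) hε x).1 h3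
  clear hz h1 h2 h3
  induction x' using TensorProduct.induction_on with
  | zero => simp
  | add x y hx hy => simp only [map_add, TensorProduct.mk_apply, tmul_add] at *; rw [hx, hy, add_zero]
  | tmul r y =>
    rw [TensorProduct.mk_apply, LinearMap.rTensor_tmul, Submodule.subtype_apply,
      show (r : A') ⊗ₜ[A₀] y = (r : A') • ((1 : A') ⊗ₜ[A₀] y) by rw [TensorProduct.smul_tmul', smul_eq_mul, mul_one],
      TensorProduct.tmul_smul, TensorProduct.smul_tmul', Algebra.smul_def, mul_one, Ideal.Quotient.algebraMap_eq,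
      Ideal.Quotient.eq_zero_iff_mem.2 (show (r : A') ∈ maximalIdeal A' from hker ▸ r.2), TensorProduct.zero_tmul]

/-- Elements of a localised polynomial model have denominators in the image of the polynomial ring. -/
theorem exists_denominator {A A' S S' P : Type u} [CommRing A] [CommRing A'] [CommRing S] [CommRing S'] [CommRing P]
    [Algebra A' S'] [Algebra S S'] [Algebra P S] (T : Submonoid P) [IsLocalization T S]
    (Dr : Subalgebra A' S') (hDr : ∀ p : P, algebraMap S S' (algebraMap P S p) ∈ Dr)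
    (hgen : ∀ x : S', ∃ d ∈ Algebra.adjoin A' (Set.range (algebraMap S S')), IsUnit d ∧
        x * d ∈ Algebra.adjoin A' (Set.range (algebraMap S S'))) (x : S') :
    ∃ d ∈ Dr, IsUnit d ∧ x * d ∈ Dr := by
  let W : Subalgebra A' S' :=
    { carrier := {x | ∃ d ∈ Dr, IsUnit d ∧ x * d ∈ Dr}
      mul_mem' := by
        rintro x y ⟨b, hb, hbu, hab⟩ ⟨d, hd, hdu, hcd⟩
        exact ⟨b * d, mul_mem hb hd, hbu.mul hdu, by rw [mul_mul_mul_comm]; exact mul_mem hab hcd⟩
      add_mem' := by
        rintro x y ⟨b, hb, hbu, hab⟩ ⟨d, hd, hdu, hcd⟩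
        exact ⟨b * d, mul_mem hb hd, hbu.mul hdu,
          by rw [show (x + y) * (b * d) = x * b * d + y * d * b by ring]; exact add_mem (mul_mem hab hd) (mul_mem hcd hb)⟩
      algebraMap_mem' := fun r => ⟨1, one_mem _, isUnit_one, by rw [mul_one]; exact Subalgebra.algebraMap_mem _ r⟩ }
  have hW : Algebra.adjoin A' (Set.range (algebraMap S S')) ≤ W := by
    rw [Algebra.adjoin_le_iff]
    rintro _ ⟨s, rfl⟩
    obtain ⟨⟨c, t⟩, hct⟩ := IsLocalization.surj T s
    exact ⟨_, hDr t, (IsLocalization.map_units S t).map _, by rw [← map_mul, hct]; exact hDr c⟩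
  obtain ⟨d, hd, hdu, hxd⟩ := hgen x
  obtain ⟨b, hb, hbu, hdb⟩ := hW hd
  obtain ⟨b', hb', hbu', hxb⟩ := hW hxd
  refine ⟨d * b * b', mul_mem hdb hb', (hdu.mul hbu).mul hbu', ?_⟩
  rw [show x * (d * b * b') = x * d * b' * b by ring]
  exact mul_mem hxb hb

/-- Compatibility of two evaluations of a polynomial with coefficients in a model. -/
theorem model_compat {A₁ A A₀ S' R₀ : Type u} [CommRing A₁] [CommRing A] [CommRing A₀] [CommRing S']
    [CommRing R₀] {n : ℕ} (i₁ : A₁ →+* A) (j₁ : A₁ →+* A₀) (φ₀ : MvPolynomial (Fin n) A₀ →+* S')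
    (ι : MvPolynomial (Fin n) A₀ →+* R₀) (φR : R₀ →+* S') (hφR : ∀ x, φR (ι x) = φ₀ x)
    (τ : MvPolynomial (Fin n) A →+* S') (hC : ∀ x, φ₀ (C (j₁ x)) = τ (C (i₁ x)))
    (hX : ∀ k, φ₀ (X k) = τ (X k)) (f : MvPolynomial (Fin n) A₁) :
    φR (ι (MvPolynomial.map j₁ f)) = τ (MvPolynomial.map i₁ f) := by
  rw [hφR]
  induction f using MvPolynomial.induction_on with
  | C x => rw [MvPolynomial.map_C, MvPolynomial.map_C, hC]
  | add p p' hp hp' => simp only [map_add, hp, hp']
  | mul_X p k hp => simp only [map_mul, MvPolynomial.map_X, hp, hX]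

theorem univInj_affine_aux {A : Type u} [CommRing A] [IsLocalRing A] {n a b : ℕ}
    (q : Ideal (MvPolynomial (Fin n) A)) [q.IsPrime]
    (G : Fin b → Fin a → MvPolynomial (Fin n) A)
    {N M : Type u} [AddCommGroup N] [Module (Localization.AtPrime q) N] [Module A N]
    [IsScalarTower A (Localization.AtPrime q) N]
    [AddCommGroup M] [Module (Localization.AtPrime q) M] [Module A M] [IsScalarTower A (Localization.AtPrime q) M]
    [Module.Flat A M] (e : Fin a → N) (he : Submodule.span (Localization.AtPrime q) (Set.range e) = ⊤)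
    (hrel : ∀ j, ∑ i, algebraMap _ (Localization.AtPrime q) (G j i) • e i = 0)
    (hker : ∀ v : Fin a → Localization.AtPrime q, ∑ i, v i • e i = 0 →
      v ∈ Submodule.span (Localization.AtPrime q) (Set.range fun j => mapTuple (algebraMap _ (Localization.AtPrime q)) (G j)))
    (u : N →ₗ[Localization.AtPrime q] M)
    {B : Type u} [CommRing B] [IsLocalRing B] [Algebra A B] (σ : Localization.AtPrime q →ₐ[A] B)
    [IsLocalHom σ.toRingHom] (hσs : Function.Surjective σ) (hσm : ∀ x ∈ maximalIdeal A, algebraMap A B x = 0)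
    {Nb Mb : Type u} [AddCommGroup Nb] [Module B Nb] [AddCommGroup Mb] [Module B Mb]
    (qN : N →+ Nb) (hqN : ∀ (s : Localization.AtPrime q) x, qN (s • x) = σ s • qN x)
    (hqNker : ∀ x, qN x = 0 → x ∈ ((maximalIdeal A).map (algebraMap A (Localization.AtPrime q)) • ⊤ :
      Submodule (Localization.AtPrime q) N))
    (qM : M →+ Mb) (hqM : ∀ (s : Localization.AtPrime q) x, qM (s • x) = σ s • qM x)
    (ub : Nb →+ Mb) (hub : Function.Injective ub) (hubq : ∀ x, qM (u x) = ub (qN x))
    (hubl : ∀ (c : B) x, ub (c • x) = c • ub x)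
    (Q : Type u) [AddCommGroup Q] [Module A Q] : Function.Injective ((u.restrictScalars A).rTensor Q) := by
  classical
  let P := MvPolynomial (Fin n) A
  let S := Localization.AtPrime q
  let m := maximalIdeal A
  -- a uniform killer of the torsion of the closed fibre
  let mP : Ideal P := m.map MvPolynomial.C
  let L : Submodule P (Fin a → P) := Submodule.span P (Set.range G) ⊔ mP • ⊤
  obtain ⟨g, hgq, hg⟩ := exists_uniform_killer m q L le_sup_right
  -- a finitely generated model
  let coef : Finset A := (Finset.univ.biUnion fun j : Fin b => Finset.univ.biUnion fun i : Fin a =>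
    (G j i).support.image fun d => (G j i).coeff d) ∪ g.support.image fun d => g.coeff d
  let A₁ : Subalgebra ℤ A := Algebra.adjoin ℤ (coef : Set A)
  haveI : Algebra.FiniteType ℤ A₁ := (Subalgebra.fg_iff_finiteType A₁).1 (Subalgebra.fg_adjoin_finset coef)
  haveI : IsNoetherianRing A₁ := Algebra.FiniteType.isNoetherianRing ℤ A₁
  let p₁ : Ideal A₁ := m.comap (algebraMap A₁ A)
  haveI : p₁.IsPrime := Ideal.IsPrime.comap _
  let A₀₀ := Localization.AtPrime p₁
  haveI : IsNoetherianRing A₀₀ := IsLocalization.isNoetherianRing p₁.primeCompl _ inferInstance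
  letI : Algebra A₀₀ A := (IsLocalization.lift (M := p₁.primeCompl) (g := algebraMap A₁ A) fun s =>
    IsLocalRing.notMem_maximalIdeal.1 s.2).toAlgebra
  have hA₁ : ∀ x : A₁, algebraMap A₀₀ A (algebraMap A₁ A₀₀ x) = x := fun x => IsLocalization.lift_eq _ x
  haveI : IsLocalHom (algebraMap A₀₀ A) := by
    refine ⟨fun x hx => ?_⟩
    obtain ⟨⟨r, s⟩, rfl⟩ := IsLocalization.mk'_surjective p₁.primeCompl x
    rw [IsLocalization.AtPrime.isUnit_mk'_iff A₀₀ p₁]
    intro hr
    have := hx.mul ((IsLocalization.map_units A₀₀ s).map (algebraMap A₀₀ A))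
    rw [← map_mul, IsLocalization.mk'_spec, hA₁] at this
    exact (mem_maximalIdeal _).1 hr this
  obtain ⟨A₀, A', _, _, _, _, _, _, _, _, _, _, ψ, ε, hψ, hεA, hεker⟩ := exists_completion_model A A₀₀
  let kB : ResidueField A →+* B := Ideal.Quotient.lift m (algebraMap A B) hσm
  have hkB : ∀ x : A, kB (residue A x) = algebraMap A B x := fun x => Ideal.Quotient.lift_mk _ _ _
  let εA : A' →ₐ[A] B :=
    { toRingHom := kB.comp ε
      commutes' := fun x => by
        show kB (ε (algebraMap A A' x)) = _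
        rw [hεA, hkB] }
  obtain ⟨S', _, _, _, _, _, _, _, _, θ, hθl, hθA, hθS, hflat, hgen⟩ := exists_local_model εA σ
  haveI := hθl
  have hθA' : ∀ x : A', θ (algebraMap A' S' x) = kB (ε x) := hθA
  -- polynomial rings mapping to `S'`
  let xk : Fin n → S' := fun k => algebraMap S S' (algebraMap P S (X k))
  let φ₀ : MvPolynomial (Fin n) A₀ →+* S' :=
    MvPolynomial.eval₂Hom ((algebraMap A' S').comp (algebraMap A₀ A')) xk
  let φ' : MvPolynomial (Fin n) A' →ₐ[A'] S' := MvPolynomial.aeval xk
  let q₀ : Ideal (MvPolynomial (Fin n) A₀) := (maximalIdeal S').comap φ₀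
  haveI : q₀.IsPrime := Ideal.IsPrime.comap _
  let R₀ := Localization.AtPrime q₀
  haveI : IsNoetherianRing R₀ := IsLocalization.isNoetherianRing q₀.primeCompl _ inferInstance
  let φR : R₀ →+* S' := IsLocalization.lift (M := q₀.primeCompl) (g := φ₀) fun s => IsLocalRing.notMem_maximalIdeal.1 s.2
  have hφR : ∀ x, φR (algebraMap _ R₀ x) = φ₀ x := fun x => IsLocalization.lift_eq _ x
  have hφRA : ∀ r : A₀, φR (algebraMap A₀ R₀ r) = algebraMap A' S' (algebraMap A₀ A' r) := fun r => by
    rw [IsScalarTower.algebraMap_apply A₀ (MvPolynomial (Fin n) A₀) R₀, hφR, MvPolynomial.algebraMap_eq,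
      MvPolynomial.eval₂Hom_C]
    rfl
  haveI : IsLocalHom (algebraMap A₀ R₀) := by
    refine ⟨fun x hx => ?_⟩
    have h1 := (hx.map φR).map θ
    rw [hφRA, hθA'] at h1
    by_contra hnu
    have h2 : ε (algebraMap A₀ A' x) = 0 := by
      rw [← RingHom.mem_ker, hεker]
      exact map_nonunit (algebraMap A₀ A') x hnu
    rw [h2, map_zero] at h1
    exact h1.ne_zero rfl
  -- the model of the relations
  let mapA : MvPolynomial (Fin n) A₁ →+* P := MvPolynomial.map (algebraMap A₁ A)
  have hmem : ∀ (f : P), (∀ d, f.coeff d ∈ coef ∨ f.coeff d = 0) → ∃ f₁, mapA f₁ = f := fun f hf => by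
    refine (?_ : f ∈ Set.range (MvPolynomial.map (algebraMap A₁ A)))
    rw [MvPolynomial.mem_range_map_iff_coeffs_subset]
    intro c hc
    obtain ⟨d, hd, rfl⟩ := MvPolynomial.mem_coeffs_iff.1 hc
    rcases hf d with h | h
    · exact ⟨⟨_, Algebra.subset_adjoin h⟩, rfl⟩
    · exact ⟨0, h.symm⟩
  have hG₁ : ∀ j i, ∃ f₁ : MvPolynomial (Fin n) A₁, mapA f₁ = G j i := fun j i =>
    hmem _ fun d => (em ((G j i).coeff d = 0)).symm.imp_left fun h => Finset.mem_union_left _ (Finset.mem_biUnion.2
      ⟨j, Finset.mem_univ _, Finset.mem_biUnion.2 ⟨i, Finset.mem_univ _, Finset.mem_image.2 ⟨d, mem_support_iff.2 h, rfl⟩⟩⟩)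
  choose G₁ hG₁ using hG₁
  obtain ⟨g₁, hg₁⟩ := hmem g fun d => (em (g.coeff d = 0)).symm.imp_left fun h =>
    Finset.mem_union_right _ (Finset.mem_image.2 ⟨d, mem_support_iff.2 h, rfl⟩)
  let j₁ : A₁ →+* A₀ := ψ.comp (algebraMap A₁ A₀₀)
  have hj₁ : ∀ x : A₁, algebraMap A₀ A' (j₁ x) = algebraMap A A' x := fun x =>
    (hψ _).trans (congrArg _ (hA₁ x))
  let to₀ : MvPolynomial (Fin n) A₁ →+* R₀ := (algebraMap _ R₀).comp (MvPolynomial.map j₁)
  have hC₀ : ∀ x, φ₀ (C (j₁ x)) = ((algebraMap S S').comp (algebraMap P S)) (C (algebraMap A₁ A x)) := by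
    intro x
    rw [MvPolynomial.eval₂Hom_C]
    show algebraMap A' S' (algebraMap A₀ A' (j₁ x)) = algebraMap S S' (algebraMap P S (algebraMap A P (x : A)))
    rw [hj₁]
    exact ((IsScalarTower.algebraMap_apply A A' S' (x : A)).symm.trans (IsScalarTower.algebraMap_apply A S S' (x : A))).trans
      (congrArg (algebraMap S S') (IsScalarTower.algebraMap_apply A P S (x : A)))
  have hX₀ : ∀ k, φ₀ (X k) = ((algebraMap S S').comp (algebraMap P S)) (X k) := fun k =>
    MvPolynomial.eval₂Hom_X' _ _ k
  have hto₀ : ∀ f, φR (to₀ f) = algebraMap S S' (algebraMap P S (mapA f)) := fun f =>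
    model_compat (algebraMap A₁ A) j₁ φ₀ (algebraMap _ R₀) φR hφR ((algebraMap S S').comp (algebraMap P S)) hC₀ hX₀ f
  let G₀ : Fin b → Fin a → R₀ := fun j i => to₀ (G₁ j i)
  let Y := (Fin a → R₀) ⧸ Submodule.span R₀ (Set.range G₀)
  -- modules over `S'`
  let N' := S' ⊗[S] N
  let M' := S' ⊗[S] M
  let u' : N' →ₗ[S'] M' := u.baseChange S'
  letI : Module R₀ N' := Module.compHom N' φR
  have hrel' : ∀ j, ∑ i, G₀ j i • ((1 : S') ⊗ₜ[S] e i : N') = 0 := fun j => by
    show ∑ i, φR (to₀ (G₁ j i)) • ((1 : S') ⊗ₜ[S] e i : N') = 0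
    simp only [hto₀, hG₁, algebraMap_smul, ← TensorProduct.tmul_smul, ← TensorProduct.tmul_sum]
    rw [hrel j, TensorProduct.tmul_zero]
  let vN : Y →ₗ[R₀] N' := cokerDesc G₀ (fun i => (1 : S') ⊗ₜ[S] e i) hrel'
  letI : Module A₀ N' := Module.compHom N' (algebraMap A₀ A')
  haveI : IsScalarTower A₀ A' N' := IsScalarTower.of_algebraMap_smul fun _ _ => rfl
  have hsc : ∀ (r : A₀) (x : N'), algebraMap A₀ R₀ r • x = r • x := fun r x => by
    show φR (algebraMap A₀ R₀ r) • x = algebraMap A₀ A' r • x
    rw [hφRA]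
    exact IsScalarTower.algebraMap_smul S' (algebraMap A₀ A' r) x
  let vN₀ : Y →ₗ[A₀] N' :=
    { toFun := vN
      map_add' := map_add vN
      map_smul' := fun r y => by
        rw [RingHom.id_apply, ← algebraMap_smul R₀ r y, map_smul, hsc] }
  let UN : A' ⊗[A₀] Y →ₗ[A'] N' := LinearMap.liftBaseChange A' vN₀
  let UM : A' ⊗[A₀] Y →ₗ[A'] M' := (u'.restrictScalars A').comp UN
  haveI : Module.Flat A' M' := hflat M
  -- the closed fibre
  letI : Algebra A₀ (ResidueField A) := (ε.comp (algebraMap A₀ A')).toAlgebra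
  letI : Algebra A₀ B := (kB.comp (ε.comp (algebraMap A₀ A'))).toAlgebra
  let kA : ResidueField A →ₐ[A₀] B := { toRingHom := kB, commutes' := fun _ => rfl }
  let rA : R₀ →ₐ[A₀] B :=
    { toRingHom := θ.comp φR
      commutes' := fun r => by
        show θ (φR (algebraMap A₀ R₀ r)) = kB (ε (algebraMap A₀ A' r))
        rw [hφRA, hθA'] }
  let ρ : ResidueField A ⊗[A₀] R₀ →ₐ[A₀] B := Algebra.TensorProduct.lift kA rA fun _ _ => Commute.all _ _
  letI : Module S Nb := Module.compHom Nb σ.toRingHom
  letI : Module S Mb := Module.compHom Mb σ.toRingHom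
  letI : Module S' Nb := Module.compHom Nb θ
  haveI : IsScalarTower S S' Nb := IsScalarTower.of_algebraMap_smul fun s x => by
    show θ (algebraMap S S' s) • x = σ s • x
    rw [hθS]
  letI : Module S' Mb := Module.compHom Mb θ
  haveI : IsScalarTower S S' Mb := IsScalarTower.of_algebraMap_smul fun s x => by
    show θ (algebraMap S S' s) • x = σ s • x
    rw [hθS]
  let rN : N' →ₗ[S'] Nb := LinearMap.liftBaseChange S'
    ({ toFun := qN, map_add' := qN.map_add, map_smul' := hqN } : N →ₗ[S] Nb)
  let rM : M' →ₗ[S'] Mb := LinearMap.liftBaseChange S'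
    ({ toFun := qM, map_add' := qM.map_add, map_smul' := hqM } : M →ₗ[S] Mb)
  have hru : ∀ x : N', rM (u' x) = ub (rN x) := fun x => by
    induction x using TensorProduct.induction_on with
    | zero => simp only [map_zero]
    | add x y hx hy => simp only [map_add, hx, hy]
    | tmul c y =>
      show θ c • qM (u y) = ub (θ c • qN y)
      rw [hubl, hubq]
  -- the fibre map on `Y`
  let Φ : ResidueField A ⊗[A₀] Y →+ Nb := TensorProduct.liftAddHom
    { toFun := fun c =>
        { toFun := fun y => kB c • rN (vN y)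
          map_zero' := by rw [map_zero, map_zero, smul_zero]
          map_add' := fun x y => by rw [map_add, map_add, smul_add] }
      map_zero' := by ext y; show kB 0 • rN (vN y) = 0; rw [map_zero, zero_smul]
      map_add' := fun c d => by ext y; show kB (c + d) • rN (vN y) = kB c • rN (vN y) + kB d • rN (vN y); rw [map_add, add_smul] }
    fun r c y => by
      show kB (r • c) • rN (vN y) = kB c • rN (vN₀ (r • y))
      rw [map_smul vN₀]
      show _ = kB c • rN (algebraMap A₀ A' r • vN₀ y)
      rw [← IsScalarTower.algebraMap_smul S' (algebraMap A₀ A' r) (vN₀ y), map_smul rN]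
      refine Eq.trans ?_ (congrArg (kB c • ·) (rfl : θ (algebraMap A' S' (algebraMap A₀ A' r)) • rN (vN₀ y) = _))
      rw [hθA', smul_smul, Algebra.smul_def, map_mul, mul_comm]
      rfl
  let eb : Fin a → Nb := fun i => qN (e i)
  let resP : P →+* MvPolynomial (Fin n) (ResidueField A) := MvPolynomial.map (residue A)
  let πκ : MvPolynomial (Fin n) (ResidueField A) →+* ResidueField A ⊗[A₀] R₀ :=
    MvPolynomial.eval₂Hom (Algebra.TensorProduct.includeLeftRingHom) fun k =>
      (1 : ResidueField A) ⊗ₜ algebraMap (MvPolynomial (Fin n) A₀) R₀ (X k)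
  have hρπ : ∀ p, ρ (πκ (resP p)) = σ (algebraMap P S p) := by
    refine RingHom.congr_fun (f := (ρ.toRingHom.comp πκ).comp resP)
      (g := σ.toRingHom.comp (algebraMap P S)) (MvPolynomial.ringHom_ext (fun x => ?_) fun k => ?_)
    · show ρ (πκ (resP (C x))) = σ (algebraMap P S (algebraMap A P x))
      rw [show resP (C x) = C (residue A x) from MvPolynomial.map_C (residue A) x, MvPolynomial.eval₂Hom_C,
        ← IsScalarTower.algebraMap_apply A P S, σ.commutes]
      show ρ (residue A x ⊗ₜ 1) = _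
      rw [Algebra.TensorProduct.lift_tmul, map_one, mul_one]
      exact hkB x
    · show ρ (πκ (resP (X k))) = σ (algebraMap P S (X k))
      rw [show resP (X k) = X k from MvPolynomial.map_X (residue A) k, MvPolynomial.eval₂Hom_X',
        Algebra.TensorProduct.lift_tmul, map_one, one_mul]
      show θ (φR _) = _
      rw [hφR, MvPolynomial.eval₂Hom_X']
      exact hθS _
  let jκ : MvPolynomial (Fin n) A₀ →+* MvPolynomial (Fin n) (ResidueField A) :=
    MvPolynomial.map (algebraMap A₀ (ResidueField A))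
  have hjκ : ∀ c, πκ (jκ c) = (1 : ResidueField A) ⊗ₜ algebraMap (MvPolynomial (Fin n) A₀) R₀ c := by
    refine RingHom.congr_fun (f := πκ.comp jκ)
      (g := (Algebra.TensorProduct.includeRight : R₀ →ₐ[A₀] ResidueField A ⊗[A₀] R₀).toRingHom.comp (algebraMap _ R₀))
      (MvPolynomial.ringHom_ext (fun x => ?_) fun k => ?_)
    · show πκ (jκ (C x)) = (1 : ResidueField A) ⊗ₜ algebraMap _ R₀ (C x)
      rw [show jκ (C x) = C (algebraMap A₀ (ResidueField A) x) from MvPolynomial.map_C _ x, MvPolynomial.eval₂Hom_C,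
        ← MvPolynomial.algebraMap_eq, ← IsScalarTower.algebraMap_apply]
      exact Algebra.TensorProduct.tmul_one_eq_one_tmul x
    · show πκ (jκ (X k)) = (1 : ResidueField A) ⊗ₜ algebraMap _ R₀ (X k)
      rw [show jκ (X k) = X k from MvPolynomial.map_X _ k, MvPolynomial.eval₂Hom_X']
  have hres₀ : ∀ f, πκ (resP (mapA f)) = (1 : ResidueField A) ⊗ₜ to₀ f := fun f => by
    rw [show resP (mapA f) = jκ (MvPolynomial.map j₁ f) by
      refine ((MvPolynomial.map_map (algebraMap A₁ A) (residue A) f).trans ?_).trans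
        (MvPolynomial.map_map j₁ (algebraMap A₀ (ResidueField A)) f).symm
      refine congrArg (fun h : A₁ →+* ResidueField A => MvPolynomial.map h f) (RingHom.ext fun x => ?_)
      show residue A x = ε (algebraMap A₀ A' (j₁ x))
      rw [hj₁, hεA], hjκ]
    rfl
  have hΦ : Function.Injective Φ := by
    refine fibre_injective q₀.primeCompl resP
      (MvPolynomial.map_surjective (residue A) residue_surjective) πκ jκ hjκ
      (fun c => ⟨C c, MvPolynomial.eval₂Hom_C _ _ c⟩) G₀ L ?_ g ?_ ρ.toRingHom eb ?_ Φ ?_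
    · intro l hl
      obtain ⟨x, hx, y, hy, rfl⟩ := Submodule.mem_sup.1 hl
      rw [map_add]
      refine add_mem ?_ ?_
      · have h6 := mapTuple_span (πκ.comp resP) G hx
        rwa [show (fun j => mapTuple (πκ.comp resP) (G j)) = fun j => mapTuple
          (Algebra.TensorProduct.includeRight : R₀ →ₐ[A₀] ResidueField A ⊗[A₀] R₀).toRingHom (G₀ j) from
          funext fun j => funext fun i => (congrArg (fun z => πκ (resP z)) (hG₁ j i).symm).trans (hres₀ _)] at h6
      · suffices h5 : mapTuple (πκ.comp resP) y = 0 by rw [h5]; exact zero_mem _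
        refine Submodule.smul_induction_on hy (fun r hr v _ => ?_) (fun x y hx hy => by rw [map_add, hx, hy, add_zero])
        have hr0 : resP r = 0 := by
          suffices mP ≤ RingHom.ker resP from this hr
          rw [Ideal.map_le_iff_le_comap]
          intro x hx
          show resP (C x) = 0
          rw [show resP (C x) = C (residue A x) from MvPolynomial.map_C (residue A) x,
            show residue A x = 0 from Ideal.Quotient.eq_zero_iff_mem.2 hx, map_zero]
        funext i
        show πκ (resP (r * v i)) = 0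
        rw [map_mul, hr0, zero_mul, map_zero]
    · rw [← hg₁, hres₀]
      refine IsUnit.map (Algebra.TensorProduct.includeRight : R₀ →ₐ[A₀] ResidueField A ⊗[A₀] R₀) ?_
      refine (IsLocalization.AtPrime.isUnit_to_map_iff R₀ q₀ _).2 fun h => ?_
      have h5 : φ₀ (MvPolynomial.map j₁ g₁) ∈ maximalIdeal S' := h
      rw [← hφR] at h5
      change φR (to₀ g₁) ∈ _ at h5
      rw [hto₀, hg₁] at h5
      exact (mem_maximalIdeal _).1 h5
        ((IsLocalization.map_units (M := q.primeCompl) S ⟨g, hgq⟩).map (algebraMap S S'))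
    · intro p hp
      refine kill_of_mem (S := S) q m G L le_sup_left le_sup_right e he hker g hg p (hqNker _ ?_)
      rw [map_sum]
      refine Eq.trans (Finset.sum_congr rfl fun i _ => ?_) hp
      rw [hqN]
      exact congrArg (· • eb i) (hρπ (p i)).symm
    · intro c v
      show kB c • rN (vN (Submodule.Quotient.mk v)) = _
      rw [cokerDesc_mk, map_sum, Finset.smul_sum]
      refine Finset.sum_congr rfl fun i _ => ?_
      show kB c • rN (φR (v i) • (1 : S') ⊗ₜ[S] e i) = _
      rw [map_smul, LinearMap.liftBaseChange_tmul, one_smul]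
      show kB c • θ (φR (v i)) • eb i = ρ (c ⊗ₜ v i) • eb i
      rw [smul_smul, Algebra.TensorProduct.lift_tmul]
      rfl
  -- injectivity of `UM` modulo the maximal ideal
  have hεs : Function.Surjective ε := fun y => by
    obtain ⟨r, rfl⟩ := residue_surjective y
    exact ⟨algebraMap A A' r, hεA r⟩
  have hUM : Function.Injective (UM.lTensor (A' ⧸ maximalIdeal A')) := by
    refine lTensor_mod_injective (A₀ := A₀) (S' := S') ε hεs (fun _ => rfl) hεker θ UM rM.toAddMonoidHom
      (fun c x => map_smul rM c x) (fun r hr => by rw [hθA', hr, map_zero]) ub hub Φ hΦ fun c y => ?_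
    show rM (u' (UN (c ⊗ₜ y))) = ub (kB (ε c) • rN (vN y))
    rw [hru, LinearMap.liftBaseChange_tmul, ← IsScalarTower.algebraMap_smul S' c (vN₀ y), map_smul]
    refine congrArg ub ?_
    show θ (algebraMap A' S' c) • rN (vN y) = _
    rw [hθA']
  have hcore := lTensor_restrict_injective (A := A) UM (univInj_core R₀ UM hUM) Q
  let Dr : Subalgebra A' S' := φ'.range
  have hφA : ∀ p : P, algebraMap S S' (algebraMap P S p) ∈ Dr := by
    intro p
    induction p using MvPolynomial.induction_on with
    | C r =>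
      rw [show (C r : P) = algebraMap A P r from rfl, ← IsScalarTower.algebraMap_apply A P S,
        ← IsScalarTower.algebraMap_apply A S S', IsScalarTower.algebraMap_apply A A' S']
      exact Subalgebra.algebraMap_mem _ _
    | add p p' hp hp' => rw [map_add, map_add]; exact add_mem hp hp'
    | mul_X p k hp => rw [map_mul, map_mul]; exact mul_mem hp ⟨X k, MvPolynomial.aeval_X xk k⟩
  have hstable : ∀ d ∈ Dr, ∀ x ∈ LinearMap.range UN, d • x ∈ LinearMap.range UN := by
    rintro _ ⟨p, rfl⟩
    show ∀ x ∈ LinearMap.range UN, φ' p • x ∈ LinearMap.range UN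
    induction p using MvPolynomial.induction_on with
    | C r =>
      intro x hx
      rw [MvPolynomial.aeval_C, IsScalarTower.algebraMap_smul]
      exact Submodule.smul_mem _ r hx
    | add p p' hp hp' => intro x hx; rw [map_add, add_smul]; exact add_mem (hp x hx) (hp' x hx)
    | mul_X p k hp =>
      intro x hx
      rw [map_mul, mul_smul]
      refine hp _ ?_
      obtain ⟨y, rfl⟩ := hx
      induction y using TensorProduct.induction_on with
      | zero => rw [map_zero, smul_zero]; exact zero_mem _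
      | add y z hy hz => rw [map_add, smul_add]; exact add_mem hy hz
      | tmul c y =>
        refine ⟨c ⊗ₜ (algebraMap (MvPolynomial (Fin n) A₀) R₀ (X k) • y), ?_⟩
        rw [LinearMap.liftBaseChange_tmul, LinearMap.liftBaseChange_tmul, smul_comm]
        refine congrArg (c • ·) ((map_smul vN _ _).trans ?_)
        show φR _ • vN y = φ' (X k) • vN y
        rw [hφR, MvPolynomial.aeval_X, MvPolynomial.eval₂Hom_X']
  refine injective_of_model (S' := S') u UN Dr.toSubmonoid hstable (fun x => ?_) Q hcore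
  induction x using TensorProduct.induction_on with
  | zero => exact ⟨1, one_mem _, isUnit_one, by rw [smul_zero]; exact zero_mem _⟩
  | add x y hx hy =>
    obtain ⟨p, hp, hpu, hpx⟩ := hx
    obtain ⟨r, hr, hru, hry⟩ := hy
    refine ⟨p * r, mul_mem hp hr, hpu.mul hru, ?_⟩
    rw [smul_add]
    exact add_mem (by rw [mul_comm, mul_smul]; exact hstable r hr _ hpx) (by rw [mul_smul]; exact hstable p hp _ hry)
  | tmul c y =>
    obtain ⟨v, rfl⟩ := (Submodule.mem_span_range_iff_exists_fun S).1 (he ▸ trivial : y ∈ Submodule.span S (Set.range e))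
    choose d hd hdu hdx using fun i => exists_denominator (A := A) q.primeCompl Dr hφA hgen (c * algebraMap S S' (v i))
    refine ⟨∏ i, d i, prod_mem fun i _ => hd i, IsUnit.prod_univ_iff.2 hdu, ?_⟩
    rw [TensorProduct.tmul_sum, Finset.smul_sum]
    refine Submodule.sum_mem _ fun i _ => ?_
    have h1 : (∏ i, d i) • (c ⊗ₜ[S] (v i • e i)) =
        ((∏ j ∈ Finset.univ.erase i, d j) * (c * algebraMap S S' (v i) * d i)) • ((1 : S') ⊗ₜ[S] e i) := by
      rw [TensorProduct.tmul_smul, TensorProduct.smul_tmul', TensorProduct.smul_tmul', TensorProduct.smul_tmul',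
        Algebra.smul_def (v i) c, smul_eq_mul, smul_eq_mul, ← Finset.prod_erase_mul _ _ (Finset.mem_univ i)]
      congr 1
      ring
    rw [h1]
    refine hstable _ (mul_mem (prod_mem fun j _ => hd j) (hdx i)) _ ⟨1 ⊗ₜ Submodule.Quotient.mk (Pi.single i 1), ?_⟩
    rw [LinearMap.liftBaseChange_tmul, one_smul]
    show vN _ = _
    rw [cokerDesc_mk, Finset.sum_eq_single i (fun j _ hj => by rw [Pi.single_eq_of_ne hj, zero_smul]) (by simp),
      Pi.single_eq_same, one_smul]

theorem univInj_affine {A : Type u} [CommRing A] [IsLocalRing A] {n a b : ℕ}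
    (q : Ideal (MvPolynomial (Fin n) A)) [q.IsPrime] (hq : q.comap MvPolynomial.C = maximalIdeal A)
    (G : Fin b → Fin a → MvPolynomial (Fin n) A)
    {N M : Type u} [AddCommGroup N] [Module (Localization.AtPrime q) N] [Module A N]
    [IsScalarTower A (Localization.AtPrime q) N]
    [AddCommGroup M] [Module (Localization.AtPrime q) M] [Module A M] [IsScalarTower A (Localization.AtPrime q) M]
    [Module.Flat A M] (e : Fin a → N) (he : Submodule.span (Localization.AtPrime q) (Set.range e) = ⊤)
    (hrel : ∀ j, ∑ i, algebraMap _ (Localization.AtPrime q) (G j i) • e i = 0)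
    (hker : ∀ v : Fin a → Localization.AtPrime q, ∑ i, v i • e i = 0 →
      v ∈ Submodule.span (Localization.AtPrime q) (Set.range fun j => mapTuple (algebraMap _ (Localization.AtPrime q)) (G j)))
    (u : N →ₗ[Localization.AtPrime q] M)
    (hu : Function.Injective ((u.restrictScalars A).lTensor (ResidueField A)))
    (Q : Type u) [AddCommGroup Q] [Module A Q] : Function.Injective ((u.restrictScalars A).rTensor Q) := by
  let P := MvPolynomial (Fin n) A
  let S := Localization.AtPrime q
  let m := maximalIdeal A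
  let mS : Ideal S := m.map (algebraMap A S)
  have hmS : mS ≤ maximalIdeal S := Ideal.map_le_iff_le_comap.2 fun x hx => by
    show algebraMap A S x ∈ maximalIdeal S
    rw [IsScalarTower.algebraMap_apply A P S]
    refine (IsLocalization.AtPrime.to_map_mem_maximal_iff S q _).2 ?_
    exact (hq.symm ▸ hx : x ∈ q.comap MvPolynomial.C)
  haveI : Nontrivial (S ⧸ mS) := Ideal.Quotient.nontrivial_iff.2 fun h =>
    (maximalIdeal.isMaximal S).ne_top (top_le_iff.1 (h ▸ hmS))
  haveI : IsLocalRing (S ⧸ mS) := IsLocalRing.of_surjective' (Ideal.Quotient.mk mS) Ideal.Quotient.mk_surjective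
  haveI : IsLocalHom (Ideal.Quotient.mkₐ A mS).toRingHom :=
    @IsLocalHom.of_surjective S (S ⧸ mS) _ _ _ _ (Ideal.Quotient.mkₐ A mS).toRingHom Ideal.Quotient.mk_surjective
  let ub : N ⧸ (mS • ⊤ : Submodule S N) →ₗ[S] M ⧸ (mS • ⊤ : Submodule S M) :=
    Submodule.mapQ _ _ u (Submodule.smul_top_le_comap_smul_top _ u)
  have hub : Function.Injective ub := by
    rw [← LinearMap.ker_eq_bot, LinearMap.ker_eq_bot']
    intro y hy
    obtain ⟨y, rfl⟩ := Submodule.Quotient.mk_surjective _ y
    rw [Submodule.mapQ_apply, Submodule.Quotient.mk_eq_zero, ← Submodule.restrictScalars_mem A] at hy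
    have hN : (mS • ⊤ : Submodule S N).restrictScalars A = m • ⊤ := Ideal.smul_restrictScalars m ⊤
    have hM : (mS • ⊤ : Submodule S M).restrictScalars A = m • ⊤ := Ideal.smul_restrictScalars m ⊤
    rw [hM] at hy
    rw [Submodule.Quotient.mk_eq_zero, ← Submodule.restrictScalars_mem A, hN, ← Submodule.Quotient.mk_eq_zero]
    have h1 : (u.restrictScalars A).lTensor (A ⧸ m) ((1 : A ⧸ m) ⊗ₜ y) = 0 := by
      apply (TensorProduct.quotTensorEquivQuotSMul M m).injective
      rw [map_zero, LinearMap.lTensor_tmul, show (1 : A ⧸ m) = Ideal.Quotient.mk m 1 from rfl,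
        TensorProduct.quotTensorEquivQuotSMul_mk_tmul, one_smul, Submodule.Quotient.mk_eq_zero]
      exact hy
    have h2 := congrArg (TensorProduct.quotTensorEquivQuotSMul N m) (hu (h1.trans (map_zero _).symm))
    rw [show (1 : A ⧸ m) = Ideal.Quotient.mk m 1 from rfl,
      TensorProduct.quotTensorEquivQuotSMul_mk_tmul, one_smul] at h2
    exact h2.trans (map_zero (TensorProduct.quotTensorEquivQuotSMul N m))
  exact univInj_affine_aux q G e he hrel hker u (B := S ⧸ mS) (Ideal.Quotient.mkₐ A mS) Ideal.Quotient.mk_surjective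
    (fun x hx => Ideal.Quotient.eq_zero_iff_mem.2 (Ideal.mem_map_of_mem _ hx))
    (mS • ⊤ : Submodule S N).mkQ.toAddMonoidHom
    (fun s x => ((mS • ⊤ : Submodule S N).mkQ.map_smul s x).trans (algebraMap_smul (S ⧸ mS) s ((mS • ⊤ : Submodule S N).mkQ x)).symm)
    (fun x hx => (Submodule.Quotient.mk_eq_zero _).1 hx)
    (mS • ⊤ : Submodule S M).mkQ.toAddMonoidHom
    (fun s x => ((mS • ⊤ : Submodule S M).mkQ.map_smul s x).trans (algebraMap_smul (S ⧸ mS) s ((mS • ⊤ : Submodule S M).mkQ x)).symm)
    ub.toAddMonoidHom hub (fun x => rfl)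
    (fun c x => by
      obtain ⟨c, rfl⟩ := Ideal.Quotient.mk_surjective c
      exact ub.map_smul c x) Q

end Groth.Agent.RGLib

end
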