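import Mathlib

/-!
# Completion of invariants by a subgroup containing the decomposition group
-/

set_option autoImplicit false
set_option linter.style.haveILetI false

universe u

open Pointwise

namespace Groth.Agent.RGLib.InvariantCompletion

variable {G R : Type u} [Group G] [Finite G] [CommRing R] [MulSemiringAction G R]
  (H : Subgroup G) (q : Ideal R) [q.IsPrime]

instance : Algebra.IsInvariant (FixedPoints.subring R G) R G := ⟨fun b hb => ⟨⟨b, hb⟩, rfl⟩⟩

theorem eq_of_smul_le (g : G) (h : g • q ≤ q) : g • q = q := by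
  refine le_antisymm h ?_
  have hk : ∀ k : ℕ, g ^ k • q ≤ q := fun k => by
    induction k with
    | zero => simp
    | succ k ih =>
      intro x hx
      rw [pow_succ', mul_smul] at hx
      exact h (Ideal.pointwise_smul_le_pointwise_smul_iff.2 ih hx)
  obtain ⟨m, hm⟩ : ∃ m, g ^ (m + 1) = 1 := ⟨orderOf g - 1, by
    rw [Nat.sub_add_cancel (orderOf_pos g), pow_orderOf_eq_one]⟩
  calc q = g • g ^ m • q := by rw [← mul_smul, ← pow_succ', hm, one_smul]
    _ ≤ g • q := Ideal.pointwise_smul_le_pointwise_smul_iff.2 (hk m)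

/-- An element fixed by `H`, outside `q`, inside all translates of `q` outside the orbit under `H`. -/
theorem exists_separating (hD : MulAction.stabilizer G q ≤ H) :
    ∃ b : R, (∀ h ∈ H, h • b = b) ∧ b ∉ q ∧ ∀ g ∉ H, g • b ∈ q := by
  classical
  haveI := Fintype.ofFinite G
  have hex : ∀ g : {g : G // g ∉ H}, ∃ a : R, g.1 • a ∈ q ∧ ∀ h : H, h.1 • a ∉ q := by
    intro g
    by_contra! hall
    have hsub : ((g.1⁻¹ • q : Ideal R) : Set R) ⊆ ⋃ h ∈ (Finset.univ : Finset H), ((h.1⁻¹ • q : Ideal R) : Set R) := by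
      intro a ha
      obtain ⟨h, hh⟩ := hall a (Ideal.mem_inv_pointwise_smul_iff.1 ha)
      exact Set.mem_iUnion₂.2 ⟨h, Finset.mem_univ _, Ideal.mem_inv_pointwise_smul_iff.2 hh⟩
    obtain ⟨h, -, hle⟩ := (Ideal.subset_union_prime 1 1 (fun h _ _ _ => inferInstance)).1 hsub
    have h1 : (h.1 * g.1⁻¹) • q ≤ q := by
      have := (Ideal.pointwise_smul_le_pointwise_smul_iff (a := h.1)).2 hle
      rwa [smul_inv_smul, ← mul_smul] at this
    have h2 : h.1 * g.1⁻¹ ∈ H := hD (MulAction.mem_stabilizer_iff.2 (eq_of_smul_le q _ h1))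
    exact g.2 (inv_mem_iff.1 ((H.mul_mem_cancel_left h.2).1 h2))
  choose a ha ha' using hex
  refine ⟨∏ g, ∏ h : H, h.1 • a g, fun h hh => ?_, fun hb => ?_, fun g hg => ?_⟩
  · rw [Finset.smul_prod']
    refine Finset.prod_congr rfl fun g _ => ?_
    rw [Finset.smul_prod']
    refine Fintype.prod_equiv (Equiv.mulLeft (⟨h, hh⟩ : H)) _ _ fun k => ?_
    rw [← mul_smul]; rfl
  · obtain ⟨g, -, hg⟩ := Ideal.IsPrime.prod_mem_iff.1 hb
    obtain ⟨h, -, hh⟩ := Ideal.IsPrime.prod_mem_iff.1 hg
    exact ha' g h hh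
  · rw [Finset.smul_prod']
    refine Ideal.IsPrime.prod_mem_iff.2 ⟨⟨g, hg⟩, Finset.mem_univ _, ?_⟩
    rw [Finset.smul_prod']
    refine Ideal.IsPrime.prod_mem_iff.2 ⟨1, Finset.mem_univ _, ?_⟩
    simpa using ha ⟨g, hg⟩

variable (hle : FixedPoints.subring R G ≤ FixedPoints.subring R H)

/-- The translate by a coset of an element fixed by `H`. -/
noncomputable def cosetSMul (x : FixedPoints.subring R H) : G ⧸ H → R :=
  fun c => Quotient.liftOn' c (fun g => g • (x : R)) fun a b hab => by
    rw [QuotientGroup.leftRel_apply] at hab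
    have := x.2 ⟨_, hab⟩
    show a • (x : R) = b • (x : R)
    conv_lhs => rw [← this]
    rw [Subgroup.smul_def, ← mul_smul, mul_inv_cancel_left]

theorem cosetSMul_mk (x : FixedPoints.subring R H) (g : G) : cosetSMul H x (g : G ⧸ H) = g • (x : R) := rfl

/-- The trace from the invariants of `H` to the invariants of `G`. -/
noncomputable def tr (x : FixedPoints.subring R H) : FixedPoints.subring R G :=
  letI := Fintype.ofFinite (G ⧸ H)
  ⟨∑ c : G ⧸ H, cosetSMul H x c, fun g => by
    rw [Finset.smul_sum]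
    refine Fintype.sum_equiv (MulAction.toPerm g) _ _ fun c => ?_
    induction c using QuotientGroup.induction_on with
    | _ k => exact (mul_smul g k (x : R)).symm⟩

theorem tr_mul (x : FixedPoints.subring R H) (β : FixedPoints.subring R G) :
    tr H (Subring.inclusion hle β * x) = β * tr H x := by
  letI := Fintype.ofFinite (G ⧸ H)
  refine Subtype.ext ?_
  show ∑ c : G ⧸ H, cosetSMul H _ c = (β : R) * ∑ c : G ⧸ H, cosetSMul H x c
  rw [Finset.mul_sum]
  refine Finset.sum_congr rfl fun c _ => ?_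
  induction c using QuotientGroup.induction_on with
  | _ k =>
    rw [cosetSMul_mk, cosetSMul_mk]
    show k • ((β : R) * (x : R)) = _
    rw [smul_mul', β.2 k]

theorem tr_sub (x : FixedPoints.subring R H) :
    (tr H x : R) - x =
      letI := Fintype.ofFinite (G ⧸ H); letI := Classical.decEq (G ⧸ H)
      ∑ c ∈ (Finset.univ : Finset (G ⧸ H)).erase ((1 : G) : G ⧸ H), cosetSMul H x c := by
  letI := Fintype.ofFinite (G ⧸ H)
  letI := Classical.decEq (G ⧸ H)
  show (∑ c : G ⧸ H, cosetSMul H x c) - _ = _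
  rw [← Finset.sum_erase_add _ _ (Finset.mem_univ ((1 : G) : G ⧸ H)), cosetSMul_mk, one_smul]
  exact add_sub_cancel_right _ _

theorem tr_sub_mem (x : FixedPoints.subring R H) (I : Ideal R) (h : ∀ g ∉ H, g • (x : R) ∈ I) :
    (tr H x : R) - x ∈ I := by
  letI := Fintype.ofFinite (G ⧸ H)
  letI := Classical.decEq (G ⧸ H)
  rw [tr_sub]
  refine I.sum_mem fun c hc => ?_
  induction c using QuotientGroup.induction_on with
  | _ k =>
    refine h k fun hk => (Finset.mem_erase.1 hc).1 ?_
    exact QuotientGroup.eq.2 (by simpa using H.inv_mem hk)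

/-- The key approximation. -/
theorem key [IsNoetherianRing (FixedPoints.subring R G)] [Module.Finite (FixedPoints.subring R G) R]
    (hD : MulAction.stabilizer G q ≤ H) (n : ℕ) :
    ∃ (b : FixedPoints.subring R H), (b : R) ∉ q ∧ (∀ g ∉ H, g • (b : R) ∈ q) ∧
      ∃ (N : ℕ) (s : FixedPoints.subring R G), (s : R) ∉ q ∧ ∀ x : FixedPoints.subring R H,
        Subring.inclusion hle s * b ^ N * (x * b ^ N - Subring.inclusion hle (tr H (x * b ^ N))) ∈
          ((q.comap (FixedPoints.subring R H).subtype).comap (Subring.inclusion hle)).map (Subring.inclusion hle) ^ n := by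
  classical
  obtain ⟨b₀, hb₀, hbq, hbg⟩ := exists_separating H q hD
  let b : FixedPoints.subring R H := ⟨b₀, fun h => hb₀ h.1 h.2⟩
  refine ⟨b, hbq, hbg, ?_⟩
  let p : Ideal (FixedPoints.subring R G) := (q.comap (FixedPoints.subring R H).subtype).comap (Subring.inclusion hle)
  haveI : (q.comap (FixedPoints.subring R H).subtype).IsPrime := Ideal.IsPrime.comap _
  haveI hp : p.IsPrime := Ideal.IsPrime.comap _
  let pR : Ideal R := p.map (algebraMap (FixedPoints.subring R G) R)
  have hc : ∀ g : {g : G // g ∉ H}, ∃ (s : FixedPoints.subring R G) (k : ℕ), s ∉ p ∧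
      (s : R) * (b₀ * g.1 • b₀) ^ k ∈ pR := by
    intro g
    by_contra! hall
    let M : Submonoid R :=
      Submonoid.map (algebraMap (FixedPoints.subring R G) R).toMonoidHom p.primeCompl ⊔ Submonoid.powers (b₀ * g.1 • b₀)
    have hdisj : Disjoint (pR : Set R) (M : Set R) := Set.disjoint_left.2 fun y hy hyM => by
      obtain ⟨_, ⟨s, hs, rfl⟩, _, ⟨k, rfl⟩, rfl⟩ := Submonoid.mem_sup.1 hyM
      exact hall s k hs hy
    obtain ⟨P, hP, hle', hPM⟩ := Ideal.exists_le_prime_disjoint _ _ hdisj
    have hPp : P.under (FixedPoints.subring R G) = p := by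
      refine le_antisymm (fun s hs => by_contra fun hsp => ?_) (Ideal.map_le_iff_le_comap.1 hle')
      exact Set.disjoint_left.1 hPM hs (Submonoid.mem_sup_left ⟨s, hsp, rfl⟩)
    obtain ⟨k, hk⟩ := Algebra.IsInvariant.exists_smul_of_under_eq (FixedPoints.subring R G) R G q P (by rw [hPp]; rfl)
    have hc0 : b₀ * g.1 • b₀ ∉ P := fun h => Set.disjoint_left.1 hPM h (Submonoid.mem_sup_right (Submonoid.mem_powers _))
    rw [hk] at hc0
    refine hc0 ?_
    rw [Ideal.mem_pointwise_smul_iff_inv_smul_mem, smul_mul', ← mul_smul]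
    by_cases hkH : k⁻¹ ∈ H
    · exact q.mul_mem_left _ (hbg _ fun h => g.2 ((H.mul_mem_cancel_left hkH).1 h))
    · exact q.mul_mem_right _ (hbg _ hkH)
  choose s k hs hsk using hc
  haveI := Fintype.ofFinite G
  let s₀ := ∏ g, s g
  let k₀ := ∑ g, k g
  have hs₀ : ∀ g : {g : G // g ∉ H}, (s₀ : R) * (b₀ * g.1 • b₀) ^ k₀ ∈ pR := fun g => by
    obtain ⟨t, ht⟩ := Finset.dvd_prod_of_mem s (Finset.mem_univ g)
    obtain ⟨j, hj⟩ := Nat.exists_eq_add_of_le (Finset.single_le_sum (fun _ _ => Nat.zero_le _) (Finset.mem_univ g) : k g ≤ k₀)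
    rw [show s₀ = _ from ht, show k₀ = k g + j from hj, pow_add, Subring.coe_mul]
    have : (s g : R) * (t : R) * ((b₀ * g.1 • b₀) ^ k g * (b₀ * g.1 • b₀) ^ j) =
        ((s g : R) * (b₀ * g.1 • b₀) ^ k g) * ((t : R) * (b₀ * g.1 • b₀) ^ j) := by ring
    rw [this]
    exact pR.mul_mem_right _ (hsk g)
  letI : Algebra (FixedPoints.subring R G) (FixedPoints.subring R H) := (Subring.inclusion hle).toAlgebra
  let N' : Submodule (FixedPoints.subring R G) R :=
    { carrier := (FixedPoints.subring R H : Set R)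
      add_mem' := fun ha hb => (FixedPoints.subring R H).add_mem ha hb
      zero_mem' := (FixedPoints.subring R H).zero_mem
      smul_mem' := fun β y hy => (FixedPoints.subring R H).mul_mem (hle β.2) hy }
  haveI : IsNoetherian (FixedPoints.subring R G) R := isNoetherian_of_isNoetherianRing_of_finite _ _
  obtain ⟨c, hc⟩ := Ideal.exists_pow_inf_eq_pow_smul p N'
  let m := n + c
  refine ⟨k₀ * m, s₀ ^ m, fun h => ?_, fun x => ?_⟩
  · rw [SubmonoidClass.coe_pow] at h
    obtain ⟨g, -, hg⟩ := Ideal.IsPrime.prod_mem_iff.1 (show (s₀ : FixedPoints.subring R G) ∈ p from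
      (‹q.IsPrime›.mem_of_pow_mem m h))
    exact hs g hg
  let z : FixedPoints.subring R H :=
    Subring.inclusion hle (s₀ ^ m) * b ^ (k₀ * m) * (x * b ^ (k₀ * m) - Subring.inclusion hle (tr H (x * b ^ (k₀ * m))))
  have hz : (z : R) ∈ pR ^ m := by
    have : (z : R) = -((s₀ : R) ^ m * b₀ ^ (k₀ * m) *
        ((tr H (x * b ^ (k₀ * m)) : R) - (x * b ^ (k₀ * m) : FixedPoints.subring R H))) := by
      simp [z, b]; ring
    rw [this]
    refine neg_mem ?_
    have h1 := tr_sub_mem H (x * b ^ (k₀ * m)) ((pR ^ m).colon {(s₀ : R) ^ m * b₀ ^ (k₀ * m)}) fun g hg => by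
      rw [Submodule.mem_colon_singleton, smul_eq_mul]
      have h2 : g • ((x * b ^ (k₀ * m) : FixedPoints.subring R H) : R) * ((s₀ : R) ^ m * b₀ ^ (k₀ * m)) =
          ((s₀ : R) * (b₀ * g • b₀) ^ k₀) ^ m * g • (x : R) := by
        simp only [Subring.coe_mul, SubmonoidClass.coe_pow, b, smul_mul', smul_pow', mul_pow, ← pow_mul]
        ring
      rw [h2]
      exact Ideal.mul_mem_right _ _ (Ideal.pow_mem_pow (hs₀ ⟨g, hg⟩) m)
    rw [Submodule.mem_colon_singleton, smul_eq_mul, mul_comm] at h1
    exact h1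
  have h3 : (z : R) ∈ p ^ m • (⊤ : Submodule (FixedPoints.subring R G) R) ⊓ N' := by
    refine ⟨?_, z.2⟩
    rw [Ideal.smul_top_eq_map]
    show (z : R) ∈ Ideal.map (algebraMap _ R) (p ^ m)
    rwa [Ideal.map_pow]
  rw [hc m (Nat.le_add_left c n), Nat.add_sub_cancel] at h3
  have h4 : (z : R) ∈ p ^ n • N' := Submodule.smul_mono le_rfl inf_le_right h3
  show z ∈ p.map (Subring.inclusion hle) ^ n
  rw [← Ideal.map_pow]
  refine Submodule.smul_induction_on' (p := fun y hy => ∀ hy' : y ∈ FixedPoints.subring R H,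
    (⟨y, hy'⟩ : FixedPoints.subring R H) ∈ (p ^ n).map (Subring.inclusion hle)) h4 ?_ ?_ z.2
  · intro β hβ y hy hy'
    have : (⟨β • y, hy'⟩ : FixedPoints.subring R H) = Subring.inclusion hle β * ⟨y, hy⟩ := Subtype.ext rfl
    rw [this]
    exact Ideal.mul_mem_right _ _ (Ideal.mem_map_of_mem _ hβ)
  · intro y hy y' hy' ih ih' hsum
    have hyH : y ∈ FixedPoints.subring R H := (Submodule.smul_le_right hy : y ∈ N')
    have hyH' : y' ∈ FixedPoints.subring R H := (Submodule.smul_le_right hy' : y' ∈ N')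
    have := Ideal.add_mem _ (ih hyH) (ih' hyH')
    exact this

theorem main [IsNoetherianRing (FixedPoints.subring R G)] [Module.Finite (FixedPoints.subring R G) R]
    (hD : MulAction.stabilizer G q ≤ H) (n : ℕ) :
    let q' : Ideal (FixedPoints.subring R H) := Ideal.comap (FixedPoints.subring R H).subtype q
    let φ := Localization.localRingHom (Ideal.comap (Subring.inclusion hle) q') q' (Subring.inclusion hle) rfl
    Function.Surjective ((Ideal.Quotient.mk (IsLocalRing.maximalIdeal (Localization.AtPrime q') ^ n)).comp φ) ∧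
      Ideal.comap φ (IsLocalRing.maximalIdeal (Localization.AtPrime q') ^ n) =
        IsLocalRing.maximalIdeal (Localization.AtPrime (Ideal.comap (Subring.inclusion hle) q')) ^ n := by
  intro q' φ
  let ι := Subring.inclusion hle
  let p := q'.comap ι
  let L := Localization.AtPrime q'
  let A := Localization.AtPrime p
  let al := algebraMap (FixedPoints.subring R H) L
  let ap := algebraMap (FixedPoints.subring R G) A
  have hφ : ∀ β, φ (ap β) = al (ι β) := fun β => Localization.localRingHom_to_map ..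
  have hunit : ∀ x : FixedPoints.subring R H, (x : R) ∉ q → IsUnit (al x) := fun x hx =>
    IsLocalization.map_units L (⟨x, hx⟩ : q'.primeCompl)
  -- approximation
  have approx : ∀ (j : ℕ) (y : L), ∃ a : A, y - φ a ∈ ((p.map ι) ^ j).map al := by
    intro j y
    obtain ⟨b, hbq, hbg, N, s, hs, hk⟩ := key H q hle hD j
    have hbn : ((b ^ N : FixedPoints.subring R H) : R) ∉ q := fun h => by
      rw [SubmonoidClass.coe_pow] at h; exact hbq (‹q.IsPrime›.mem_of_pow_mem N h)
    have hu : IsUnit (al (ι s * b ^ N)) := by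
      rw [map_mul]; exact (hunit _ hs).mul (hunit _ hbn)
    have hd : ∀ x : FixedPoints.subring R H, al (x * b ^ N) - al (ι (tr H (x * b ^ N))) ∈ ((p.map ι) ^ j).map al := by
      intro x
      obtain ⟨v, hv⟩ := hu
      have h1 := Ideal.mem_map_of_mem al (hk x)
      rw [map_mul, map_sub, ← hv] at h1
      exact (Ideal.unit_mul_mem_iff_mem _ v.isUnit).1 h1
    obtain ⟨⟨x, e⟩, hxe⟩ := IsLocalization.surj q'.primeCompl y
    rcases j with _ | j
    · exact ⟨0, by rw [pow_zero, Ideal.one_eq_top, Ideal.map_top]; trivial⟩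
    have hden : tr H ((e : FixedPoints.subring R H) * b ^ N) ∉ p := fun h => by
      have h1 := hd e
      have hmap : ((p.map ι) ^ (j + 1)).map al ≤ IsLocalRing.maximalIdeal L := by
        refine (Ideal.map_mono (Ideal.pow_le_self (Nat.succ_ne_zero j))).trans ?_
        rw [← Localization.AtPrime.map_eq_maximalIdeal (I := q')]
        exact Ideal.map_mono Ideal.map_comap_le
      have h2 : al (ι (tr H ((e : FixedPoints.subring R H) * b ^ N))) ∈ IsLocalRing.maximalIdeal L := by
        rw [← Localization.AtPrime.map_eq_maximalIdeal (I := q')]; exact Ideal.mem_map_of_mem _ h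
      have h3 := Ideal.add_mem _ (hmap h1) h2
      rw [sub_add_cancel] at h3
      refine h3 ?_
      rw [map_mul]
      exact IsUnit.mul (IsLocalization.map_units L e) (hunit _ hbn)
    obtain ⟨u, hu'⟩ := IsLocalization.map_units A (⟨_, hden⟩ : p.primeCompl)
    refine ⟨(u⁻¹ : Aˣ).val * ap (tr H (x * b ^ N)), ?_⟩
    obtain ⟨w, hw⟩ : IsUnit (al ((e : FixedPoints.subring R H) * b ^ N)) := by
      rw [map_mul]; exact (IsLocalization.map_units L e).mul (hunit _ hbn)
    have hx : al (x * b ^ N) = (w : L) * y := by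
      rw [hw, map_mul, map_mul, ← hxe]; ring
    have hx2 := hd x
    have he2 := hd e
    rw [hx] at hx2
    rw [← hw] at he2
    rw [← hφ] at hx2 he2
    refine (Ideal.unit_mul_mem_iff_mem _ w.isUnit).1 ?_
    have : (w : L) * (y - φ ((u⁻¹ : Aˣ).val * ap (tr H (x * b ^ N)))) =
        ((w : L) * y - φ (ap (tr H (x * b ^ N)))) -
          φ ((u⁻¹ : Aˣ).val * ap (tr H (x * b ^ N))) * ((w : L) - φ (ap (tr H ((e : FixedPoints.subring R H) * b ^ N)))) := by
      have h1 : φ ((u⁻¹ : Aˣ).val * ap (tr H (x * b ^ N))) * φ (ap (tr H ((e : FixedPoints.subring R H) * b ^ N))) =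
          φ (ap (tr H (x * b ^ N))) := by
        rw [← map_mul]
        congr 1
        rw [show ap (tr H ((e : FixedPoints.subring R H) * b ^ N)) = (u : A) from hu'.symm, mul_comm _ (u : A),
          Units.mul_inv_cancel_left]
      linear_combination -h1
    rw [this]
    exact Ideal.sub_mem _ hx2 (Ideal.mul_mem_left _ _ he2)
  have hpq : ∀ j, ((p.map ι) ^ j).map al = ((IsLocalRing.maximalIdeal A) ^ j).map φ := fun j => by
    rw [← Localization.AtPrime.map_eq_maximalIdeal (I := p), ← Ideal.map_pow, Ideal.map_map, ← Ideal.map_pow,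
      Ideal.map_map, show φ.comp ap = al.comp ι from RingHom.ext hφ]
  haveI : IsLocalHom φ := Localization.isLocalHom_localRingHom ..
  have hmax : (IsLocalRing.maximalIdeal A).map φ = IsLocalRing.maximalIdeal L := by
    refine le_antisymm (IsLocalRing.map_maximalIdeal_le φ) fun y hy => ?_
    obtain ⟨a, ha⟩ := approx 1 y
    rw [hpq, pow_one] at ha
    have hle' : (IsLocalRing.maximalIdeal A).map φ ≤ IsLocalRing.maximalIdeal L :=
      IsLocalRing.map_maximalIdeal_le φ
    have ha' : φ a ∈ IsLocalRing.maximalIdeal L := by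
      have := Ideal.sub_mem _ hy (hle' ha)
      rwa [sub_sub_cancel] at this
    have : a ∈ IsLocalRing.maximalIdeal A := fun hu => ha' (hu.map φ)
    simpa using Ideal.add_mem _ ha (Ideal.mem_map_of_mem φ this)
  have hpow : IsLocalRing.maximalIdeal L ^ n = ((p.map ι) ^ n).map al := by rw [hpq, Ideal.map_pow, hmax]
  refine ⟨fun y => ?_, le_antisymm (fun a ha => ?_) ?_⟩
  · obtain ⟨y, rfl⟩ := Ideal.Quotient.mk_surjective y
    obtain ⟨a, ha⟩ := approx n y
    refine ⟨a, (Ideal.Quotient.eq.2 ?_).symm⟩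
    rw [hpow]; exact ha
  · obtain ⟨⟨β, t⟩, hat⟩ := IsLocalization.surj p.primeCompl a
    have h1 : φ (a * ap t) ∈ IsLocalRing.maximalIdeal L ^ n := by
      rw [map_mul]; exact Ideal.mul_mem_right _ _ ha
    rw [show a * ap t = ap β from hat, hφ, hpow, IsLocalization.algebraMap_mem_map_algebraMap_iff q'.primeCompl] at h1
    obtain ⟨e, he, he'⟩ := h1
    obtain ⟨b, hbq, hbg, _⟩ := key H q hle hD 0
    have hmem : β * tr H (e * b) ∈ p ^ n := by
      rw [← tr_mul H hle]
      have : ι β * (e * b) ∈ (p ^ n).map ι := by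
        rw [Ideal.map_pow, show ι β * (e * b) = e * ι β * b by ring]
        exact Ideal.mul_mem_right _ _ he'
      refine Submodule.span_induction (p := fun z _ => ∀ w, tr H (z * w) ∈ p ^ n) ?_ ?_ ?_ ?_ this 1 |>
        (fun h => by simpa using h)
      · rintro _ ⟨γ, hγ, rfl⟩ w
        rw [tr_mul H hle]
        exact Ideal.mul_mem_right _ _ hγ
      · intro w
        have h0 := tr_mul H hle (0 : FixedPoints.subring R H) 0
        rw [zero_mul, map_zero, zero_mul] at h0
        rw [zero_mul, h0]; exact Ideal.zero_mem _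
      · intro z z' _ _ hz hz' w
        have hadd : tr H ((z + z') * w) = tr H (z * w) + tr H (z' * w) := by
          refine Subtype.ext ?_
          letI := Fintype.ofFinite (G ⧸ H)
          show ∑ c : G ⧸ H, cosetSMul H ((z + z') * w) c = ∑ c, cosetSMul H (z * w) c + ∑ c, cosetSMul H (z' * w) c
          rw [← Finset.sum_add_distrib]
          refine Finset.sum_congr rfl fun c _ => ?_
          induction c using QuotientGroup.induction_on with
          | _ g =>
            rw [cosetSMul_mk, cosetSMul_mk, cosetSMul_mk, ← smul_add, add_mul]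
            rfl
        rw [hadd]; exact Ideal.add_mem _ (hz w) (hz' w)
      · intro r z _ hz w
        rw [smul_eq_mul, mul_assoc, mul_left_comm]
        exact hz (r * w)
    have htr : tr H (e * b) ∉ p := fun h => by
      have h1 : (tr H (e * b) : R) - (e * b : FixedPoints.subring R H) ∈ q := tr_sub_mem H (e * b) q fun g hg => by
        show g • ((e : R) * (b : R)) ∈ q
        rw [smul_mul']; exact q.mul_mem_left _ (hbg g hg)
      have h2 := q.sub_mem (show (tr H (e * b) : R) ∈ q from h) h1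
      rw [sub_sub_cancel] at h2
      exact (‹q.IsPrime›.mem_or_mem h2).elim he hbq
    obtain ⟨u, hu⟩ := IsLocalization.map_units A (⟨_, htr⟩ : p.primeCompl)
    obtain ⟨v, hv⟩ := IsLocalization.map_units A t
    have : a * (v : A) * (u : A) ∈ IsLocalRing.maximalIdeal A ^ n := by
      rw [hv, hu, hat, ← map_mul, ← Localization.AtPrime.map_eq_maximalIdeal (I := p), ← Ideal.map_pow]
      exact Ideal.mem_map_of_mem _ hmem
    exact (Ideal.mul_unit_mem_iff_mem _ v.isUnit).1 ((Ideal.mul_unit_mem_iff_mem _ u.isUnit).1 this)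
  · rw [← Ideal.map_le_iff_le_comap, Ideal.map_pow, hmax]

end Groth.Agent.RGLib.InvariantCompletion
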