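import Mathlib

/-!
# The Jacobian criterion for closed subschemes of a smooth algebra
-/

set_option autoImplicit false
universe u

open TensorProduct IsLocalRing

noncomputable section

namespace Groth.Agent.RGLib.Jacobian

variable (R : Type u) {A : Type u} [CommRing R] [CommRing A] [Algebra R A]

/-- Differentials at a point, computed globally or locally. -/
theorem exists_diff_equiv (q : Ideal A) [q.IsPrime] :
    ∃ Φ : (q.ResidueField ⊗[A] Ω[A⁄R]) ≃ₗ[q.ResidueField]
        (q.ResidueField ⊗[Localization.AtPrime q] Ω[Localization.AtPrime q⁄R]),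
      ∀ g : A, Φ (1 ⊗ₜ KaehlerDifferential.D R A g) =
        1 ⊗ₜ KaehlerDifferential.D R (Localization.AtPrime q) (algebraMap A _ g) := by
  haveI : Algebra.FormallyEtale A (Localization.AtPrime q) :=
    Algebra.FormallyEtale.of_isLocalization q.primeCompl
  have h1 := KaehlerDifferential.isBaseChange_of_formallyEtale R A (Localization.AtPrime q)
  have h2 := h1.comp (TensorProduct.isBaseChange (Localization.AtPrime q) Ω[Localization.AtPrime q⁄R] q.ResidueField)
  refine ⟨h2.equiv, fun g => ?_⟩
  rw [IsBaseChange.equiv_tmul, one_smul]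
  simp [KaehlerDifferential.map_D]

variable {R}

theorem exists_tmul_one {P : Type u} [CommRing P] {k : Type u} [CommRing k] [Algebra P k]
    (hk : Function.Surjective (algebraMap P k)) {N : Type u} [AddCommGroup N] [Module P N] (z : k ⊗[P] N) :
    ∃ y : N, (1 : k) ⊗ₜ[P] y = z := by
  induction z using TensorProduct.induction_on with
  | zero => exact ⟨0, TensorProduct.tmul_zero _ _⟩
  | add a b ha hb =>
    obtain ⟨a', rfl⟩ := ha
    obtain ⟨b', rfl⟩ := hb
    exact ⟨a' + b', TensorProduct.tmul_add _ _ _⟩
  | tmul c f =>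
    obtain ⟨c, rfl⟩ := hk c
    exact ⟨c • f, by rw [← TensorProduct.smul_tmul, Algebra.smul_def, mul_one]⟩

theorem mem_smul_of_tmul_eq_zero {P : Type u} [CommRing P] [IsLocalRing P] {N : Type u} [AddCommGroup N] [Module P N]
    {y : N} (h : (1 : ResidueField P) ⊗ₜ[P] y = 0) : y ∈ maximalIdeal P • (⊤ : Submodule P N) := by
  have h' : (1 : P ⧸ maximalIdeal P) ⊗ₜ[P] y = 0 := h
  have h2 := congrArg (TensorProduct.quotTensorEquivQuotSMul N (maximalIdeal P)) h'
  refine (Submodule.Quotient.mk_eq_zero _).1 ?_
  rw [LinearEquiv.map_zero] at h2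
  rw [← h2]
  simpa using (TensorProduct.quotTensorEquivQuotSMul_mk_tmul (maximalIdeal P) (1 : P) y).symm

theorem surjective_residueField (q : Ideal A) [q.IsPrime] :
    Function.Surjective (algebraMap (Localization.AtPrime q) q.ResidueField) :=
  IsLocalRing.residue_surjective

/-- Smoothness of `A / I` at a point as the injectivity of the conormal map. -/
theorem isSmoothAt_iff [IsNoetherianRing A] (I : Ideal A) (P : Ideal (A ⧸ I)) [P.IsPrime]
    (q : Ideal A) [q.IsPrime] (hq : q = P.comap (Ideal.Quotient.mk I)) [Algebra.IsSmoothAt R q]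
    [Module.Free (Localization.AtPrime q) Ω[Localization.AtPrime q⁄R]]
    [Module.Finite (Localization.AtPrime q) Ω[Localization.AtPrime q⁄R]] :
    Algebra.IsSmoothAt R P ↔ ∀ y ∈ I.map (algebraMap A (Localization.AtPrime q)),
      (1 : q.ResidueField) ⊗ₜ[Localization.AtPrime q] KaehlerDifferential.D R (Localization.AtPrime q) y = 0 →
      y ∈ maximalIdeal (Localization.AtPrime q) • I.map (algebraMap A (Localization.AtPrime q)) := by
  subst hq
  let q := P.comap (Ideal.Quotient.mk I)
  let Aq := Localization.AtPrime q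
  let S := Localization.AtPrime P
  let ρ : Aq →+* S := Localization.localRingHom q P (Ideal.Quotient.mk I) rfl
  letI : Algebra Aq S := ρ.toAlgebra
  haveI : IsScalarTower R Aq S := .of_algebraMap_eq fun r => by
    show _ = ρ (algebraMap R Aq r)
    rw [IsScalarTower.algebraMap_apply R A Aq, Localization.localRingHom_to_map]
    exact IsScalarTower.algebraMap_apply R (A ⧸ I) S r
  have hsurj : Function.Surjective (algebraMap Aq S) :=
    (RingHom.surjectiveOnStalks_of_surjective Ideal.Quotient.mk_surjective).localRingHom_surjective _ _ rfl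
  have hT : Submonoid.map (Ideal.Quotient.mk I) q.primeCompl = P.primeCompl := by
    ext z
    refine ⟨?_, fun hz => ?_⟩
    · rintro ⟨a, ha, rfl⟩
      exact ha
    · obtain ⟨a, rfl⟩ := Ideal.Quotient.mk_surjective z
      exact ⟨a, hz, rfl⟩
  have hker : RingHom.ker (algebraMap Aq S) = I.map (algebraMap A Aq) := by
    have := IsLocalization.ker_map (S := Aq) (M := q.primeCompl) (T := P.primeCompl) S (Ideal.Quotient.mk I) hT
    rw [Ideal.mk_ker] at this
    exact this
  haveI : IsNoetherianRing Aq := IsLocalization.isNoetherianRing q.primeCompl _ inferInstance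
  let k := q.ResidueField
  haveI : IsLocalHom (algebraMap Aq S) := Localization.isLocalHom_localRingHom _ _ _ rfl
  let g₀ : { g : Aq →+* k // RingHom.ker (algebraMap Aq S) ≤ RingHom.ker g } := ⟨algebraMap Aq k, fun z hz => by
    rw [RingHom.mem_ker] at hz ⊢
    refine (IsLocalRing.residue_eq_zero_iff _).2 fun hu => ?_
    have := hu.map (algebraMap Aq S)
    rw [hz] at this
    exact not_isUnit_zero this⟩
  let χ : S →+* k := (algebraMap Aq S).liftOfRightInverse _ (Function.rightInverse_surjInv hsurj) g₀
  letI : Algebra S k := χ.toAlgebra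
  haveI : IsScalarTower Aq S k := .of_algebraMap_eq fun z => by
    show _ = χ (algebraMap Aq S z)
    exact (RingHom.liftOfRightInverse_comp_apply (C := k) (algebraMap Aq S) _ (Function.rightInverse_surjInv hsurj) g₀ z).symm
  have hm : maximalIdeal S ≤ RingHom.ker (algebraMap S k) := fun z hz => by
    obtain ⟨w, rfl⟩ := hsurj z
    rw [RingHom.mem_ker, ← IsScalarTower.algebraMap_apply]
    exact (IsLocalRing.residue_eq_zero_iff _).2 fun hu => hz (hu.map _)
  rw [show Algebra.IsSmoothAt R P ↔ _ from Algebra.FormallySmooth.iff_injective_cotangentComplexBaseChange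
    (R := R) (S := S) Aq k hsurj (IsNoetherian.noetherian _) hm]
  refine ⟨fun h y hy h0 => ?_, fun h => (injective_iff_map_eq_zero _).2 fun z hz => ?_⟩
  · have h1 : (1 : k) ⊗ₜ[Aq] (⟨y, hker ▸ hy⟩ : RingHom.ker (algebraMap Aq S)) = 0 := by
      refine (injective_iff_map_eq_zero _).1 h _ ?_
      rw [KaehlerDifferential.cotangentComplexBaseChange_tmul, one_smul, KaehlerDifferential.kerToTensor_apply]
      exact h0
    have h3 : (⟨y, hker ▸ hy⟩ : RingHom.ker (algebraMap Aq S)) ∈
        maximalIdeal Aq • (⊤ : Submodule Aq (RingHom.ker (algebraMap Aq S))) := mem_smul_of_tmul_eq_zero h1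
    have h4 := Submodule.mem_map_of_mem (f := (RingHom.ker (algebraMap Aq S)).subtype) h3
    rw [Submodule.map_smul'', Submodule.map_top, Submodule.range_subtype] at h4
    have h5 : y ∈ maximalIdeal Aq • RingHom.ker (algebraMap Aq S) := h4
    rwa [hker] at h5
  · obtain ⟨⟨y, hy⟩, rfl⟩ := exists_tmul_one (surjective_residueField q) z
    rw [KaehlerDifferential.cotangentComplexBaseChange_tmul, one_smul, KaehlerDifferential.kerToTensor_apply] at hz
    have h4 := h y (hker ▸ hy) hz
    have h3 : (⟨y, hy⟩ : RingHom.ker (algebraMap Aq S)) ∈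
        maximalIdeal Aq • (⊤ : Submodule Aq (RingHom.ker (algebraMap Aq S))) := by
      rw [← hker] at h4
      have : y ∈ (maximalIdeal Aq • (⊤ : Submodule Aq (RingHom.ker (algebraMap Aq S)))).map
          (RingHom.ker (algebraMap Aq S)).subtype := by
        rw [Submodule.map_smul'', Submodule.map_top, Submodule.range_subtype]
        exact h4
      obtain ⟨w, hw, hwy⟩ := this
      rwa [show (⟨y, hy⟩ : RingHom.ker (algebraMap Aq S)) = w from Subtype.ext hwy.symm]
    refine Submodule.smul_induction_on h3 (fun c hc w _ => ?_) (fun a b ha hb => by rw [TensorProduct.tmul_add, ha, hb, add_zero])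
    rw [← TensorProduct.smul_tmul, Algebra.smul_def, mul_one,
      show algebraMap Aq k c = 0 from (IsLocalRing.residue_eq_zero_iff c).2 hc, TensorProduct.zero_tmul]

/-- Generators of the ideal with independent differentials give smoothness and conversely. -/
theorem isSmoothAt_iff_exists [IsNoetherianRing A] (I : Ideal A) (P : Ideal (A ⧸ I)) [P.IsPrime]
    (q : Ideal A) [q.IsPrime] (hq : q = P.comap (Ideal.Quotient.mk I)) [Algebra.IsSmoothAt R q]
    [Module.Free (Localization.AtPrime q) Ω[Localization.AtPrime q⁄R]]
    [Module.Finite (Localization.AtPrime q) Ω[Localization.AtPrime q⁄R]] :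
    Algebra.IsSmoothAt R P ↔ ∃ s : Finset A, (↑s : Set A) ⊆ (I : Set A) ∧
      Ideal.map (algebraMap A (Localization.AtPrime q)) I =
        Ideal.span ((algebraMap A (Localization.AtPrime q)) '' (↑s : Set A)) ∧
      LinearIndependent q.ResidueField
        (fun g : ↥s => (1 : q.ResidueField) ⊗ₜ[A] KaehlerDifferential.D R A (g : A)) := by
  classical
  rw [isSmoothAt_iff I P q hq]
  obtain ⟨Φ, hΦ⟩ := exists_diff_equiv R q
  haveI : IsNoetherianRing (Localization.AtPrime q) := IsLocalization.isNoetherianRing q.primeCompl _ inferInstance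
  let Aq := Localization.AtPrime q
  let J : Ideal Aq := I.map (algebraMap A Aq)
  let k := q.ResidueField
  have hJmax : ∀ c : Aq, algebraMap Aq k c = 0 → c ∈ maximalIdeal Aq := fun c hc => (residue_eq_zero_iff c).1 hc
  -- the differential on `J`
  let δ : J → k ⊗[Aq] Ω[Aq⁄R] := fun y => 1 ⊗ₜ KaehlerDifferential.D R Aq (y : Aq)
  have hδs : ∀ (c : Aq) (y : J), δ (c • y) = algebraMap Aq k c • δ y := fun c y => by
    have hy0 : algebraMap Aq k (y : Aq) = 0 := by
      refine (residue_eq_zero_iff _).2 (Ideal.map_le_iff_le_comap.2 (fun a ha => ?_) y.2)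
      rw [Ideal.mem_comap, ← Localization.AtPrime.map_eq_maximalIdeal]
      refine Ideal.mem_map_of_mem _ ?_
      rw [hq, Ideal.mem_comap, Ideal.Quotient.eq_zero_iff_mem.2 ha]
      exact zero_mem _
    simp only [δ, Submodule.coe_smul, smul_eq_mul, Derivation.leibniz, TensorProduct.tmul_add,
      ← TensorProduct.smul_tmul, Algebra.smul_def, mul_one, hy0, TensorProduct.zero_tmul, add_zero,
      TensorProduct.smul_tmul']
  let ι := {a : A // a ∈ I}
  let gJ : ι → J := fun a => ⟨algebraMap A Aq a.1, Ideal.mem_map_of_mem _ a.2⟩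
  have hδΦ : ∀ a : ι, δ (gJ a) = Φ (1 ⊗ₜ KaehlerDifferential.D R A a.1) := fun a => (hΦ a.1).symm
  constructor
  · intro h
    have hgen : Submodule.span Aq (Set.range gJ) = ⊤ := by
      refine Submodule.map_injective_of_injective (f := J.subtype) Subtype.val_injective ?_
      rw [Submodule.map_span, Submodule.map_top, Submodule.range_subtype, ← Set.range_comp]
      show Ideal.span (Set.range fun a : ι => algebraMap A Aq a.1) = _
      rw [show (Set.range fun a : ι => algebraMap A Aq a.1) = algebraMap A Aq '' (I : Set A) by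
        ext z; simp [ι], ← Ideal.map_span, Ideal.span_eq]
    obtain ⟨κ', a, hainj, hsp, hli⟩ := exists_linearIndependent' k (fun i : ι => (1 : k) ⊗ₜ[Aq] gJ i)
    haveI : Finite κ' := hli.finite
    haveI := Fintype.ofFinite κ'
    have hspJ : Submodule.span Aq (Set.range (gJ ∘ a)) = ⊤ := by
      have hall : ∀ y : J, (1 : k) ⊗ₜ[Aq] y ∈
          Submodule.span k (Set.range ((fun i : ι => (1 : k) ⊗ₜ[Aq] gJ i) ∘ a)) := fun y => by
        rw [hsp]
        have hy : y ∈ Submodule.span Aq (Set.range gJ) := by rw [hgen]; trivial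
        induction hy using Submodule.span_induction with
        | mem x hx => obtain ⟨i, rfl⟩ := hx; exact Submodule.subset_span ⟨i, rfl⟩
        | zero => rw [TensorProduct.tmul_zero]; exact zero_mem _
        | add x y _ _ hx hy => rw [TensorProduct.tmul_add]; exact add_mem hx hy
        | smul c x _ hx => rw [TensorProduct.tmul_smul]; exact Submodule.smul_of_tower_mem _ c hx
      refine IsLocalRing.map_tensorProduct_mk_eq_top.1 (eq_top_iff.2 fun z _ => ?_)
      obtain ⟨y, rfl⟩ := exists_tmul_one (surjective_residueField q) z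
      rw [Submodule.map_span, ← Set.range_comp, ← Submodule.restrictScalars_span Aq k (surjective_residueField q)]
      exact hall y
    refine ⟨Finset.univ.image fun i => (a i).1, ?_, ?_, ?_⟩
    · intro z hz
      simp only [Finset.coe_image, Finset.coe_univ, Set.image_univ, Set.mem_range] at hz
      obtain ⟨i, rfl⟩ := hz
      exact (a i).2
    · have h1 := congrArg (Submodule.map J.subtype) hspJ
      rw [Submodule.map_span, Submodule.map_top, Submodule.range_subtype, ← Set.range_comp] at h1
      rw [Finset.coe_image, Finset.coe_univ, Set.image_univ, ← Set.range_comp]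
      exact h1.symm
    · have hli2 : LinearIndependent k fun i : κ' => (1 : k) ⊗ₜ[A] KaehlerDifferential.D R A (a i).1 := by
        refine LinearIndependent.of_comp Φ.toLinearMap ?_
        refine Fintype.linearIndependent_iff.2 fun c hc => ?_
        choose cc hcc using fun i => surjective_residueField q (c i)
        let y : J := ∑ i, cc i • gJ (a i)
        have hy : δ y = 0 := by
          have hadd : ∀ u v : J, δ (u + v) = δ u + δ v := fun u v => by
            simp only [δ, Submodule.coe_add, map_add, TensorProduct.tmul_add]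
          let δ' : J →+ k ⊗[Aq] Ω[Aq⁄R] := AddMonoidHom.mk' δ hadd
          show δ' y = 0
          simp only [y, map_sum]
          refine (Finset.sum_congr rfl fun i _ => ?_).trans hc
          show δ (cc i • gJ (a i)) = _
          rw [hδs, hcc, hδΦ]
          rfl
        have hy2 := h y.1 y.2 hy
        have hy3 : (1 : k) ⊗ₜ[Aq] y = 0 := by
          have : y ∈ maximalIdeal Aq • (⊤ : Submodule Aq J) := by
            have h5 : y.1 ∈ (maximalIdeal Aq • (⊤ : Submodule Aq J)).map J.subtype := by
              rw [Submodule.map_smul'', Submodule.map_top, Submodule.range_subtype]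
              exact hy2
            obtain ⟨w, hw, hwy⟩ := h5
            rwa [show y = w from Subtype.ext hwy.symm]
          refine Submodule.smul_induction_on this (fun c hc w _ => ?_)
            (fun a b ha hb => by rw [TensorProduct.tmul_add, ha, hb, add_zero])
          rw [← TensorProduct.smul_tmul, Algebra.smul_def, mul_one,
            show algebraMap Aq k c = 0 from (IsLocalRing.residue_eq_zero_iff c).2 hc, TensorProduct.zero_tmul]
        rw [TensorProduct.tmul_sum] at hy3
        refine Fintype.linearIndependent_iff.1 hli c ?_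
        refine Eq.trans (Finset.sum_congr rfl fun i _ => ?_) hy3
        rw [← TensorProduct.smul_tmul, Algebra.smul_def, mul_one, hcc]
        show c i • ((1 : k) ⊗ₜ[Aq] gJ (a i)) = _
        rw [TensorProduct.smul_tmul', smul_eq_mul, mul_one]
      have hinj : Function.Injective fun i => (a i).1 := Subtype.val_injective.comp hainj
      let e : κ' ≃ ↥(Finset.univ.image fun i => (a i).1) := Equiv.ofBijective
        (fun i => ⟨(a i).1, Finset.mem_image_of_mem _ (Finset.mem_univ i)⟩)
        ⟨fun i j hij => hinj (Subtype.mk.inj hij), fun ⟨z, hz⟩ => by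
          obtain ⟨i, -, rfl⟩ := Finset.mem_image.1 hz
          exact ⟨i, rfl⟩⟩
      exact (linearIndependent_equiv e).1 hli2
  · rintro ⟨s, hsI, hspan, hli⟩ y hy h0
    rw [hspan, Ideal.span, Submodule.mem_span_image_finset_iff_exists_fun'] at hy
    obtain ⟨c, rfl⟩ := hy
    have hli' := hli.map' Φ.toLinearMap Φ.ker
    have hc : ∀ i : s, algebraMap Aq k (c i) = 0 := Fintype.linearIndependent_iff.1 hli' _ (by
      refine Eq.trans ?_ h0
      rw [map_sum, TensorProduct.tmul_sum, ← Finset.sum_coe_sort s]
      refine Finset.sum_congr rfl fun i _ => ?_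
      show _ • Φ _ = _
      rw [← hδΦ ⟨i.1, hsI i.2⟩, ← hδs]
      rfl)
    refine sum_mem fun i hi => ?_
    exact Submodule.smul_mem_smul (hJmax _ (hc ⟨i, hi⟩)) (Ideal.mem_map_of_mem _ (hsI hi))

end Groth.Agent.RGLib.Jacobian
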