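import Groth.Agent.RGLib.Kummer
import Groth.Prelude.Def_SGA1t
import Groth.Agent.RGLib.Jacobian

/-!
# Kummer theory over a local ring
-/

set_option autoImplicit false
set_option maxHeartbeats 1000000

universe u

open scoped TensorProduct
open IsLocalRing

noncomputable section

namespace Groth.Agent.RGLib.KummerLocal

variable {A : Type u} [CommRing A] [IsLocalRing A] {n : ℕ}

/-- A root of unity congruent to one is one. -/
theorem eq_one_of_residue (hn : IsUnit (n : A)) {x : A} (hx : x ^ n = 1) (hr : residue A x = 1) : x = 1 := by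
  have h : (∑ i ∈ Finset.range n, x ^ i) * (x - 1) = 0 := by rw [geom_sum_mul, hx, sub_self]
  have hu : IsUnit (∑ i ∈ Finset.range n, x ^ i) := by
    refine (IsLocalRing.residue_ne_zero_iff_isUnit _).1 ?_
    simp only [map_sum, map_pow, hr, one_pow, Finset.sum_const, Finset.card_range, nsmul_eq_mul, mul_one]
    rw [← map_natCast (residue A)]
    exact (IsLocalRing.residue_ne_zero_iff_isUnit _).2 hn
  exact sub_eq_zero.1 ((hu.mul_right_eq_zero).1 h)

theorem isUnit_sub_one (hn : IsUnit (n : A)) {x : A} (hx : x ^ n = 1) (h1 : x ≠ 1) : IsUnit (x - 1) :=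
  (IsLocalRing.residue_ne_zero_iff_isUnit _).1 fun h => h1 (eq_one_of_residue hn hx (by
    rwa [map_sub, map_one, sub_eq_zero] at h))

theorem geom_sum_eq_zero (hn : IsUnit (n : A)) {x : A} (hx : x ^ n = 1) (h1 : x ≠ 1) :
    ∑ i ∈ Finset.range n, x ^ i = 0 := by
  have h : (∑ i ∈ Finset.range n, x ^ i) * (x - 1) = 0 := by rw [geom_sum_mul, hx, sub_self]
  exact (isUnit_sub_one hn hx h1).mul_left_eq_zero.1 h

theorem primitive_residue (hn : IsUnit (n : A)) {ζ : A} (hζ : IsPrimitiveRoot ζ n) :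
    IsPrimitiveRoot (residue A ζ) n := by
  refine ⟨by rw [← map_pow, hζ.pow_eq_one, map_one], fun l hl => hζ.dvd_of_pow_eq_one l (eq_one_of_residue hn ?_ ?_)⟩
  · rw [← pow_mul, mul_comm, pow_mul, hζ.pow_eq_one, one_pow]
  · rw [map_pow, hl]

theorem exists_eq_pow (hn1 : 1 ≤ n) (hn : IsUnit (n : A)) {ζ : A} (hζ : IsPrimitiveRoot ζ n) {y : A}
    (hy : y ^ n = 1) : ∃ i < n, ζ ^ i = y := by
  haveI : NeZero n := ⟨by omega⟩
  obtain ⟨i, hi, h⟩ := (primitive_residue hn hζ).eq_pow_of_pow_eq_one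
    (show residue A y ^ n = 1 by rw [← map_pow, hy, map_one])
  refine ⟨i, hi, ?_⟩
  have h2 : y * (ζ ^ i) ^ (n - 1) = 1 := by
    refine eq_one_of_residue hn ?_ ?_
    · rw [mul_pow, hy, one_mul, ← pow_mul, ← pow_mul, show i * ((n - 1) * n) = n * (i * (n - 1)) by ring, pow_mul,
        hζ.pow_eq_one, one_pow]
    · rw [map_mul, map_pow, map_pow, h, ← pow_succ', Nat.sub_add_cancel hn1, ← map_pow, hy, map_one]
  have h3 : (ζ ^ i) ^ (n - 1) * ζ ^ i = 1 := by
    rw [← pow_succ, Nat.sub_add_cancel hn1, ← pow_mul, mul_comm, pow_mul, hζ.pow_eq_one, one_pow]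
  calc ζ ^ i = y * (ζ ^ i) ^ (n - 1) * ζ ^ i := by rw [h2, one_mul]
    _ = y := by rw [mul_assoc, h3, mul_one]

theorem exists_kummer (hn1 : 1 ≤ n) (hn : IsUnit (n : A)) {ζ : A} (hζ : IsPrimitiveRoot ζ n)
    (B : Type u) [CommRing B] [Algebra A B] [Module.Finite A B] [Algebra.Etale A B] [Nontrivial B]
    (σ : B →ₐ[A] B) (hσ : ∀ x, σ^[n] x = x)
    (hsurj : ∀ φ ψ : B →ₐ[A] AlgebraicClosure (ResidueField A), ∃ i < n, ∀ x, φ (σ^[i] x) = ψ x)
    (hfree : ∀ φ : B →ₐ[A] AlgebraicClosure (ResidueField A), ∀ i < n, ∀ j < n,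
      (∀ x, φ (σ^[i] x) = φ (σ^[j] x)) → i = j) :
    ∃ (a : Aˣ) (Φ : SGA1t.kummer A (fun _ : Unit => (a : A)) (fun _ => n) ≃ₐ[A] B),
      σ (Φ (Kummer.T _ _ ())) = ζ • Φ (Kummer.T _ _ ()) := by
  classical
  let Ω := AlgebraicClosure (ResidueField A)
  haveI : NeZero n := ⟨by omega⟩
  haveI : Module.Free A B := Module.free_of_flat_of_isLocalRing
  haveI : Module.FaithfullyFlat A B := inferInstance
  -- a point of the fibre
  haveI : Nontrivial (Ω ⊗[A] B) := inferInstance
  have hpts : ∀ z : Ω ⊗[A] B, (∀ χ : Ω ⊗[A] B →ₐ[Ω] Ω, χ z = 0) → z = 0 := fun z hz => by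
    haveI : IsArtinianRing (Ω ⊗[A] B) := isArtinian_of_tower Ω inferInstance
    haveI : IsReduced (Ω ⊗[A] B) := Algebra.FormallyUnramified.isReduced_of_field Ω _
    refine (IsReduced.eq_zero z ?_)
    rw [← mem_nilradical, nilradical, Ideal.radical_eq_sInf]
    simp only [Submodule.mem_sInf, Set.mem_setOf_eq]
    rintro P ⟨-, hP⟩
    haveI : Ideal.IsPrime P := hP
    haveI : Ideal.IsMaximal P := IsArtinianRing.isMaximal_of_isPrime P
    letI : Field ((Ω ⊗[A] B) ⧸ P) := Ideal.Quotient.field P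
    let χ : Ω ⊗[A] B →ₐ[Ω] Ω :=
      (IsAlgClosed.lift : (Ω ⊗[A] B) ⧸ P →ₐ[Ω] Ω).comp (Ideal.Quotient.mkₐ Ω P)
    have h := hz χ
    refine Ideal.Quotient.eq_zero_iff_mem.1 ?_
    exact (IsAlgClosed.lift : (Ω ⊗[A] B) ⧸ P →ₐ[Ω] Ω).toRingHom.injective (h.trans (map_zero _).symm)
  obtain ⟨χ₀⟩ : Nonempty (Ω ⊗[A] B →ₐ[Ω] Ω) := by
    by_contra hne
    exact one_ne_zero (hpts 1 fun χ => absurd ⟨χ⟩ hne)
  let ψ : B →ₐ[A] Ω := (χ₀.restrictScalars A).comp Algebra.TensorProduct.includeRight
  -- the projectors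
  obtain ⟨w, hw⟩ : ∃ w : A, ζ * w = 1 :=
    ⟨ζ ^ (n - 1), by rw [← pow_succ', Nat.sub_add_cancel hn1, hζ.pow_eq_one]⟩
  have hwn : w ^ n = 1 := by
    have := congrArg (· ^ n) hw
    simpa [mul_pow, hζ.pow_eq_one] using this
  have hzw : ∀ j k, j < n → k < n → ζ ^ j * w ^ k = 1 → j = k := fun j k hj hk h => by
    refine hζ.pow_inj hj hk ?_
    calc ζ ^ j = ζ ^ j * (ζ * w) ^ k := by rw [hw, one_pow, mul_one]
      _ = ζ ^ k * (ζ ^ j * w ^ k) := by rw [mul_pow]; ring
      _ = ζ ^ k := by rw [h, mul_one]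
  obtain ⟨ninv, hninv⟩ := hn.exists_left_inv
  let σl : Module.End A B := σ.toLinearMap
  have hσl : ∀ i x, (σl ^ i) x = σ^[i] x := fun i x => Module.End.pow_apply σl i x
  let E : ℕ → Module.End A B := fun j => ninv • ∑ i ∈ Finset.range n, (w ^ (j * i)) • σl ^ i
  have hE : ∀ j x, E j x = ninv • ∑ i ∈ Finset.range n, w ^ (j * i) • σ^[i] x := fun j x => by
    simp [E, LinearMap.sum_apply, hσl]
  have hEσ : ∀ j x, σ (E j x) = ζ ^ j • E j x := fun j x => by
    rw [hE, map_smul, map_sum, smul_comm (ζ ^ j) ninv]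
    congr 1
    rw [Finset.smul_sum]
    let h : ℕ → B := fun i => ζ ^ j • w ^ (j * i) • σ^[i] x
    have hper : h n = h 0 := by
      simp only [h, hσ, mul_zero, pow_zero, Function.iterate_zero, id_eq]
      rw [mul_comm, pow_mul, hwn, one_pow]
    have hshift : ∀ i, σ (w ^ (j * i) • σ^[i] x) = h (i + 1) := fun i => by
      simp only [h, map_smul, Function.iterate_succ', Function.comp_apply, smul_smul]
      congr 1
      rw [mul_add, mul_one, pow_add, ← mul_assoc, mul_comm (ζ ^ j), mul_assoc, ← mul_pow, hw, one_pow, mul_one]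
    simp only [hshift]
    have h1 := Finset.sum_range_succ' h n
    rw [Finset.sum_range_succ, hper] at h1
    exact (add_right_cancel h1).symm
  have hEsum : ∀ x, ∑ j ∈ Finset.range n, E j x = x := fun x => by
    simp only [hE, ← Finset.smul_sum]
    rw [Finset.sum_comm]
    simp only [← Finset.sum_smul]
    rw [Finset.sum_eq_single 0 (fun i hi hi0 => ?_) (fun h => absurd (Finset.mem_range.2 (by omega)) h)]
    · simp [smul_smul, hninv]
    · rw [show ∑ j ∈ Finset.range n, w ^ (j * i) = ∑ j ∈ Finset.range n, (w ^ i) ^ j from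
        Finset.sum_congr rfl fun j _ => by rw [← pow_mul, mul_comm],
        geom_sum_eq_zero hn (by rw [← pow_mul, mul_comm, pow_mul, hwn, one_pow]) fun h => ?_, zero_smul]
      exact hi0 (hzw 0 i (by omega) (Finset.mem_range.1 hi) (by simp [h])).symm
  have hEeig : ∀ (k j : ℕ) (x : B), k < n → j < n → σ x = ζ ^ j • x → E k x = if j = k then x else 0 :=
    fun k j x hk hj hx => by
    have hit : ∀ i, σ^[i] x = (ζ ^ j) ^ i • x := fun i => by
      induction i with
      | zero => simp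
      | succ i ih => rw [Function.iterate_succ', Function.comp_apply, ih, map_smul, hx, smul_smul, ← pow_succ]
    rw [hE]
    simp only [hit, smul_smul, ← Finset.sum_smul]
    rw [show ∑ i ∈ Finset.range n, w ^ (k * i) * (ζ ^ j) ^ i = ∑ i ∈ Finset.range n, (ζ ^ j * w ^ k) ^ i from
      Finset.sum_congr rfl fun i _ => by rw [mul_pow, ← pow_mul w, mul_comm]]
    split_ifs with hjk
    · subst hjk
      simp [← mul_pow, hw, smul_smul, hninv]
    · rw [geom_sum_eq_zero hn (by
        rw [mul_pow, ← pow_mul, ← pow_mul, mul_comm j, mul_comm k, pow_mul, pow_mul, hζ.pow_eq_one, hwn,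
          one_pow, one_pow, mul_one]) fun h => hjk (hzw j k hj hk h), mul_zero, zero_smul]
  -- a generator of the first eigenspace
  obtain ⟨x₁, hx₁⟩ : ∃ x, ψ (E 1 x) ≠ 0 := by
    by_contra hall
    push Not at hall
    let v : Fin n → (B →* Ω) := fun i =>
      ((ψ.comp (σ ^ (i : ℕ))).toRingHom : B →* Ω)
    have hv : ∀ (i : Fin n) x, v i x = ψ (σ^[(i : ℕ)] x) := fun i x => by
      show ψ ((σ ^ (i : ℕ)) x) = _
      rw [AlgHom.coe_pow]
    have hinj : Function.Injective v := fun i j h => Fin.ext (hfree ψ i i.2 j j.2 fun x => by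
      rw [← hv, ← hv, h])
    have hli := (linearIndependent_monoidHom B Ω).comp v hinj
    have h0 := Fintype.linearIndependent_iff.1 hli (fun i => algebraMap A Ω (ninv * w ^ (1 * (i : ℕ)))) (by
      funext x
      have h := hall x
      rw [hE, map_smul, map_sum, Finset.smul_sum, Finset.sum_range (fun i => ninv • ψ (w ^ (1 * i) • σ^[i] x))] at h
      simp only [Finset.sum_apply, Pi.smul_apply, Pi.zero_apply, Function.comp_apply, smul_eq_mul]
      refine Eq.trans (Finset.sum_congr rfl fun i _ => ?_) h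
      rw [hv, map_smul, smul_smul, Algebra.smul_def]) ⟨0, by omega⟩
    rw [show w ^ (1 * 0) = 1 by simp, mul_one] at h0
    have : IsUnit (algebraMap A Ω ninv) := (IsUnit.of_mul_eq_one _ hninv).map _
    exact this.ne_zero h0
  let b := E 1 x₁
  have hb : σ b = ζ • b := by rw [hEσ, pow_one]
  have hbit : ∀ i, σ^[i] b = ζ ^ i • b := fun i => by
    induction i with
    | zero => simp
    | succ i ih => rw [Function.iterate_succ', Function.comp_apply, ih, map_smul, hb, smul_smul, ← pow_succ]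
  have hbpt : ∀ φ : B →ₐ[A] Ω, φ b ≠ 0 := fun φ h => by
    obtain ⟨i, -, hi⟩ := hsurj φ ψ
    refine hx₁ ?_
    show ψ b = 0
    rw [← hi, hbit, map_smul, h, smul_zero]
  have hbu : IsUnit b := by
    by_contra hb'
    obtain ⟨P, hP, hbP⟩ := exists_max_ideal_of_mem_nonunits hb'
    haveI : Algebra.IsIntegral A B := inferInstance
    have hcomap : P.comap (algebraMap A B) = maximalIdeal A :=
      IsLocalRing.eq_maximalIdeal (Ideal.isMaximal_comap_of_isIntegral_of_isMaximal P)
    letI : Field (B ⧸ P) := Ideal.Quotient.field P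
    letI : Algebra (ResidueField A) (B ⧸ P) :=
      (Ideal.Quotient.lift (maximalIdeal A) ((Ideal.Quotient.mk P).comp (algebraMap A B)) fun c hc =>
        Ideal.Quotient.eq_zero_iff_mem.2 (by rw [← hcomap] at hc; exact hc)).toAlgebra
    haveI : IsScalarTower A (ResidueField A) (B ⧸ P) := .of_algebraMap_eq fun c => rfl
    haveI : Module.Finite (ResidueField A) (B ⧸ P) := Module.Finite.of_restrictScalars_finite A _ _
    let L : B ⧸ P →ₐ[ResidueField A] Ω := IsAlgClosed.lift
    refine hbpt ((L.restrictScalars A).comp (Ideal.Quotient.mkₐ A P)) ?_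
    show L (Ideal.Quotient.mk P b) = 0
    rw [Ideal.Quotient.eq_zero_iff_mem.2 hbP, map_zero]
  -- invariants
  let F : Submodule A B := LinearMap.range (E 0)
  have hFfix : ∀ x, σ x = x → x ∈ F := fun x hx => ⟨x, by
    rw [hEeig 0 0 x (by omega) (by omega) (by rw [pow_zero, one_smul, hx]), if_pos rfl]⟩
  have hfix : ∀ x, σ x = x → ∃ c : A, algebraMap A B c = x := by
    let N : Submodule A B := Submodule.span A {1}
    have hE1 : E 0 1 = 1 := by rw [hEeig 0 0 1 (by omega) (by omega) (by simp), if_pos rfl]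
    suffices hle : F ≤ N by
      intro x hx
      obtain ⟨c, hc⟩ := Submodule.mem_span_singleton.1 (hle (hFfix x hx))
      exact ⟨c, by rw [Algebra.algebraMap_eq_smul_one, hc]⟩
    refine Submodule.le_of_le_smul_of_le_jacobson_bot (Submodule.fg_range (E 0))
      (IsLocalRing.maximalIdeal_le_jacobson ⊥) ?_
    rintro _ ⟨x', rfl⟩
    set x := E 0 x'
    have hx : σ x = x := by rw [hEσ, pow_zero, one_smul]
    have hxit : ∀ i, σ^[i] x = x := fun i => Function.iterate_fixed hx i
    have hz : (1 : Ω) ⊗ₜ[A] x = ψ x ⊗ₜ[A] (1 : B) := by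
      rw [← sub_eq_zero]
      refine hpts _ fun χ => ?_
      obtain ⟨i, -, hi⟩ := hsurj ((χ.restrictScalars A).comp Algebra.TensorProduct.includeRight) ψ
      have h1 := hi x
      rw [hxit] at h1
      rw [map_sub, show ψ x ⊗ₜ[A] (1 : B) = algebraMap Ω (Ω ⊗[A] B) (ψ x) from rfl, AlgHom.commutes,
        Algebra.algebraMap_self, RingHom.id_apply, sub_eq_zero]
      exact h1
    let q := N.mkQ
    have hq : (1 : Ω) ⊗ₜ[A] q x = 0 := by
      have := congrArg (LinearMap.lTensor Ω q) hz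
      rw [LinearMap.lTensor_tmul, LinearMap.lTensor_tmul] at this
      rw [this, show q 1 = 0 from (Submodule.Quotient.mk_eq_zero N).2 (Submodule.subset_span rfl),
        TensorProduct.tmul_zero]
    obtain ⟨ret, hret⟩ := (Algebra.linearMap (ResidueField A) Ω).exists_leftInverse_of_injective
      (LinearMap.ker_eq_bot.2 (RingHom.injective _))
    have hq' : (1 : ResidueField A) ⊗ₜ[A] q x = 0 := by
      have := congrArg (LinearMap.rTensor _ (ret.restrictScalars A)) hq
      rwa [LinearMap.rTensor_tmul, map_zero, LinearMap.restrictScalars_apply,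
        show ret 1 = 1 from by simpa using LinearMap.congr_fun hret 1] at this
    have hmem := Jacobian.mem_smul_of_tmul_eq_zero hq'
    have hxm : x ∈ N ⊔ maximalIdeal A • (⊤ : Submodule A B) := by
      rw [← Submodule.range_mkQ N, ← Submodule.map_top, ← Submodule.map_smul''] at hmem
      obtain ⟨y, hy, hyx⟩ := hmem
      have : x - y ∈ N := (Submodule.Quotient.eq N).1 hyx.symm
      simpa using add_mem (Submodule.mem_sup_left (T := maximalIdeal A • (⊤ : Submodule A B)) this)
        (Submodule.mem_sup_right (S := N) hy)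
    have h2 := Submodule.mem_map_of_mem (f := E 0) hxm
    rw [Submodule.map_sup, Submodule.map_smul'', Submodule.map_top, Submodule.map_span, Set.image_singleton,
      hE1] at h2
    rwa [show E 0 x = x by rw [hEeig 0 0 x (by omega) (by omega) (by rw [pow_zero, one_smul, hx]), if_pos rfl]] at h2
  obtain ⟨c, hc⟩ := hfix (b ^ n) (by rw [map_pow, hb, smul_pow, hζ.pow_eq_one, one_smul])
  have hinjA : Function.Injective (algebraMap A B) := FaithfulSMul.algebraMap_injective A B
  have hcu : IsUnit c := by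
    by_contra h
    obtain ⟨P, hP, hPcomap⟩ := Ideal.exists_ideal_over_prime_of_isIntegral (S := B) (maximalIdeal A) ⊥ (by simp [RingHom.ker_eq_bot_iff_eq_zero, hinjA.eq_iff' (map_zero _)])
    have hbP : algebraMap A B c ∈ P := by
      rw [← Ideal.mem_comap, hPcomap.2]
      exact h
    exact hPcomap.1.ne_top (Ideal.eq_top_of_isUnit_mem _ (hc ▸ hbP) (hbu.pow n))
  obtain ⟨a, rfl⟩ := hcu
  obtain ⟨Φ, hΦ, -⟩ := Kummer.existsUnique_hom (fun _ : Unit => (a : A)) (fun _ => n) (fun _ => b)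
    (fun _ => hc.symm)
  have hΦT : Φ (Kummer.T _ _ ()) = b := hΦ ()
  have hsurjΦ : Function.Surjective Φ := fun x => by
    have hx : ∀ j < n, ∃ d : A, E j x = d • b ^ j := fun j hj => by
      obtain ⟨d, hd⟩ := hfix (E j x * ↑(hbu.unit⁻¹ ^ j)) (by
        have hbj : b ^ j * ↑(hbu.unit⁻¹ ^ j) = 1 := by
          rw [Units.val_pow_eq_pow_val, ← mul_pow, IsUnit.mul_val_inv, one_pow]
        have h1 : σ (E j x * ↑(hbu.unit⁻¹ ^ j)) * (ζ ^ j • b ^ j) = (E j x * ↑(hbu.unit⁻¹ ^ j)) * (ζ ^ j • b ^ j) := by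
          calc _ = σ (E j x * ↑(hbu.unit⁻¹ ^ j) * b ^ j) := by
                rw [map_mul σ (E j x * _), map_pow, hb, smul_pow]
            _ = ζ ^ j • E j x := by rw [mul_assoc, mul_comm (↑(hbu.unit⁻¹ ^ j) : B), hbj, mul_one, hEσ]
            _ = _ := by rw [mul_smul_comm, mul_assoc, mul_comm (↑(hbu.unit⁻¹ ^ j) : B), hbj, mul_one]
        refine (IsUnit.mul_left_inj ?_).1 h1
        rw [Algebra.smul_def]
        exact (((hζ.isUnit (by omega)).pow j).map _).mul (hbu.pow j))
      refine ⟨d, ?_⟩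
      rw [Algebra.smul_def, hd, mul_assoc, Units.val_pow_eq_pow_val, ← mul_pow, IsUnit.val_inv_mul, one_pow, mul_one]
    choose d hd using hx
    refine ⟨∑ j : Fin n, d j j.2 • Kummer.T _ _ () ^ (j : ℕ), ?_⟩
    rw [map_sum]
    simp only [map_smul, map_pow, hΦT, ← hd]
    rw [← Finset.sum_range (fun j => E j x), hEsum]
  have hinjΦ : Function.Injective Φ := by
    have hspan : ∀ z, ∃ e : Fin n → A, ∑ j : Fin n, e j • Kummer.T (fun _ : Unit => (a : A)) (fun _ => n) () ^ (j : ℕ) = z := by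
      intro z
      have hmem : z ∈ Submodule.span A (Set.range fun j : Fin n =>
          Kummer.T (fun _ : Unit => (a : A)) (fun _ => n) () ^ (j : ℕ)) := by
        set M := Submodule.span A (Set.range fun j : Fin n => Kummer.T (fun _ : Unit => (a : A)) (fun _ => n) () ^ (j : ℕ))
        have hpow : ∀ m : ℕ, Kummer.T (fun _ : Unit => (a : A)) (fun _ => n) () ^ m ∈ M := fun m => by
          rw [← Nat.div_add_mod m n, pow_add, pow_mul, Kummer.T_pow, ← map_pow, ← Algebra.smul_def]
          exact Submodule.smul_mem _ _ (Submodule.subset_span ⟨⟨m % n, Nat.mod_lt _ (by omega)⟩, rfl⟩)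
        have hz : z ∈ Algebra.adjoin A (Set.range (Kummer.T (fun _ : Unit => (a : A)) (fun _ => n))) := by
          rw [Kummer.adjoin_T]; trivial
        rw [Set.range_unique (f := Kummer.T (fun _ : Unit => (a : A)) (fun _ => n))] at hz
        rw [Algebra.adjoin_singleton_eq_range_aeval] at hz
        obtain ⟨p, rfl⟩ := hz
        show Polynomial.aeval _ p ∈ M
        rw [Polynomial.aeval_eq_sum_range]
        exact sum_mem fun m _ => Submodule.smul_mem _ _ (hpow m)
      exact (Submodule.mem_span_range_iff_exists_fun A).1 hmem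
    refine (injective_iff_map_eq_zero Φ).2 fun z hz => ?_
    obtain ⟨e, rfl⟩ := hspan z
    rw [map_sum] at hz
    simp only [map_smul, map_pow, hΦT] at hz
    have he : ∀ k : Fin n, e k = 0 := fun k => by
      have h1 := congrArg (E (k : ℕ)) hz
      rw [map_sum, map_zero, Finset.sum_eq_single k (fun j _ hjk => ?_) (fun h => absurd (Finset.mem_univ k) h)] at h1
      · rw [map_smul, hEeig k k (b ^ (k : ℕ)) k.2 k.2 (by rw [map_pow, hb, smul_pow]), if_pos rfl, Algebra.smul_def] at h1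
        exact hinjA (((hbu.pow _).mul_left_eq_zero.1 h1).trans (map_zero _).symm)
      · rw [map_smul, hEeig k j (b ^ (j : ℕ)) k.2 j.2 (by rw [map_pow, hb, smul_pow]), if_neg (Fin.val_injective.ne hjk),
          smul_zero]
    simp [he]
  refine ⟨a, AlgEquiv.ofBijective Φ ⟨hinjΦ, hsurjΦ⟩, ?_⟩
  show σ (Φ _) = ζ • Φ _
  rw [hΦT, hb]

end Groth.Agent.RGLib.KummerLocal
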