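import Groth.Agent.QCoh.PullbackBC
import Groth.Agent.QCoh.Localize
import Groth.Agent.QCoh.Sections
import Mathlib.AlgebraicGeometry.AffineTransitionLimit

/-!
# Vanishing of pulled-back sections at a stage of a limit
-/

set_option autoImplicit false
set_option linter.style.haveILetI false

universe v u

open CategoryTheory CategoryTheory.Limits AlgebraicGeometry TopologicalSpace
open scoped TensorProduct

namespace Groth.Agent.RGLib.Lim8

section Ev

variable {C : Type u} [Category.{v} C] [IsCofiltered C] {i₀ : C}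

/-- A property of objects over `i₀` holds from some stage on. -/
def Ev (P : ∀ j : C, (j ⟶ i₀) → Prop) : Prop :=
  ∃ (j : C) (φ : j ⟶ i₀), ∀ (k : C) (ψ : k ⟶ j), P k (ψ ≫ φ)

theorem Ev.exists_stage {P : ∀ j : C, (j ⟶ i₀) → Prop} (h : Ev P) :
    ∃ (j : C) (φ : j ⟶ i₀), P j φ := by
  obtain ⟨j, φ, h⟩ := h
  exact ⟨j, φ, by simpa using h j (𝟙 j)⟩

theorem ev_of_stage {P : ∀ j : C, (j ⟶ i₀) → Prop}
    (hP : ∀ (j : C) (φ : j ⟶ i₀), P j φ → ∀ (k : C) (ψ : k ⟶ j), P k (ψ ≫ φ)) {j : C} (φ : j ⟶ i₀)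
    (h : P j φ) : Ev P :=
  ⟨j, φ, hP j φ h⟩

theorem Ev.mono {P Q : ∀ j : C, (j ⟶ i₀) → Prop} (h : Ev P) (hPQ : ∀ j φ, P j φ → Q j φ) : Ev Q := by
  obtain ⟨j, φ, h⟩ := h
  exact ⟨j, φ, fun k ψ => hPQ _ _ (h k ψ)⟩

theorem Ev.and {P Q : ∀ j : C, (j ⟶ i₀) → Prop} (hP : Ev P) (hQ : Ev Q) :
    Ev (fun j φ => P j φ ∧ Q j φ) := by
  obtain ⟨j, φ, hj⟩ := hP
  obtain ⟨k, ψ, hk⟩ := hQ
  obtain ⟨l, a, b, h⟩ := IsCofiltered.cospan φ ψ
  refine ⟨l, a ≫ φ, fun m χ => ⟨?_, ?_⟩⟩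
  · simpa using hj m (χ ≫ a)
  · simpa [h] using hk m (χ ≫ b)

theorem Ev.forall_finset {σ : Type*} (s : Finset σ) {P : σ → ∀ j : C, (j ⟶ i₀) → Prop}
    (h : ∀ x ∈ s, Ev (P x)) : Ev (fun j φ => ∀ x ∈ s, P x j φ) := by
  classical
  induction s using Finset.induction_on with
  | empty => exact ⟨i₀, 𝟙 i₀, fun _ _ x hx => absurd hx (Finset.notMem_empty x)⟩
  | insert a s _ ih =>
    refine ((h a (Finset.mem_insert_self a s)).and
      (ih fun x hx => h x (Finset.mem_insert_of_mem hx))).mono fun j φ hj x hx => ?_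
    rcases Finset.mem_insert.1 hx with rfl | hx
    · exact hj.1
    · exact hj.2 x hx

theorem Ev.forall_fintype {σ : Type*} [Finite σ] {P : σ → ∀ j : C, (j ⟶ i₀) → Prop}
    (h : ∀ x, Ev (P x)) : Ev (fun j φ => ∀ x, P x j φ) := by
  have := Fintype.ofFinite σ
  exact (Ev.forall_finset Finset.univ fun x _ => h x).mono fun _ _ hj x => hj x (Finset.mem_univ x)

end Ev

section Relation

variable {A C N : Type u} [CommRing A] [CommRing C] [Algebra A C] [AddCommGroup N] [Module A N]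

open Classical in
/-- The finitely many equations behind the vanishing of `1 ⊗ n`. -/
theorem exists_relation (n : N) (h : (1 : C) ⊗ₜ[A] n = 0) :
    ∃ (m : ℕ) (c : Fin m → C) (K : Fin m → (N →₀ A)),
      (∀ k, Finsupp.linearCombination A id (K k) = 0) ∧
      ∀ x : N, ∑ k, c k * algebraMap A C (K k x) = if x = n then 1 else 0 := by
  let π : (N →₀ A) →ₗ[A] N := Finsupp.linearCombination A id
  have hπ : Function.Surjective π := fun x => ⟨Finsupp.single x 1, by simp [π]⟩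
  have hz : (LinearMap.lTensor C π) ((1 : C) ⊗ₜ Finsupp.single n 1) = 0 := by simp [π, h]
  have hex : Function.Exact (LinearMap.ker π).subtype π := fun y =>
    ⟨fun hy => ⟨⟨y, hy⟩, rfl⟩, fun ⟨w, hw⟩ => hw ▸ w.2⟩
  obtain ⟨t, ht⟩ := (@lTensor_exact A (LinearMap.ker π) (N →₀ A) N _ _ _ _ _ _ _ (LinearMap.ker π).subtype π C _ _ hex hπ _).1 hz
  obtain ⟨s, hs⟩ := TensorProduct.exists_finset t
  refine ⟨s.card, fun k => (s.equivFin.symm k).1.1, fun k => (s.equivFin.symm k).1.2.1,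
    fun k => (s.equivFin.symm k).1.2.2, fun x => ?_⟩
  let ev : C ⊗[A] (N →₀ A) →ₗ[A] C :=
    TensorProduct.lift (LinearMap.mk₂ A (fun (c : C) (f : N →₀ A) => c * algebraMap A C (f x))
      (fun a b f => add_mul _ _ _) (fun a c f => smul_mul_assoc _ _ _)
      (fun c f g => by simp [mul_add]) (fun a c f => by simp [Algebra.smul_def, mul_left_comm]))
  have := congrArg ev ht
  simp only [hs, map_sum, LinearMap.lTensor_tmul, Submodule.coe_subtype] at this
  simp only [ev, TensorProduct.lift.tmul, LinearMap.mk₂_apply, one_mul] at this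
  rw [Finsupp.single_apply] at this
  rw [Equiv.sum_comp s.equivFin.symm (fun p => p.1.1 * algebraMap A C (p.1.2.1 x))]
  rw [Finset.sum_coe_sort s (fun p => p.1 * algebraMap A C (p.2.1 x)), this]
  by_cases hx : x = n
  · subst hx; simp
  · simp [hx, Ne.symm hx]

open Classical in
/-- The equations force the vanishing, in any module receiving a semilinear map. -/
theorem eq_zero_of_relation {A B N Q : Type*} [CommRing A] [CommRing B] [AddCommGroup N] [Module A N]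
    [AddCommGroup Q] [Module B Q] {σ : A →+* B} (l : N →ₛₗ[σ] Q) (n : N) {m : ℕ} (b : Fin m → B)
    (K : Fin m → (N →₀ A)) (T : Finset N) (hn : n ∈ T) (hKT : ∀ k, (K k).support ⊆ T)
    (hK : ∀ k, Finsupp.linearCombination A id (K k) = 0)
    (he : ∀ x ∈ T, ∑ k, b k * σ (K k x) = if x = n then 1 else 0) : l n = 0 := by
  have h1 : l n = ∑ x ∈ T, (if x = n then (1 : B) else 0) • l x := by
    simp [Finset.sum_ite_eq', hn]
  have h2 : ∀ k, ∑ x ∈ T, σ (K k x) • l x = 0 := fun k => by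
    rw [Finset.sum_congr rfl fun x _ => (l.map_smulₛₗ _ x).symm, ← map_sum]
    have := hK k
    rw [Finsupp.linearCombination_apply, Finsupp.sum_of_support_subset _ (hKT k)] at this
    · simp only [id] at this
      rw [this, map_zero]
    · simp
  rw [h1, ← Finset.sum_congr rfl fun x hx => congrArg (· • l x) (he x hx)]
  simp only [Finset.sum_smul, mul_smul]
  rw [Finset.sum_comm]
  simp [← Finset.smul_sum, h2]

end Relation

section Sections

open Groth.Agent.QCoh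

theorem topIso_appLE {X Y : Scheme.{u}} (f : X ⟶ Y) (U : Y.Opens) (V : X.Opens) (e : V ≤ f ⁻¹ᵁ U) :
    U.topIso.hom ≫ f.appLE U V e = (f.resLE U V e).appTop ≫ V.topIso.hom := by
  simp only [Scheme.Opens.topIso_hom, Scheme.Hom.appTop, Scheme.Hom.app_eq_appLE]
  erw [Scheme.Hom.map_appLE, Scheme.Hom.resLE_appLE, Scheme.Hom.appLE_map]

variable {I : Type u} [SmallCategory I] [IsCofiltered I] (D : I ⥤ Scheme.{u}) (c : Cone D)
  (hc : IsLimit c) [∀ (i j : I) (f : i ⟶ j), IsAffineHom (D.map f)] {i₀ : I}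

omit [∀ (i j : I) (f : i ⟶ j), IsAffineHom (D.map f)] in
theorem le_π_preimage {V : (D.obj i₀).Opens} {j : I} (φ : j ⟶ i₀) :
    c.π.app i₀ ⁻¹ᵁ V ≤ c.π.app j ⁻¹ᵁ (D.map φ ⁻¹ᵁ V) := by
  rw [← Scheme.Hom.comp_preimage, c.w φ]

omit [∀ (i j : I) (f : i ⟶ j), IsAffineHom (D.map f)] in
theorem le_map_preimage {V : (D.obj i₀).Opens} {j k : I} (φ : j ⟶ i₀) (ψ : k ⟶ j) :
    D.map (ψ ≫ φ) ⁻¹ᵁ V ≤ D.map ψ ⁻¹ᵁ (D.map φ ⁻¹ᵁ V) := by
  rw [← Scheme.Hom.comp_preimage, ← D.map_comp]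

omit [∀ (i j : I) (f : i ⟶ j), IsAffineHom (D.map f)] in
theorem res_comp {V : (D.obj i₀).Opens} {j k : I} (φ : j ⟶ i₀) (ψ : k ⟶ j)
    (x : Γ(D.obj j, D.map φ ⁻¹ᵁ V)) :
    (c.π.app k).appLE _ _ (le_π_preimage D c (ψ ≫ φ))
        ((D.map ψ).appLE _ _ (le_map_preimage D φ ψ) x) =
      (c.π.app j).appLE _ _ (le_π_preimage D c φ) x := by
  rw [← ConcreteCategory.comp_apply, Scheme.Hom.appLE_comp_appLE]
  simp only [c.w ψ]

include hc in
/-- A section over the preimage of an affine open comes from a stage. -/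
theorem ev_section {V : (D.obj i₀).Opens} (hV : IsAffineOpen V) (s : Γ(c.pt, c.π.app i₀ ⁻¹ᵁ V)) :
    Ev (fun j (φ : j ⟶ i₀) => ∃ t, (c.π.app j).appLE _ _ (le_π_preimage D c φ) t = s) := by
  have (j : Over i₀) : IsAffine ((opensDiagram D i₀ V).obj j) := hV.preimage (D.map _)
  let W := c.π.app i₀ ⁻¹ᵁ V
  obtain ⟨j, t, ht⟩ := exists_appTop_π_eq_of_isAffine_of_isLimit _ _
    (isLimitOpensCone D c hc i₀ V) (W.topIso.inv s)
  refine ev_of_stage (fun j φ hj k ψ => ?_) j.hom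
    ⟨(D.map j.hom ⁻¹ᵁ V).topIso.hom t, ?_⟩
  · obtain ⟨t, rfl⟩ := hj
    exact ⟨_, res_comp D c φ ψ t⟩
  · let πj : c.pt ⟶ D.obj j.left := c.π.app j.left
    let r : (W : Scheme) ⟶ (D.map j.hom ⁻¹ᵁ V : (D.obj j.left).Opens) :=
      πj.resLE _ _ (le_π_preimage D c j.hom)
    have h2 : W.topIso.hom (r.appTop t) = s := (congrArg W.topIso.hom ht).trans (by
      rw [← ConcreteCategory.comp_apply, Iso.inv_hom_id]; rfl)
    refine Eq.trans ?_ h2
    have e : (D.map j.hom ⁻¹ᵁ V).topIso.hom ≫ πj.appLE _ _ (le_π_preimage D c j.hom) =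
        r.appTop ≫ W.topIso.hom := by
      exact topIso_appLE πj _ _ (le_π_preimage D c j.hom)
    exact congrArg (fun g => g.hom t) e

include hc in
/-- A section vanishing in the limit vanishes from some stage on. -/
theorem ev_section_zero {V : (D.obj i₀).Opens} (hV : IsCompact (V : Set (D.obj i₀))) {j : I}
    (φ : j ⟶ i₀) (t : Γ(D.obj j, D.map φ ⁻¹ᵁ V))
    (ht : (c.π.app j).appLE _ _ (le_π_preimage D c φ) t = 0) :
    Ev (fun k (ψ : k ⟶ j) => (D.map ψ).appLE _ _ (le_map_preimage D φ ψ) t = 0) := by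
  have hc' : IsCompact ((D.map φ ⁻¹ᵁ V : (D.obj j).Opens) : Set (D.obj j)) :=
    QuasiCompact.isCompact_preimage (f := D.map φ) _ V.2 hV
  have he : c.π.app j ⁻¹ᵁ (D.map φ ⁻¹ᵁ V) = c.π.app i₀ ⁻¹ᵁ V := by
    rw [← Scheme.Hom.comp_preimage, c.w φ]
  have ht' : (c.π.app j).app (D.map φ ⁻¹ᵁ V) t = 0 := by
    let πj : c.pt ⟶ D.obj j := c.π.app j
    have := congrArg (c.pt.presheaf.map (homOfLE he.le).op) ht
    rw [map_zero, ← ConcreteCategory.comp_apply] at this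
    refine Eq.trans ?_ this
    exact congrArg (fun g => g.hom t)
      ((Scheme.Hom.appLE_map πj (le_π_preimage D c φ) (homOfLE he.le).op).trans
        (Scheme.Hom.app_eq_appLE πj).symm).symm
  obtain ⟨k, ψ, hk⟩ := exists_app_map_eq_zero_of_isLimit D c hc hc' t ht'
  refine ⟨k, ψ, fun l χ => ?_⟩
  have hle : D.map ((χ ≫ ψ) ≫ φ) ⁻¹ᵁ V ≤ D.map χ ⁻¹ᵁ (D.map ψ ⁻¹ᵁ (D.map φ ⁻¹ᵁ V)) := by
    simp only [Functor.map_comp, Scheme.Hom.comp_preimage]; exact le_rfl
  have := congrArg ((D.map χ).appLE _ _ hle) hk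
  rw [map_zero, Scheme.Hom.app_eq_appLE, ← ConcreteCategory.comp_apply,
    Scheme.Hom.appLE_comp_appLE] at this
  simpa only [← D.map_comp] using this

omit [∀ (i j : I) (f : i ⟶ j), IsAffineHom (D.map f)] in
theorem res_base {V : (D.obj i₀).Opens} {j k : I} (φ : j ⟶ i₀) (ψ : k ⟶ j) (a : Γ(D.obj i₀, V)) :
    (D.map ψ).appLE _ _ (le_map_preimage D φ ψ) ((D.map φ).appLE V _ le_rfl a) =
      (D.map (ψ ≫ φ)).appLE V _ le_rfl a := by
  rw [← ConcreteCategory.comp_apply, Scheme.Hom.appLE_comp_appLE]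
  simp only [← D.map_comp]

omit [∀ (i j : I) (f : i ⟶ j), IsAffineHom (D.map f)] in
theorem res_base_limit {V : (D.obj i₀).Opens} {j : I} (φ : j ⟶ i₀) (a : Γ(D.obj i₀, V)) :
    (c.π.app j).appLE _ _ (le_π_preimage D c φ) ((D.map φ).appLE V _ le_rfl a) =
      (c.π.app i₀).appLE V _ le_rfl a := by
  rw [← ConcreteCategory.comp_apply, Scheme.Hom.appLE_comp_appLE]
  simp only [c.w φ]

/-- `pullSec` as a semilinear map. -/
noncomputable def pullSecₛₗ {X X' : Scheme.{u}} (f : X' ⟶ X) (G : X.Modules) (V : X.Opens) :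
    Γ(G, V) →ₛₗ[(f.appLE V (f ⁻¹ᵁ V) le_rfl).hom] Γ((Scheme.Modules.pullback f).obj G, f ⁻¹ᵁ V) where
  toFun := pullSec f G le_rfl
  map_add' := pullSec_add f G le_rfl
  map_smul' := pullSec_smul f G le_rfl

open Classical in
include hc in
/-- A section whose inverse image on the limit vanishes has vanishing inverse images from some stage on. -/
theorem ev_pullSec_zero {V : (D.obj i₀).Opens} (hV : IsAffineOpen V) {G : (D.obj i₀).Modules}
    (hG : Coh.IsQCoh G) (n : Γ(G, V)) (hn : pullSec (c.π.app i₀) G le_rfl n = 0) :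
    Ev (fun j (φ : j ⟶ i₀) => pullSec (D.map φ) G le_rfl n = (0 :
      Γ((Scheme.Modules.pullback (D.map φ)).obj G, D.map φ ⁻¹ᵁ V))) := by
  have : ∀ {i j : I} (f : i ⟶ j), IsAffineHom (D.map f) := fun f => inferInstance
  let π : c.pt ⟶ D.obj i₀ := c.π.app i₀
  have : IsAffineHom π := isAffineHom_π_app D c hc i₀
  have hW : IsAffineOpen (π ⁻¹ᵁ V) := hV.preimage π
  letI : Algebra Γ(D.obj i₀, V) Γ(c.pt, π ⁻¹ᵁ V) := (π.appLE V (π ⁻¹ᵁ V) le_rfl).hom.toAlgebra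
  letI : Module Γ(D.obj i₀, V) Γ((Scheme.Modules.pullback π).obj G, π ⁻¹ᵁ V) :=
    Module.compHom _ (π.appLE V (π ⁻¹ᵁ V) le_rfl).hom
  haveI : IsScalarTower Γ(D.obj i₀, V) Γ(c.pt, π ⁻¹ᵁ V)
      Γ((Scheme.Modules.pullback π).obj G, π ⁻¹ᵁ V) :=
    ⟨fun a b x => mul_smul ((π.appLE V (π ⁻¹ᵁ V) le_rfl).hom a) b x⟩
  let l : Γ(G, V) →ₗ[Γ(D.obj i₀, V)] Γ((Scheme.Modules.pullback π).obj G, π ⁻¹ᵁ V) :=
    { toFun := pullSec π G le_rfl
      map_add' := pullSec_add π G le_rfl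
      map_smul' := pullSec_smul π G le_rfl }
  have hb : IsBaseChange Γ(c.pt, π ⁻¹ᵁ V) l :=
    isBaseChange_pullback hV π hW hG le_rfl (fun _ => rfl) l fun _ => rfl
  have h1 : (1 : Γ(c.pt, π ⁻¹ᵁ V)) ⊗ₜ[Γ(D.obj i₀, V)] n = 0 :=
    hb.equiv.injective (by rw [hb.equiv_tmul, one_smul, map_zero]; exact hn)
  obtain ⟨m, cc, K, hK, he⟩ := exists_relation n h1
  let T : Finset Γ(G, V) := insert n (Finset.univ.biUnion fun k => (K k).support)
  obtain ⟨j, φ, hj⟩ := (Ev.forall_fintype fun k => ev_section D c hc hV (cc k)).exists_stage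
  choose b hbb using hj
  obtain ⟨k₀, ψ₀, hk₀⟩ := Ev.forall_finset T fun x _ => ev_section_zero D c hc hV.isCompact φ
    ((∑ k, b k * (D.map φ).appLE V _ le_rfl (K k x)) - if x = n then 1 else 0) (by
      simp only [map_sub, map_sum, map_mul, hbb, res_base_limit]
      rw [sub_eq_zero, apply_ite ((c.π.app j).appLE _ _ (le_π_preimage D c φ)), map_one, map_zero]
      exact he x)
  refine ⟨k₀, ψ₀ ≫ φ, fun k ψ => ?_⟩
  have hk := hk₀ k ψ
  rw [← Category.assoc]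
  refine eq_zero_of_relation (pullSecₛₗ (D.map ((ψ ≫ ψ₀) ≫ φ)) G V) n
    (fun i => (D.map (ψ ≫ ψ₀)).appLE _ _ (le_map_preimage D φ (ψ ≫ ψ₀)) (b i)) K T
    (Finset.mem_insert_self _ _)
    (fun i => (Finset.subset_biUnion_of_mem (fun i => (K i).support) (Finset.mem_univ i)).trans
      (Finset.subset_insert _ _)) hK fun x hx => ?_
  have := hk x hx
  simp only [map_sub, map_sum, map_mul, res_base, sub_eq_zero] at this
  rw [apply_ite ((D.map (ψ ≫ ψ₀)).appLE _ _ (le_map_preimage D φ (ψ ≫ ψ₀))), map_one, map_zero]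
    at this
  exact this

end Sections

end Groth.Agent.RGLib.Lim8
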