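import Groth.Agent.RGLib.Lim8RelAmple
import Groth.Agent.AmpleX.SemiAmple
import Groth.Agent.SymX.VeryAmpleUP

/-!
# Relative generation descends to a stage
-/

set_option autoImplicit false
set_option backward.isDefEq.respectTransparency false
set_option backward.isDefEq.respectTransparency.types false

universe u

open CategoryTheory CategoryTheory.Limits AlgebraicGeometry TopologicalSpace
open Groth.Agent.H23.PicMul

namespace Groth.Agent.RGLib.Lim8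

open Groth.Agent Groth.Agent.AmpleX Groth.Agent.MorLib

/-- An invertible module generated by its global sections. -/
def IsGen {X : Scheme.{u}} (M : X.Modules) : Prop :=
  ∀ x : X, ∃ t : Γ(M, (⊤ : X.Opens)), x ∈ locus t

theorem IsGen.pull {X Y Z : Scheme.{u}} {L : Z.Modules} (hL : PicF.IsInvertible L) {g : Y ⟶ Z}
    (h : IsGen ((Scheme.Modules.pullback g).obj L)) (ψ : X ⟶ Y) (k : X ⟶ Z) (w : ψ ≫ g = k) :
    IsGen ((Scheme.Modules.pullback k).obj L) := fun x => by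
  obtain ⟨t, ht⟩ := h (ψ x)
  obtain ⟨e⟩ := nonempty_pull_pull L g ψ k w
  obtain ⟨b, hb⟩ := exists_locus_cl (cl_eq_iff.2 ⟨e⟩) (InvX.pullElt ψ t)
  rw [locus_pullElt (PicClLib.isInvertible_pullback g hL)] at hb
  exact ⟨b, hb.symm ▸ ht⟩

/-- An epimorphic counit gives generating sections over preimages of affine opens. -/
theorem exists_locus_preimage {X Y : Scheme.{u}} (f : X ⟶ Y) [QuasiCompact f] [QuasiSeparated f]
    {M : X.Modules} (hM : PicF.IsInvertible M)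
    (hepi : Epi ((Scheme.Modules.pullbackPushforwardAdjunction f).counit.app M)) {V : Y.Opens}
    (hV : IsAffineOpen V) {x : X} (hx : f x ∈ V) : ∃ t : Γ(M, f ⁻¹ᵁ V), x ∈ locus t := by
  obtain ⟨V', -, hxV', a', ha'⟩ := exists_locus_of_epi_counit f hM hepi x hx
  obtain ⟨r, hr, hxr⟩ := hV.exists_basicOpen_le (V := V') ⟨f x, hxV'⟩ hx
  let W := f ⁻¹ᵁ V
  let g : Γ(X, W) := f.app V r
  have hD : X.basicOpen g = f ⁻¹ᵁ Y.basicOpen r := (Scheme.preimage_basicOpen f r).symm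
  obtain ⟨n, t, ht⟩ := QCoh.exists_pow_smul_eq_map_of_isQuasiSeparated
    (ProjUPX.isQCoh_of_isInvertible hM) (f.isCompact_preimage hV.isCompact)
    (f.isQuasiSeparated_preimage hV.isQuasiSeparated) g
    (AModX.res M (hD.le.trans (f.preimage_mono hr)) a')
  let u := AModX.resR (X.basicOpen_le g) g
  have h1 : x ∈ locus (AModX.res M (X.basicOpen_le g) t) := by
    have e : AModX.res M (X.basicOpen_le g) t =
        u ^ n • AModX.res M (hD.le.trans (f.preimage_mono hr)) a' := ht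
    rw [e, locus_smul hM, X.basicOpen_of_isUnit ((AModX.isUnit_resR _ _ le_rfl).pow n), locus_res]
    exact ⟨⟨ha', hD.ge hxr⟩, hD.ge hxr⟩
  rw [locus_res] at h1
  exact ⟨t, h1.1⟩

variable {I : Type u} [SmallCategory I] [IsCofiltered I] (D : I ⥤ Scheme.{u}) (c : Cone D) (hc : IsLimit c)
  [∀ (i j : I) (f : i ⟶ j), IsAffineHom (D.map f)]

include hc in
theorem exists_isGen_stage [∀ i, CompactSpace (D.obj i)] [∀ i, QuasiSeparatedSpace (D.obj i)] {i₀ : I}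
    (L₀ : (D.obj i₀).Modules) (hL₀ : PicF.IsInvertible L₀)
    (h : IsGen ((Scheme.Modules.pullback (c.π.app i₀)).obj L₀)) :
    ∃ (i : I) (φ : i ⟶ i₀), IsGen ((Scheme.Modules.pullback (D.map φ)).obj L₀) := by
  classical
  haveI : IsAffineHom (c.π.app i₀) := isAffineHom_π_app D c hc i₀
  haveI : CompactSpace c.pt := QuasiCompact.compactSpace_of_compactSpace (c.π.app i₀)
  choose t ht using h
  choose j φ tj htj using fun x => exists_stage_locus D c hc hL₀ (t x)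
  obtain ⟨S, hS⟩ := isCompact_univ.elim_finite_subcover
    (fun x => ((c.π.app (j x) ⁻¹ᵁ locus (tj x) : c.pt.Opens) : Set c.pt))
    (fun x => (c.π.app (j x) ⁻¹ᵁ locus (tj x)).2)
    (fun x _ => Set.mem_iUnion.2 ⟨x, (htj x).ge (ht x)⟩)
  obtain ⟨k, ρ, hρ⟩ : ∃ (k : I) (ρ : k ⟶ i₀), ∀ x ∈ S, ∃ α : k ⟶ j x, α ≫ φ x = ρ := by
    clear hS
    induction S using Finset.induction_on with
    | empty => exact ⟨i₀, 𝟙 _, by simp⟩
    | insert x T _ ih =>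
      obtain ⟨k, ρ, hk⟩ := ih
      obtain ⟨k', α, β, e⟩ := IsCofiltered.cospan (φ x) ρ
      refine ⟨k', α ≫ φ x, fun y hy => ?_⟩
      rcases Finset.mem_insert.1 hy with rfl | hy
      · exact ⟨α, rfl⟩
      · obtain ⟨δ, hδ⟩ := hk y hy
        exact ⟨β ≫ δ, by rw [Category.assoc, hδ, e]⟩
  choose α hα using hρ
  let V : (D.obj k).Opens := ⨆ x : S, D.map (α x.1 x.2) ⁻¹ᵁ locus (tj x.1)
  have hV : c.π.app k ⁻¹ᵁ V = ⊤ := by
    refine top_le_iff.1 fun p _ => ?_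
    obtain ⟨x, hxS, hp⟩ := Set.mem_iUnion₂.1 (hS (Set.mem_univ p))
    refine Opens.mem_iSup.2 ⟨⟨x, hxS⟩, ?_⟩
    show p ∈ c.π.app k ⁻¹ᵁ (D.map (α x hxS) ⁻¹ᵁ locus (tj x))
    rw [← Scheme.Hom.comp_preimage, c.w]
    exact hp
  obtain ⟨l, γ, hl⟩ := exists_map_eq_top D c hc V hV
  refine ⟨l, γ ≫ ρ, fun p => ?_⟩
  obtain ⟨⟨x, hxS⟩, hp⟩ := Opens.mem_iSup.1 (show D.map γ p ∈ V from hl.ge (show p ∈ ⊤ from trivial))
  obtain ⟨e⟩ := nonempty_pull_pull L₀ (D.map (φ x)) (D.map (γ ≫ α x hxS)) (D.map (γ ≫ ρ))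
    (by rw [← D.map_comp, Category.assoc, hα])
  obtain ⟨b, hb⟩ := exists_locus_cl (cl_eq_iff.2 ⟨e⟩) (InvX.pullElt (D.map (γ ≫ α x hxS)) (tj x))
  refine ⟨b, ?_⟩
  rw [hb, locus_pullElt (PicClLib.isInvertible_pullback _ hL₀), Functor.map_comp, Scheme.Hom.comp_preimage]
  exact hp

include hc in
theorem exists_epi_counit_stage {i₀ : I} [CompactSpace (D.obj i₀)] {X₀ Y₀ : Scheme.{u}} (f₀ : X₀ ⟶ Y₀) (g₀ : Y₀ ⟶ D.obj i₀)
    [QuasiCompact g₀] [QuasiSeparated g₀] [QuasiCompact (f₀ ≫ g₀)] [QuasiSeparated (f₀ ≫ g₀)]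
    (L₀ : X₀.Modules) (hL₀ : PicF.IsInvertible L₀)
    {X Y : Scheme.{u}} (f : X ⟶ Y) (g : Y ⟶ c.pt) (qY : Y ⟶ Y₀) (qX : X ⟶ X₀)
    (hY : IsPullback qY g g₀ (c.π.app i₀)) (hX : IsPullback qX f f₀ qY)
    (hgen : Epi ((Scheme.Modules.pullbackPushforwardAdjunction f).counit.app ((Scheme.Modules.pullback qX).obj L₀))) :
    ∃ (j : I) (φ : j ⟶ i₀), ∀ (k : I) (ψ : k ⟶ j) (Xk Yk : Scheme.{u}) (fk : Xk ⟶ Yk) (gk : Yk ⟶ D.obj k)
      (pY : Yk ⟶ Y₀) (pX : Xk ⟶ X₀), IsPullback pY gk g₀ (D.map (ψ ≫ φ)) → IsPullback pX fk f₀ pY →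
        Epi ((Scheme.Modules.pullbackPushforwardAdjunction fk).counit.app ((Scheme.Modules.pullback pX).obj L₀)) := by
  classical
  haveI : QuasiCompact f₀ := QuasiCompact.of_comp f₀ g₀
  haveI : QuasiSeparated f₀ := QuasiSeparated.of_comp f₀ g₀
  haveI : CompactSpace Y₀ := QuasiCompact.compactSpace_of_compactSpace g₀
  haveI : IsAffineHom (c.π.app i₀) := isAffineHom_π_app D c hc i₀
  haveI : IsAffineHom qY := MorphismProperty.of_isPullback hY.flip ‹IsAffineHom (c.π.app i₀)›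
  haveI : QuasiCompact f := MorphismProperty.of_isPullback hX ‹QuasiCompact f₀›
  haveI : QuasiSeparated f := MorphismProperty.of_isPullback hX ‹QuasiSeparated f₀›
  have hqX := PicClLib.isInvertible_pullback qX hL₀
  obtain ⟨W, hWfin, hWcov⟩ := isCompact_iff_finite_and_eq_biUnion_affineOpens.mp
    (show IsCompact ((⊤ : Y₀.Opens) : Set Y₀) from isCompact_univ)
  have key : ∀ V : Y₀.affineOpens, ∃ (j : I) (φ : j ⟶ i₀), IsGen
      ((Scheme.Modules.pullback (pullback.fst ((f₀ ⁻¹ᵁ V.1).ι ≫ f₀ ≫ g₀) (D.map φ) ≫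
        (f₀ ⁻¹ᵁ V.1).ι)).obj L₀) := by
    intro V
    let U := f₀ ⁻¹ᵁ V.1
    let xi := U.ι ≫ f₀ ≫ g₀
    haveI : CompactSpace U.toScheme := isCompact_iff_compactSpace.mp (f₀.isCompact_preimage V.2.isCompact)
    haveI : QuasiSeparatedSpace U.toScheme :=
      (isQuasiSeparated_iff_quasiSeparatedSpace (U : Set X₀) U.2).1
        (f₀.isQuasiSeparated_preimage V.2.isQuasiSeparated)
    have hXX : IsPullback qX (f ≫ g) (f₀ ≫ g₀) (c.π.app i₀) := hX.paste_vert hY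
    have sq : IsPullback (qX ∣_ U) ((qX ⁻¹ᵁ U).ι ≫ f ≫ g) xi (c.π.app i₀) :=
      (isPullback_morphismRestrict qX U).paste_vert hXX
    let o : Over i₀ := Over.mk (𝟙 i₀)
    let M := (Scheme.Modules.pullback (pullback.fst xi (D.map o.hom) ≫ U.ι)).obj L₀
    let j₁ := (qX ⁻¹ᵁ U).ι
    have hA : IsGen ((Scheme.Modules.pullback ((BC.cone D xi sq).π.app o)).obj M) := by
      intro x
      have hle : qX ⁻¹ᵁ U = f ⁻¹ᵁ (qY ⁻¹ᵁ V.1) := by
        rw [← Scheme.Hom.comp_preimage, ← Scheme.Hom.comp_preimage, hX.w]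
      obtain ⟨t, ht⟩ := exists_locus_preimage f hqX hgen (V.2.preimage qY) (x := j₁ x)
        (show j₁ x ∈ f ⁻¹ᵁ (qY ⁻¹ᵁ V.1) from hle.le (by exact x.2))
      let t' := AModX.res ((Scheme.Modules.pullback qX).obj L₀)
        (((qX ⁻¹ᵁ U).ι_image_top.trans hle).le : j₁ ''ᵁ ⊤ ≤ _) t
      have h1 : x ∈ locus (M := ((Scheme.Modules.pullback qX).obj L₀).restrict j₁) (U := ⊤) t' := by
        have h2 : j₁ x ∈ locus (M := (Scheme.Modules.pullback qX).obj L₀) t' := by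
          rw [locus_res]; exact ⟨ht, x, trivial, rfl⟩
        rw [← image_locus j₁ t'] at h2
        obtain ⟨y, hy, hyx⟩ := h2
        rwa [j₁.isOpenEmbedding.injective hyx] at hy
      obtain ⟨b, hb⟩ := exists_locus_cl (N := (Scheme.Modules.pullback ((BC.cone D xi sq).π.app o)).obj M)
        (cl_eq_iff.2 ⟨(Scheme.Modules.restrictFunctorIsoPullback j₁).app _ ≪≫
          (nonempty_pull_pull L₀ qX _ _ rfl).some ≪≫ (nonempty_pull_pull L₀ _ _ _ (by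
            show BC.proj D xi sq o ≫ _ ≫ U.ι = _
            rw [BC.proj_fst_assoc, morphismRestrict_ι])).some.symm⟩)
        (show Γ(((Scheme.Modules.pullback qX).obj L₀).restrict j₁, ⊤) from t')
      exact ⟨b, hb.symm ▸ h1⟩
    obtain ⟨j, φ, hj⟩ := exists_isGen_stage (BC.diag D xi) (BC.cone D xi sq)
      (BC.isLimitCone D xi sq hc) (i₀ := o) M (PicClLib.isInvertible_pullback _ hL₀) hA
    refine ⟨j.left, j.hom, fun x => ?_⟩
    obtain ⟨t, ht⟩ := hj x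
    obtain ⟨b, hb⟩ := exists_locus_cl (cl_eq_iff.2
      ⟨(nonempty_pull_pull L₀ _ _ _ ((Category.assoc _ _ _).symm.trans
        (congrArg (· ≫ U.ι) (BC.map_fst D xi φ)))).some⟩) t
    exact ⟨b, hb.symm ▸ ht⟩
  choose j φ hjA using key
  obtain ⟨J, ρ, hρ⟩ : ∃ (k : I) (ρ : k ⟶ i₀), ∀ V ∈ hWfin.toFinset, ∃ α : k ⟶ j V, α ≫ φ V = ρ := by
    generalize hWfin.toFinset = T
    induction T using Finset.induction_on with
    | empty => exact ⟨i₀, 𝟙 _, by simp⟩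
    | insert x T _ ih =>
      obtain ⟨k, ρ, hk⟩ := ih
      obtain ⟨k', α, β, e⟩ := IsCofiltered.cospan (φ x) ρ
      refine ⟨k', α ≫ φ x, fun y hy => ?_⟩
      rcases Finset.mem_insert.1 hy with rfl | hy
      · exact ⟨α, rfl⟩
      · obtain ⟨δ, hδ⟩ := hk y hy
        exact ⟨β ≫ δ, by rw [Category.assoc, hδ, e]⟩
  refine ⟨J, ρ, fun k ψ Xk Yk fk gk pY pX hYk hXk => SymX.epi_counit_of_frames fun x => ?_⟩
  obtain ⟨V, hVW, hxV⟩ : ∃ V ∈ W, pY (fk x) ∈ V.1 := by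
    have : pY (fk x) ∈ (⊤ : Y₀.Opens) := trivial
    rw [hWcov] at this
    simpa only [Opens.mem_iSup, exists_prop] using this
  obtain ⟨α, hα⟩ := hρ V (hWfin.mem_toFinset.2 hVW)
  let U := f₀ ⁻¹ᵁ V.1
  let xi := U.ι ≫ f₀ ≫ g₀
  have hle : pX ⁻¹ᵁ U = fk ⁻¹ᵁ (pY ⁻¹ᵁ V.1) := by
    rw [← Scheme.Hom.comp_preimage, ← Scheme.Hom.comp_preimage, hXk.w]
  let j₁ := (pX ⁻¹ᵁ U).ι
  let l : (pX ⁻¹ᵁ U).toScheme ⟶ pullback xi (D.map (φ V)) :=
    pullback.lift (pX ∣_ U) (j₁ ≫ fk ≫ gk ≫ D.map (ψ ≫ α)) (by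
      show pX ∣_ U ≫ U.ι ≫ f₀ ≫ g₀ = _
      rw [morphismRestrict_ι_assoc, reassoc_of% hXk.w, hYk.w, Category.assoc, Category.assoc,
        Category.assoc, ← D.map_comp, Category.assoc, hα])
  have hgenU := (hjA V).pull hL₀ l (j₁ ≫ pX) (by rw [pullback.lift_fst_assoc, morphismRestrict_ι])
  obtain ⟨z, hz⟩ : x ∈ j₁.opensRange := by
    rw [Scheme.Opens.opensRange_ι, hle]; exact hxV
  obtain ⟨t, ht⟩ := hgenU z
  obtain ⟨b, hb⟩ := exists_locus_cl (cl_eq_iff.2 ⟨(nonempty_pull_pull L₀ pX j₁ _ rfl).some.symm ≪≫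
    ((Scheme.Modules.restrictFunctorIsoPullback j₁).app _).symm⟩) t
  have hb' : x ∈ locus (M := (Scheme.Modules.pullback pX).obj L₀) (U := j₁ ''ᵁ ⊤) b := by
    rw [← image_locus j₁ b]
    exact ⟨z, hb.symm ▸ ht, hz⟩
  have e : fk ⁻¹ᵁ (pY ⁻¹ᵁ V.1) = j₁ ''ᵁ ⊤ := hle.symm.trans (pX ⁻¹ᵁ U).ι_image_top.symm
  refine ⟨pY ⁻¹ᵁ V.1, AModX.res _ e.le b, ?_⟩
  rw [locus_res]
  exact ⟨hb', hxV⟩

end Groth.Agent.RGLib.Lim8
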