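import Groth.Agent.RGLib.Lim8Zero
import Groth.Agent.RGLib.HomGlue

/-!
# Maps from a module of finite presentation on a limit of schemes come from a stage
-/

set_option autoImplicit false
set_option linter.style.haveILetI false
set_option backward.isDefEq.respectTransparency false
set_option backward.isDefEq.respectTransparency.types false
set_option maxHeartbeats 1000000

universe u

open CategoryTheory CategoryTheory.Limits AlgebraicGeometry TopologicalSpace

namespace Groth.Agent.RGLib.Lim8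

open Groth.Agent.QCoh

section PullSec

variable {X Y Z : Scheme.{u}}

theorem pullSec_comp (f : X ⟶ Y) (g : Y ⟶ Z) (G : Z.Modules) {W : X.Opens} {U : Y.Opens} {V : Z.Opens}
    (h₁ : U ≤ g ⁻¹ᵁ V) (h₂ : W ≤ f ⁻¹ᵁ U) (x : Γ(G, V)) :
    ((Scheme.Modules.pullbackComp f g).hom.app G).app W
        (Groth.Agent.QCoh.pullSec f ((Scheme.Modules.pullback g).obj G) h₂ (Groth.Agent.QCoh.pullSec g G h₁ x)) =
      Groth.Agent.QCoh.pullSec (f ≫ g) G (show W ≤ (f ≫ g) ⁻¹ᵁ V from h₂.trans ((Opens.map f.base).monotone h₁)) x := by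
  have h := unit_conjugateEquiv
    ((Scheme.Modules.pullbackPushforwardAdjunction g).comp
      (Scheme.Modules.pullbackPushforwardAdjunction f))
    (Scheme.Modules.pullbackPushforwardAdjunction (f ≫ g))
    (Scheme.Modules.pullbackComp f g).inv G
  rw [Scheme.Modules.conjugateEquiv_pullbackComp_inv] at h
  let P := (Scheme.Modules.pullback g).obj G
  let Q := (Scheme.Modules.pullback f).obj P
  let z : Γ(P, g ⁻¹ᵁ V) := ((Scheme.Modules.pullbackPushforwardAdjunction g).unit.app G).app V x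
  let w : Γ(Q, f ⁻¹ᵁ (g ⁻¹ᵁ V)) :=
    ((Scheme.Modules.pullbackPushforwardAdjunction f).unit.app P).app (g ⁻¹ᵁ V) z
  let y : Γ((Scheme.Modules.pullback (f ≫ g)).obj G, (f ≫ g) ⁻¹ᵁ V) :=
    ((Scheme.Modules.pullbackPushforwardAdjunction (f ≫ g)).unit.app G).app V x
  have h' : w = ((Scheme.Modules.pullbackComp f g).inv.app G).app (f ⁻¹ᵁ (g ⁻¹ᵁ V)) y :=
    congrArg (fun φ => Scheme.Modules.Hom.app φ V x) h
  let hW : W ≤ f ⁻¹ᵁ (g ⁻¹ᵁ V) := h₂.trans ((Opens.map f.base).monotone h₁)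
  have h1 : Groth.Agent.QCoh.pullSec f P h₂ (Groth.Agent.QCoh.pullSec g G h₁ x) = Q.presheaf.map (homOfLE hW).op w := by
    refine (congrArg (Q.presheaf.map (homOfLE h₂).op)
      (Groth.Agent.QCoh.map_app_comm ((Scheme.Modules.pullbackPushforwardAdjunction f).unit.app P) (homOfLE h₁) z)).trans ?_
    exact Groth.Agent.QCoh.map_map _ _ _
  rw [h1, h']
  refine (Groth.Agent.QCoh.map_app_comm ((Scheme.Modules.pullbackComp f g).hom.app G) (homOfLE hW) _).trans ?_
  refine congrArg (((Scheme.Modules.pullback (f ≫ g)).obj G).presheaf.map (homOfLE hW).op) ?_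
  exact congrArg (fun φ => Scheme.Modules.Hom.app φ (f ⁻¹ᵁ (g ⁻¹ᵁ V)) y)
    ((Scheme.Modules.pullbackComp f g).inv_hom_id_app G)

theorem pullSec_congr {f g : X ⟶ Y} (h : f = g) (G : Y.Modules) {W : X.Opens} {V : Y.Opens}
    (hle : W ≤ f ⁻¹ᵁ V) (x : Γ(G, V)) :
    ((Scheme.Modules.pullbackCongr h).hom.app G).app W (Groth.Agent.QCoh.pullSec f G hle x) =
      Groth.Agent.QCoh.pullSec g G (h ▸ hle) x := by
  subst h
  rfl

theorem pullSec_res (φ : X ⟶ Y) (M : Y.Modules) {W W' : X.Opens} {V V' : Y.Opens} (hV : V' ≤ V)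
    (hW : W' ≤ W) (hle : W ≤ φ ⁻¹ᵁ V) (hle' : W' ≤ φ ⁻¹ᵁ V') (x : Γ(M, V)) :
    ((Scheme.Modules.pullback φ).obj M).presheaf.map (homOfLE hW).op (Groth.Agent.QCoh.pullSec φ M hle x) =
      Groth.Agent.QCoh.pullSec φ M hle' (M.presheaf.map (homOfLE hV).op x) := by
  unfold Groth.Agent.QCoh.pullSec
  refine (Groth.Agent.QCoh.map_map _ _ _).trans ?_
  refine Eq.trans ?_ (congrArg (((Scheme.Modules.pullback φ).obj M).presheaf.map (homOfLE hle').op)
    (Groth.Agent.QCoh.map_app_comm ((Scheme.Modules.pullbackPushforwardAdjunction φ).unit.app M) (homOfLE hV) x)).symm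
  exact (Groth.Agent.QCoh.map_map (M := (Scheme.Modules.pullback φ).obj M) (homOfLE hle')
    ((Opens.map φ.base).map (homOfLE hV)) _).symm

theorem pullSec_map (g : X ⟶ Y) (M : Y.Modules) {W W' : X.Opens} {V : Y.Opens} (hW : W' ≤ W)
    (hle : W ≤ g ⁻¹ᵁ V) (x : Γ(M, V)) :
    ((Scheme.Modules.pullback g).obj M).presheaf.map (homOfLE hW).op (pullSec g M hle x) =
      pullSec g M (hW.trans hle) x :=
  QCoh.map_map _ _ _

end PullSec

section Cmp

variable {X Y Z : Scheme.{u}} (g : Z ⟶ Y) (f : Y ⟶ X) (h : Z ⟶ X) (w : g ≫ f = h) (G : X.Modules)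

/-- Pulling back a section of `f^*G` along `g`, inside `h^*G` for `h = g ≫ f`. -/
noncomputable def cmp {U : Y.Opens} {W : Z.Opens} (hle : W ≤ g ⁻¹ᵁ U)
    (y : Γ((Scheme.Modules.pullback f).obj G, U)) : Γ((Scheme.Modules.pullback h).obj G, W) :=
  ((Scheme.Modules.pullbackComp g f ≪≫ Scheme.Modules.pullbackCongr w).hom.app G).app W
    (pullSec g ((Scheme.Modules.pullback f).obj G) hle y)

theorem cmp_add {U : Y.Opens} {W : Z.Opens} (hle : W ≤ g ⁻¹ᵁ U)
    (y y' : Γ((Scheme.Modules.pullback f).obj G, U)) :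
    cmp g f h w G hle (y + y') = cmp g f h w G hle y + cmp g f h w G hle y' := by
  unfold cmp
  rw [pullSec_add]
  exact map_add (((Scheme.Modules.pullbackComp g f ≪≫ Scheme.Modules.pullbackCongr w).hom.app G).app W).hom _ _

theorem cmp_zero {U : Y.Opens} {W : Z.Opens} (hle : W ≤ g ⁻¹ᵁ U) :
    cmp g f h w G hle (0 : Γ((Scheme.Modules.pullback f).obj G, U)) = 0 := by
  have := cmp_add g f h w G hle 0 0
  rwa [add_zero, left_eq_add] at this

theorem cmp_smul {U : Y.Opens} {W : Z.Opens} (hle : W ≤ g ⁻¹ᵁ U) (r : Γ(Y, U))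
    (y : Γ((Scheme.Modules.pullback f).obj G, U)) :
    cmp g f h w G hle (r • y) = g.appLE U W hle r • cmp g f h w G hle y := by
  unfold cmp
  rw [pullSec_smul]
  exact Scheme.Modules.Hom.app_smul _ _ _

theorem cmp_pullSec {U : Y.Opens} {W : Z.Opens} {V : X.Opens} (h₁ : U ≤ f ⁻¹ᵁ V) (hle : W ≤ g ⁻¹ᵁ U)
    (hle' : W ≤ h ⁻¹ᵁ V) (x : Γ(G, V)) :
    cmp g f h w G hle (pullSec f G h₁ x) = pullSec h G hle' x := by
  subst w
  unfold cmp
  exact (congrArg _ (pullSec_comp g f G h₁ hle x)).trans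
    (pullSec_congr rfl G _ x)

theorem cmp_res {U U' : Y.Opens} {W W' : Z.Opens} (hU : U' ≤ U) (hW : W' ≤ W) (hle : W ≤ g ⁻¹ᵁ U)
    (hle' : W' ≤ g ⁻¹ᵁ U') (y : Γ((Scheme.Modules.pullback f).obj G, U)) :
    ((Scheme.Modules.pullback h).obj G).presheaf.map (homOfLE hW).op (cmp g f h w G hle y) =
      cmp g f h w G hle' (((Scheme.Modules.pullback f).obj G).presheaf.map (homOfLE hU).op y) := by
  unfold cmp
  rw [← pullSec_res g ((Scheme.Modules.pullback f).obj G) hU hW hle hle' y]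
  exact (map_app_comm _ _ _).symm

theorem eq_zero_of_cmp_eq_zero {U : Y.Opens} {W : Z.Opens} (hle : W ≤ g ⁻¹ᵁ U) (hge : g ⁻¹ᵁ U ≤ W)
    (y : Γ((Scheme.Modules.pullback f).obj G, U)) (hy : cmp g f h w G hle y = 0) :
    pullSec g ((Scheme.Modules.pullback f).obj G) le_rfl y = 0 := by
  have h1 : pullSec g ((Scheme.Modules.pullback f).obj G) hle y = 0 := by
    have e := congrArg (((Scheme.Modules.pullbackComp g f ≪≫ Scheme.Modules.pullbackCongr w).inv.app G).app W) hy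
    rw [map_zero] at e
    refine Eq.trans ?_ e
    exact (congrArg (fun φ : (Scheme.Modules.pullback g).obj ((Scheme.Modules.pullback f).obj G) ⟶
        (Scheme.Modules.pullback g).obj ((Scheme.Modules.pullback f).obj G) => φ.app W
          (pullSec g ((Scheme.Modules.pullback f).obj G) hle y))
      ((Scheme.Modules.pullbackComp g f ≪≫ Scheme.Modules.pullbackCongr w).hom_inv_id_app G)).symm
  refine (pullSec_map g _ hge hle y).symm.trans ?_
  rw [h1, map_zero]

theorem cmp_eq_zero_of_pullSec {U : Y.Opens} {W : Z.Opens} (hle : W ≤ g ⁻¹ᵁ U)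
    (y : Γ((Scheme.Modules.pullback f).obj G, U))
    (hy : pullSec g ((Scheme.Modules.pullback f).obj G) le_rfl y = 0) : cmp g f h w G hle y = 0 := by
  unfold cmp
  rw [← pullSec_map g _ hle le_rfl y, hy, map_zero]
  exact map_zero _

/-- Induction on the sections of an inverse image over an affine. -/
theorem induction_pullSec {G : X.Modules} (hG : Coh.IsQCoh G) {V : X.Opens} (hV : IsAffineOpen V)
    {W : Y.Opens} (hW : IsAffineOpen W) (hle : W ≤ f ⁻¹ᵁ V)
    {P : Γ((Scheme.Modules.pullback f).obj G, W) → Prop} (h0 : P 0)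
    (hp : ∀ x : Γ(G, V), P (pullSec f G hle x)) (hs : ∀ (r : Γ(Y, W)) y, P y → P (r • y))
    (ha : ∀ y y', P y → P y' → P (y + y')) (y : Γ((Scheme.Modules.pullback f).obj G, W)) : P y := by
  letI : Algebra Γ(X, V) Γ(Y, W) := (f.appLE V W hle).hom.toAlgebra
  letI : Module Γ(X, V) Γ((Scheme.Modules.pullback f).obj G, W) := Module.compHom _ (f.appLE V W hle).hom
  haveI : IsScalarTower Γ(X, V) Γ(Y, W) Γ((Scheme.Modules.pullback f).obj G, W) :=
    ⟨fun a b z => mul_smul ((f.appLE V W hle).hom a) b z⟩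
  let l : Γ(G, V) →ₗ[Γ(X, V)] Γ((Scheme.Modules.pullback f).obj G, W) :=
    { toFun := pullSec f G hle
      map_add' := pullSec_add f G hle
      map_smul' := pullSec_smul f G hle }
  have hb : IsBaseChange Γ(Y, W) l :=
    isBaseChange_pullback hV f hW hG hle (fun _ => rfl) l fun _ => rfl
  induction y using hb.inductionOn with
  | zero => exact h0
  | tmul n => exact hp n
  | smul r n hn => exact hs r n hn
  | add a b ha' hb' => exact ha a b ha' hb'

theorem adjoint_pullSec (f : Y ⟶ X) {F : X.Modules} {N : Y.Modules}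
    (u : F ⟶ (Scheme.Modules.pushforward f).obj N) {V : X.Opens} (x : Γ(F, V)) :
    ((((Scheme.Modules.pullbackPushforwardAdjunction f).homEquiv F N).symm u).app (f ⁻¹ᵁ V))
      (pullSec f F le_rfl x) = u.app V x := by
  have h1 := ((Scheme.Modules.pullbackPushforwardAdjunction f).homEquiv F N).apply_symm_apply u
  rw [Adjunction.homEquiv_unit] at h1
  refine (map_app_comm _ _ _).trans ?_
  refine (QCoh.map_id' _ _).trans ?_
  exact congrArg (fun φ : F ⟶ (Scheme.Modules.pushforward f).obj N => φ.app V x) h1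

end Cmp

section Limit

variable {I : Type u} [SmallCategory I] [IsCofiltered I] (D : I ⥤ Scheme.{u}) (c : Cone D) {i₀ : I}
  (G : (D.obj i₀).Modules)

/-- The inverse image at a stage, pushed forward to the base stage. -/
noncomputable abbrev stageMod {j : I} (φ : j ⟶ i₀) : (D.obj i₀).Modules :=
  (Scheme.Modules.pushforward (D.map φ)).obj ((Scheme.Modules.pullback (D.map φ)).obj G)

/-- The inverse image on the limit, pushed forward to the base stage. -/
noncomputable abbrev limMod : (D.obj i₀).Modules :=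
  (Scheme.Modules.pushforward (c.π.app i₀)).obj ((Scheme.Modules.pullback (c.π.app i₀)).obj G)

/-- The map from a stage to the limit. -/
noncomputable def toLim {j : I} (φ : j ⟶ i₀) (V : (D.obj i₀).Opens) :
    Γ(stageMod D G φ, V) →ₗ[Γ(D.obj i₀, V)] Γ(limMod D c G, V) where
  toFun := cmp (c.π.app j) (D.map φ) (c.π.app i₀) (π_eq D c φ) G (le_π_preimage D c φ)
  map_add' := cmp_add (c.π.app j) (D.map φ) (c.π.app i₀) (π_eq D c φ) G (le_π_preimage D c φ)
  map_smul' r y := by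
    refine (cmp_smul (c.π.app j) (D.map φ) (c.π.app i₀) (π_eq D c φ) G (le_π_preimage D c φ)
      ((D.map φ).app V r) y).trans ?_
    show _ = (c.π.app i₀).app V r • cmp (c.π.app j) (D.map φ) (c.π.app i₀) (π_eq D c φ) G (le_π_preimage D c φ) y
    congr 1
    rw [Scheme.Hom.app_eq_appLE, Scheme.Hom.app_eq_appLE]
    exact res_base_limit D c φ r

/-- The map from a stage to a later one. -/
noncomputable def toNext {j k : I} (φ : j ⟶ i₀) (ψ : k ⟶ j) (V : (D.obj i₀).Opens) :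
    Γ(stageMod D G φ, V) →ₗ[Γ(D.obj i₀, V)] Γ(stageMod D G (ψ ≫ φ), V) where
  toFun := cmp (D.map ψ) (D.map φ) (D.map (ψ ≫ φ)) (D.map_comp ψ φ).symm G (le_map_preimage D φ ψ)
  map_add' := cmp_add (D.map ψ) (D.map φ) (D.map (ψ ≫ φ)) (D.map_comp ψ φ).symm G (le_map_preimage D φ ψ)
  map_smul' r y := by
    refine (cmp_smul (D.map ψ) (D.map φ) (D.map (ψ ≫ φ)) (D.map_comp ψ φ).symm G (le_map_preimage D φ ψ)
      ((D.map φ).app V r) y).trans ?_
    show _ = (D.map (ψ ≫ φ)).app V r •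
      cmp (D.map ψ) (D.map φ) (D.map (ψ ≫ φ)) (D.map_comp ψ φ).symm G (le_map_preimage D φ ψ) y
    congr 1
    rw [Scheme.Hom.app_eq_appLE, Scheme.Hom.app_eq_appLE]
    exact res_base D φ ψ r

theorem toLim_res {j : I} (φ : j ⟶ i₀) {V V' : (D.obj i₀).Opens} (hle : V' ≤ V)
    (y : Γ(stageMod D G φ, V)) :
    (limMod D c G).presheaf.map (homOfLE hle).op (toLim D c G φ V y) =
      toLim D c G φ V' ((stageMod D G φ).presheaf.map (homOfLE hle).op y) :=
  cmp_res (c.π.app j) (D.map φ) (c.π.app i₀) (π_eq D c φ) G ((D.map φ).preimage_mono hle)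
    ((c.π.app i₀).preimage_mono hle) (le_π_preimage D c φ) (le_π_preimage D c φ) y

theorem toNext_res {j k : I} (φ : j ⟶ i₀) (ψ : k ⟶ j) {V V' : (D.obj i₀).Opens} (hle : V' ≤ V)
    (y : Γ(stageMod D G φ, V)) :
    (stageMod D G (ψ ≫ φ)).presheaf.map (homOfLE hle).op (toNext D G φ ψ V y) =
      toNext D G φ ψ V' ((stageMod D G φ).presheaf.map (homOfLE hle).op y) :=
  cmp_res (D.map ψ) (D.map φ) (D.map (ψ ≫ φ)) (D.map_comp ψ φ).symm G ((D.map φ).preimage_mono hle)
    ((D.map (ψ ≫ φ)).preimage_mono hle) (le_map_preimage D φ ψ) (le_map_preimage D φ ψ) y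

variable [∀ (i j : I) (f : i ⟶ j), IsAffineHom (D.map f)] {G}

theorem toLim_toNext (hG : Coh.IsQCoh G) {j k : I} (φ : j ⟶ i₀) (ψ : k ⟶ j) {V : (D.obj i₀).Opens}
    (hV : IsAffineOpen V) (y : Γ(stageMod D G φ, V)) :
    toLim D c G (ψ ≫ φ) V (toNext D G φ ψ V y) = toLim D c G φ V y := by
  show cmp (c.π.app k) (D.map (ψ ≫ φ)) (c.π.app i₀) (π_eq D c (ψ ≫ φ)) G (le_π_preimage D c (ψ ≫ φ))
    (cmp (D.map ψ) (D.map φ) (D.map (ψ ≫ φ)) (D.map_comp ψ φ).symm G (le_map_preimage D φ ψ) y) =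
    cmp (c.π.app j) (D.map φ) (c.π.app i₀) (π_eq D c φ) G (le_π_preimage D c φ) y
  induction y using induction_pullSec (D.map φ) hG hV (hV.preimage (D.map φ)) le_rfl with
  | h0 => simp only [cmp_zero]
  | hp x =>
    rw [cmp_pullSec (D.map ψ) (D.map φ) (D.map (ψ ≫ φ)) _ G le_rfl _ le_rfl,
      cmp_pullSec (c.π.app k) (D.map (ψ ≫ φ)) (c.π.app i₀) _ G le_rfl _ le_rfl,
      cmp_pullSec (c.π.app j) (D.map φ) (c.π.app i₀) _ G le_rfl _ le_rfl]
  | hs r y hy =>
    simp only [cmp_smul]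
    rw [hy]
    congr 1
    exact res_comp D c φ ψ r
  | ha y y' hy hy' => simp only [cmp_add]; rw [hy, hy']

variable (hc : IsLimit c)

include hc in
theorem ev_lift (hG : Coh.IsQCoh G) {V : (D.obj i₀).Opens} (hV : IsAffineOpen V)
    (t : Γ(limMod D c G, V)) :
    Ev (fun j (φ : j ⟶ i₀) => ∃ y : Γ(stageMod D G φ, V), toLim D c G φ V y = t) := by
  haveI : IsAffineHom (c.π.app i₀) := isAffineHom_π_app D c hc i₀
  induction t using induction_pullSec (c.π.app i₀) hG hV (hV.preimage (c.π.app i₀)) le_rfl with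
  | h0 => exact ⟨i₀, 𝟙 i₀, fun k ψ => ⟨0, map_zero _⟩⟩
  | hp x =>
    exact ⟨i₀, 𝟙 i₀, fun k ψ => ⟨pullSec (D.map (ψ ≫ 𝟙 i₀)) G le_rfl x,
      cmp_pullSec (c.π.app k) (D.map (ψ ≫ 𝟙 i₀)) (c.π.app i₀) _ G le_rfl _ le_rfl x⟩⟩
  | hs r y hy =>
    refine (hy.and (ev_section D c hc hV r)).mono fun j φ ⟨⟨y', hy'⟩, b, hb⟩ => ?_
    let y'' : Γ((Scheme.Modules.pullback (D.map φ)).obj G, D.map φ ⁻¹ᵁ V) := y'
    refine ⟨b • y'', ?_⟩
    refine (cmp_smul (c.π.app j) (D.map φ) (c.π.app i₀) (π_eq D c φ) G (le_π_preimage D c φ) b y'').trans ?_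
    exact congrArg₂ (· • ·) hb hy'
  | ha y y' hy hy' =>
    refine (hy.and hy').mono fun j φ ⟨⟨z, hz⟩, ⟨z', hz'⟩⟩ => ⟨z + z', ?_⟩
    rw [map_add, hz, hz']

include hc in
theorem ev_toNext_eq_zero (hG : Coh.IsQCoh G) {V : (D.obj i₀).Opens} (hV : IsAffineOpen V) {j : I}
    (φ : j ⟶ i₀) (y : Γ(stageMod D G φ, V)) (hy : toLim D c G φ V y = 0) :
    Ev (fun k (ψ : k ⟶ j) => toNext D G φ ψ V y = 0) := by
  have hge : c.π.app j ⁻¹ᵁ (D.map φ ⁻¹ᵁ V) ≤ c.π.app i₀ ⁻¹ᵁ V := by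
    rw [← Scheme.Hom.comp_preimage, c.w φ]
  exact (ev_pullSec_zero D c hc (i₀ := j) (hV.preimage (D.map φ)) (isQCoh_pullback (D.map φ) hG) y
    (eq_zero_of_cmp_eq_zero (c.π.app j) (D.map φ) (c.π.app i₀) (π_eq D c φ) G _ hge y hy)).mono
    fun k ψ hk => cmp_eq_zero_of_pullSec (D.map ψ) (D.map φ) (D.map (ψ ≫ φ)) (D.map_comp ψ φ).symm G _ y hk

include hc in
theorem ev_linear_lift (hG : Coh.IsQCoh G) {V : (D.obj i₀).Opens} (hV : IsAffineOpen V) {M : Type u}
    [AddCommGroup M] [Module Γ(D.obj i₀, V) M] [Module.FinitePresentation Γ(D.obj i₀, V) M]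
    (l : M →ₗ[Γ(D.obj i₀, V)] Γ(limMod D c G, V)) :
    Ev (fun j (φ : j ⟶ i₀) => ∃ l' : M →ₗ[Γ(D.obj i₀, V)] Γ(stageMod D G φ, V),
      ∀ x, toLim D c G φ V (l' x) = l x) := by
  classical
  obtain ⟨n, K, e, hK⟩ := Module.FinitePresentation.exists_fin Γ(D.obj i₀, V) M
  let q : (Fin n → Γ(D.obj i₀, V)) →ₗ[Γ(D.obj i₀, V)] M := e.symm.toLinearMap ∘ₗ K.mkQ
  obtain ⟨j, φ, hj⟩ := (Ev.forall_fintype fun i : Fin n =>
    ev_lift D c hc hG hV (l (q (Pi.single i 1)))).exists_stage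
  choose y hy using hj
  let L : (Fin n → Γ(D.obj i₀, V)) →ₗ[Γ(D.obj i₀, V)] Γ(stageMod D G φ, V) :=
    (Pi.basisFun Γ(D.obj i₀, V) (Fin n)).constr Γ(D.obj i₀, V) y
  have hL : (toLim D c G φ V).comp L = l.comp q := by
    refine (Pi.basisFun Γ(D.obj i₀, V) (Fin n)).ext fun i => ?_
    show toLim D c G φ V (L (Pi.basisFun Γ(D.obj i₀, V) (Fin n) i)) = _
    rw [Module.Basis.constr_basis, hy, Pi.basisFun_apply]
    rfl
  obtain ⟨s, hs⟩ := hK
  obtain ⟨k, ψ, hk⟩ := Ev.forall_finset s fun a ha =>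
    ev_toNext_eq_zero D c hc hG hV φ (L a) (by
      have h1 : K.mkQ a = 0 := (Submodule.Quotient.mk_eq_zero K).2 (hs ▸ Submodule.subset_span ha)
      rw [show toLim D c G φ V (L a) = l (q a) from LinearMap.congr_fun hL a]
      show l (e.symm (K.mkQ a)) = 0
      rw [h1, map_zero, map_zero])
  refine ⟨k, ψ ≫ φ, fun m χ => ?_⟩
  rw [← Category.assoc]
  let L' := (toNext D G φ (χ ≫ ψ) V).comp L
  have hL' : K ≤ LinearMap.ker L' := by
    rw [← hs, Submodule.span_le]
    exact fun a ha => hk m χ a ha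
  refine ⟨(K.liftQ L' hL').comp e.toLinearMap, fun x => ?_⟩
  obtain ⟨a, ha⟩ := K.mkQ_surjective (e x)
  have hx : q a = x := by
    show e.symm (K.mkQ a) = x
    rw [ha, LinearEquiv.symm_apply_apply]
  show toLim D c G ((χ ≫ ψ) ≫ φ) V (K.liftQ L' hL' (e x)) = l x
  rw [← ha]
  show toLim D c G ((χ ≫ ψ) ≫ φ) V (toNext D G φ (χ ≫ ψ) V (L a)) = l x
  rw [toLim_toNext D c hG φ (χ ≫ ψ) hV, show toLim D c G φ V (L a) = l (q a) from LinearMap.congr_fun hL a, hx]

/-- A map of modules on sections, as a linear map. -/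
noncomputable def appLin {X : Scheme.{u}} {M N : X.Modules} (u : M ⟶ N) (V : X.Opens) :
    Γ(M, V) →ₗ[Γ(X, V)] Γ(N, V) where
  toFun := u.app V
  map_add' := map_add (u.app V).hom
  map_smul' := fun r x => u.app_smul r x

include hc in
/-- A map to the limit from a module of finite presentation comes from a stage, on an affine cover. -/
theorem exists_stage_hom [CompactSpace (D.obj i₀)] [QuasiSeparatedSpace (D.obj i₀)] {F : (D.obj i₀).Modules}
    (hF : CohB1.IsFP F) (hFq : Coh.IsQCoh F) (hG : Coh.IsQCoh G) (u₀ : F ⟶ limMod D c G) :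
    ∃ (j : I) (φ : j ⟶ i₀) (u : F ⟶ stageMod D G φ) (σ : Type u) (U : σ → (D.obj i₀).Opens),
      (∀ a, IsAffineOpen (U a)) ∧ (∀ p, ∃ a, p ∈ U a) ∧
        ∀ a x, toLim D c G φ (U a) (u.app (U a) x) = u₀.app (U a) x := by
  classical
  choose U₀ hU₀ hxU₀ _ using fun x : D.obj i₀ =>
    exists_isAffineOpen_mem_and_subset (x := x) (U := ⊤) trivial
  obtain ⟨t, ht⟩ := isCompact_univ.elim_finite_subcover (fun x => (U₀ x : Set (D.obj i₀)))
    (fun x => (U₀ x).isOpen) fun x _ => Set.mem_iUnion.2 ⟨x, hxU₀ x⟩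
  let U : t → (D.obj i₀).Opens := fun a => U₀ a.1
  have hU : ∀ a, IsAffineOpen (U a) := fun a => hU₀ a.1
  have hcov : ∀ p, ∃ a, p ∈ U a := fun p => by
    obtain ⟨x, hx, hp⟩ := Set.mem_iUnion₂.1 (ht (Set.mem_univ p))
    exact ⟨⟨x, hx⟩, hp⟩
  haveI : ∀ a, Module.FinitePresentation Γ(D.obj i₀, U a) Γ(F, U a) := fun a =>
    finitePresentation_of_isFP hF (hU a)
  obtain ⟨j, φ, hj⟩ := (Ev.forall_fintype fun a : t =>
    ev_linear_lift D c hc hG (hU a) (appLin u₀ (U a))).exists_stage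
  choose l hl using hj
  have hQ : ∀ ab : t × t, ∃ S : Finset Γ(D.obj i₀, U ab.2), (∀ g ∈ S, (D.obj i₀).basicOpen g ≤ U ab.1) ∧
      ∀ p, p ∈ U ab.1 → p ∈ U ab.2 → ∃ g ∈ S, p ∈ (D.obj i₀).basicOpen g := by
    intro ab
    have hK : IsCompact ((U ab.1 : Set (D.obj i₀)) ∩ U ab.2) :=
      QuasiSeparatedSpace.inter_isCompact _ _ (U ab.1).isOpen (hU _).isCompact (U ab.2).isOpen (hU _).isCompact
    obtain ⟨S, hS⟩ := hK.elim_finite_subcover
      (fun g : {g : Γ(D.obj i₀, U ab.2) // (D.obj i₀).basicOpen g ≤ U ab.1} =>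
        ((D.obj i₀).basicOpen g.1 : Set (D.obj i₀))) (fun g => ((D.obj i₀).basicOpen g.1).isOpen) (fun p hp => by
        obtain ⟨g, hg, hpg⟩ := (hU ab.2).exists_basicOpen_le (V := U ab.1) ⟨p, hp.1⟩ hp.2
        exact Set.mem_iUnion.2 ⟨⟨g, hg⟩, hpg⟩)
    refine ⟨S.image Subtype.val, fun g hg => ?_, fun p h1 h2 => ?_⟩
    · obtain ⟨g', -, rfl⟩ := Finset.mem_image.1 hg
      exact g'.2
    · obtain ⟨g, hg, hpg⟩ := Set.mem_iUnion₂.1 (hS ⟨h1, h2⟩)
      exact ⟨g.1, Finset.mem_image_of_mem _ hg, hpg⟩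
  choose S hS hScov using hQ
  have hgen : ∀ a : t, ∃ s : Finset Γ(F, U a), Submodule.span Γ(D.obj i₀, U a) (s : Set Γ(F, U a)) = ⊤ :=
    fun a => (Module.Finite.fg_top (R := Γ(D.obj i₀, U a)) (M := Γ(F, U a)))
  choose s hs using hgen
  choose e he using fun (ab : t × t) (g : Γ(D.obj i₀, U ab.2)) =>
    HomGlue.exists_ext hFq (hU ab.2) (l ab.2) (rfl : (D.obj i₀).basicOpen g = (D.obj i₀).basicOpen g)
  have he' : ∀ (ab : t × t) (g : Γ(D.obj i₀, U ab.2)) (z : Γ(F, (D.obj i₀).basicOpen g)),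
      toLim D c G φ ((D.obj i₀).basicOpen g) (e ab g z) = u₀.app ((D.obj i₀).basicOpen g) z := by
    intro ab g z
    refine HomGlue.ext_res hFq (hU ab.2) (le_refl ((D.obj i₀).basicOpen g))
      (fun z => toLim D c G φ ((D.obj i₀).basicOpen g) (e ab g z))
      (fun z => u₀.app ((D.obj i₀).basicOpen g) z) (fun r s => ?_) (fun r s => ?_) (fun x => ?_) z
    · dsimp only
      rw [ringMap_id, map_smul, map_smul]
    · dsimp only
      rw [ringMap_id]
      exact u₀.app_smul r s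
    · dsimp only
      rw [he, ← toLim_res, hl]
      exact (map_app_comm u₀ _ x).symm
  obtain ⟨k, ψ, hk⟩ := (Ev.forall_fintype fun q : Σ ab : t × t, ↥(S ab ×ˢ s ab.1) =>
      ev_toNext_eq_zero D c hc hG ((hU q.1.2).basicOpen q.2.1.1) φ
        (e q.1 q.2.1.1 (F.presheaf.map (homOfLE (hS q.1 q.2.1.1 (Finset.mem_product.1 q.2.2).1)).op q.2.1.2) -
          (stageMod D G φ).presheaf.map (homOfLE (hS q.1 q.2.1.1 (Finset.mem_product.1 q.2.2).1)).op
            (l q.1.1 q.2.1.2)) (by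
        rw [map_sub, he', ← toLim_res, hl, sub_eq_zero]
        exact map_app_comm u₀ _ q.2.1.2)).exists_stage
  obtain ⟨u, hu⟩ := HomGlue.exists_hom U hFq hU hcov (fun a => (toNext D G φ ψ (U a)).comp (l a)) (by
    intro a b p ha hb
    obtain ⟨g, hg, hpg⟩ := hScov (a, b) p ha hb
    refine ⟨g, hS (a, b) g hg, (toNext D G φ ψ _).comp (e (a, b) g), hpg, fun x => ?_, fun x => ?_⟩
    · show toNext D G φ ψ _ (e (a, b) g _) = _
      rw [he, ← toNext_res]
      rfl
    · show toNext D G φ ψ _ (e (a, b) g _) = _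
      have hx : x ∈ Submodule.span Γ(D.obj i₀, U a) (s a : Set Γ(F, U a)) := hs a ▸ Submodule.mem_top
      induction hx using Submodule.span_induction with
      | mem x hx =>
        have h := hk ⟨(a, b), ⟨(g, x), Finset.mem_product.2 ⟨hg, hx⟩⟩⟩
        rw [map_sub, sub_eq_zero] at h
        rw [h, ← toNext_res]
        rfl
      | zero => simp only [map_zero]
      | add x y _ _ hx hy => simp only [map_add, hx, hy]
      | smul r x _ hx => simp only [map_smul, map_smul', hx])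
  refine ⟨k, ψ ≫ φ, u, t, U, hU, hcov, fun a x => ?_⟩
  rw [hu]
  show toLim D c G (ψ ≫ φ) (U a) (toNext D G φ ψ (U a) (l a x)) = _
  rw [toLim_toNext D c hG φ ψ (hU a), hl]
  rfl

include hc in
/-- A map between inverse images on the limit comes from a stage. -/
theorem exists_hom_descend [CompactSpace (D.obj i₀)] [QuasiSeparatedSpace (D.obj i₀)] {F : (D.obj i₀).Modules}
    (hF : CohB1.IsFP F) (hFq : Coh.IsQCoh F) (hG : Coh.IsQCoh G)
    (h : (Scheme.Modules.pullback (c.π.app i₀)).obj F ⟶ (Scheme.Modules.pullback (c.π.app i₀)).obj G) :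
    ∃ (j : I) (φ : j ⟶ i₀) (hj : (Scheme.Modules.pullback (D.map φ)).obj F ⟶ (Scheme.Modules.pullback (D.map φ)).obj G),
      ((Scheme.Modules.pullbackComp (c.π.app j) (D.map φ) ≪≫ Scheme.Modules.pullbackCongr (π_eq D c φ)).app F).inv ≫
        (Scheme.Modules.pullback (c.π.app j)).map hj ≫
          ((Scheme.Modules.pullbackComp (c.π.app j) (D.map φ) ≪≫ Scheme.Modules.pullbackCongr (π_eq D c φ)).app G).hom = h := by
  haveI : IsAffineHom (c.π.app i₀) := isAffineHom_π_app D c hc i₀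
  let u₀ : F ⟶ limMod D c G := (Scheme.Modules.pullbackPushforwardAdjunction (c.π.app i₀)).homEquiv _ _ h
  obtain ⟨j, φ, u, σ, U, hU, hcov, hu⟩ := exists_stage_hom D c hc hF hFq hG u₀
  let hj := ((Scheme.Modules.pullbackPushforwardAdjunction (D.map φ)).homEquiv F
    ((Scheme.Modules.pullback (D.map φ)).obj G)).symm u
  refine ⟨j, φ, hj, ?_⟩
  let eF := (Scheme.Modules.pullbackComp (c.π.app j) (D.map φ) ≪≫ Scheme.Modules.pullbackCongr (π_eq D c φ)).app F
  let eG := (Scheme.Modules.pullbackComp (c.π.app j) (D.map φ) ≪≫ Scheme.Modules.pullbackCongr (π_eq D c φ)).app G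
  show eF.inv ≫ (Scheme.Modules.pullback (c.π.app j)).map hj ≫ eG.hom = h
  rw [← sub_eq_zero]
  refine hom_eq_zero_of_cover (isQCoh_pullback (c.π.app i₀) hFq) _ (fun a => c.π.app i₀ ⁻¹ᵁ U a)
    (fun a => (hU a).preimage _) (fun p => hcov (c.π.app i₀ p)) fun a z => ?_
  induction z using induction_pullSec (c.π.app i₀) hFq (hU a) ((hU a).preimage _) le_rfl with
  | h0 => exact map_zero _
  | hs r y hy => rw [Scheme.Modules.Hom.app_smul, hy, smul_zero]
  | ha y y' hy hy' => rw [map_add, hy, hy', add_zero]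
  | hp x =>
    let W := c.π.app i₀ ⁻¹ᵁ U a
    let hle : W ≤ c.π.app j ⁻¹ᵁ (D.map φ ⁻¹ᵁ U a) := le_π_preimage D c φ
    have h1 : eF.inv.app W (pullSec (c.π.app i₀) F le_rfl x) =
        pullSec (c.π.app j) _ hle (pullSec (D.map φ) F le_rfl x) := by
      have e1 : eF.hom.app W (pullSec (c.π.app j) _ hle (pullSec (D.map φ) F le_rfl x)) =
          pullSec (c.π.app i₀) F le_rfl x :=
        cmp_pullSec (c.π.app j) (D.map φ) (c.π.app i₀) (π_eq D c φ) F le_rfl hle le_rfl x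
      rw [← e1]
      exact congrArg (fun q : (Scheme.Modules.pullback (c.π.app j)).obj ((Scheme.Modules.pullback (D.map φ)).obj F) ⟶
        (Scheme.Modules.pullback (c.π.app j)).obj ((Scheme.Modules.pullback (D.map φ)).obj F) =>
          q.app W (pullSec (c.π.app j) _ hle (pullSec (D.map φ) F le_rfl x))) eF.hom_inv_id
    have h2 : h.app W (pullSec (c.π.app i₀) F le_rfl x) = u₀.app (U a) x := by
      have := adjoint_pullSec (c.π.app i₀) u₀ x
      rw [show ((Scheme.Modules.pullbackPushforwardAdjunction (c.π.app i₀)).homEquiv _ _).symm u₀ = h from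
        Equiv.symm_apply_apply _ _] at this
      exact this
    simp only [Scheme.Modules.Hom.sub_app]
    show eG.hom.app W (((Scheme.Modules.pullback (c.π.app j)).map hj).app W
      (eF.inv.app W (pullSec (c.π.app i₀) F le_rfl x))) - h.app W (pullSec (c.π.app i₀) F le_rfl x) = 0
    rw [h1, pullSec_naturality, adjoint_pullSec (D.map φ) u x, h2, sub_eq_zero]
    exact hu a x

end Limit

end Groth.Agent.RGLib.Lim8
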