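import Groth.Agent.MorLib.LimPoints
import Groth.Agent.S4785
import Mathlib.AlgebraicGeometry.AffineTransitionLimit
import Mathlib.AlgebraicGeometry.Properties
import Mathlib.AlgebraicGeometry.Noetherian

/-!
# Limits along affine open immersions: reducedness, irreducibility
-/

universe u

open CategoryTheory AlgebraicGeometry TopologicalSpace

set_option autoImplicit false

namespace Groth.Agent.RGLib

theorem exists_notMem_forall_isReduced {R : Type u} [CommRing R] (hN : (nilradical R).FG)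
    (p : Ideal R) [p.IsPrime] [_root_.IsReduced (Localization.AtPrime p)] :
    ∃ s, s ∉ p ∧ ∀ (q : Ideal R) [q.IsPrime], s ∉ q → _root_.IsReduced (Localization.AtPrime q) := by
  classical
  obtain ⟨G, hG⟩ := hN
  have h1 : ∀ g : G, ∃ t : p.primeCompl, (t : R) * g = 0 := fun g => by
    have hg : IsNilpotent (g : R) := mem_nilradical.1 (hG ▸ Submodule.subset_span g.2)
    obtain ⟨t, ht⟩ := (IsLocalization.map_eq_zero_iff p.primeCompl (Localization.AtPrime p) (g : R)).1
      (IsNilpotent.eq_zero (hg.map (algebraMap R _)))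
    exact ⟨t, ht⟩
  choose t ht using h1
  refine ⟨((∏ g, t g : p.primeCompl) : R), (∏ g, t g : p.primeCompl).2, fun q _ hq => ⟨fun z hz => ?_⟩⟩
  have hkill : ∀ x ∈ nilradical R, ((∏ g, t g : p.primeCompl) : R) * x = 0 := by
    intro x hx
    rw [← hG] at hx
    induction hx using Submodule.span_induction with
    | mem g hg =>
      rw [← Finset.mul_prod_erase _ _ (Finset.mem_univ (⟨g, hg⟩ : G)), Submonoid.coe_mul,
        mul_comm (t _ : R), mul_assoc, ht ⟨g, hg⟩, mul_zero]
    | zero => simp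
    | add a b _ _ ha hb => rw [mul_add, ha, hb, add_zero]
    | smul a b _ hb => rw [smul_eq_mul, mul_left_comm, hb, mul_zero]
  obtain ⟨⟨x, s⟩, rfl⟩ := IsLocalization.mk'_surjective q.primeCompl z
  obtain ⟨n, hn⟩ := hz
  have hx0 : algebraMap R (Localization.AtPrime q) x ^ n = 0 := by
    have := congrArg (· * algebraMap R (Localization.AtPrime q) s ^ n) hn
    simpa [← mul_pow, IsLocalization.mk'_spec] using this
  rw [← map_pow] at hx0
  obtain ⟨u, hu⟩ := (IsLocalization.map_eq_zero_iff q.primeCompl _ _).1 hx0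
  have hnil : (u : R) * x ∈ nilradical R := by
    refine mem_nilradical.2 ⟨n + 1, ?_⟩
    rw [pow_succ, mul_pow, show (u : R) ^ n * x ^ n * ((u : R) * x) = (u : R) ^ n * x * ((u : R) * x ^ n) by ring,
      hu, mul_zero]
  rw [IsLocalization.mk'_eq_zero_iff]
  exact ⟨⟨((∏ g, t g : p.primeCompl) : R), hq⟩ * u, by
    show ((∏ g, t g : p.primeCompl) : R) * u * x = 0
    rw [mul_assoc]; exact hkill _ hnil⟩

theorem isOpen_isReduced_stalk {X : Scheme.{u}} (hN : ∀ U : X.affineOpens, (nilradical Γ(X, U)).FG) :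
    IsOpen {x : X | _root_.IsReduced (X.presheaf.stalk x)} := by
  refine isOpen_iff_forall_mem_open.2 fun x hx => ?_
  obtain ⟨_, ⟨U, hU, rfl⟩, hxU, -⟩ :=
    X.isBasis_affineOpens.exists_subset_of_mem_open (Set.mem_univ x) isOpen_univ
  have loc : ∀ (y : X) (hy : y ∈ U), _root_.IsReduced (X.presheaf.stalk y) ↔
      _root_.IsReduced (Localization.AtPrime (hU.primeIdealOf ⟨y, hy⟩).asIdeal) := fun y hy => by
    letI : Algebra Γ(X, U) (X.presheaf.stalk y) := TopCat.Presheaf.algebra_section_stalk X.presheaf ⟨y, hy⟩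
    haveI := hU.isLocalization_stalk ⟨y, hy⟩
    let e := (IsLocalization.algEquiv (hU.primeIdealOf ⟨y, hy⟩).asIdeal.primeCompl (X.presheaf.stalk y)
      (Localization.AtPrime (hU.primeIdealOf ⟨y, hy⟩).asIdeal)).toRingEquiv
    exact ⟨fun h => haveI := h; isReduced_of_injective e.symm e.symm.injective,
      fun h => haveI := h; isReduced_of_injective e e.injective⟩
  haveI := (loc x hxU).1 hx
  obtain ⟨s, hs, hall⟩ := exists_notMem_forall_isReduced (hN ⟨U, hU⟩) (hU.primeIdealOf ⟨x, hxU⟩).asIdeal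
  refine ⟨X.basicOpen s, fun y hy => ?_, (X.basicOpen s).2, ?_⟩
  · have hyU : y ∈ U := X.basicOpen_le s hy
    refine (loc y hyU).2 (hall _ ?_)
    have : hU.primeIdealOf ⟨y, hyU⟩ ∈ hU.fromSpec ⁻¹ᵁ X.basicOpen s := by
      show hU.fromSpec _ ∈ X.basicOpen s
      rw [hU.fromSpec_primeIdealOf]; exact hy
    rwa [hU.fromSpec_preimage_basicOpen] at this
  · have : hU.primeIdealOf ⟨x, hxU⟩ ∈ hU.fromSpec ⁻¹ᵁ X.basicOpen s := by
      rw [hU.fromSpec_preimage_basicOpen]; exact hs
    have h2 : hU.fromSpec (hU.primeIdealOf ⟨x, hxU⟩) ∈ X.basicOpen s := this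
    rwa [hU.fromSpec_primeIdealOf] at h2

variable {I : Type u} [SmallCategory I] [IsCofiltered I] {D : I ⥤ Scheme.{u}} {c : Limits.Cone D}
  (hc : Limits.IsLimit c) [∀ (i j : I) (f : i ⟶ j), IsAffineHom (D.map f)]

include hc in
/-- An open containing the image of the limit contains the image of some stage. -/
theorem exists_map_mem {i : I} [CompactSpace (D.obj i)] (V : (D.obj i).Opens) (h : ∀ s, c.π.app i s ∈ V) :
    ∃ (j : I) (φ : j ⟶ i), ∀ x, D.map φ x ∈ V := by
  haveI : ∀ {a b : I} (f : a ⟶ b), IsAffineHom (D.map f) := fun {a b} f => inferInstance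
  obtain ⟨j, φ, hj⟩ := exists_map_preimage_le_map_preimage D c hc (i := i) (U := ⊤) (V := V) isCompact_univ
    (fun s _ => h s)
  exact ⟨j, φ, fun x => hj trivial⟩

include hc in
/-- Eventually reduced. -/
theorem exists_isReduced_of_isReduced (hoi : ∀ (i j : I) (φ : i ⟶ j), IsOpenImmersion (D.map φ)) {i₀ : I}
    [CompactSpace (D.obj i₀)] (hN : ∀ U : (D.obj i₀).affineOpens, (nilradical Γ(D.obj i₀, U)).FG)
    [IsReduced c.pt] :
    ∃ (i : I) (_ : i ⟶ i₀), ∀ (j : I) (_ : j ⟶ i), IsReduced (D.obj j) := by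
  let V : (D.obj i₀).Opens := ⟨_, isOpen_isReduced_stalk hN⟩
  have h : ∀ s, c.π.app i₀ s ∈ V := fun s => by
    haveI := (S4785.result D c hc hoi i₀).2 s
    haveI : _root_.IsReduced ((((Functor.const I).obj c.pt).obj i₀).presheaf.stalk s) := isReduced_stalk_of_isReduced (X := c.pt) s
    exact isReduced_of_injective ((c.π.app i₀).stalkMap s).hom
      (ConcreteCategory.bijective_of_isIso ((c.π.app i₀).stalkMap s)).1
  obtain ⟨i, φ, hi⟩ := exists_map_mem hc V h
  refine ⟨i, φ, fun j g => ?_⟩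
  haveI := hoi _ _ (g ≫ φ)
  haveI : ∀ x, _root_.IsReduced ((D.obj j).presheaf.stalk x) := fun x => by
    haveI : _root_.IsReduced ((D.obj i₀).presheaf.stalk (D.map (g ≫ φ) x)) := by
      have h2 := hi (D.map g x)
      rw [← Scheme.Hom.comp_apply, ← D.map_comp] at h2
      exact h2
    exact isReduced_of_injective (inv ((D.map (g ≫ φ)).stalkMap x)).hom
      (ConcreteCategory.bijective_of_isIso (inv ((D.map (g ≫ φ)).stalkMap x))).1
  exact isReduced_of_isReduced_stalk _

include hc in
/-- Eventually irreducible. -/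
theorem exists_irreducibleSpace (hoi : ∀ (i j : I) (φ : i ⟶ j), IsOpenImmersion (D.map φ)) {i₀ : I}
    [IsNoetherian (D.obj i₀)] [IrreducibleSpace c.pt] :
    ∃ (i : I) (_ : i ⟶ i₀), ∀ (j : I) (_ : j ⟶ i), IrreducibleSpace (D.obj j) := by
  let π : c.pt ⟶ D.obj i₀ := c.π.app i₀
  have hgen : ∀ {x y : D.obj i₀}, x ∈ Set.range π → y ⤳ x → y ∈ Set.range π := fun {x y} hx hy => by
    refine MorLib.LimPts.mem_range_π hc y fun j φ => hy.mem_open (hoi _ _ φ).base_open.isOpen_range ?_
    obtain ⟨s, rfl⟩ := hx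
    exact ⟨c.π.app j s, by rw [← Scheme.Hom.comp_apply, c.w]⟩
  let η := π (genericPoint c.pt)
  have hη : ∀ s, η ⤳ π s := fun s => (genericPoint_specializes s).map π.continuous
  -- the generic points of the components through the image
  have hmax : ∀ Z ∈ irreducibleComponents (D.obj i₀), ∀ s, π s ∈ Z → Z = closure {η} := fun Z hZ s hs => by
    obtain ⟨ζ, hζ⟩ := QuasiSober.sober hZ.1 (isClosed_of_mem_irreducibleComponents Z hZ)
    obtain ⟨t, ht⟩ := hgen ⟨s, rfl⟩ (hζ.specializes hs)
    have h1 : η ⤳ ζ := ht ▸ hη t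
    refine hZ.eq_of_le ?_ ?_
    · exact isIrreducible_singleton.closure
    · rw [← hζ]
      exact closure_minimal (Set.singleton_subset_iff.2 (specializes_iff_mem_closure.1 h1)) isClosed_closure
  let F := {Z ∈ irreducibleComponents (D.obj i₀) | Z ≠ closure {η}}
  have hF : IsClosed (⋃₀ F) := by
    rw [Set.sUnion_eq_biUnion]
    exact (TopologicalSpace.NoetherianSpace.finite_irreducibleComponents.subset (fun Z hZ => hZ.1)).isClosed_biUnion
      fun Z hZ => isClosed_of_mem_irreducibleComponents Z hZ.1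
  let V : (D.obj i₀).Opens := ⟨_, hF.isOpen_compl⟩
  have hV : ∀ s, π s ∈ V := fun s ⟨Z, hZ, hs⟩ => hZ.2 (hmax Z hZ.1 s hs)
  have hVη : ∀ x ∈ V, η ⤳ x := fun x hx => specializes_iff_mem_closure.2 <| by
    by_contra hc'
    refine hx ⟨_, ⟨irreducibleComponent_mem_irreducibleComponents x, fun e => hc' ?_⟩, mem_irreducibleComponent⟩
    rw [← e]; exact mem_irreducibleComponent
  obtain ⟨i, φ, hi⟩ := exists_map_mem hc V hV
  refine ⟨i, φ, fun j g => ?_⟩
  let a := c.π.app j (genericPoint c.pt)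
  have hall : ∀ x, a ⤳ x := fun x => by
    have h1 : η ⤳ D.map (g ≫ φ) x := hVη _ (by rw [D.map_comp, Scheme.Hom.comp_apply]; exact hi _)
    refine ((hoi _ _ (g ≫ φ)).base_open.isInducing.specializes_iff).1 ?_
    show D.map (g ≫ φ) (c.π.app j (genericPoint c.pt)) ⤳ _
    rw [← Scheme.Hom.comp_apply, c.w]
    exact h1
  haveI : Nonempty (D.obj j) := ⟨a⟩
  refine { isPreirreducible_univ := ?_, toNonempty := inferInstance }
  have : closure ({a} : Set (D.obj j)) = Set.univ := Set.eq_univ_of_forall fun x => specializes_iff_mem_closure.1 (hall x)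
  rw [← this]
  exact isIrreducible_singleton.closure.isPreirreducible

include hc in
/-- A limit of irreducible stages is irreducible. -/
theorem irreducibleSpace_of_eventually (hoi : ∀ (i j : I) (φ : i ⟶ j), IsOpenImmersion (D.map φ)) (i : I)
    [IrreducibleSpace (D.obj i)] (hne : ∀ (j : I) (_ : j ⟶ i), Nonempty (D.obj j)) :
    IrreducibleSpace c.pt := by
  obtain ⟨s, hs⟩ : genericPoint (D.obj i) ∈ Set.range (c.π.app i) := by
    refine MorLib.LimPts.mem_range_π hc _ fun j φ => ?_
    haveI := hne j φ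
    exact (genericPoint_specializes _).mem_open (hoi _ _ φ).base_open.isOpen_range ⟨Classical.arbitrary _, rfl⟩
  have hall : ∀ x, s ⤳ x := fun x => ((S4785.result D c hc hoi i).1.isInducing.specializes_iff).1 <| by
    rw [hs]; exact genericPoint_specializes _
  haveI : Nonempty c.pt := ⟨s⟩
  refine { isPreirreducible_univ := ?_, toNonempty := inferInstance }
  have : closure ({s} : Set c.pt) = Set.univ := Set.eq_univ_of_forall fun x => specializes_iff_mem_closure.1 (hall x)
  rw [← this]
  exact isIrreducible_singleton.closure.isPreirreducible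

end Groth.Agent.RGLib
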