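import Groth.Agent.MorLib.DescendUnram
import Groth.Agent.DirColim.Descend
import Groth.Agent.Synt29.Mor
import Groth.Agent.KRegLib.SyntBC
import Groth.Agent.H1Syn.Colim

/-! Descent of syntomicity along limits. -/

set_option autoImplicit false
universe u

namespace Groth.Agent.LimSyn

open AlgebraicGeometry CategoryTheory Limits TopologicalSpace TensorProduct
open Groth.Agent.MorLib

/-- Syntomic morphisms as a morphism property. -/
def Syn : MorphismProperty Scheme.{u} := fun _ _ f => Synt.IsSyntomicMor f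

instance : HasRingHomProperty Syn.{u} Synt29.RingHomIsSyntomic := Synt29.hasRingHomProperty_isSyntomicMor.{u}

instance : Syn.{u}.IsStableUnderBaseChange :=
  HasRingHomProperty.isStableUnderBaseChange KRegLib.syntomic_stableUnderBaseChange

section

variable {I : Type u} [SmallCategory I] [IsCofiltered I] (D : I ⥤ Scheme.{u}) (c : Cone D)
  (hc : IsLimit c) [∀ {i j : I} (f : i ⟶ j), IsAffineHom (D.map f)] (i : I) [IsAffine (D.obj i)]

set_option backward.isDefEq.respectTransparency.types false in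
/-- Smoothness for `appTop` of a cartesian square of affine schemes, in algebraic terms. -/
theorem syn_iff_tensor {X S T P : Scheme.{u}} [IsAffine X] [IsAffine S] [IsAffine T] [IsAffine P]
    {fst : P ⟶ X} {snd : P ⟶ T} {f : X ⟶ S} {g : T ⟶ S} (h : IsPullback fst snd f g) :
    letI := f.appTop.hom.toAlgebra
    letI := g.appTop.hom.toAlgebra
    Syn snd ↔ Synt.IsSyntomic Γ(T, ⊤) (Γ(T, ⊤) ⊗[Γ(S, ⊤)] Γ(X, ⊤)) := by
  letI := f.appTop.hom.toAlgebra
  letI := g.appTop.hom.toAlgebra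
  have hp := (isPushout_appTop_of_isPullback h).flip
  have hq := CommRingCat.isPushout_tensorProduct Γ(S, ⊤) Γ(T, ⊤) Γ(X, ⊤)
  let e := hq.isoIsPushout _ _ hp
  have he : CommRingCat.ofHom (Algebra.TensorProduct.includeLeftRingHom
      (R := Γ(S, ⊤)) (A := Γ(T, ⊤)) (B := Γ(X, ⊤))) ≫ e.hom = snd.appTop :=
    IsPushout.inl_isoIsPushout_hom _ _ hq hp
  rw [HasRingHomProperty.iff_of_isAffine (P := Syn), ← he, CommRingCat.hom_comp,
    ← Synt29.ringHomIsSyntomic_algebraMap]
  constructor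
  · intro hs
    have := KRegLib.syntomic_respectsIso.1 _ e.symm.commRingCatIsoToRingEquiv hs
    have heq : e.symm.commRingCatIsoToRingEquiv.toRingHom.comp (e.hom.hom.comp
        (CommRingCat.ofHom (Algebra.TensorProduct.includeLeftRingHom
          (R := Γ(S, ⊤)) (A := Γ(T, ⊤)) (B := Γ(X, ⊤)))).hom) =
        algebraMap Γ(T, ⊤) (Γ(T, ⊤) ⊗[Γ(S, ⊤)] Γ(X, ⊤)) :=
      RingHom.ext fun x => congr($(e.hom_inv_id).hom (algebraMap Γ(T, ⊤) (Γ(T, ⊤) ⊗[Γ(S, ⊤)] Γ(X, ⊤)) x))
    exact heq ▸ this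
  · intro hs
    exact KRegLib.syntomic_respectsIso.1 _ e.commRingCatIsoToRingEquiv hs

include hc in
set_option backward.isDefEq.respectTransparency.types false in
/-- Descent of smoothness: affine case. -/
theorem affineCase_syn {X₀ : Scheme.{u}} (f₀ : X₀ ⟶ D.obj i) [IsAffine X₀]
    [LocallyOfFinitePresentation f₀] (h : Syn (pullback.snd f₀ (c.π.app i))) :
    ∃ (j : I) (φ : j ⟶ i), Syn (pullback.snd f₀ (D.map φ)) := by
  haveI hA : IsAffineHom (c.π.app i) := isAffineHom_π_app D c hc i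
  haveI hAi : IsAffine (((Functor.const I).obj c.pt).obj i) :=
    isAffine_of_isAffineHom (c.π.app i)
  haveI : IsAffine c.pt := hAi
  haveI : ∀ j : Over i, IsAffine (D.obj j.left) := fun j => isAffine_of_isAffineHom (D.map j.hom)
  haveI : ∀ j : Over i, IsAffine ((Over.forget i ⋙ D).obj j) := fun j => isAffine_of_isAffineHom (D.map j.hom)
  have hc' := (Functor.Initial.isLimitWhiskerEquiv (Over.forget i) c).symm hc
  letI := f₀.appTop.hom.toAlgebra
  letI : ∀ j : Over i, Algebra Γ(D.obj i, ⊤) Γ(D.obj j.left, ⊤) := fun j =>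
    (D.map j.hom).appTop.hom.toAlgebra
  letI : Algebra Γ(D.obj i, ⊤) Γ(c.pt, ⊤) := (c.π.app i).appTop.hom.toAlgebra
  haveI : Algebra.FinitePresentation Γ(D.obj i, ⊤) Γ(X₀, ⊤) :=
    (HasRingHomProperty.iff_of_isAffine (P := @LocallyOfFinitePresentation)).mp ‹_›
  let g : ∀ j : Over i, Γ(D.obj j.left, ⊤) →ₐ[Γ(D.obj i, ⊤)] Γ(c.pt, ⊤) := fun j =>
    { (c.π.app j.left).appTop.hom with commutes' := fun a => Desc.π_map_apply j a }
  have tr : ∀ {j k : Over i} (m : k ⟶ j), ∃ φ : DirColim.Trans g j k,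
      ∀ x, φ.1 x = (D.map m.left).appTop x := fun {j k} m => by
    refine ⟨⟨{ (D.map m.left).appTop.hom with commutes' := fun a => Desc.map_map_apply m a }, ?_⟩,
      fun x => rfl⟩
    ext x
    show (c.π.app k.left).appTop ((D.map m.left).appTop x) = (c.π.app j.left).appTop x
    rw [← c.w m.left, Scheme.Hom.comp_appTop]
    rfl
  have hG : DirColim.IsColim g :=
    { surj := fun a => exists_appTop_π_eq_of_isAffine_of_isLimit (Over.forget i ⋙ D)
        (c.whisker (Over.forget i)) hc' a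
      directed := fun j k => by
        obtain ⟨l, a, b, -⟩ := IsCofilteredOrEmpty.cone_objs j k
        exact ⟨l, ⟨(tr a).choose⟩, ⟨(tr b).choose⟩⟩
      ker := fun j x hx => by
        obtain ⟨k, m, hm⟩ := exists_appTop_map_eq_zero_of_isLimit (Over.forget i ⋙ D)
          (c.whisker (Over.forget i)) hc' (i := j) x hx
        obtain ⟨φ, hφ⟩ := tr m
        exact ⟨k, φ, (hφ x).trans hm⟩ }
  haveI hP : IsAffine (pullback f₀ (c.π.app i)) := inferInstance
  obtain ⟨j, hj⟩ := H1Syn.exists_isSyntomic hG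
    ((syn_iff_tensor (IsPullback.of_hasPullback f₀ (c.π.app i))).mp h)
  haveI : IsAffine (pullback f₀ (D.map j.hom)) := inferInstance
  exact ⟨j.left, j.hom, (syn_iff_tensor (IsPullback.of_hasPullback f₀ (D.map j.hom))).mpr hj⟩

end

set_option backward.isDefEq.respectTransparency.types false in
theorem core_syn : Desc.Core Syn (@LocallyOfFinitePresentation : MorphismProperty Scheme.{u}) := by
  intro I _ _ D c hc hD i hi X₀ f₀ hcs hqs hQ h
  classical
  haveI : ∀ {i j : I} (f : i ⟶ j), IsAffineHom (D.map f) := fun {i j} f => hD i j f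
  haveI : LocallyOfFinitePresentation f₀ := hQ
  haveI := hcs
  have hloc : ∀ W : X₀.affineOpens, ∃ (j : I) (φ : j ⟶ i),
      Syn (pullback.snd (W.1.ι ≫ f₀) (D.map φ)) := by
    intro W
    haveI : IsAffine (W.1 : Scheme.{u}) := W.2
    have hp := (IsPullback.of_hasPullback W.1.ι (pullback.fst f₀ (c.π.app i))).paste_vert
      (IsPullback.of_hasPullback f₀ (c.π.app i))
    haveI : IsOpenImmersion (pullback.snd W.1.ι (pullback.fst f₀ (c.π.app i))) :=
      MorphismProperty.pullback_snd _ _ inferInstance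
    exact affineCase_syn D c hc i (W.1.ι ≫ f₀)
      (Desc.of_two Syn hp (IsPullback.of_hasPullback _ _) (IsZariskiLocalAtSource.comp (P := Syn) h _))
  have hcov : ∀ p : X₀, ∃ V : X₀.affineOpens, p ∈ V.1 := fun p => by
    obtain ⟨V, hV, hp, -⟩ := exists_isAffineOpen_mem_and_subset (x := p) (U := ⊤) trivial
    exact ⟨⟨V, hV⟩, hp⟩
  choose W hW using hcov
  obtain ⟨F, hF⟩ := isCompact_univ.elim_finite_subcover (fun p => (((W p).1 : X₀.Opens) : Set X₀))
    (fun p => (W p).1.2) fun p _ => Set.mem_iUnion.mpr ⟨p, hW p⟩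
  choose k φ hk using fun p : F => hloc (W p.1)
  obtain ⟨j, ψ, χ, hχ⟩ := IsCofiltered.wideCospan φ
  refine ⟨j, ψ, ?_⟩
  refine IsZariskiLocalAtSource.of_iSup_eq_top (P := Syn)
    (fun p : F => pullback.fst f₀ (D.map ψ) ⁻¹ᵁ (W p.1).1) ?_ fun p => ?_
  · refine top_le_iff.mp fun x _ => ?_
    obtain ⟨q, hq, hx⟩ := Set.mem_iUnion₂.mp (hF (Set.mem_univ (pullback.fst f₀ (D.map ψ) x)))
    exact Opens.mem_iSup.mpr ⟨⟨q, hq⟩, hx⟩
  · have hp := (isPullback_morphismRestrict (pullback.fst f₀ (D.map ψ)) (W p.1).1).paste_vert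
      (IsPullback.of_hasPullback f₀ (D.map ψ))
    exact Desc.of_factor Syn (hk p) (a := D.map (χ p))
      (by rw [← D.map_comp, hχ p]) hp

end Groth.Agent.LimSyn
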