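import Groth.Agent.RGLib.Setup

/-! The local ring over a flat extension of the base at a point of a residual ring. -/

universe u

noncomputable section

open TensorProduct IsLocalRing

namespace Groth.Agent.RGLib

/-- Flatness over the base of a module tensored with a flat algebra. -/
theorem flat_tensor_left (R T X F : Type u) [CommRing R] [CommRing T] [Algebra R T]
    [AddCommGroup F] [Module T F] [Module R F] [IsScalarTower R T F] [Module.Flat T F]
    [AddCommGroup X] [Module T X] [Module R X] [IsScalarTower R T X] [Module.Flat R X] :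
    Module.Flat R (F ⊗[T] X) := by
  rw [Module.Flat.iff_lTensor_preserves_injective_linearMap]
  intro P Q _ _ _ _ f hf
  let eP := AlgebraTensorModule.assoc R T T F X P
  let eQ := AlgebraTensorModule.assoc R T T F X Q
  let g : X ⊗[R] P →ₗ[T] X ⊗[R] Q := AlgebraTensorModule.lTensor T X f
  have hg : Function.Injective g := Module.Flat.lTensor_preserves_injective_linearMap (M := X) f hf
  have h : Function.Injective (g.lTensor F) := Module.Flat.lTensor_preserves_injective_linearMap g hg
  have he : ∀ z, g.lTensor F (eP z) = eQ (f.lTensor (F ⊗[T] X) z) := by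
    intro z
    induction z using TensorProduct.induction_on with
    | zero => simp
    | tmul y p =>
      induction y using TensorProduct.induction_on with
      | zero => simp
      | tmul a x => simp [eP, eQ, g]
      | add a b ha hb => simp only [add_tmul, map_add, ha, hb]
    | add a b ha hb => simp only [map_add, ha, hb]
  intro a b hab
  refine eP.injective (h ?_)
  rw [he, he, hab]

/-- A flat local model over an extension of the base. -/
theorem exists_local_model {A A' S B : Type u} [CommRing A] [CommRing A'] [CommRing S] [IsLocalRing S]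
    [CommRing B] [IsLocalRing B] [Algebra A A'] [Module.Flat A A'] [Algebra A S] [Algebra A B]
    (εB : A' →ₐ[A] B) (σ : S →ₐ[A] B) [IsLocalHom σ.toRingHom] :
    ∃ (S' : Type u) (_ : CommRing S') (_ : IsLocalRing S') (_ : Algebra S S') (_ : Module.FaithfullyFlat S S')
      (_ : Algebra A' S') (_ : Algebra A S') (_ : IsScalarTower A A' S') (_ : IsScalarTower A S S') (θ : S' →+* B),
      IsLocalHom θ ∧ (∀ x, θ (algebraMap A' S' x) = εB x) ∧ (∀ x, θ (algebraMap S S' x) = σ x) ∧
      (∀ (X : Type u) [AddCommGroup X] [Module S X] [Module A X] [IsScalarTower A S X] [Module.Flat A X],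
        Module.Flat A' (S' ⊗[S] X)) ∧
      ∀ x : S', ∃ d ∈ Algebra.adjoin A' (Set.range (algebraMap S S')), IsUnit d ∧
        x * d ∈ Algebra.adjoin A' (Set.range (algebraMap S S')) := by
  let T := A' ⊗[A] S
  let θ₂ : T →ₐ[A] B := Algebra.TensorProduct.lift εB σ fun _ _ => Commute.all _ _
  let q₂ : Ideal T := (maximalIdeal B).comap θ₂
  haveI : q₂.IsPrime := Ideal.IsPrime.comap _
  let S' := Localization.AtPrime q₂
  have hθu : ∀ s : q₂.primeCompl, IsUnit (θ₂.toRingHom s) := fun s => IsLocalRing.notMem_maximalIdeal.1 s.2
  let θ : S' →+* B := IsLocalization.lift hθu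
  have hθ : ∀ x, θ (algebraMap T S' x) = θ₂ x := fun x => IsLocalization.lift_eq _ x
  have hθl : IsLocalHom θ := by
    refine ⟨fun x hx => ?_⟩
    obtain ⟨⟨r, s⟩, rfl⟩ := IsLocalization.mk'_surjective q₂.primeCompl x
    rw [IsLocalization.AtPrime.isUnit_mk'_iff S' q₂]
    intro hr
    have := hx.mul ((IsLocalization.map_units S' s).map θ)
    rw [← map_mul, IsLocalization.mk'_spec, hθ] at this
    exact (mem_maximalIdeal _).1 hr this
  letI : Algebra S T := Algebra.TensorProduct.rightAlgebra
  haveI : Module.Flat S T := Module.Flat.of_linearEquiv (Algebra.TensorProduct.commRight A S A').symm.toLinearEquiv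
  have htAS : IsScalarTower A S S' := IsScalarTower.of_algebraMap_eq fun x => by
    rw [IsScalarTower.algebraMap_apply S T S']
    show algebraMap A S' x = algebraMap T S' ((1 : A') ⊗ₜ algebraMap A S x)
    rw [IsScalarTower.algebraMap_apply A T S', ← Algebra.TensorProduct.tmul_one_eq_one_tmul]
    rfl
  haveI : Module.Flat S S' := Module.Flat.trans S T S'
  have hθS : ∀ s : S, θ (algebraMap S S' s) = σ s := fun s => by
    rw [IsScalarTower.algebraMap_apply S T S', hθ]
    show θ₂ (1 ⊗ₜ s) = _
    rw [Algebra.TensorProduct.lift_tmul, map_one, one_mul]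
  haveI : IsLocalHom (algebraMap S S') := by
    refine ⟨fun s hs => ?_⟩
    have := hs.map θ
    rw [hθS] at this
    exact (IsLocalHom.map_nonunit (f := σ.toRingHom) s this)
  haveI : Module.FaithfullyFlat S S' := Module.FaithfullyFlat.of_flat_of_isLocalHom
  refine ⟨S', inferInstance, inferInstance, inferInstance, inferInstance, inferInstance, inferInstance, inferInstance,
    htAS, θ, hθl, fun x => ?_, hθS, ?_, fun x => ?_⟩
  · rw [IsScalarTower.algebraMap_apply A' T S', hθ]
    show θ₂ (x ⊗ₜ 1) = _
    rw [Algebra.TensorProduct.lift_tmul, map_one, mul_one]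
  · intro X _ _ _ _ _
    haveI : Algebra.IsPushout A A' S T := inferInstance
    let e : T ⊗[S] X ≃ₗ[A'] A' ⊗[A] X := Algebra.IsPushout.cancelBaseChange A A' S T X
    haveI : Module.Flat A' (T ⊗[S] X) := Module.Flat.of_linearEquiv e
    haveI : Module.Flat T S' := IsLocalization.flat S' q₂.primeCompl
    haveI := flat_tensor_left A' T (T ⊗[S] X) S'
    exact Module.Flat.of_linearEquiv
      ((AlgebraTensorModule.cancelBaseChange S T T S' X).symm.restrictScalars A')
  · obtain ⟨⟨r, s⟩, hrs⟩ := IsLocalization.surj q₂.primeCompl x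
    have hT : ∀ t : T, algebraMap T S' t ∈ Algebra.adjoin A' (Set.range (algebraMap S S')) := fun t => by
      induction t using TensorProduct.induction_on with
      | zero => rw [map_zero]; exact zero_mem _
      | add a b ha hb => rw [map_add]; exact add_mem ha hb
      | tmul c y =>
        rw [show c ⊗ₜ[A] y = algebraMap A' T c * (1 ⊗ₜ y) from
          ((Algebra.TensorProduct.tmul_mul_tmul c 1 1 y).trans (by rw [mul_one, one_mul])).symm,
          map_mul, ← IsScalarTower.algebraMap_apply]
        exact mul_mem (Subalgebra.algebraMap_mem _ c) (Algebra.subset_adjoin ⟨y, IsScalarTower.algebraMap_apply S T S' y⟩)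
    exact ⟨_, hT s, IsLocalization.map_units S' s, hrs ▸ hT r⟩

end Groth.Agent.RGLib

end
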