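import Groth.Agent.S0385
import Groth.Agent.S9213
import Groth.Agent.AlgSpVal.DvrThrough
import Mathlib.AlgebraicGeometry.ZariskisMainTheorem
import Mathlib.AlgebraicGeometry.Morphisms.Immersion

/-!
# Monomorphisms with dense and valuative lifting are immersions
-/

set_option autoImplicit false

universe u

open CategoryTheory CategoryTheory.Limits AlgebraicGeometry TopologicalSpace

namespace Groth.Agent.RGLib.MonoImm

set_option backward.isDefEq.respectTransparency.types false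

variable {X Y : Scheme.{u}}

/-- A point of the source of a monomorphism gives a point over the residue field of its image. -/
theorem exists_point (f : Y ⟶ X) [Mono f] [LocallyOfFiniteType f] (y : Y) :
    ∃ l : Spec (X.residueField (f y)) ⟶ Y, l ≫ f = X.fromSpecResidueField (f y) := by
  let g := pullback.snd f (X.fromSpecResidueField (f y))
  haveI : Mono g := MorphismProperty.pullback_snd (P := MorphismProperty.monomorphisms Scheme) _ _
    (inferInstanceAs (Mono f))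
  haveI : LocallyOfFiniteType g := MorphismProperty.pullback_snd _ _ inferInstance
  haveI : LocallyOfFinitePresentation g := LocallyOfFinitePresentation.iff_locallyOfFiniteType.2 inferInstance
  haveI : Flat g := inferInstance
  haveI : IsOpenImmersion g := IsOpenImmersion.of_flat_of_mono g
  haveI : Surjective g := by
    refine ⟨fun z => ?_⟩
    obtain ⟨w, -, hw⟩ := Scheme.Pullback.exists_preimage_pullback (f := f)
      (g := X.fromSpecResidueField (f y)) y z (Scheme.fromSpecResidueField_apply _ _).symm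
    exact ⟨w, hw⟩
  haveI : IsIso g := (isIso_iff_isOpenImmersion_and_surjective g).2 ⟨inferInstance, inferInstance⟩
  exact ⟨inv g ≫ pullback.fst f _, by rw [Category.assoc, pullback.condition, IsIso.inv_hom_id_assoc]⟩

/-- The generic points of the closure of a subset of a Noetherian space inside a scheme. -/
theorem exists_generic {Ω : X.Opens} [NoetherianSpace (Ω : Set X)] {T : Set X} (hT : T ⊆ Ω) {x : X}
    (hx : x ∈ closure T) :
    ∃ g, g ⤳ x ∧ g ∈ closure T ∧ g ∈ closure (T ∩ closure {g}) := by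
  haveI : NoetherianSpace T := Topology.IsInducing.noetherianSpace (i := Set.inclusion hT)
    (Topology.IsEmbedding.inclusion hT).isInducing
  have hfin : (irreducibleComponents T).Finite := NoetherianSpace.finite_irreducibleComponents
  have hTC : T = ⋃ C ∈ irreducibleComponents T, Subtype.val '' C := by
    refine subset_antisymm (fun t ht => ?_) (Set.iUnion₂_subset fun C _ => Subtype.coe_image_subset _ _)
    obtain ⟨C, hC, htC⟩ := Set.mem_sUnion.1 ((sUnion_irreducibleComponents (X := T)).ge (Set.mem_univ ⟨t, ht⟩))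
    exact Set.mem_iUnion₂.2 ⟨C, hC, _, htC, rfl⟩
  rw [hTC, hfin.closure_biUnion] at hx
  obtain ⟨C, hC, hxC⟩ := Set.mem_iUnion₂.1 hx
  have hirr : IsIrreducible (closure (Subtype.val '' C)) :=
    (hC.1.image _ continuous_subtype_val.continuousOn).closure
  obtain ⟨g, hg⟩ := QuasiSober.sober hirr isClosed_closure
  refine ⟨g, specializes_iff_mem_closure.2 (hg.def.ge hxC),
    closure_mono (Subtype.coe_image_subset _ _) hg.mem, closure_mono ?_ hg.mem⟩
  exact Set.subset_inter (Subtype.coe_image_subset _ _) (fun z hz => hg.def.ge (subset_closure hz))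

variable (f : Y ⟶ X) [Mono f] [LocallyOfFinitePresentation f]

/-- The hypothesis of lifting along dense sets of points. -/
def DenseLift : Prop :=
  ∀ (A : Type u) [CommRing A] [IsDomain A] (s : Spec (CommRingCat.of A) ⟶ X) (D : Set ↥(Spec (CommRingCat.of A))),
    Dense D →
    (∀ p ∈ D, ∃ l : Spec ((Spec (CommRingCat.of A)).residueField p) ⟶ Y,
        l ≫ f = (Spec (CommRingCat.of A)).fromSpecResidueField p ≫ s) →
      ∃ U : (Spec (CommRingCat.of A)).Opens, (U : Set ↥(Spec (CommRingCat.of A))).Nonempty ∧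
        ∃ l : (U : Scheme.{u}) ⟶ Y, l ≫ f = U.ι ≫ s

/-- The hypothesis of lifting along discrete valuation rings. -/
def DvrLift : Prop :=
  ∀ S : ValuativeCommSq f, IsDiscreteValuationRing S.R →
    (∃ l₀ : Spec (CommRingCat.of (IsLocalRing.ResidueField S.R)) ⟶ Y,
        l₀ ≫ f = Spec.map (CommRingCat.ofHom (IsLocalRing.residue S.R)) ≫ S.i₂) →
      S.commSq.HasLift

variable {f}

/-- A discrete valuation ring with closed point in the image lifts. -/
theorem exists_lift (hb : DvrLift f) (A : Type u) [CommRing A] [IsDomain A] [IsDiscreteValuationRing A]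
    (i : Spec (CommRingCat.of A) ⟶ X) (k : Spec (CommRingCat.of (FractionRing A)) ⟶ Y)
    (w : k ≫ f = Spec.map (CommRingCat.ofHom (algebraMap A (FractionRing A))) ≫ i)
    {y : Y} (hy : i (IsLocalRing.closedPoint A) = f y) :
    ∃ l : Spec (CommRingCat.of A) ⟶ Y, l ≫ f = i ∧
      Spec.map (CommRingCat.ofHom (algebraMap A (FractionRing A))) ≫ l = k ∧ l (IsLocalRing.closedPoint A) = y := by
  obtain ⟨⟨x, g⟩, hx⟩ := (Scheme.SpecToEquivOfField (IsLocalRing.ResidueField A) X).symm.surjective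
    (Spec.map (CommRingCat.ofHom (IsLocalRing.residue A)) ≫ i)
  have hx' : x = f y := by
    refine Eq.trans ?_ hy
    have e := congrArg (fun m : Spec (CommRingCat.of (IsLocalRing.ResidueField A)) ⟶ X =>
      m (IsLocalRing.closedPoint _)) hx
    simp only [Scheme.Hom.comp_apply] at e
    refine Eq.trans ?_ (e.trans (congrArg i (IsLocalRing.comap_closedPoint (IsLocalRing.residue A))))
    exact ((Scheme.Hom.comp_apply _ _ _).trans (Scheme.fromSpecResidueField_apply _ _)).symm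
  subst hx'
  obtain ⟨p, hp⟩ := exists_point f y
  have hS : ∃ l₀ : Spec (CommRingCat.of (IsLocalRing.ResidueField A)) ⟶ Y,
      l₀ ≫ f = Spec.map (CommRingCat.ofHom (IsLocalRing.residue A)) ≫ i := by
    refine ⟨Spec.map g ≫ p, ?_⟩
    rw [Category.assoc, hp, ← hx]
    rfl
  let S : ValuativeCommSq f :=
    { R := A, K := FractionRing A, i₁ := k, i₂ := i, commSq := ⟨w⟩ }
  obtain ⟨⟨⟨l, hl₁, hl₂⟩⟩⟩ := hb S inferInstance hS
  refine ⟨l, hl₂, hl₁, f.injective ?_⟩
  rw [← Scheme.Hom.comp_apply, hl₂, hy]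

/-- Specializations inside the image lift. -/
theorem specializes_of_map [IsLocallyNoetherian X] (hb : DvrLift f) {w y : Y} (h : f w ⤳ f y) : w ⤳ y := by
  obtain ⟨A, _, _, _, i, k, hi, hk, hsq⟩ := AlgSpVal.exists_dvr_path_field f w (f y) h
  obtain ⟨l, -, hl₂, hl₃⟩ := exists_lift hb A i k hsq hi
  have e : l (Spec.map (CommRingCat.ofHom (algebraMap A (FractionRing A))) (IsLocalRing.closedPoint _)) = w := by
    rw [← Scheme.Hom.comp_apply, hl₂, hk]
  rw [← e, ← hl₃]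
  exact (IsLocalRing.specializes_closedPoint _).map l.continuous

/-- The closure of a point in an affine open, as an integral affine scheme. -/
theorem exists_integral_affine {Ω : X.Opens} (hΩ : IsAffineOpen Ω) {g : X} (hg : g ∈ Ω) :
    ∃ (A : Type u) (_ : CommRing A) (_ : IsDomain A) (s : Spec (CommRingCat.of A) ⟶ X) (η : Spec (CommRingCat.of A)),
      Topology.IsEmbedding s ∧ s η = g ∧ (∀ a, η ⤳ a) ∧ Set.range s = (Ω : Set X) ∩ closure {g} := by
  let p := hΩ.primeIdealOf ⟨g, hg⟩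
  let q : Γ(X, Ω) →+* Γ(X, Ω) ⧸ p.asIdeal := Ideal.Quotient.mk _
  let c : Spec (CommRingCat.of (Γ(X, Ω) ⧸ p.asIdeal)) ⟶ Spec Γ(X, Ω) := Spec.map (CommRingCat.ofHom q)
  haveI : IsClosedImmersion c := IsClosedImmersion.spec_of_surjective _ Ideal.Quotient.mk_surjective
  haveI : IsOpenImmersion hΩ.fromSpec := hΩ.isOpenImmersion_fromSpec
  let η : Spec (CommRingCat.of (Γ(X, Ω) ⧸ p.asIdeal)) := ⟨⊥, Ideal.isPrime_bot⟩
  have hgen : ∀ a, η ⤳ a := fun a => (PrimeSpectrum.le_iff_specializes η a).1 bot_le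
  have hcη : c η = p := by
    refine PrimeSpectrum.ext ?_
    show Ideal.comap q ⊥ = p.asIdeal
    exact Ideal.mk_ker
  have hgη : (c ≫ hΩ.fromSpec) η = g := by
    rw [Scheme.Hom.comp_apply, hcη]
    exact hΩ.fromSpec_primeIdealOf ⟨g, hg⟩
  refine ⟨_, inferInstance, inferInstance, c ≫ hΩ.fromSpec, η, ?_, hgη, hgen, subset_antisymm ?_ ?_⟩
  · rw [Scheme.Hom.comp_base]
    exact hΩ.fromSpec.isOpenEmbedding.isEmbedding.comp c.isClosedEmbedding.isEmbedding
  · rintro _ ⟨a, rfl⟩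
    refine ⟨?_, specializes_iff_mem_closure.1 (hgη ▸ (hgen a).map (c ≫ hΩ.fromSpec).continuous)⟩
    rw [Scheme.Hom.comp_apply]
    exact hΩ.range_fromSpec.le (Set.mem_range_self _)
  · rintro z ⟨hz, hgz⟩
    obtain ⟨z', rfl⟩ := hΩ.range_fromSpec.ge hz
    have hz' : p ⤳ z' := by
      refine (hΩ.fromSpec.isOpenEmbedding.isEmbedding.isInducing.specializes_iff).1 ?_
      rw [hΩ.fromSpec_primeIdealOf ⟨g, hg⟩]
      exact specializes_iff_mem_closure.2 hgz
    have hle : RingHom.ker q ≤ z'.asIdeal := by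
      rw [Ideal.mk_ker]
      exact (PrimeSpectrum.le_iff_specializes p z').2 hz'
    obtain ⟨a, ha⟩ : z' ∈ Set.range c := by
      exact (_root_.range_comap_of_surjective _ q Ideal.Quotient.mk_surjective).ge hle
    exact ⟨a, by rw [Scheme.Hom.comp_apply, ha]⟩

/-- Generic points of closures of sets in the image are in the image. -/
theorem mem_range_of_mem_closure (hc : DenseLift f) {Ω : X.Opens} (hΩ : IsAffineOpen Ω) {g : X} (hg : g ∈ Ω)
    {T : Set X} (hT : T ⊆ Set.range f) (hTg : g ∈ closure (T ∩ closure {g})) : g ∈ Set.range f := by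
  obtain ⟨A, _, _, s, η, hs, hη, hgen, hr⟩ := exists_integral_affine hΩ hg
  let D : Set (Spec (CommRingCat.of A)) := s ⁻¹' T
  have hD : Dense D := by
    have hηD : η ∈ closure D := by
      rw [hs.isInducing.closure_eq_preimage_closure_image, Set.mem_preimage, hη, Set.image_preimage_eq_inter_range, hr]
      refine mem_closure_iff.2 fun O hO hgO => ?_
      obtain ⟨z, ⟨hzO, hzΩ⟩, hzT, hzg⟩ := mem_closure_iff.1 hTg (O ∩ Ω) (hO.inter Ω.2) ⟨hgO, hg⟩
      exact ⟨z, hzO, hzT, hzΩ, hzg⟩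
    exact dense_iff_closure_eq.2 (Set.eq_univ_of_forall fun a => (hgen a).mem_closed isClosed_closure hηD)
  obtain ⟨U, ⟨a, ha⟩, l, hl⟩ := hc A s D hD fun p hp => by
    obtain ⟨y, hy⟩ := hT hp
    obtain ⟨m, hm⟩ := exists_point f y
    refine ⟨Spec.map (s.residueFieldMap p) ≫ Spec.map (X.residueFieldCongr hy).hom ≫ m, ?_⟩
    rw [Category.assoc, Category.assoc, hm, Scheme.residueFieldCongr_fromSpecResidueField,
      Scheme.Hom.SpecMap_residueFieldMap_fromSpecResidueField]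
  have hηU : η ∈ U := (hgen a).mem_open U.2 ha
  refine ⟨l ⟨η, hηU⟩, ?_⟩
  rw [← Scheme.Hom.comp_apply, hl, Scheme.Hom.comp_apply]
  exact hη

/-- Near a point of the image, the closure of the point lies in the image of any neighbourhood. -/
theorem exists_nhd_subset (hc : DenseLift f) {Ω : X.Opens} (hΩ : IsAffineOpen Ω) {g' : Y} (hg : f g' ∈ Ω)
    (V : Y.Opens) (hV : g' ∈ V) :
    ∃ O : X.Opens, f g' ∈ O ∧ (O : Set X) ∩ (Ω : Set X) ∩ closure {f g'} ⊆ f '' (V : Set Y) := by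
  obtain ⟨A, _, _, s, η, hs, hη, hgen, hr⟩ := exists_integral_affine hΩ hg
  have hD : Dense ({η} : Set (Spec (CommRingCat.of A))) := fun a =>
    specializes_iff_mem_closure.1 (hgen a)
  obtain ⟨U, ⟨a, ha⟩, l, hl⟩ := hc A s {η} hD fun p hp => by
    obtain rfl : p = η := hp
    obtain ⟨m, hm⟩ := exists_point f g'
    refine ⟨Spec.map (s.residueFieldMap p) ≫ Spec.map (X.residueFieldCongr hη.symm).hom ≫ m, ?_⟩
    rw [Category.assoc, Category.assoc, hm, Scheme.residueFieldCongr_fromSpecResidueField,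
      Scheme.Hom.SpecMap_residueFieldMap_fromSpecResidueField]
  have hηU : η ∈ U := (hgen a).mem_open U.2 ha
  have hlη : l ⟨η, hηU⟩ = g' := by
    refine f.injective ?_
    rw [← Scheme.Hom.comp_apply, hl, Scheme.Hom.comp_apply]
    exact hη
  have ho : IsOpen (U.ι '' ((l ⁻¹ᵁ V : (U : Scheme.{u}).Opens) : Set (U : Scheme.{u}))) :=
    U.ι.isOpenEmbedding.isOpenMap _ (l ⁻¹ᵁ V).2
  obtain ⟨O, hO, hO'⟩ := hs.isInducing.isOpen_iff.1 ho
  refine ⟨⟨O, hO⟩, ?_, ?_⟩
  · show f g' ∈ O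
    rw [← hη]
    refine hO'.ge ⟨⟨η, hηU⟩, ?_, rfl⟩
    show l ⟨η, hηU⟩ ∈ V
    rw [hlη]
    exact hV
  · rintro z ⟨⟨hzO, hzΩ⟩, hzg⟩
    obtain ⟨b, rfl⟩ := hr.ge ⟨hzΩ, hzg⟩
    obtain ⟨u, hu, rfl⟩ := hO'.le hzO
    refine ⟨l u, hu, ?_⟩
    rw [← Scheme.Hom.comp_apply, hl, Scheme.Hom.comp_apply]

variable [IsLocallyNoetherian X]

/-- Generizations in the closure of the image of a point of the image are in the image. -/
theorem mem_range_of_specializes (hb : DvrLift f) (hc : DenseLift f) {Ω : X.Opens} (hΩ : IsAffineOpen Ω)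
    {y : Y} (hy : f y ∈ Ω) {z : X} (hz : z ⤳ f y) (hz' : z ∈ closure (Set.range f ∩ Ω)) : z ∈ Set.range f := by
  haveI : IsNoetherianRing Γ(X, Ω) := IsLocallyNoetherian.component_noetherian ⟨Ω, hΩ⟩
  haveI : NoetherianSpace (Ω : Set X) := noetherianSpace_of_isAffineOpen Ω hΩ
  obtain ⟨g, hgz, -, hgT⟩ := exists_generic (T := Set.range f ∩ Ω) Set.inter_subset_right hz'
  have hgΩ : g ∈ Ω := (hgz.trans hz).mem_open Ω.2 hy
  obtain ⟨w, rfl⟩ := mem_range_of_mem_closure hc hΩ hgΩ Set.inter_subset_left hgT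
  have hwy : w ⤳ y := specializes_of_map hb (hgz.trans hz)
  obtain ⟨V, hV, hyV, hVΩ⟩ := exists_isAffineOpen_mem_and_subset (U := f ⁻¹ᵁ Ω) (x := y) hy
  have hwV : w ∈ V := hwy.mem_open V.2 hyV
  let h : (V : Scheme.{u}) ⟶ (Ω : Scheme.{u}) := f.resLE Ω V hVΩ
  have hh : h ≫ Ω.ι = V.ι ≫ f := Scheme.Hom.resLE_comp_ι _ _
  haveI : IsAffine (V : Scheme.{u}) := hV
  haveI : IsAffine (Ω : Scheme.{u}) := hΩ
  haveI : Mono h := by
    haveI : Mono (h ≫ Ω.ι) := by rw [hh]; infer_instance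
    exact mono_of_mono h Ω.ι
  haveI : LocallyOfFiniteType h := by
    haveI : LocallyOfFiniteType (h ≫ Ω.ι) := by rw [hh]; infer_instance
    exact locallyOfFiniteType_of_comp h Ω.ι
  obtain ⟨N, j, ν, hj, hjqc, hν, hjν⟩ := Groth.Agent.S0385.result h
  haveI := hj
  haveI := hν
  haveI : IsLocallyNoetherian N := LocallyOfFiniteType.isLocallyNoetherian ν
  let w₁ : (V : Scheme.{u}) := ⟨w, hwV⟩
  let y₁ : (V : Scheme.{u}) := ⟨y, hyV⟩
  let z₁ : (Ω : Scheme.{u}) := ⟨z, hz.mem_open Ω.2 hy⟩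
  have hι : ∀ v : (V : Scheme.{u}), Ω.ι (h v) = f v.1 := fun v => by
    rw [← Scheme.Hom.comp_apply, hh, Scheme.Hom.comp_apply]
    rfl
  have hνw : ν (j w₁) = h w₁ := by rw [← Scheme.Hom.comp_apply, hjν]
  have h₁ : ν (j w₁) ⤳ z₁ := by
    refine (Ω.ι.isOpenEmbedding.isEmbedding.isInducing.specializes_iff).1 ?_
    rw [hνw, hι]
    exact hgz
  have hνc : IsClosedMap ν := ν.isClosedMap
  obtain ⟨z', hwz', hνz⟩ := hνc.specializingMap h₁
  have h₂ : ν z' ⤳ h y₁ := by
    refine (Ω.ι.isOpenEmbedding.isEmbedding.isInducing.specializes_iff).1 ?_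
    rw [hνz, hι]
    exact hz
  obtain ⟨y', hzy', hνy⟩ := hνc.specializingMap h₂
  obtain ⟨A, _, _, _, i, k, hi, hk, hsq⟩ := AlgSpVal.exists_dvr_path_field (𝟙 N) (j w₁) y' (hwz'.trans hzy')
  rw [Category.comp_id] at hsq
  have hr : Set.range k ⊆ Set.range j := by
    rintro _ ⟨a, rfl⟩
    exact ⟨w₁, by rw [show a = IsLocalRing.closedPoint _ from Subsingleton.elim _ _, hk]⟩
  let k' := IsOpenImmersion.lift j k hr
  have hk' : k' ≫ j = k := IsOpenImmersion.lift_fac _ _ _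
  have hsq' : (k' ≫ V.ι) ≫ f = Spec.map (CommRingCat.ofHom (algebraMap A (FractionRing A))) ≫ i ≫ ν ≫ Ω.ι := by
    rw [Category.assoc, ← hh, ← hjν]
    simp only [Category.assoc]
    rw [reassoc_of% hk', hsq, Category.assoc]
  obtain ⟨l, hl₁, hl₂, hl₃⟩ := exists_lift hb A (i ≫ ν ≫ Ω.ι) (k' ≫ V.ι) hsq' (y := y) (by
    rw [Scheme.Hom.comp_apply, Scheme.Hom.comp_apply, hi, hνy, hι])
  have hlV : Set.range l ⊆ Set.range V.ι := by
    rintro _ ⟨a, rfl⟩
    rw [Scheme.Opens.range_ι]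
    exact ((IsLocalRing.specializes_closedPoint a).map l.continuous).mem_open V.2 (hl₃.symm ▸ hyV)
  let l' := IsOpenImmersion.lift V.ι l hlV
  have hl' : l' ≫ V.ι = l := IsOpenImmersion.lift_fac _ _ _
  have e : l' ≫ j = i := by
    haveI : IsDominant (Spec.map (CommRingCat.ofHom (algebraMap A (FractionRing A)))) := by
      refine ⟨?_⟩
      intro a
      refine mem_closure_iff.2 fun O hO haO => ?_
      have : (⟨⊥, Ideal.isPrime_bot⟩ : PrimeSpectrum A) ∈ O :=
        ((PrimeSpectrum.le_iff_specializes (⟨⊥, Ideal.isPrime_bot⟩ : PrimeSpectrum A) a).1 bot_le).mem_open hO haO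
      refine ⟨_, this, IsLocalRing.closedPoint (FractionRing A), PrimeSpectrum.ext ?_⟩
      show Ideal.comap (algebraMap A (FractionRing A)) (IsLocalRing.maximalIdeal (FractionRing A)) = ⊥
      rw [IsLocalRing.maximalIdeal_eq_bot, ← RingHom.ker_eq_comap_bot]
      exact (RingHom.injective_iff_ker_eq_bot _).1 (IsFractionRing.injective A (FractionRing A))
    refine ext_of_isDominant_of_isSeparated ν ?_ (Spec.map (CommRingCat.ofHom (algebraMap A (FractionRing A)))) ?_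
    · refine (cancel_mono Ω.ι).1 ?_
      simp only [Category.assoc]
      rw [reassoc_of% hjν, hh, reassoc_of% hl', hl₁]
    · rw [← hsq, ← hk']
      refine (Category.assoc _ _ _).symm.trans (congrArg (· ≫ j) ((cancel_mono V.ι).1 ?_))
      rw [Category.assoc, hl', hl₂]
  have hy'j : y' = j y₁ := by
    rw [← hi, ← e, Scheme.Hom.comp_apply]
    refine congrArg j (V.ι.isOpenEmbedding.injective ?_)
    rw [← Scheme.Hom.comp_apply, hl', hl₃]
    rfl
  have hz'j : z' ∈ Set.range j := (hy'j ▸ hzy').mem_open j.isOpenEmbedding.isOpen_range ⟨y₁, rfl⟩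
  obtain ⟨v, rfl⟩ := hz'j
  refine ⟨v.1, ?_⟩
  rw [← hι v, ← hjν, Scheme.Hom.comp_apply, hνz]
  rfl

/-- An open neighbourhood over which the morphism is a closed immersion. -/
theorem exists_closedImmersion_nhd (hb : DvrLift f) (hc : DenseLift f) (y : Y) :
    ∃ U : X.Opens, f y ∈ U ∧ IsClosedImmersion (f ∣_ U) := by
  obtain ⟨Ω, hΩ, hyΩ, -⟩ := exists_isAffineOpen_mem_and_subset (U := ⊤) (x := f y) trivial
  haveI : IsNoetherianRing Γ(X, Ω) := IsLocallyNoetherian.component_noetherian ⟨Ω, hΩ⟩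
  haveI : NoetherianSpace (Ω : Set X) := noetherianSpace_of_isAffineOpen Ω hΩ
  let E : Set X := Set.range f ∩ Ω
  let B : Set X := (closure E ∩ Ω) \ Set.range f
  have hxB : f y ∉ closure B := fun hx => by
    obtain ⟨g, hgy, hgB, hgT⟩ := exists_generic (Ω := Ω) (T := B) (fun b hb => hb.1.2) hx
    have hgE : g ∈ closure E := closure_minimal (fun b hb => hb.1.1) isClosed_closure hgB
    obtain ⟨g', hg'⟩ := mem_range_of_specializes hb hc hΩ hyΩ hgy hgE
    subst hg'
    obtain ⟨O, hgO, hO⟩ := exists_nhd_subset hc hΩ (hgy.mem_open Ω.2 hyΩ) ⊤ (g' := g') trivial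
    obtain ⟨b, hbO, hbB, hbg⟩ := mem_closure_iff.1 hgT O O.2 hgO
    obtain ⟨v, -, hv⟩ := hO ⟨⟨hbO, hbB.1.2⟩, hbg⟩
    exact hbB.2 ⟨v, hv⟩
  let U : X.Opens := ⟨(Ω : Set X) ∩ (closure B)ᶜ, Ω.2.inter isClosed_closure.isOpen_compl⟩
  have hopen : ∀ V : Y.Opens, ∃ O : X.Opens, f '' (V : Set Y) ∩ (U : Set X) = Set.range f ∩ (U : Set X) ∩ O := by
    intro V
    let Q : Set X := E \ f '' (V : Set Y)
    refine ⟨⟨(closure Q)ᶜ, isClosed_closure.isOpen_compl⟩, subset_antisymm ?_ ?_⟩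
    · rintro x ⟨⟨v, hv, rfl⟩, hxU⟩
      refine ⟨⟨⟨v, rfl⟩, hxU⟩, fun hQ => ?_⟩
      obtain ⟨g, hgv, hgQ, hgT⟩ := exists_generic (Ω := Ω) (T := Q) (fun b hb => hb.1.2) hQ
      have hgΩ : g ∈ Ω := hgv.mem_open Ω.2 hxU.1
      obtain ⟨g', rfl⟩ := mem_range_of_mem_closure hc hΩ hgΩ (fun b hb => hb.1.1) hgT
      obtain ⟨O, hgO, hO⟩ := exists_nhd_subset hc hΩ hgΩ V ((specializes_of_map hb hgv).mem_open V.2 hv)
      obtain ⟨b, hbO, hbQ, hbg⟩ := mem_closure_iff.1 hgT O O.2 hgO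
      exact hbQ.2 (hO ⟨⟨hbO, hbQ.1.2⟩, hbg⟩)
    · rintro x ⟨⟨hxE, hxU⟩, hxO⟩
      refine ⟨by_contra fun hxV => hxO (subset_closure ⟨⟨hxE, hxU.1⟩, hxV⟩), hxU⟩
  haveI : QuasiCompact (f ∣_ U) := by
    refine ⟨fun W hW _ => ?_⟩
    have hsub : U.ι '' W ⊆ (U : Set X) := by
      rintro _ ⟨a, -, rfl⟩
      exact a.2
    rw [(f ⁻¹ᵁ U).ι.isOpenEmbedding.isEmbedding.isCompact_iff]
    have e : (f ⁻¹ᵁ U).ι '' ((f ∣_ U) ⁻¹' W) = f ⁻¹' (U.ι '' W) := by
      ext v
      constructor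
      · rintro ⟨a, ha, rfl⟩
        refine ⟨(f ∣_ U) a, ha, ?_⟩
        rw [← Scheme.Hom.comp_apply, morphismRestrict_ι, Scheme.Hom.comp_apply]
      · rintro ⟨a, ha, hav⟩
        have hv : v ∈ f ⁻¹ᵁ U := show f v ∈ U from hav ▸ a.2
        refine ⟨⟨v, hv⟩, ?_, rfl⟩
        have : (f ∣_ U) ⟨v, hv⟩ = a := U.ι.isOpenEmbedding.injective (by
          rw [← Scheme.Hom.comp_apply, morphismRestrict_ι, Scheme.Hom.comp_apply, hav]; rfl)
        show (f ∣_ U) ⟨v, hv⟩ ∈ W
        rw [this]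
        exact ha
    rw [e]
    refine isCompact_of_finite_subcover fun Vi hVi hcov => ?_
    choose O hO using fun i => hopen ⟨Vi i, hVi i⟩
    have hcomp : IsCompact (Set.range f ∩ U.ι '' W) := by
      have h1 : IsCompact ((Subtype.val : ↥(Ω : Set X) → X) ⁻¹' (Set.range f ∩ U.ι '' W)) :=
        NoetherianSpace.isCompact _
      rw [Subtype.isCompact_iff, Set.image_preimage_eq_inter_range, Subtype.range_coe,
        Set.inter_eq_left.2 (fun x hx => (hsub hx.2).1)] at h1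
      exact h1
    obtain ⟨t, ht⟩ := hcomp.elim_finite_subcover (fun i => (O i : Set X)) (fun i => (O i).2) (by
      rintro x ⟨⟨v, rfl⟩, hxW⟩
      obtain ⟨i, hi⟩ := Set.mem_iUnion.1 (hcov hxW)
      exact Set.mem_iUnion.2 ⟨i, ((hO i).le ⟨⟨v, hi, rfl⟩, hsub hxW⟩).2⟩)
    refine ⟨t, fun v hv => ?_⟩
    obtain ⟨i, hi, hiO⟩ := Set.mem_iUnion₂.1 (ht ⟨⟨v, rfl⟩, hv⟩)
    obtain ⟨⟨v', hv', e'⟩, -⟩ := (hO i).ge ⟨⟨⟨v, rfl⟩, hsub hv⟩, hiO⟩
    exact Set.mem_iUnion₂.2 ⟨i, hi, f.injective e' ▸ hv'⟩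
  haveI : Mono (f ∣_ U) := by
    haveI : Mono ((f ∣_ U) ≫ U.ι) := by rw [morphismRestrict_ι]; infer_instance
    exact mono_of_mono (f ∣_ U) U.ι
  haveI : LocallyOfFiniteType (f ∣_ U) := IsZariskiLocalAtTarget.restrict (P := @LocallyOfFiniteType) inferInstance U
  haveI : UniversallyClosed (f ∣_ U) := by
    refine (Groth.Agent.S9213.result (f ∣_ U)).2 fun A _ _ _ x b hxb => ?_
    let c := U.ι (b (IsLocalRing.closedPoint A))
    have hgen : b (Spec.map (CommRingCat.ofHom (algebraMap A (FractionRing A))) (IsLocalRing.closedPoint _)) ⤳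
        b (IsLocalRing.closedPoint A) :=
      (IsLocalRing.specializes_closedPoint _).map b.continuous
    have hcU : c ∈ U := (b (IsLocalRing.closedPoint A)).2
    obtain ⟨y₀, hy₀⟩ : c ∈ Set.range f := by
      by_contra hcf
      refine hcU.2 (subset_closure ⟨⟨?_, hcU.1⟩, hcf⟩)
      refine (hgen.map U.ι.continuous).mem_closed isClosed_closure (subset_closure ?_)
      rw [← Scheme.Hom.comp_apply (Spec.map _) b, ← hxb, Scheme.Hom.comp_apply, ← Scheme.Hom.comp_apply _ U.ι,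
        morphismRestrict_ι, Scheme.Hom.comp_apply]
      refine ⟨⟨_, rfl⟩, ?_⟩
      exact (show f ((f ⁻¹ᵁ U).ι (x (IsLocalRing.closedPoint _))) ∈ U from (x (IsLocalRing.closedPoint _)).2).1
    have hsq : (x ≫ (f ⁻¹ᵁ U).ι) ≫ f =
        Spec.map (CommRingCat.ofHom (algebraMap A (FractionRing A))) ≫ b ≫ U.ι := by
      rw [Category.assoc, ← morphismRestrict_ι, reassoc_of% hxb]
    obtain ⟨l, hl₁, hl₂, hl₃⟩ := exists_lift hb A (b ≫ U.ι) (x ≫ (f ⁻¹ᵁ U).ι) hsq (y := y₀)
      ((Scheme.Hom.comp_apply _ _ _).trans hy₀.symm)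
    have hlU : Set.range l ⊆ Set.range (f ⁻¹ᵁ U).ι := by
      rintro _ ⟨a, rfl⟩
      rw [Scheme.Opens.range_ι]
      show f (l a) ∈ U
      rw [← Scheme.Hom.comp_apply, hl₁, Scheme.Hom.comp_apply]
      exact (b a).2
    refine ⟨IsOpenImmersion.lift (f ⁻¹ᵁ U).ι l hlU, ?_, ?_⟩
    · rw [← cancel_mono U.ι, Category.assoc, morphismRestrict_ι, IsOpenImmersion.lift_fac_assoc, hl₁]
    · rw [← cancel_mono (f ⁻¹ᵁ U).ι, Category.assoc, IsOpenImmersion.lift_fac, hl₂]
  haveI : IsProper (f ∣_ U) := { }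
  exact ⟨U, ⟨hyΩ, hxB⟩, (IsClosedImmersion.iff_isProper_and_mono (f ∣_ U)).2 ⟨inferInstance, inferInstance⟩⟩

/-- A monomorphism with the two lifting properties is an immersion. -/
theorem isImmersion (hb : DvrLift f) (hc : DenseLift f) : IsImmersion f := by
  choose U hyU hU using fun y => exists_closedImmersion_nhd hb hc y
  let W : X.Opens := ⨆ y, U y
  have hr : Set.range f ⊆ Set.range W.ι := by
    rintro _ ⟨y, rfl⟩
    rw [Scheme.Opens.range_ι]
    exact TopologicalSpace.Opens.mem_iSup.2 ⟨y, hyU y⟩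
  let g := IsOpenImmersion.lift W.ι f hr
  have hg : g ≫ W.ι = f := IsOpenImmersion.lift_fac _ _ _
  haveI : IsClosedImmersion g := by
    refine IsZariskiLocalAtTarget.of_iSup_eq_top (fun y => W.ι ⁻¹ᵁ U y) ?_ fun y => ?_
    · rw [← Scheme.Hom.preimage_iSup]
      exact top_le_iff.1 fun w _ => w.2
    · let V' := W.ι ⁻¹ᵁ U y
      have hr' : Set.range (V'.ι ≫ W.ι) ⊆ Set.range (U y).ι := by
        rintro _ ⟨a, rfl⟩
        rw [Scheme.Opens.range_ι]
        exact a.2
      let e : (V' : Scheme.{u}) ⟶ (U y : Scheme.{u}) := IsOpenImmersion.lift (U y).ι (V'.ι ≫ W.ι) hr'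
      have he : e ≫ (U y).ι = V'.ι ≫ W.ι := IsOpenImmersion.lift_fac _ _ _
      have sq₀ : IsPullback g (𝟙 Y) W.ι f := IsPullback.of_vert_isIso_mono (⟨by rw [hg, Category.id_comp]⟩)
      have sq₁ : IsPullback (g ∣_ V') ((g ⁻¹ᵁ V').ι ≫ 𝟙 Y) (V'.ι ≫ W.ι) f :=
        (isPullback_morphismRestrict g V').paste_vert sq₀
      rw [Category.comp_id] at sq₁
      have sq₂ := isPullback_morphismRestrict f (U y)
      have w₁ : ((g ∣_ V') ≫ e) ≫ (U y).ι = (g ⁻¹ᵁ V').ι ≫ f := by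
        rw [Category.assoc, he]
        exact sq₁.w
      refine MorphismProperty.of_isPullback (P := @IsClosedImmersion) (f := e)
        (f' := sq₂.lift ((g ∣_ V') ≫ e) (g ⁻¹ᵁ V').ι w₁) ?_ (hU y)
      refine IsPullback.of_right (h₁₂ := (f ⁻¹ᵁ U y).ι) (h₂₂ := (U y).ι) ?_ ?_ sq₂.flip
      · rw [sq₂.lift_snd, he]
        exact sq₁.flip
      · rw [sq₂.lift_fst]
  rw [← hg]
  infer_instance

end Groth.Agent.RGLib.MonoImm
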