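import Groth.Agent.RGLib.Spread

/-!
# Finite presentation and flatness near a flat point
-/

universe u

noncomputable section

open TensorProduct IsLocalRing

set_option linter.style.haveILetI false

namespace Groth.Agent.RGLib

/-- A surjection whose kernel is killed by the submonoid becomes bijective after localisation. -/
theorem bijective_map_of_kills {P N'' N : Type u} [CommRing P] [AddCommGroup N''] [Module P N''] [AddCommGroup N]
    [Module P N] (T : Submonoid P) {b : N'' →ₗ[P] N} (hb : Function.Surjective b)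
    (hk : ∀ x, b x = 0 → ∃ d ∈ T, d • x = 0) :
    Function.Bijective (IsLocalizedModule.map T (LocalizedModule.mkLinearMap T N'')
      (LocalizedModule.mkLinearMap T N) b) := by
  refine ⟨?_, IsLocalizedModule.map_surjective _ _ _ _ hb⟩
  rw [injective_iff_map_eq_zero]
  intro z hz
  obtain ⟨⟨x, s⟩, rfl⟩ := IsLocalizedModule.mk'_surjective T (LocalizedModule.mkLinearMap T N'') z
  rw [Function.uncurry_apply_pair, IsLocalizedModule.map_mk', IsLocalizedModule.mk'_eq_zero'] at hz
  rw [Function.uncurry_apply_pair, IsLocalizedModule.mk'_eq_zero']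
  obtain ⟨c, hc⟩ := hz
  rw [Submonoid.smul_def, ← map_smul] at hc
  obtain ⟨d, hd, hdx⟩ := hk _ hc
  exact ⟨⟨d, hd⟩ * c, by rw [Submonoid.smul_def, Submonoid.coe_mul, mul_smul]; exact hdx⟩

variable {A P : Type u} [CommRing A] [CommRing P] [Algebra A P]
  (N : Type u) [AddCommGroup N] [Module P N] [Module A N] [IsScalarTower A P N] [Module.Finite P N]

omit [Module A N] [IsScalarTower A P N] in
/-- A finitely presented module isomorphic to `N` at a prime where `N` is finitely presented. -/
theorem exists_adapted_presentation (q : Ideal P) [q.IsPrime]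
    [Module.FinitePresentation (Localization.AtPrime q) (LocalizedModule q.primeCompl N)] :
    ∃ (a : ℕ) (J : Submodule P (Fin a → P)) (b : ((Fin a → P) ⧸ J) →ₗ[P] N),
      J.FG ∧ Function.Surjective b ∧ ∀ x, b x = 0 → ∃ d ∈ q.primeCompl, d • x = 0 := by
  classical
  obtain ⟨a, π, hπ⟩ := Module.Finite.exists_fin' P N
  let Lπ := LocalizedModule.map q.primeCompl π
  have hLπ : Function.Surjective Lπ := IsLocalizedModule.map_surjective _ _ _ _ hπ
  obtain ⟨m, z, hz⟩ := Submodule.fg_iff_exists_fin_generating_family.1 (Module.FinitePresentation.fg_ker Lπ hLπ)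
  choose v hv using fun i => IsLocalizedModule.mk'_surjective q.primeCompl
    (LocalizedModule.mkLinearMap q.primeCompl (Fin a → P)) (z i)
  have hc : ∀ i, ∃ c : q.primeCompl, π ((c : P) • (v i).1) = 0 := fun i => by
    have h1 : Lπ (z i) = 0 :=
      (hz ▸ Submodule.subset_span ⟨i, rfl⟩ : z i ∈ LinearMap.ker Lπ)
    rw [← hv i, Function.uncurry] at h1
    change IsLocalizedModule.map q.primeCompl (LocalizedModule.mkLinearMap q.primeCompl (Fin a → P))
      (LocalizedModule.mkLinearMap q.primeCompl N) π _ = 0 at h1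
    rw [IsLocalizedModule.map_mk', IsLocalizedModule.mk'_eq_zero'] at h1
    obtain ⟨c, hc⟩ := h1
    exact ⟨c, by rw [map_smul]; exact hc⟩
  choose c hc using hc
  let J : Submodule P (Fin a → P) := Submodule.span P (Set.range fun i => (c i : P) • (v i).1)
  refine ⟨a, J, J.liftQ π (Submodule.span_le.2 (by rintro _ ⟨i, rfl⟩; exact hc i)),
    Submodule.fg_span (Set.finite_range _), fun y => ?_, fun x hx => ?_⟩
  · obtain ⟨w, rfl⟩ := hπ y
    exact ⟨J.mkQ w, rfl⟩
  obtain ⟨w, rfl⟩ := J.mkQ_surjective x
  change π w = 0 at hx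
  let LJ := LocalizedModule.map q.primeCompl J.mkQ
  have h1 : LocalizedModule.mkLinearMap q.primeCompl (Fin a → P) w ∈ LinearMap.ker LJ := by
    have h2 : LocalizedModule.mkLinearMap q.primeCompl (Fin a → P) w ∈ LinearMap.ker Lπ := by
      rw [LinearMap.mem_ker]
      show IsLocalizedModule.map q.primeCompl _ (LocalizedModule.mkLinearMap q.primeCompl N) π _ = 0
      rw [IsLocalizedModule.map_apply, hx, map_zero]
    rw [← hz] at h2
    refine Submodule.span_le.2 ?_ h2
    rintro _ ⟨i, rfl⟩
    show IsLocalizedModule.map q.primeCompl (LocalizedModule.mkLinearMap q.primeCompl (Fin a → P))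
      (LocalizedModule.mkLinearMap q.primeCompl ((Fin a → P) ⧸ J)) J.mkQ (z i) = 0
    rw [← hv i, Function.uncurry, IsLocalizedModule.map_mk', IsLocalizedModule.mk'_eq_zero']
    refine ⟨c i, ?_⟩
    rw [Submonoid.smul_def, ← map_smul]
    exact (Submodule.Quotient.mk_eq_zero J).2 (Submodule.subset_span ⟨i, rfl⟩)
  rw [LinearMap.mem_ker] at h1
  change IsLocalizedModule.map q.primeCompl _ (LocalizedModule.mkLinearMap q.primeCompl _) J.mkQ _ = 0 at h1
  rw [IsLocalizedModule.map_apply, IsLocalizedModule.eq_zero_iff q.primeCompl] at h1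
  obtain ⟨d, hd⟩ := h1
  exact ⟨d, d.2, hd⟩

variable {N} in
/-- Flatness transfers along a map of algebra modules bijective after localisation. -/
theorem flat_of_bijective_map {N'' : Type u} [AddCommGroup N''] [Module P N''] [Module A N''] [IsScalarTower A P N'']
    (T : Submonoid P) [Module.Flat A (LocalizedModule T N'')] (b : N'' →ₗ[P] N)
    (hb : Function.Bijective (IsLocalizedModule.map T (LocalizedModule.mkLinearMap T N'')
      (LocalizedModule.mkLinearMap T N) b)) :
    Module.Flat A (LocalizedModule T N) :=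
  Module.Flat.of_linearEquiv ((LinearEquiv.ofBijective _ hb).restrictScalars A).symm

/-- Flatness of a localisation passes to a smaller submonoid with the same saturation. -/
theorem flat_localized_mono (T T' : Submonoid P) (h : T ≤ T') (hu : ∀ x ∈ T', ∃ y, y * x ∈ T)
    [Module.Flat A (LocalizedModule T' N)] : Module.Flat A (LocalizedModule T N) := by
  haveI : IsLocalizedModule T' (LocalizedModule.mkLinearMap T N) := by
    refine ⟨fun x => ?_, fun z => ?_, fun {x y} hxy => ?_⟩
    · obtain ⟨y, hy⟩ := hu x x.2
      have h1 : IsUnit (algebraMap P (Module.End P (LocalizedModule T N)) y *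
          algebraMap P (Module.End P (LocalizedModule T N)) x) := by
        rw [← map_mul]
        exact IsLocalizedModule.map_units (LocalizedModule.mkLinearMap T N) ⟨_, hy⟩
      exact ((Commute.isUnit_mul_iff (Algebra.commutes y (algebraMap P (Module.End P (LocalizedModule T N)) (x : P)))).1 h1).2
    · obtain ⟨⟨n, t⟩, hnt⟩ := IsLocalizedModule.surj T (LocalizedModule.mkLinearMap T N) z
      exact ⟨⟨n, ⟨t, h t.2⟩⟩, hnt⟩
    · obtain ⟨t, ht⟩ := IsLocalizedModule.exists_of_eq (S := T) hxy
      exact ⟨⟨t, h t.2⟩, ht⟩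
  exact Module.Flat.of_linearEquiv ((IsLocalizedModule.iso T' (LocalizedModule.mkLinearMap T N)).restrictScalars A).symm

variable [Algebra.FinitePresentation A P]

/-- Over a ring with finitely many weakly associated primes, a finite module is finitely presented and
flat near a point at which it is flat. -/
theorem exists_nhd (hA : (FlatCA.weakAss A A).Finite) (q : Ideal P) [q.IsPrime]
    (h : Module.Flat A (LocalizedModule q.primeCompl N)) :
    ∃ g ∉ q, Module.FinitePresentation (Localization.Away g) (LocalizedModule (Submonoid.powers g) N) ∧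
      Module.Flat A (LocalizedModule (Submonoid.powers g) N) ∧
      ∀ (Q : Ideal P) [Q.IsPrime], g ∉ Q → Module.Flat A (LocalizedModule Q.primeCompl N) := by
  classical
  haveI := finitePresentation_localization_of_flatAt (R := A) N q
  obtain ⟨a, J, b, hJ, hb, hbq⟩ := exists_adapted_presentation N q
  let N'' := (Fin a → P) ⧸ J
  haveI : Module.FinitePresentation P N'' :=
    Module.finitePresentation_of_surjective J.mkQ J.mkQ_surjective (by rwa [Submodule.ker_mkQ])
  haveI : Module.Flat A (LocalizedModule q.primeCompl N'') :=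
    Module.Flat.of_linearEquiv ((LinearEquiv.ofBijective _ (bijective_map_of_kills _ hb hbq)).restrictScalars A)
  obtain ⟨g₀, hg₀, hflat⟩ := FlatModel.exists_flat_nhd (R := A) N'' q inferInstance
  -- avoid the associated points of the fibres outside the generalisations of `q`
  let W : Set (Ideal P) := {q' | ∃ (p : Ideal A) (_ : p.IsPrime), p ∈ FlatCA.weakAss A A ∧ q' ∈ fibreAss p P N''}
  have hWfin : W.Finite := by
    let F : Ideal A → Set (Ideal P) := fun p => if h : p.IsPrime then (haveI := h; fibreAss p P N'') else ∅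
    refine (hA.biUnion (t := F) fun p _ => ?_).subset ?_
    · simp only [F]
      split_ifs with h
      · haveI := h
        exact fibreAss_finite N'' p
      · exact Set.finite_empty
    · rintro q' ⟨p, hp, hpW, hq'⟩
      exact Set.mem_biUnion hpW (by simp only [F, dif_pos hp]; exact hq')
  have hc : ∀ i : {q' // q' ∈ W ∧ ¬ q' ≤ q}, ∃ c ∈ i.1, c ∉ q := fun i => Set.not_subset.1 i.2.2
  choose c hc hcq using hc
  haveI : Fintype {q' // q' ∈ W ∧ ¬ q' ≤ q} := (hWfin.subset fun _ h => h.1).fintype
  let g₁ := ∏ i, c i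
  have hg₁ : g₁ ∉ q := prod_mem (S := q.primeCompl) fun i _ => hcq i
  let g := g₀ * g₁
  have hg : g ∉ q := fun h => ((‹q.IsPrime›).mem_or_mem h).elim hg₀ hg₁
  -- the kernel vanishes on `D(g)`
  have hker : ∀ (Q : Ideal P) [Q.IsPrime], g ∉ Q → ∀ x, b x = 0 → ∃ d ∉ Q, d • x = 0 := by
    intro Q _ hgQ x hx
    refine exists_smul_eq_zero_of_weakAss (A := A) N'' hA Q (fun Q' _ hle => hflat _ fun h => hgQ ?_) x
      fun p _ hp q' hq' hle => ?_
    · exact Ideal.mul_mem_right _ _ (hle h)
    obtain ⟨d, hd, hdx⟩ := hbq x hx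
    by_cases hq'q : q' ≤ q
    · exact ⟨d, fun h => hd (hq'q h), hdx⟩
    · let i : {q' // q' ∈ W ∧ ¬ q' ≤ q} := ⟨q', ⟨p, ‹_›, hp, hq'⟩, hq'q⟩
      exact absurd (Ideal.mul_mem_left _ g₀ (hle (Ideal.prod_mem q' (Finset.mem_univ i) (hc i)))) hgQ
  have hkg : ∀ x, b x = 0 → ∃ d ∈ Submonoid.powers g, d • x = 0 := by
    intro x hx
    by_contra hne
    push Not at hne
    have hdis : Disjoint ((Submodule.span P {x}).annihilator : Set P) (Submonoid.powers g : Set P) := by
      rw [Set.disjoint_right]
      exact fun d hd hd0 => hne d hd ((Submodule.mem_annihilator_span_singleton x d).1 hd0)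
    obtain ⟨Q, hQ, hQx, hQg⟩ := Ideal.exists_le_prime_disjoint _ _ hdis
    haveI := hQ
    obtain ⟨d, hd, hdx⟩ := hker Q (Set.disjoint_right.1 hQg (Submonoid.mem_powers g)) x hx
    exact hd (hQx ((Submodule.mem_annihilator_span_singleton x d).2 hdx))
  have hbij := bijective_map_of_kills _ hb hkg
  refine ⟨g, hg, ?_, ?_, fun Q _ hgQ => ?_⟩
  · exact Module.FinitePresentation.of_equiv
      ((LinearEquiv.ofBijective _ hbij).extendScalarsOfIsLocalization (Submonoid.powers g) (Localization.Away g))
  · haveI : Module.Flat A (LocalizedModule (Submonoid.powers g) N'') := by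
      haveI := hflat (Submonoid.closure {g₀, g₁}) (Submonoid.subset_closure (Set.mem_insert _ _))
      refine flat_localized_mono (A := A) N'' (Submonoid.powers g) (Submonoid.closure {g₀, g₁}) ?_ ?_
      · rw [Submonoid.powers_le]
        exact mul_mem (Submonoid.subset_closure (Set.mem_insert _ _))
          (Submonoid.subset_closure (Set.mem_insert_of_mem _ rfl))
      · intro x hx
        induction hx using Submonoid.closure_induction with
        | mem x hx =>
          rcases hx with rfl | rfl
          · exact ⟨g₁, 1, by simp [g, mul_comm]⟩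
          · exact ⟨g₀, 1, by simp [g]⟩
        | one => exact ⟨1, by rw [one_mul]; exact one_mem _⟩
        | mul x y _ _ hx hy =>
          obtain ⟨u, hu⟩ := hx
          obtain ⟨v, hv⟩ := hy
          exact ⟨u * v, by rw [mul_mul_mul_comm]; exact mul_mem hu hv⟩
    exact flat_of_bijective_map _ b hbij
  · haveI := hflat Q.primeCompl fun h => hgQ (Ideal.mul_mem_right _ _ h)
    exact flat_of_bijective_map _ b (bijective_map_of_kills _ hb fun x hx => hker Q hgQ x hx)

/-- The flat locus is open. -/
theorem isOpen_flatLocus_of_weakAss (hA : (FlatCA.weakAss A A).Finite) :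
    IsOpen {q : PrimeSpectrum P | Module.Flat A (LocalizedModule q.asIdeal.primeCompl N)} := by
  rw [isOpen_iff_forall_mem_open]
  intro q hq
  obtain ⟨g, hg, -, -, h⟩ := exists_nhd N hA q.asIdeal hq
  exact ⟨PrimeSpectrum.basicOpen g, fun Q hQ => h _ hQ, PrimeSpectrum.isOpen_basicOpen, hg⟩

end Groth.Agent.RGLib

end
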