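import Groth.Agent.RGLib.PinchBC
import Groth.Prelude.Def_W4c3jacimperfPinch
import Mathlib

/-!
# Pinchings with projective cokernel
-/

set_option autoImplicit false
set_option linter.style.haveILetI false
set_option backward.isDefEq.respectTransparency false
set_option backward.isDefEq.respectTransparency.types false

open AlgebraicGeometry CategoryTheory CategoryTheory.Limits TopologicalSpace Opposite TensorProduct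

namespace Groth.Agent.RGLib.PinchBC

universe u

theorem appLE_injective_of_surjective {Z T : Scheme.{u}} (ξ : Z ⟶ T) [Flat ξ] [Surjective ξ] {V : T.Opens}
    (hV : IsAffineOpen V) {W : Z.Opens} (hW : IsAffineOpen W) (e : W = ξ ⁻¹ᵁ V) :
    Function.Injective (ξ.appLE V W e.le) := by
  letI : Algebra Γ(T, V) Γ(Z, W) := (ξ.appLE V W e.le).hom.toAlgebra
  haveI : Module.Flat Γ(T, V) Γ(Z, W) := ξ.flat_appLE hV hW e.le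
  haveI : Module.FaithfullyFlat Γ(T, V) Γ(Z, W) := by
    refine Module.FaithfullyFlat.of_comap_surjective fun P => ?_
    obtain ⟨y, hy, hyP⟩ : ∃ (y : T) (hy : y ∈ V), hV.primeIdealOf ⟨y, hy⟩ = P := by
      have hmem : hV.fromSpec P ∈ V := by
        have : hV.fromSpec P ∈ Set.range hV.fromSpec := ⟨P, rfl⟩
        rwa [hV.range_fromSpec] at this
      exact ⟨_, hmem, hV.fromSpec.isOpenEmbedding.injective (hV.fromSpec_primeIdealOf ⟨_, hmem⟩)⟩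
    obtain ⟨z, rfl⟩ := ξ.surjective y
    have hz : z ∈ W := e ▸ hy
    exact ⟨hW.primeIdealOf ⟨z, hz⟩, (PrimeSpectrum.ext (AssLib.comap_primeIdealOf ξ hV hW e.le hz)).trans hyP⟩
  exact FaithfulSMul.algebraMap_injective Γ(T, V) Γ(Z, W)

theorem cokerProjective_of_eq {Y T Z : Scheme.{u}} (t : T ⟶ Y) (ξ : Z ⟶ T) (Sa : Y.Opens)
    (h : @Pinch.CokerProjective Γ(Y, Sa) Γ(Z, (ξ ≫ t) ⁻¹ᵁ Sa) Γ(T, t ⁻¹ᵁ Sa) _ _ _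
      ((ξ ≫ t).app Sa).hom.toAlgebra (ξ.app (t ⁻¹ᵁ Sa)).hom)
    {V : T.Opens} (hV : V = t ⁻¹ᵁ Sa) {W : Z.Opens} (hW : W = ξ ⁻¹ᵁ V) (e : W ≤ (ξ ≫ t) ⁻¹ᵁ Sa) :
    @Pinch.CokerProjective Γ(Y, Sa) Γ(Z, W) Γ(T, V) _ _ _
      ((ξ ≫ t).appLE Sa W e).hom.toAlgebra (ξ.appLE V W hW.le).hom := by
  subst hV hW
  have e1 : (ξ ≫ t).appLE Sa (ξ ⁻¹ᵁ t ⁻¹ᵁ Sa) e = (ξ ≫ t).app Sa := (Scheme.Hom.app_eq_appLE _).symm
  have e2 : ξ.appLE (t ⁻¹ᵁ Sa) (ξ ⁻¹ᵁ t ⁻¹ᵁ Sa) le_rfl = ξ.app (t ⁻¹ᵁ Sa) := (Scheme.Hom.app_eq_appLE _).symm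
  show @Pinch.CokerProjective Γ(Y, Sa) Γ(Z, (ξ ≫ t) ⁻¹ᵁ Sa) Γ(T, t ⁻¹ᵁ Sa) _ _ _
    ((ξ ≫ t).appLE Sa _ e).hom.toAlgebra (ξ.appLE (t ⁻¹ᵁ Sa) _ le_rfl).hom
  rw [e1]
  convert h using 2

variable {X Y T Z P : Scheme.{u}}

theorem good_of_cokerProjective (f : X ⟶ Y) (t : T ⟶ Y) (ξ : Z ⟶ T) (ι : Z ⟶ X)
    [IsAffineHom t] [IsClosedImmersion ι] (hsq : ι ≫ f = ξ ≫ t)
    (hstd : ∀ y : Y, ∃ U : Y.Opens, IsAffineOpen U ∧ y ∈ U ∧ ∃ V : X.Opens, IsAffineOpen V ∧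
      V ≤ f ⁻¹ᵁ U ∧ ∀ z : Z, (ξ ≫ t).base z ∈ U → ι.base z ∈ V)
    {a : X ⟶ P} {b : T ⟶ P} (hP : IsPushout ι ξ a b) [Flat ξ] [Surjective ξ]
    (hv : ∀ U : Y.affineOpens, @Pinch.CokerProjective Γ(Y, U) Γ(Z, (ξ ≫ t) ⁻¹ᵁ U) Γ(T, t ⁻¹ᵁ U) _ _ _
      ((ξ ≫ t).app U).hom.toAlgebra (ξ.app (t ⁻¹ᵁ U)).hom)
    (p : P ⟶ Y) (hap : a ≫ p = f) (hbp : b ≫ p = t) (x : P) : Good a p x := by
  have hY := PinchGlue.exists_chart f t ξ ι hsq hstd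
  haveI := RingPO.isAffineHom_inl hP hY
  haveI := RingPO.isClosedImmersion_inr hP hY
  obtain ⟨φ, hφ, -, -, -, h3, h4⟩ := RingPO.exists_fibreProd_chart hP hY
  haveI := hφ
  obtain ⟨Sa, hSa, hxS, V, hV, hVU, hz⟩ := hstd (p x)
  obtain ⟨c, hxc, hcU, hcV⟩ : ∃ c : RingPO.Chart ι ξ, x ∈ Set.range (φ c) ∧ c.U ≤ f ⁻¹ᵁ Sa ∧
      (c.V = t ⁻¹ᵁ Sa ∨ c.V = ⊥) := by
    let c₀ : RingPO.Chart ι ξ := ⟨V, t ⁻¹ᵁ Sa, hV, hSa.preimage t, le_antisymm (by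
      rw [← Scheme.Hom.comp_preimage, ← hsq, Scheme.Hom.comp_preimage]
      exact ι.preimage_mono hVU) fun z h => hz z h⟩
    by_cases hx : x ∈ Set.range (φ c₀)
    · exact ⟨c₀, hx, hVU, Or.inl rfl⟩
    · rcases RingPO.exists_preimage_point hP hY x with ⟨w, rfl⟩ | ⟨τ, rfl⟩
      · have hw : w ∈ f ⁻¹ᵁ Sa := by
          show f w ∈ Sa
          rw [← hap]; exact hxS
        have hwi : w ∉ Set.range ι := by
          rintro ⟨z, rfl⟩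
          refine hx ((h3 c₀).ge (hz z ?_))
          show (ξ ≫ t) z ∈ Sa
          rw [← hsq]; exact hw
        obtain ⟨W, hW, hwW, hWle⟩ := exists_isAffineOpen_mem_and_subset (x := w)
          (U := f ⁻¹ᵁ Sa ⊓ ⟨(Set.range ι)ᶜ, ι.isClosedEmbedding.isClosed_range.isOpen_compl⟩) ⟨hw, hwi⟩
        have he : ι ⁻¹ᵁ W = ξ ⁻¹ᵁ (⊥ : T.Opens) := by
          ext z
          exact ⟨fun hzW => ((hWle hzW).2 ⟨z, rfl⟩).elim, fun hzb => hzb.elim⟩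
        let c₁ : RingPO.Chart ι ξ := ⟨W, ⊥, hW, isAffineOpen_bot _, he⟩
        exact ⟨c₁, (h3 c₁).ge hwW, fun z hzW => (hWle hzW).1, Or.inr rfl⟩
      · refine (hx ((h4 c₀).ge ?_)).elim
        show t τ ∈ Sa
        rw [← hbp]; exact hxS
  let U := (φ c).opensRange
  have hU : IsAffineOpen U := isAffineOpen_opensRange _
  have haU : a ⁻¹ᵁ U = c.U := SetLike.coe_injective (h3 c)
  have hbU : b ⁻¹ᵁ U = c.V := SetLike.coe_injective (h4 c)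
  have eS : U ≤ p ⁻¹ᵁ Sa := fun y hy => by
    rcases RingPO.exists_preimage_point hP hY y with ⟨w, rfl⟩ | ⟨τ, rfl⟩
    · have : w ∈ c.U := haU ▸ (show w ∈ a ⁻¹ᵁ U from hy)
      show (a ≫ p) w ∈ Sa
      rw [hap]; exact hcU this
    · have : τ ∈ c.V := hbU ▸ (show τ ∈ b ⁻¹ᵁ U from hy)
      show (b ≫ p) τ ∈ Sa
      rw [hbp]
      rcases hcV with h | h
      · rw [h] at this; exact this
      · rw [h] at this; exact this.elim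
  refine ⟨Sa, hSa, U, hU, hxc, eS, fun R' _ ρ => ?_⟩
  let d := RingPO.chartOver hP hU
  have hF := RingPO.isFibreProd_of_affineOpen hP hY hU
  letI : Algebra Γ(Y, Sa) Γ(P, U) := (p.appLE Sa U eS).hom.toAlgebra
  letI : Algebra Γ(Y, Sa) Γ(X, a ⁻¹ᵁ U) := ((a.appLE U (a ⁻¹ᵁ U) le_rfl).hom.comp (p.appLE Sa U eS).hom).toAlgebra
  letI : Algebra Γ(Y, Sa) Γ(T, b ⁻¹ᵁ U) := ((b.appLE U (b ⁻¹ᵁ U) le_rfl).hom.comp (p.appLE Sa U eS).hom).toAlgebra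
  letI : Algebra Γ(Y, Sa) Γ(Z, ι ⁻¹ᵁ a ⁻¹ᵁ U) :=
    (d.p.comp ((a.appLE U (a ⁻¹ᵁ U) le_rfl).hom.comp (p.appLE Sa U eS).hom)).toAlgebra
  letI : Algebra Γ(Y, Sa) R' := ρ.toAlgebra
  let α : Γ(P, U) →ₐ[Γ(Y, Sa)] Γ(X, a ⁻¹ᵁ U) := { (a.appLE U (a ⁻¹ᵁ U) le_rfl).hom with commutes' := fun _ => rfl }
  let β : Γ(P, U) →ₐ[Γ(Y, Sa)] Γ(T, b ⁻¹ᵁ U) := { (b.appLE U (b ⁻¹ᵁ U) le_rfl).hom with commutes' := fun _ => rfl }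
  let π' : Γ(X, a ⁻¹ᵁ U) →ₐ[Γ(Y, Sa)] Γ(Z, ι ⁻¹ᵁ a ⁻¹ᵁ U) := { d.p with commutes' := fun _ => rfl }
  let q : Γ(T, b ⁻¹ᵁ U) →ₐ[Γ(Y, Sa)] Γ(Z, ι ⁻¹ᵁ a ⁻¹ᵁ U) := { d.q with commutes' := fun r => (hF.comm _).symm }
  have hF' : RingPO.IsFibreProd π'.toRingHom q.toRingHom α.toRingHom β.toRingHom := hF
  have hW : ι ⁻¹ᵁ a ⁻¹ᵁ U = ξ ⁻¹ᵁ b ⁻¹ᵁ U := d.eq
  have hWa : IsAffineOpen (ι ⁻¹ᵁ a ⁻¹ᵁ U) := (hU.preimage a).preimage ι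
  have hq : Function.Injective q := appLE_injective_of_surjective ξ (hU.preimage b) hWa hW
  haveI : Module.Flat Γ(Y, Sa) (Γ(Z, ι ⁻¹ᵁ a ⁻¹ᵁ U) ⧸ LinearMap.range q.toLinearMap) := by
    rcases hcV with h | h
    · have e : ι ⁻¹ᵁ a ⁻¹ᵁ U ≤ (ξ ≫ t) ⁻¹ᵁ Sa := fun z hzU => by
        rw [hW, hbU, h] at hzU; exact hzU
      have key := cokerProjective_of_eq t ξ Sa (hv ⟨Sa, hSa⟩) (hbU.trans h) hW e
      have halg : ((ξ ≫ t).appLE Sa (ι ⁻¹ᵁ a ⁻¹ᵁ U) e).hom =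
          d.p.comp ((a.appLE U (a ⁻¹ᵁ U) le_rfl).hom.comp (p.appLE Sa U eS).hom) := by
        refine congrArg CommRingCat.Hom.hom (?_ :
          (ξ ≫ t).appLE Sa (ι ⁻¹ᵁ a ⁻¹ᵁ U) e =
            p.appLE Sa U eS ≫ a.appLE U (a ⁻¹ᵁ U) le_rfl ≫ ι.appLE (a ⁻¹ᵁ U) (ι ⁻¹ᵁ a ⁻¹ᵁ U) le_rfl)
        rw [Scheme.Hom.appLE_comp_appLE, Scheme.Hom.appLE_comp_appLE]
        simp only [Category.assoc, hap, hsq]
      have hinst : ((ξ ≫ t).appLE Sa (ι ⁻¹ᵁ a ⁻¹ᵁ U) e).hom.toAlgebra =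
          (inferInstance : Algebra Γ(Y, Sa) Γ(Z, ι ⁻¹ᵁ a ⁻¹ᵁ U)) := by
        rw [halg]
      rw [hinst] at key
      have hspan : Submodule.span Γ(Y, Sa) (Set.range (ξ.appLE (b ⁻¹ᵁ U) (ι ⁻¹ᵁ a ⁻¹ᵁ U) hW.le).hom) =
          LinearMap.range q.toLinearMap :=
        le_antisymm (Submodule.span_le.2 fun z ⟨w, hw⟩ => ⟨w, hw⟩) fun z ⟨w, hw⟩ => Submodule.subset_span ⟨w, hw⟩
      unfold Pinch.CokerProjective at key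
      rw [hspan] at key
      haveI := key
      infer_instance
    · have hbot : ι ⁻¹ᵁ a ⁻¹ᵁ U = ⊥ := by rw [hW, hbU, h]; rfl
      haveI : Subsingleton Γ(Z, ι ⁻¹ᵁ a ⁻¹ᵁ U) := by rw [hbot]; infer_instance
      infer_instance
  exact rTensor_injective hF' hq R'

end Groth.Agent.RGLib.PinchBC
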