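import Groth.Agent.RGLib.PinchFF
import Groth.Agent.RGLib.FrameLocal
import Groth.Agent.QCoh.DevissageSum
import Groth.Agent.QCoh.ClosedPush
import Mathlib

/-!
# Glueing locally free modules on a pinched scheme
-/

set_option autoImplicit false
set_option linter.style.haveILetI false
set_option backward.isDefEq.respectTransparency false
set_option backward.isDefEq.respectTransparency.types false

open AlgebraicGeometry CategoryTheory CategoryTheory.Limits TopologicalSpace Opposite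

namespace Groth.Agent.RGLib.PinchGlue

universe u

open Groth.Agent Groth.Agent.RGLib

theorem isFrame_map_iso {X : Scheme.{u}} {n : ℕ} {M N : X.Modules} (e : M ≅ N) {U : X.Opens}
    {s : Fin n → Γ(M, U)} (hs : H23.Frame.IsFrame M s) :
    H23.Frame.IsFrame N (fun i => e.hom.app U (s i)) := fun W h => by
  have he : H23.Frame.comb N (fun i => e.hom.app U (s i)) W h = e.hom.app W ∘ H23.Frame.comb M s W h := by
    funext c
    simp only [Function.comp, H23.Frame.comb, map_sum]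
    exact Finset.sum_congr rfl fun i _ => by rw [Scheme.Modules.Hom.app_smul, QCoh.map_app_comm]
  rw [he]
  exact (ConcreteCategory.bijective_of_isIso (e.hom.app W)).comp (hs W h)

theorem adjunct_pullSec {X Y : Scheme.{u}} (g : X ⟶ Y) {M : Y.Modules} {N : X.Modules}
    (v : M ⟶ (Scheme.Modules.pushforward g).obj N) {V : Y.Opens} {W : X.Opens} (hle : W ≤ g ⁻¹ᵁ V) (x : Γ(M, V)) :
    (((Scheme.Modules.pullbackPushforwardAdjunction g).homEquiv M N).symm v).app W (QCoh.pullSec g M hle x) =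
      N.presheaf.map (homOfLE hle).op (show Γ(N, g ⁻¹ᵁ V) from v.app V x) := by
  obtain ⟨φ, rfl⟩ := ((Scheme.Modules.pullbackPushforwardAdjunction g).homEquiv M N).surjective v
  rw [Equiv.symm_apply_apply, Adjunction.homEquiv_unit]
  exact QCoh.map_app_comm φ (homOfLE hle) _

theorem pullSec_le_refl {X Y : Scheme.{u}} (g : X ⟶ Y) (M : Y.Modules) {V : Y.Opens} (x : Γ(M, V)) :
    ((Scheme.Modules.pullbackPushforwardAdjunction g).unit.app M).app V x =
      QCoh.pullSec g M (le_refl (g ⁻¹ᵁ V)) x :=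
  (ConcreteCategory.congr_hom (((Scheme.Modules.pullback g).obj M).presheaf.map_id _) _).symm

theorem ext_pullSec₂ {A B C : Scheme.{u}} (f : A ⟶ B) (g : B ⟶ C) {M : C.Modules} {Q : A.Modules}
    (α β : (Scheme.Modules.pullback f).obj ((Scheme.Modules.pullback g).obj M) ⟶ Q)
    (h : ∀ (V : C.Opens) (x : Γ(M, V)),
      α.app _ (QCoh.pullSec f _ (le_refl (f ⁻¹ᵁ g ⁻¹ᵁ V)) (QCoh.pullSec g M le_rfl x)) =
        β.app _ (QCoh.pullSec f _ (le_refl (f ⁻¹ᵁ g ⁻¹ᵁ V)) (QCoh.pullSec g M le_rfl x))) : α = β := by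
  refine ((Scheme.Modules.pullbackPushforwardAdjunction f).homEquiv _ _).injective ?_
  refine ((Scheme.Modules.pullbackPushforwardAdjunction g).homEquiv _ _).injective ?_
  refine Scheme.Modules.hom_ext _ _ fun V => ?_
  ext x
  simp only [Adjunction.homEquiv_unit]
  show α.app (f ⁻¹ᵁ g ⁻¹ᵁ V) (((Scheme.Modules.pullbackPushforwardAdjunction f).unit.app _).app (g ⁻¹ᵁ V)
      (((Scheme.Modules.pullbackPushforwardAdjunction g).unit.app M).app V x)) =
    β.app (f ⁻¹ᵁ g ⁻¹ᵁ V) (((Scheme.Modules.pullbackPushforwardAdjunction f).unit.app _).app (g ⁻¹ᵁ V)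
      (((Scheme.Modules.pullbackPushforwardAdjunction g).unit.app M).app V x))
  rw [pullSec_le_refl, pullSec_le_refl]
  exact h V x

variable {X Z Z' X' : Scheme.{u}} {ι : Z ⟶ X} {q : Z ⟶ Z'} {π : X ⟶ X'} {ι' : Z' ⟶ X'}
  (hw : ι ≫ π = q ≫ ι') {n : ℕ} {LX : X.Modules} {LZ' : Z'.Modules}
  (σ : (Scheme.Modules.pullback ι).obj LX ≅ (Scheme.Modules.pullback q).obj LZ')

/-- The module on the pinched scheme receiving both sides. -/
noncomputable abbrev common (q : Z ⟶ Z') (ι : Z ⟶ X) (π : X ⟶ X') (LZ' : Z'.Modules) : X'.Modules :=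
  (Scheme.Modules.pushforward π).obj ((Scheme.Modules.pushforward ι).obj ((Scheme.Modules.pullback q).obj LZ'))

noncomputable def fromX : (Scheme.Modules.pushforward π).obj LX ⟶ common q ι π LZ' :=
  (Scheme.Modules.pushforward π).map
    ((Scheme.Modules.pullbackPushforwardAdjunction ι).unit.app LX ≫ (Scheme.Modules.pushforward ι).map σ.hom)

theorem fromX_app (V : X'.Opens) (x : Γ(LX, π ⁻¹ᵁ V)) :
    (fromX (π := π) σ).app V x = σ.hom.app (ι ⁻¹ᵁ π ⁻¹ᵁ V) (QCoh.pullSec ι LX le_rfl x) := by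
  show σ.hom.app _ (((Scheme.Modules.pullbackPushforwardAdjunction ι).unit.app LX).app (π ⁻¹ᵁ V) x) = _
  rw [pullSec_le_refl]

include hw in
theorem ι_π_app (V : X'.Opens) (r : Γ(X', V)) :
    q.appLE (ι' ⁻¹ᵁ V) (ι ⁻¹ᵁ π ⁻¹ᵁ V) (PinchFlat.preimage_le hw V) (ι'.app V r) = ι.app _ (π.app V r) := by
  rw [← ConcreteCategory.comp_apply, ← ConcreteCategory.comp_apply, Scheme.Hom.app_eq_appLE,
    Scheme.Hom.appLE_comp_appLE, ← Scheme.Hom.comp_app, Scheme.Hom.app_eq_appLE (ι ≫ π)]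
  simp only [hw]
  rfl

noncomputable def fromZ' (LZ' : Z'.Modules) : (Scheme.Modules.pushforward ι').obj LZ' ⟶ common q ι π LZ' :=
  { val := PresheafOfModules.homMk
      { app := fun V => AddCommGrpCat.ofHom (AddMonoidHom.mk'
          (fun y : Γ(LZ', ι' ⁻¹ᵁ V.unop) => (QCoh.pullSec q LZ' (PinchFlat.preimage_le hw V.unop) y :
            Γ((Scheme.Modules.pullback q).obj LZ', ι ⁻¹ᵁ π ⁻¹ᵁ V.unop)))
          (QCoh.pullSec_add q LZ' (PinchFlat.preimage_le hw V.unop)))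
        naturality := fun V V' i => by
          ext y
          have hi : V'.unop ≤ V.unop := i.unop.le
          exact (ExistEasy.pullSec_res q LZ' (ι'.preimage_mono hi) (ι.preimage_mono (π.preimage_mono hi))
            (PinchFlat.preimage_le hw V.unop) (PinchFlat.preimage_le hw V'.unop) y).symm }
      fun V r y => by
        let r' : Γ(X', V.unop) := r
        let y' : Γ(LZ', ι' ⁻¹ᵁ V.unop) := y
        show QCoh.pullSec q LZ' (PinchFlat.preimage_le hw V.unop) (ι'.app V.unop r' • y') =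
          ι.app _ (π.app V.unop r') • QCoh.pullSec q LZ' (PinchFlat.preimage_le hw V.unop) y'
        rw [QCoh.pullSec_smul, ι_π_app hw] }

theorem fromZ'_app (V : X'.Opens) (y : Γ(LZ', ι' ⁻¹ᵁ V)) :
    (fromZ' hw LZ').app V y = QCoh.pullSec q LZ' (PinchFlat.preimage_le hw V) y := rfl

/-- The glued module. -/
noncomputable def glue : X'.Modules :=
  kernel (biprod.fst ≫ fromX (π := π) σ - biprod.snd ≫ fromZ' hw LZ')

noncomputable def toX : glue hw σ ⟶ (Scheme.Modules.pushforward π).obj LX := kernel.ι _ ≫ biprod.fst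

noncomputable def toZ' : glue hw σ ⟶ (Scheme.Modules.pushforward ι').obj LZ' := kernel.ι _ ≫ biprod.snd

/-- The two components of a section of the glued module. -/
noncomputable def secX {V : X'.Opens} (s : Γ(glue hw σ, V)) : Γ(LX, π ⁻¹ᵁ V) := (toX hw σ).app V s

noncomputable def secZ' {V : X'.Opens} (s : Γ(glue hw σ, V)) : Γ(LZ', ι' ⁻¹ᵁ V) := (toZ' hw σ).app V s

/-- Compatibility of a pair of sections. -/
def Comp (V : X'.Opens) (x : Γ(LX, π ⁻¹ᵁ V)) (y : Γ(LZ', ι' ⁻¹ᵁ V)) : Prop :=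
  σ.hom.app (ι ⁻¹ᵁ π ⁻¹ᵁ V) (QCoh.pullSec ι LX le_rfl x) = QCoh.pullSec q LZ' (PinchFlat.preimage_le hw V) y

theorem comp_sec {V : X'.Opens} (s : Γ(glue hw σ, V)) : Comp hw σ V (secX hw σ s) (secZ' hw σ s) := by
  have h := congrArg (fun φ => Scheme.Modules.Hom.app φ V s)
    (kernel.condition (biprod.fst ≫ fromX (π := π) σ - biprod.snd ≫ fromZ' hw LZ'))
  exact (fromX_app σ V _).symm.trans ((sub_eq_zero.1 h).trans (fromZ'_app hw V _))

theorem sec_injective {V : X'.Opens} (s t : Γ(glue hw σ, V)) (h₁ : secX hw σ s = secX hw σ t)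
    (h₂ : secZ' hw σ s = secZ' hw σ t) : s = t := by
  let P := (Scheme.Modules.pushforward π).obj LX
  let R := (Scheme.Modules.pushforward ι').obj LZ'
  let k : glue hw σ ⟶ P ⊞ R := kernel.ι _
  haveI : Mono k := inferInstanceAs (Mono (kernel.ι _))
  refine QCoh.app_injective k V ?_
  have htot : ∀ z : Γ(P ⊞ R, V),
      z = (biprod.inl : P ⟶ P ⊞ R).app V ((biprod.fst : P ⊞ R ⟶ P).app V z) +
        (biprod.inr : R ⟶ P ⊞ R).app V ((biprod.snd : P ⊞ R ⟶ R).app V z) := fun z => by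
    have h := congrArg (fun φ => Scheme.Modules.Hom.app φ V z) (biprod.total (X := P) (Y := R))
    exact h.symm
  rw [htot (k.app V s), htot (k.app V t)]
  exact congrArg₂ (· + ·) (congrArg ((biprod.inl : P ⟶ P ⊞ R).app V) h₁) (congrArg ((biprod.inr : R ⟶ P ⊞ R).app V) h₂)

theorem exists_sec {V : X'.Opens} (x : Γ(LX, π ⁻¹ᵁ V)) (y : Γ(LZ', ι' ⁻¹ᵁ V)) (h : Comp hw σ V x y) :
    ∃ s : Γ(glue hw σ, V), secX hw σ s = x ∧ secZ' hw σ s = y := by
  let P := (Scheme.Modules.pushforward π).obj LX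
  let R := (Scheme.Modules.pushforward ι').obj LZ'
  let z : Γ(P ⊞ R, V) := (biprod.inl : P ⟶ P ⊞ R).app V x + (biprod.inr : R ⟶ P ⊞ R).app V y
  have hf : (biprod.fst : P ⊞ R ⟶ P).app V z = (show Γ(P, V) from x) := by
    show (biprod.fst : P ⊞ R ⟶ P).app V (_ + _) = _
    rw [map_add]
    have a := congrArg (fun φ => Scheme.Modules.Hom.app φ V (show Γ(P, V) from x)) (biprod.inl_fst (X := P) (Y := R))
    have b := congrArg (fun φ => Scheme.Modules.Hom.app φ V (show Γ(R, V) from y)) (biprod.inr_fst (X := P) (Y := R))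
    exact (congrArg₂ (· + ·) a b).trans (add_zero _)
  have hs : (biprod.snd : P ⊞ R ⟶ R).app V z = (show Γ(R, V) from y) := by
    show (biprod.snd : P ⊞ R ⟶ R).app V (_ + _) = _
    rw [map_add]
    have a := congrArg (fun φ => Scheme.Modules.Hom.app φ V (show Γ(P, V) from x)) (biprod.inl_snd (X := P) (Y := R))
    have b := congrArg (fun φ => Scheme.Modules.Hom.app φ V (show Γ(R, V) from y)) (biprod.inr_snd (X := P) (Y := R))
    exact (congrArg₂ (· + ·) a b).trans (zero_add _)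
  obtain ⟨s, hs'⟩ := QCoh.exists_kernel_lift (biprod.fst ≫ fromX (π := π) σ - biprod.snd ≫ fromZ' hw LZ') V z (by
    show (fromX (π := π) σ).app V ((biprod.fst : P ⊞ R ⟶ P).app V z) -
      (fromZ' hw LZ').app V ((biprod.snd : P ⊞ R ⟶ R).app V z) = 0
    rw [hf, hs, sub_eq_zero, fromX_app, fromZ'_app]
    exact h)
  exact ⟨s, (congrArg ((biprod.fst : P ⊞ R ⟶ P).app V) hs').trans hf,
    (congrArg ((biprod.snd : P ⊞ R ⟶ R).app V) hs').trans hs⟩

/-- The complement of the closed part only has points off the subscheme. -/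
theorem mem_range_of_mem_range
    (hpo : IsPushout ((Scheme.forgetToLocallyRingedSpace ⋙ LocallyRingedSpace.forgetToSheafedSpace).map ι)
      ((Scheme.forgetToLocallyRingedSpace ⋙ LocallyRingedSpace.forgetToSheafedSpace).map q)
      ((Scheme.forgetToLocallyRingedSpace ⋙ LocallyRingedSpace.forgetToSheafedSpace).map π)
      ((Scheme.forgetToLocallyRingedSpace ⋙ LocallyRingedSpace.forgetToSheafedSpace).map ι'))
    {x : X} (hx : π x ∈ Set.range ι') : x ∈ Set.range ι := by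
  by_contra hxn
  have h := (hpo.map (SheafedSpace.forget _)).map (forget TopCat.{u})
  obtain ⟨z', hz'⟩ := hx
  let φ : X → ULift.{u} Prop := fun y => ⟨y = x⟩
  let ψ : Z' → ULift.{u} Prop := fun _ => ⟨False⟩
  let d := h.desc (TypeCat.ofHom φ) (TypeCat.ofHom ψ) (by
    ext z
    change (ι z = x) ↔ False
    exact ⟨fun e => hxn ⟨z, e⟩, False.elim⟩)
  have e1 : d (π x) = φ x := ConcreteCategory.congr_hom (h.inl_desc _ _ _) x
  have e2 : d (ι' z') = ψ z' := ConcreteCategory.congr_hom (h.inr_desc _ _ _) z'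
  rw [hz', e1] at e2
  exact (congrArg ULift.down e2).mp rfl

variable (hLX : FlatMod.IsFinLocFreeOfRank n LX) (hLZ' : FlatMod.IsFinLocFreeOfRank n LZ')

theorem isQCoh_of_rank {Y : Scheme.{u}} {L : Y.Modules} (h : FlatMod.IsFinLocFreeOfRank n L) : Coh.IsQCoh L :=
  QCoh.isQCoh_of_isFinLocFree fun x => let ⟨U, h1, h2⟩ := h x; ⟨U, n, h1, h2⟩

include hLX hLZ' in
/-- Compatible frames exist near every point. -/
theorem exists_compatible_frames [IsClosedImmersion ι] [IsClosedImmersion ι'] [IsIntegralHom π]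
    (hpo : IsPushout ((Scheme.forgetToLocallyRingedSpace ⋙ LocallyRingedSpace.forgetToSheafedSpace).map ι)
      ((Scheme.forgetToLocallyRingedSpace ⋙ LocallyRingedSpace.forgetToSheafedSpace).map q)
      ((Scheme.forgetToLocallyRingedSpace ⋙ LocallyRingedSpace.forgetToSheafedSpace).map π)
      ((Scheme.forgetToLocallyRingedSpace ⋙ LocallyRingedSpace.forgetToSheafedSpace).map ι'))
    (p : X') :
    ∃ (U : X'.Opens) (x : Fin n → Γ(LX, π ⁻¹ᵁ U)) (y : Fin n → Γ(LZ', ι' ⁻¹ᵁ U)), p ∈ U ∧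
      H23.Frame.IsFrame LX x ∧ H23.Frame.IsFrame LZ' y ∧ ∀ i, Comp hw σ U (x i) (y i) := by
  classical
  obtain ⟨U₁, a₁, hp₁, ha₁⟩ := FrameLocal.exists_frame_near_fibre π hLX p
  obtain ⟨U₂, b₂, hp₂, hb₂⟩ := FrameLocal.exists_frame_near_fibre ι' hLZ' p
  by_cases hp : p ∈ Set.range ι'
  swap
  · let U₀ : X'.Opens := ⟨(Set.range ι')ᶜ, ι'.isClosedEmbedding.isClosed_range.isOpen_compl⟩
    let U := U₁ ⊓ U₂ ⊓ U₀
    have i1 : π ⁻¹ᵁ U ≤ π ⁻¹ᵁ U₁ := π.preimage_mono (inf_le_left.trans inf_le_left)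
    have i2 : ι' ⁻¹ᵁ U ≤ ι' ⁻¹ᵁ U₂ := ι'.preimage_mono (inf_le_left.trans inf_le_right)
    refine ⟨U, fun i => LX.presheaf.map (homOfLE i1).op (a₁ i), fun i => LZ'.presheaf.map (homOfLE i2).op (b₂ i),
      ⟨⟨hp₁, hp₂⟩, hp⟩, ha₁.res i1, hb₂.res i2, fun i => ?_⟩
    refine TopCat.Presheaf.section_ext ⟨((Scheme.Modules.pullback q).obj LZ').presheaf,
      ((Scheme.Modules.pullback q).obj LZ').isSheaf⟩ _ _ _ fun z hz => ?_
    exfalso
    refine (hz : π (ι z) ∈ U).2 ⟨q z, ?_⟩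
    rw [← Scheme.Hom.comp_apply, ← Scheme.Hom.comp_apply, hw]
  obtain ⟨_, ⟨V, hV, rfl⟩, hpV, hVU⟩ := X'.isBasis_affineOpens.exists_subset_of_mem_open
    (show p ∈ U₁ ⊓ U₂ from ⟨hp₁, hp₂⟩) (U₁ ⊓ U₂).2
  have hV' : IsAffineOpen V := hV
  have hW : IsAffineOpen (π ⁻¹ᵁ V) := hV'.preimage π
  have i1 : π ⁻¹ᵁ V ≤ π ⁻¹ᵁ U₁ := π.preimage_mono fun y hy => (hVU hy).1
  have i2 : ι' ⁻¹ᵁ V ≤ ι' ⁻¹ᵁ U₂ := ι'.preimage_mono fun y hy => (hVU hy).2
  let a := fun i => LX.presheaf.map (homOfLE i1).op (a₁ i)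
  let b := fun i => LZ'.presheaf.map (homOfLE i2).op (b₂ i)
  have ha : H23.Frame.IsFrame LX a := ha₁.res i1
  have hb : H23.Frame.IsFrame LZ' b := hb₂.res i2
  let W := ι ⁻¹ᵁ π ⁻¹ᵁ V
  have hle : W ≤ q ⁻¹ᵁ ι' ⁻¹ᵁ V := PinchFlat.preimage_le hw V
  have hA := isFrame_map_iso σ (PullbackFrame.isFrame_pullback ι (isQCoh_of_rank hLX) ha)
  have hB := PullbackFrame.isFrame_pullback q (isQCoh_of_rank hLZ') hb
  choose c hc using fun i => (hA W le_rfl).2 (QCoh.pullSec q LZ' hle (b i))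
  choose d hd using fun j => (hB W hle).2 (σ.hom.app W (QCoh.pullSec ι LX le_rfl (a j)))
  let C : Matrix (Fin n) (Fin n) Γ(Z, W) := Matrix.of c
  let D : Matrix (Fin n) (Fin n) Γ(Z, W) := Matrix.of d
  have hCD : C * D = 1 := by
    ext i k
    have h1 : H23.Frame.comb _ (fun i => QCoh.pullSec q LZ' le_rfl (b i)) W hle (fun k => (C * D) i k) =
        H23.Frame.comb _ (fun i => QCoh.pullSec q LZ' le_rfl (b i)) W hle (fun k => (1 : Matrix (Fin n) (Fin n) Γ(Z, W)) i k) := by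
      have h2 := hc i
      have hd' : ∀ j, ((Scheme.Modules.pullback q).obj LZ').presheaf.map (homOfLE (le_refl W)).op
          (σ.hom.app W (QCoh.pullSec ι LX le_rfl (a j))) =
          ∑ k, d j k • ((Scheme.Modules.pullback q).obj LZ').presheaf.map (homOfLE hle).op
            (QCoh.pullSec q LZ' le_rfl (b k)) := fun j =>
        (ConcreteCategory.congr_hom (((Scheme.Modules.pullback q).obj LZ').presheaf.map_id _) _).trans (hd j).symm
      unfold H23.Frame.comb at h2 ⊢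
      have h3 : ∑ k, (C * D) i k • ((Scheme.Modules.pullback q).obj LZ').presheaf.map (homOfLE hle).op
          (QCoh.pullSec q LZ' le_rfl (b k)) = QCoh.pullSec q LZ' hle (b i) := by
        refine Eq.trans ?_ h2
        refine Eq.trans ?_ (Finset.sum_congr rfl fun j _ => congrArg (c i j • ·) (hd' j).symm)
        simp only [Finset.smul_sum, smul_smul, Matrix.mul_apply, Finset.sum_smul]
        rw [Finset.sum_comm]
        rfl
      refine h3.trans ?_
      rw [Finset.sum_eq_single i]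
      · show _ = (1 : Matrix (Fin n) (Fin n) Γ(Z, W)) i i • _
        rw [Matrix.one_apply_eq, one_smul]
        exact (QCoh.map_map _ _ _).symm
      · intro j _ hj
        show (1 : Matrix (Fin n) (Fin n) Γ(Z, W)) i j • _ = 0
        rw [Matrix.one_apply_ne (Ne.symm hj), zero_smul]
      · intro h; exact absurd (Finset.mem_univ i) h
    exact congrFun ((hB W hle).1 h1) k
  have hsurj := ι.app_surjective _ hW
  choose H hH using fun i j => hsurj (C i j)
  let Hm : Matrix (Fin n) (Fin n) Γ(X, π ⁻¹ᵁ V) := Matrix.of H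
  have hdet : IsUnit (ι.app (π ⁻¹ᵁ V) Hm.det) := by
    show IsUnit ((ι.app (π ⁻¹ᵁ V)).hom Hm.det)
    rw [RingHom.map_det, show (ι.app (π ⁻¹ᵁ V)).hom.mapMatrix Hm = C from Matrix.ext hH]
    exact IsUnit.of_mul_eq_one D.det (by rw [← Matrix.det_mul, hCD, Matrix.det_one])
  have hfib : ∀ x : X, π x = p → x ∈ X.basicOpen Hm.det := fun x hx => by
    obtain ⟨z, rfl⟩ := mem_range_of_mem_range hpo (x := x) (hx ▸ hp)
    have hz : z ∈ Z.basicOpen (ι.app (π ⁻¹ᵁ V) Hm.det) := by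
      refine (Scheme.mem_basicOpen _ _ z (show π (ι z) ∈ V from hx.symm ▸ hpV)).2 ?_
      exact hdet.map (Z.presheaf.germ _ z (show π (ι z) ∈ V from hx.symm ▸ hpV)).hom
    rwa [← Scheme.preimage_basicOpen] at hz
  let U : X'.Opens := V ⊓ ⟨(π '' ((X.basicOpen Hm.det : Set X)ᶜ))ᶜ,
    (π.isClosedMap _ (X.basicOpen Hm.det).2.isClosed_compl).isOpen_compl⟩
  have hUV : U ≤ V := inf_le_left
  have hUD : π ⁻¹ᵁ U ≤ X.basicOpen Hm.det := fun x hx => by_contra fun hn => hx.2 ⟨x, hn, rfl⟩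
  let j1 : π ⁻¹ᵁ U ≤ π ⁻¹ᵁ V := π.preimage_mono hUV
  let j2 : ι' ⁻¹ᵁ U ≤ ι' ⁻¹ᵁ V := ι'.preimage_mono hUV
  let x := fun i => LX.presheaf.map (homOfLE j1).op (H23.Frame.comb LX a (π ⁻¹ᵁ V) le_rfl (H i))
  refine ⟨U, x, fun i => LZ'.presheaf.map (homOfLE j2).op (b i),
    ⟨hpV, fun ⟨x', hx', e⟩ => hx' (hfib x' e)⟩, fun W' h => ?_, hb.res j2, fun i => ?_⟩
  · let H' : Matrix (Fin n) (Fin n) Γ(X, W') := (X.presheaf.map (homOfLE (h.trans j1)).op).hom.mapMatrix Hm
    have e : H23.Frame.comb LX x W' h = H23.Frame.comb LX a W' (h.trans j1) ∘ fun v => Matrix.vecMul v H' := by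
      funext v
      simp only [Function.comp, x, H23.Frame.comb, map_sum, Finset.smul_sum, Matrix.vecMul, dotProduct, Finset.sum_smul]
      rw [Finset.sum_comm]
      refine Finset.sum_congr rfl fun j _ => Finset.sum_congr rfl fun i _ => ?_
      rw [Scheme.Modules.map_smul, Scheme.Modules.map_smul, QCoh.map_map, QCoh.map_map, ← ConcreteCategory.comp_apply,
        ← X.presheaf.map_comp, smul_smul]
      rfl
    have hu : IsUnit H' := by
      rw [Matrix.isUnit_iff_isUnit_det, ← RingHom.map_det]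
      exact FrameLocal.exists_frame_near_fibre.isUnit_res_of_le Hm.det (h.trans hUD)
    rw [e]
    exact (ha W' _).comp ⟨Matrix.vecMul_injective_of_isUnit hu, fun w => ⟨Matrix.vecMul w H'⁻¹, by
      show Matrix.vecMul (Matrix.vecMul w H'⁻¹) H' = w
      rw [Matrix.vecMul_vecMul, Matrix.nonsing_inv_mul _ ((Matrix.isUnit_iff_isUnit_det _).1 hu), Matrix.vecMul_one]⟩⟩
  · have hx : σ.hom.app W (QCoh.pullSec ι LX le_rfl (H23.Frame.comb LX a (π ⁻¹ᵁ V) le_rfl (H i))) =
        QCoh.pullSec q LZ' hle (b i) := by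
      rw [PinchFF.pullSec_comb ι LX a le_rfl (H i), ← hc i]
      unfold H23.Frame.comb
      rw [map_sum]
      refine Finset.sum_congr rfl fun j _ => ?_
      rw [Scheme.Modules.Hom.app_smul, QCoh.map_app_comm]
      exact congrArg₂ (· • ·) (hH i j) rfl
    show σ.hom.app _ (QCoh.pullSec ι LX le_rfl (LX.presheaf.map (homOfLE j1).op _)) = _
    rw [← ExistEasy.pullSec_res ι LX j1 (ι.preimage_mono j1) le_rfl le_rfl, QCoh.map_app_comm, hx,
      ExistEasy.pullSec_res q LZ' j2 (ι.preimage_mono j1) hle (PinchFlat.preimage_le hw U)]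

include hLX hLZ' in
/-- Compatible frames give a frame of the glued module. -/
theorem exists_frame_glue
    (hpo : IsPushout ((Scheme.forgetToLocallyRingedSpace ⋙ LocallyRingedSpace.forgetToSheafedSpace).map ι)
      ((Scheme.forgetToLocallyRingedSpace ⋙ LocallyRingedSpace.forgetToSheafedSpace).map q)
      ((Scheme.forgetToLocallyRingedSpace ⋙ LocallyRingedSpace.forgetToSheafedSpace).map π)
      ((Scheme.forgetToLocallyRingedSpace ⋙ LocallyRingedSpace.forgetToSheafedSpace).map ι'))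
    {U : X'.Opens} {x : Fin n → Γ(LX, π ⁻¹ᵁ U)} {y : Fin n → Γ(LZ', ι' ⁻¹ᵁ U)}
    (hx : H23.Frame.IsFrame LX x) (hy : H23.Frame.IsFrame LZ' y) (hc : ∀ i, Comp hw σ U (x i) (y i)) :
    ∃ s : Fin n → Γ(glue hw σ, U), H23.Frame.IsFrame (glue hw σ) s ∧
      (∀ i, secX hw σ (s i) = x i) ∧ (∀ i, secZ' hw σ (s i) = y i) := by
  choose s hsx hsy using fun i => exists_sec hw σ (x i) (y i) (hc i)
  refine ⟨s, fun V hV => ?_, hsx, hsy⟩
  have hX : ∀ r, secX hw σ (H23.Frame.comb _ s V hV r) =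
      H23.Frame.comb LX x (π ⁻¹ᵁ V) (π.preimage_mono hV) (fun i => π.app V (r i)) := fun r => by
    unfold secX H23.Frame.comb
    rw [map_sum]
    refine Finset.sum_congr rfl fun i _ => ?_
    rw [Scheme.Modules.Hom.app_smul, QCoh.map_app_comm, ← hsx i]
    rfl
  have hY : ∀ r, secZ' hw σ (H23.Frame.comb _ s V hV r) =
      H23.Frame.comb LZ' y (ι' ⁻¹ᵁ V) (ι'.preimage_mono hV) (fun i => ι'.app V (r i)) := fun r => by
    unfold secZ' H23.Frame.comb
    rw [map_sum]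
    refine Finset.sum_congr rfl fun i _ => ?_
    rw [Scheme.Modules.Hom.app_smul, QCoh.map_app_comm, ← hsy i]
    rfl
  have hle := PinchFlat.preimage_le hw V
  have hU : ι ⁻¹ᵁ π ⁻¹ᵁ V ≤ q ⁻¹ᵁ ι' ⁻¹ᵁ U := hle.trans (q.preimage_mono (ι'.preimage_mono hV))
  have hZ := PullbackFrame.isFrame_pullback q (isQCoh_of_rank hLZ') hy
  have key : ∀ a b, Comp hw σ V (H23.Frame.comb LX x (π ⁻¹ᵁ V) (π.preimage_mono hV) a)
      (H23.Frame.comb LZ' y (ι' ⁻¹ᵁ V) (ι'.preimage_mono hV) b) →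
      ∀ i, ι.app _ (a i) = q.appLE (ι' ⁻¹ᵁ V) _ hle (b i) := fun a b h i => by
    unfold Comp at h
    rw [PinchFF.pullSec_comb ι LX x _ a, PinchFF.pullSec_comb' q LZ' y _ hle b] at h
    refine congrFun ((hZ _ hU).1 (a₁ := fun k => ι.app (π ⁻¹ᵁ V) (a k))
      (a₂ := fun k => q.appLE (ι' ⁻¹ᵁ V) _ hle (b k)) (Eq.trans ?_ h)) i
    unfold H23.Frame.comb
    rw [map_sum]
    refine Finset.sum_congr rfl fun k _ => ?_
    rw [Scheme.Modules.Hom.app_smul, QCoh.map_app_comm, hc k,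
      ExistEasy.pullSec_res q LZ' (le_refl _) (ι.preimage_mono (π.preimage_mono hV)) (PinchFlat.preimage_le hw U) hU,
      ExistEasy.pullSec_res q LZ' (le_refl _) hU le_rfl hU]
  refine ⟨fun r r' e => funext fun i => ?_, fun t => ?_⟩
  · have e1 := congrFun ((hx _ _).1 ((hX r).symm.trans ((congrArg (secX hw σ) e).trans (hX r')))) i
    have e2 := congrFun ((hy _ _).1 ((hY r).symm.trans ((congrArg (secZ' hw σ) e).trans (hY r')))) i
    refine (PinchFlat.exists_unique_section hpo V (π.app V (r' i)) (ι'.app V (r' i)) ?_).unique ⟨e1, e2⟩ ⟨rfl, rfl⟩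
    exact (ι_π_app hw V (r' i)).symm
  · obtain ⟨a, ha⟩ := (hx _ (π.preimage_mono hV)).2 (secX hw σ t)
    obtain ⟨b, hb⟩ := (hy _ (ι'.preimage_mono hV)).2 (secZ' hw σ t)
    have hk := key a b (ha ▸ hb ▸ comp_sec hw σ t)
    choose r hr _hr' using fun i => PinchFlat.exists_unique_section hpo V (a i) (b i) (hk i)
    refine ⟨r, sec_injective hw σ _ _ ?_ ?_⟩
    · rw [hX, ← ha]; exact congrArg _ (funext fun i => (hr i).1)
    · rw [hY, ← hb]; exact congrArg _ (funext fun i => (hr i).2)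

theorem isIso_adjunct {Y W : Scheme.{u}} (g : Y ⟶ W) {M : W.Modules} {L : Y.Modules}
    (v : M ⟶ (Scheme.Modules.pushforward g).obj L) (hM : Coh.IsQCoh M)
    (h : ∀ w : W, ∃ (U : W.Opens) (s : Fin n → Γ(M, U)), w ∈ U ∧ H23.Frame.IsFrame M s ∧
      H23.Frame.IsFrame (n := n) L (U := g ⁻¹ᵁ U) (fun i => v.app U (s i))) :
    IsIso (((Scheme.Modules.pullbackPushforwardAdjunction g).homEquiv M L).symm v) := by
  refine QCoh.isIso_of_isBasis _ (B := {A | ∃ (U : W.Opens) (s : Fin n → Γ(M, U)), A ≤ g ⁻¹ᵁ U ∧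
    H23.Frame.IsFrame M s ∧ H23.Frame.IsFrame (n := n) L (U := g ⁻¹ᵁ U) (fun i => v.app U (s i))})
    (Opens.isBasis_iff_nbhd.2 fun {A y} hy => ?_) ?_
  · obtain ⟨U, s, hU, hs, hv⟩ := h (g y)
    exact ⟨A ⊓ g ⁻¹ᵁ U, ⟨U, s, inf_le_right, hs, hv⟩, ⟨hy, hU⟩, inf_le_left⟩
  · rintro A ⟨U, s, hA, hs, hv⟩
    let φ := ((Scheme.Modules.pullbackPushforwardAdjunction g).homEquiv M L).symm v
    have hP := (PullbackFrame.isFrame_pullback g hM hs) A hA
    refine (Function.Bijective.of_comp_iff _ hP).1 ?_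
    have e : φ.app A ∘ H23.Frame.comb _ (fun i => QCoh.pullSec g M le_rfl (s i)) A hA =
        H23.Frame.comb (n := n) L (U := g ⁻¹ᵁ U) (fun i => v.app U (s i)) A hA := by
      funext c
      simp only [Function.comp, H23.Frame.comb, map_sum]
      refine Finset.sum_congr rfl fun i _ => ?_
      rw [Scheme.Modules.Hom.app_smul, QCoh.map_app_comm, adjunct_pullSec g v le_rfl]
      exact congrArg (c i • ·) (congrArg (L.presheaf.map (homOfLE hA).op) (ConcreteCategory.congr_hom (L.presheaf.map_id _) _))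
    exact e ▸ hv A hA

include hLX hLZ' in
theorem exists_glued [IsClosedImmersion ι] [IsClosedImmersion ι'] [IsIntegralHom π]
    (hpo : IsPushout ((Scheme.forgetToLocallyRingedSpace ⋙ LocallyRingedSpace.forgetToSheafedSpace).map ι)
      ((Scheme.forgetToLocallyRingedSpace ⋙ LocallyRingedSpace.forgetToSheafedSpace).map q)
      ((Scheme.forgetToLocallyRingedSpace ⋙ LocallyRingedSpace.forgetToSheafedSpace).map π)
      ((Scheme.forgetToLocallyRingedSpace ⋙ LocallyRingedSpace.forgetToSheafedSpace).map ι')) :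
    ∃ (M : X'.Modules) (eX : (Scheme.Modules.pullback π).obj M ≅ LX)
      (eZ' : (Scheme.Modules.pullback ι').obj M ≅ LZ'),
      FlatMod.IsFinLocFreeOfRank n M ∧
      (Scheme.Modules.pullbackComp ι π).app M ≪≫ (Scheme.Modules.pullbackCongr hw).app M ≪≫
          ((Scheme.Modules.pullbackComp q ι').app M).symm ≪≫ (Scheme.Modules.pullback q).mapIso eZ' =
        (Scheme.Modules.pullback ι).mapIso eX ≪≫ σ := by
  have hloc : ∀ p : X', ∃ (U : X'.Opens) (s : Fin n → Γ(glue hw σ, U)), p ∈ U ∧ H23.Frame.IsFrame (glue hw σ) s ∧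
      H23.Frame.IsFrame LX (fun i => secX hw σ (s i)) ∧ H23.Frame.IsFrame LZ' (fun i => secZ' hw σ (s i)) := fun p => by
    obtain ⟨U, x, y, hp, hx, hy, hc⟩ := exists_compatible_frames hw σ hLX hLZ' hpo p
    obtain ⟨s, hs, h1, h2⟩ := exists_frame_glue hw σ hLX hLZ' hpo hx hy hc
    refine ⟨U, s, hp, hs, ?_, ?_⟩
    · rwa [show (fun i => secX hw σ (s i)) = x from funext h1]
    · rwa [show (fun i => secZ' hw σ (s i)) = y from funext h2]
  have hM : FlatMod.IsFinLocFreeOfRank n (glue hw σ) := fun p =>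
    let ⟨U, s, hp, hs, _⟩ := hloc p
    ⟨U, hp, H23.Frame.exists_iso_of_frame s hs⟩
  have hq := isQCoh_of_rank hM
  haveI := isIso_adjunct π (toX hw σ) hq (n := n) fun p =>
    let ⟨U, s, hp, hs, h1, _⟩ := hloc p
    ⟨U, s, hp, hs, h1⟩
  haveI := isIso_adjunct ι' (toZ' hw σ) hq (n := n) fun p =>
    let ⟨U, s, hp, hs, _, h2⟩ := hloc p
    ⟨U, s, hp, hs, h2⟩
  refine ⟨glue hw σ, asIso (((Scheme.Modules.pullbackPushforwardAdjunction π).homEquiv _ _).symm (toX hw σ)),
    asIso (((Scheme.Modules.pullbackPushforwardAdjunction ι').homEquiv _ _).symm (toZ' hw σ)), hM, Iso.ext ?_⟩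
  refine ext_pullSec₂ ι π _ _ fun V s => ?_
  have hle := PinchFlat.preimage_le hw V
  have h1 := PinchFF.xi_pullSec hw (glue hw σ) (V := V) (W := ι ⁻¹ᵁ π ⁻¹ᵁ V) le_rfl hle s
  show ((Scheme.Modules.pullback q).map (((Scheme.Modules.pullbackPushforwardAdjunction ι').homEquiv _ _).symm
      (toZ' hw σ))).app _ ((PinchFF.xi hw (glue hw σ)).hom.app _ _) =
    σ.hom.app _ (((Scheme.Modules.pullback ι).map (((Scheme.Modules.pullbackPushforwardAdjunction π).homEquiv _ _).symm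
      (toX hw σ))).app _ _)
  rw [h1, ExistEasy.pullSec_natural, ExistEasy.pullSec_natural, adjunct_pullSec ι' (toZ' hw σ) le_rfl,
    adjunct_pullSec π (toX hw σ) le_rfl]
  have i1 : ∀ (V : X.Opens) (z : Γ(LX, V)), LX.presheaf.map (homOfLE (le_refl V)).op z = z := fun V z =>
    ConcreteCategory.congr_hom (LX.presheaf.map_id _) z
  have i2 : ∀ (V : Z'.Opens) (z : Γ(LZ', V)), LZ'.presheaf.map (homOfLE (le_refl V)).op z = z := fun V z =>
    ConcreteCategory.congr_hom (LZ'.presheaf.map_id _) z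
  rw [i1, i2]
  exact (comp_sec hw σ s).symm

end Groth.Agent.RGLib.PinchGlue
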