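import Groth.Agent.RGLib.PinchFlat
import Groth.Agent.S17901
import Groth.Agent.AssLib.Push
import Mathlib

/-!
# Schematic dominance of pinching morphisms after base change
-/

set_option autoImplicit false
set_option linter.style.haveILetI false
set_option backward.isDefEq.respectTransparency false
set_option backward.isDefEq.respectTransparency.types false

open AlgebraicGeometry CategoryTheory CategoryTheory.Limits TopologicalSpace Opposite TensorProduct

namespace Groth.Agent.RGLib.PinchInj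

universe u

/-- A faithfully flat algebra stays injective after base change. -/
theorem map_injective_of_faithfullyFlat (R B A C : Type u) [CommRing R] [CommRing B] [CommRing A] [CommRing C]
    [Algebra R B] [Algebra B A] [Algebra R A] [IsScalarTower R B A] [Algebra R C] [Module.FaithfullyFlat B A] :
    Function.Injective (Algebra.TensorProduct.map (AlgHom.id R C) (IsScalarTower.toAlgHom R B A)) := by
  let e : A ⊗[B] (B ⊗[R] C) ≃ₗ[A] A ⊗[R] C := TensorProduct.AlgebraTensorModule.cancelBaseChange R B A A C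
  have hmk : Function.Injective (fun m : B ⊗[R] C => e ((1 : A) ⊗ₜ[B] m)) :=
    e.injective.comp (Module.FaithfullyFlat.tensorProduct_mk_injective (A := B) (B := A) (B ⊗[R] C))
  have key : ∀ x : C ⊗[R] B, Algebra.TensorProduct.comm R C A
      (Algebra.TensorProduct.map (AlgHom.id R C) (IsScalarTower.toAlgHom R B A) x) =
      e ((1 : A) ⊗ₜ[B] (Algebra.TensorProduct.comm R C B x)) := by
    intro x
    induction x using TensorProduct.induction_on with
    | zero => simp
    | tmul c b => simp [e, Algebra.smul_def]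
    | add x y hx hy => simp [map_add, TensorProduct.tmul_add, hx, hy]
  intro x y hxy
  apply (Algebra.TensorProduct.comm R C B).injective
  apply hmk
  show e _ = e _
  rw [← key, ← key, hxy]

/-- The pinching map stays injective on functions after base change. -/
theorem tensor_injective (R B' B A' A : Type u) [CommRing R] [CommRing B'] [CommRing B] [CommRing A'] [CommRing A]
    [Algebra B' B] [Algebra B' A'] [Algebra B A] [Algebra A' A] [Algebra B' A]
    [IsScalarTower B' B A] [IsScalarTower B' A' A]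
    [Algebra R B'] [Algebra R B] [Algebra R A'] [Algebra R A]
    [IsScalarTower R B' B] [IsScalarTower R B' A'] [IsScalarTower R B' A] [IsScalarTower R B A] [IsScalarTower R A' A]
    (hsq : EtMil.IsFibreSquare B' B A' A)
    [Module.Flat R B] [Module.Flat R A'] [Module.Flat R A] [Module.FaithfullyFlat B A]
    (C : Type u) [CommRing C] [Algebra R C] :
    Function.Injective (Algebra.TensorProduct.map (AlgHom.id R C) (IsScalarTower.toAlgHom R B' A')) := by
  rw [injective_iff_map_eq_zero]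
  intro z hz
  have hcomp : ∀ w : C ⊗[R] B',
      Algebra.TensorProduct.map (AlgHom.id R C) (IsScalarTower.toAlgHom R B A)
        (Algebra.TensorProduct.map (AlgHom.id R C) (IsScalarTower.toAlgHom R B' B) w) =
      Algebra.TensorProduct.map (AlgHom.id R C) (IsScalarTower.toAlgHom R A' A)
        (Algebra.TensorProduct.map (AlgHom.id R C) (IsScalarTower.toAlgHom R B' A') w) := by
    intro w
    induction w using TensorProduct.induction_on with
    | zero => simp
    | tmul c b =>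
      simp only [Algebra.TensorProduct.map_tmul, AlgHom.id_apply, IsScalarTower.toAlgHom_apply]
      rw [← IsScalarTower.algebraMap_apply, ← IsScalarTower.algebraMap_apply]
    | add x y hx hy => simp [map_add, hx, hy]
  have hB : Algebra.TensorProduct.map (AlgHom.id R C) (IsScalarTower.toAlgHom R B' B) z = 0 :=
    map_injective_of_faithfullyFlat R B A C (by rw [hcomp, hz, map_zero, map_zero])
  exact ((Groth.Agent.S17901.result R B' B A' A hsq C).2 0 0 (by rw [map_zero, map_zero])).unique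
    ⟨hB, hz⟩ ⟨map_zero _, map_zero _⟩

variable {S X Z Z' X' T : Scheme.{u}} {fX : X ⟶ S} {fZ' : Z' ⟶ S} {fX' : X' ⟶ S} {ι : Z ⟶ X} {q : Z ⟶ Z'}
  {π : X ⟶ X'} {ι' : Z' ⟶ X'} [IsClosedImmersion ι] [IsClosedImmersion ι'] [IsFinite q] [Flat q] [Surjective q]
  [IsAffineHom π]
  (hq : q ≫ fZ' = ι ≫ fX) (hπ : π ≫ fX' = fX) (hι' : ι' ≫ fX' = fZ')
  (hpo : IsPushout ((Scheme.forgetToLocallyRingedSpace ⋙ LocallyRingedSpace.forgetToSheafedSpace).map ι)
      ((Scheme.forgetToLocallyRingedSpace ⋙ LocallyRingedSpace.forgetToSheafedSpace).map q)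
      ((Scheme.forgetToLocallyRingedSpace ⋙ LocallyRingedSpace.forgetToSheafedSpace).map π)
      ((Scheme.forgetToLocallyRingedSpace ⋙ LocallyRingedSpace.forgetToSheafedSpace).map ι'))
  [Flat fX] [Flat (ι ≫ fX)] [Flat fZ'] (g : T ⟶ S)

/-- The base change of `π`. -/
noncomputable abbrev piT : pullback fX g ⟶ pullback fX' g :=
  pullback.lift (pullback.fst fX g ≫ π) (pullback.snd fX g) (by rw [Category.assoc, hπ, pullback.condition])

include hq hι' hpo in
theorem app_injective_affine {U : S.Opens} (hU : IsAffineOpen U) {V : X'.Opens} (hV : IsAffineOpen V)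
    (hVU : V ≤ fX' ⁻¹ᵁ U) {W : T.Opens} (hW : IsAffineOpen W) (hWU : W ≤ g ⁻¹ᵁ U) :
    Function.Injective ((piT hπ g).app (pullback.fst fX' g ⁻¹ᵁ V ⊓ pullback.snd fX' g ⁻¹ᵁ W)) := by
  have hw := PinchFlat.comm_of_isPushout hpo
  have e1 : π ⁻¹ᵁ V ≤ fX ⁻¹ᵁ U := fun x hx => by rw [← hπ]; exact hVU hx
  have e2 : ι' ⁻¹ᵁ V ≤ fZ' ⁻¹ᵁ U := fun x hx => by rw [← hι']; exact hVU hx
  have e3 : ι ⁻¹ᵁ π ⁻¹ᵁ V ≤ (ι ≫ fX) ⁻¹ᵁ U := fun x hx => e1 hx
  have hA' : IsAffineOpen (π ⁻¹ᵁ V) := hV.preimage π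
  have hB : IsAffineOpen (ι' ⁻¹ᵁ V) := hV.preimage ι'
  have hA : IsAffineOpen (ι ⁻¹ᵁ π ⁻¹ᵁ V) := hA'.preimage ι
  have h1 := fX.flat_appLE hU hA' e1
  have h2 := fZ'.flat_appLE hU hB e2
  have h3 := (ι ≫ fX).flat_appLE hU hA e3
  have hle : ι ⁻¹ᵁ π ⁻¹ᵁ V ≤ q ⁻¹ᵁ ι' ⁻¹ᵁ V := PinchFlat.preimage_le hw V
  have h4 := q.flat_appLE hB hA hle
  let B' := Γ(X', V)
  let B := Γ(Z', ι' ⁻¹ᵁ V)
  let A' := Γ(X, π ⁻¹ᵁ V)
  let A := Γ(Z, ι ⁻¹ᵁ π ⁻¹ᵁ V)
  let R := Γ(S, U)
  let C := Γ(T, W)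
  letI : Algebra B' B := (ι'.app V).hom.toAlgebra
  letI : Algebra B' A' := (π.app V).hom.toAlgebra
  letI : Algebra B A := (q.appLE (ι' ⁻¹ᵁ V) (ι ⁻¹ᵁ π ⁻¹ᵁ V) hle).hom.toAlgebra
  letI : Algebra A' A := (ι.app (π ⁻¹ᵁ V)).hom.toAlgebra
  letI : Algebra B' A := ((ι ≫ π).app V).hom.toAlgebra
  letI : Algebra R B' := (fX'.appLE U V hVU).hom.toAlgebra
  letI : Algebra R B := (fZ'.appLE U (ι' ⁻¹ᵁ V) e2).hom.toAlgebra
  letI : Algebra R A' := (fX.appLE U (π ⁻¹ᵁ V) e1).hom.toAlgebra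
  letI : Algebra R A := ((ι ≫ fX).appLE U (ι ⁻¹ᵁ π ⁻¹ᵁ V) e3).hom.toAlgebra
  letI : Algebra R C := (g.appLE U W hWU).hom.toAlgebra
  haveI : IsScalarTower B' B A := IsScalarTower.of_algebraMap_eq' (congrArg CommRingCat.Hom.hom (by
    rw [Scheme.Hom.app_eq_appLE, Scheme.Hom.app_eq_appLE, Scheme.Hom.appLE_comp_appLE]
    simp only [hw]
    rfl :
      (ι ≫ π).app V = ι'.app V ≫ q.appLE (ι' ⁻¹ᵁ V) (ι ⁻¹ᵁ π ⁻¹ᵁ V) hle))
  haveI : IsScalarTower B' A' A := IsScalarTower.of_algebraMap_eq' (congrArg CommRingCat.Hom.hom (Scheme.Hom.comp_app ι π V))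
  haveI : IsScalarTower R B' B := IsScalarTower.of_algebraMap_eq' (congrArg CommRingCat.Hom.hom (by
    rw [Scheme.Hom.app_eq_appLE, Scheme.Hom.appLE_comp_appLE]; simp only [hι'] :
      fZ'.appLE U (ι' ⁻¹ᵁ V) e2 = fX'.appLE U V hVU ≫ ι'.app V))
  haveI : IsScalarTower R B' A' := IsScalarTower.of_algebraMap_eq' (congrArg CommRingCat.Hom.hom (by
    rw [Scheme.Hom.app_eq_appLE, Scheme.Hom.appLE_comp_appLE]; simp only [hπ] :
      fX.appLE U (π ⁻¹ᵁ V) e1 = fX'.appLE U V hVU ≫ π.app V))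
  haveI : IsScalarTower R A' A := IsScalarTower.of_algebraMap_eq' (congrArg CommRingCat.Hom.hom (by
    rw [Scheme.Hom.app_eq_appLE, Scheme.Hom.appLE_comp_appLE] :
      (ι ≫ fX).appLE U (ι ⁻¹ᵁ π ⁻¹ᵁ V) e3 = fX.appLE U (π ⁻¹ᵁ V) e1 ≫ ι.app (π ⁻¹ᵁ V)))
  haveI : IsScalarTower R B A := IsScalarTower.of_algebraMap_eq' (congrArg CommRingCat.Hom.hom (by
    rw [Scheme.Hom.appLE_comp_appLE]; simp only [hq] :
      (ι ≫ fX).appLE U (ι ⁻¹ᵁ π ⁻¹ᵁ V) e3 = fZ'.appLE U (ι' ⁻¹ᵁ V) e2 ≫ q.appLE (ι' ⁻¹ᵁ V) (ι ⁻¹ᵁ π ⁻¹ᵁ V) hle))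
  haveI : IsScalarTower R B' A := IsScalarTower.of_algebraMap_eq fun r => by
    rw [IsScalarTower.algebraMap_apply R A' A, IsScalarTower.algebraMap_apply R B' A',
      ← IsScalarTower.algebraMap_apply B' A' A]
  haveI : Module.Flat R B := h2
  haveI : Module.Flat R A' := h1
  haveI : Module.Flat R A := h3
  haveI : Module.Flat B A := h4
  haveI : Module.FaithfullyFlat B A := by
    refine Module.FaithfullyFlat.of_comap_surjective fun P => ?_
    obtain ⟨y, hy, hyP⟩ : ∃ (y : Z') (hy : y ∈ ι' ⁻¹ᵁ V), hB.primeIdealOf ⟨y, hy⟩ = P := by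
      have hmem : hB.fromSpec P ∈ ι' ⁻¹ᵁ V := by
        have : hB.fromSpec P ∈ Set.range hB.fromSpec := ⟨P, rfl⟩
        rwa [hB.range_fromSpec] at this
      exact ⟨_, hmem, hB.fromSpec.isOpenEmbedding.injective (hB.fromSpec_primeIdealOf ⟨_, hmem⟩)⟩
    obtain ⟨z, rfl⟩ := q.surjective y
    have hz : z ∈ ι ⁻¹ᵁ π ⁻¹ᵁ V := by
      rw [← Scheme.Hom.comp_preimage, hw]
      exact hy
    exact ⟨hA.primeIdealOf ⟨z, hz⟩, (PrimeSpectrum.ext (AssLib.comap_primeIdealOf q hB hA hle hz)).trans hyP⟩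
  have hsq : EtMil.IsFibreSquare B' B A' A := ⟨ι.app_surjective _ hA', fun b a' hba => by
    obtain ⟨y, ⟨hy1, hy2⟩, hy3⟩ := PinchFlat.exists_unique_section hpo V a' b hba.symm
    exact ⟨y, ⟨hy2, hy1⟩, fun y' hy' => hy3 y' ⟨hy'.2, hy'.1⟩⟩⟩
  have hinj := tensor_injective R B' B A' A hsq C
  -- the two base changed affine opens
  let W' := pullback.fst fX' g ⁻¹ᵁ V ⊓ pullback.snd fX' g ⁻¹ᵁ W
  have hW'' : piT hπ g ⁻¹ᵁ W' = pullback.fst fX g ⁻¹ᵁ (π ⁻¹ᵁ V) ⊓ pullback.snd fX g ⁻¹ᵁ W := by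
    simp only [W', Scheme.Hom.preimage_inf, ← Scheme.Hom.comp_preimage, pullback.lift_fst, pullback.lift_snd]
  haveI := isIso_pushoutSection_of_isAffineOpen (IsPullback.of_hasPullback fX' g) hWU hVU
    (show W' = _ from rfl) hU hW hV
  have P1 := (isIso_pushoutSection_iff (IsPullback.of_hasPullback fX' g) hWU hVU
    (show W' = _ from rfl)).1 inferInstance
  haveI := isIso_pushoutSection_of_isAffineOpen (IsPullback.of_hasPullback fX g) hWU e1
    hW'' hU hW hA'
  have P2 := (isIso_pushoutSection_iff (IsPullback.of_hasPullback fX g) hWU e1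
    hW'').1 inferInstance
  have Q1 : IsPushout (fX'.appLE U V hVU) (g.appLE U W hWU)
      (CommRingCat.ofHom (Algebra.TensorProduct.includeRight : B' →ₐ[R] C ⊗[R] B').toRingHom)
      (CommRingCat.ofHom (S := C ⊗[R] B') Algebra.TensorProduct.includeLeftRingHom) :=
    (CommRingCat.isPushout_tensorProduct R C B').flip
  have Q2 : IsPushout (fX.appLE U (π ⁻¹ᵁ V) e1) (g.appLE U W hWU)
      (CommRingCat.ofHom (Algebra.TensorProduct.includeRight : A' →ₐ[R] C ⊗[R] A').toRingHom)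
      (CommRingCat.ofHom (S := C ⊗[R] A') Algebra.TensorProduct.includeLeftRingHom) :=
    (CommRingCat.isPushout_tensorProduct R C A').flip
  let ψ := Q1.isoIsPushout _ _ P1
  let φ := Q2.isoIsPushout _ _ P2
  have hnat : ψ.hom ≫ (piT hπ g).app W' =
      CommRingCat.ofHom (Algebra.TensorProduct.map (AlgHom.id R C) (IsScalarTower.toAlgHom R B' A')).toRingHom ≫ φ.hom := by
    refine Q1.hom_ext ?_ ?_
    · rw [IsPushout.inl_isoIsPushout_hom_assoc, ← Category.assoc,
        show CommRingCat.ofHom (Algebra.TensorProduct.includeRight : B' →ₐ[R] C ⊗[R] B').toRingHom ≫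
          CommRingCat.ofHom (Algebra.TensorProduct.map (AlgHom.id R C) (IsScalarTower.toAlgHom R B' A')).toRingHom =
          π.app V ≫ CommRingCat.ofHom (Algebra.TensorProduct.includeRight : A' →ₐ[R] C ⊗[R] A').toRingHom from by
            ext b
            show Algebra.TensorProduct.map _ _ ((1 : C) ⊗ₜ b) = (1 : C) ⊗ₜ π.app V b
            rw [Algebra.TensorProduct.map_tmul]
            rfl,
        Category.assoc, IsPushout.inl_isoIsPushout_hom, Scheme.Hom.app_eq_appLE, Scheme.Hom.app_eq_appLE,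
        Scheme.Hom.appLE_comp_appLE, Scheme.Hom.appLE_comp_appLE]
      simp only [pullback.lift_fst]
    · rw [IsPushout.inr_isoIsPushout_hom_assoc, ← Category.assoc,
        show CommRingCat.ofHom (S := C ⊗[R] B') Algebra.TensorProduct.includeLeftRingHom ≫
          CommRingCat.ofHom (Algebra.TensorProduct.map (AlgHom.id R C) (IsScalarTower.toAlgHom R B' A')).toRingHom =
          CommRingCat.ofHom (S := C ⊗[R] A') Algebra.TensorProduct.includeLeftRingHom from by
            ext c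
            show Algebra.TensorProduct.map _ _ (c ⊗ₜ (1 : B')) = c ⊗ₜ (1 : A')
            rw [Algebra.TensorProduct.map_tmul, map_one]
            rfl,
        IsPushout.inr_isoIsPushout_hom, Scheme.Hom.app_eq_appLE, Scheme.Hom.appLE_comp_appLE]
      simp only [pullback.lift_snd]
  intro a b hab
  obtain ⟨a, rfl⟩ := (ConcreteCategory.bijective_of_isIso ψ.hom).2 a
  obtain ⟨b, rfl⟩ := (ConcreteCategory.bijective_of_isIso ψ.hom).2 b
  refine congrArg _ (hinj ((ConcreteCategory.bijective_of_isIso φ.hom).1 ?_))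
  exact (ConcreteCategory.congr_hom hnat a).symm.trans (hab.trans (ConcreteCategory.congr_hom hnat b))

include hq hι' hpo in
theorem app_injective (O : (pullback fX' g).Opens) : Function.Injective ((piT hπ g).app O) := by
  rw [injective_iff_map_eq_zero]
  intro s hs
  refine TopCat.Presheaf.section_ext (pullback fX' g).sheaf _ _ _ fun x hx => ?_
  show (pullback fX' g).presheaf.germ O x hx s = (pullback fX' g).presheaf.germ O x hx 0
  rw [map_zero]
  obtain ⟨U, hU, hxU, -⟩ := exists_isAffineOpen_mem_and_subset (x := fX' (pullback.fst fX' g x)) (U := ⊤) trivial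
  obtain ⟨V, hV, hxV, hVU⟩ := exists_isAffineOpen_mem_and_subset (x := pullback.fst fX' g x) (U := fX' ⁻¹ᵁ U) hxU
  have hxU' : g (pullback.snd fX' g x) ∈ U := by
    rw [← Scheme.Hom.comp_apply, ← pullback.condition, Scheme.Hom.comp_apply]; exact hxU
  obtain ⟨W, hW, hxW, hWU⟩ := exists_isAffineOpen_mem_and_subset (x := pullback.snd fX' g x) (U := g ⁻¹ᵁ U) hxU'
  let W' := pullback.fst fX' g ⁻¹ᵁ V ⊓ pullback.snd fX' g ⁻¹ᵁ W
  have hinj := app_injective_affine hq hπ hι' hpo g hU hV hVU hW hWU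
  have hW' : IsAffineOpen W' := by
    haveI : IsAffine _ := hU
    haveI : IsAffine _ := hV
    haveI : IsAffine _ := hW
    exact .of_isIso (Scheme.Hom.isPullback_resLE (IsPullback.of_hasPullback fX' g) hWU hVU rfl).isoPullback.hom
  have hW'' : IsAffineOpen (piT hπ g ⁻¹ᵁ W') := by
    rw [show piT hπ g ⁻¹ᵁ W' = pullback.fst fX g ⁻¹ᵁ (π ⁻¹ᵁ V) ⊓ pullback.snd fX g ⁻¹ᵁ W by
      simp only [W', Scheme.Hom.preimage_inf, ← Scheme.Hom.comp_preimage, pullback.lift_fst, pullback.lift_snd]]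
    have e1 : π ⁻¹ᵁ V ≤ fX ⁻¹ᵁ U := fun z hz => by rw [← hπ]; exact hVU hz
    haveI : IsAffine _ := hU
    haveI : IsAffine _ := hV.preimage π
    haveI : IsAffine _ := hW
    exact .of_isIso (Scheme.Hom.isPullback_resLE (IsPullback.of_hasPullback fX g) hWU e1 rfl).isoPullback.hom
  obtain ⟨r, hrle, hxr⟩ := hW'.exists_basicOpen_le (V := O) ⟨x, hx⟩ (show x ∈ W' from ⟨hxV, hxW⟩)
  rw [← (pullback fX' g).presheaf.germ_res_apply (homOfLE hrle) x hxr s]
  haveI := hW'.isLocalization_basicOpen r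
  obtain ⟨⟨a, ⟨_, n, rfl⟩⟩, ha⟩ := IsLocalization.surj (Submonoid.powers r)
    ((pullback fX' g).presheaf.map (homOfLE hrle).op s)
  change (pullback fX' g).presheaf.map (homOfLE hrle).op s *
    (pullback fX' g).presheaf.map (homOfLE ((pullback fX' g).basicOpen_le r)).op (r ^ n) =
    (pullback fX' g).presheaf.map (homOfLE ((pullback fX' g).basicOpen_le r)).op a at ha
  have h0 : (piT hπ g).app _ ((pullback fX' g).presheaf.map (homOfLE ((pullback fX' g).basicOpen_le r)).op a) = 0 := by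
    rw [← ha, map_mul, ← CommRingCat.comp_apply, Scheme.Hom.naturality, CommRingCat.comp_apply, hs, map_zero, zero_mul]
  rw [← CommRingCat.comp_apply, Scheme.Hom.naturality, CommRingCat.comp_apply] at h0
  haveI := hW''.isLocalization_basicOpen ((piT hπ g).app W' r)
  have h0' : algebraMap Γ(pullback fX g, piT hπ g ⁻¹ᵁ W')
      Γ(pullback fX g, (pullback fX g).basicOpen ((piT hπ g).app W' r)) ((piT hπ g).app W' a) = 0 := by
    have h0'' := congrArg ((pullback fX g).presheaf.map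
      (homOfLE (Scheme.preimage_basicOpen (piT hπ g) r).ge).op) h0
    rw [map_zero, ← CommRingCat.comp_apply, ← Functor.map_comp] at h0''
    exact h0''
  obtain ⟨⟨_, N, rfl⟩, hN⟩ := (IsLocalization.map_eq_zero_iff
    (Submonoid.powers ((piT hπ g).app W' r)) _ _).1 h0'
  have hra : r ^ N * a = 0 := hinj (by rw [map_mul, map_pow, map_zero]; exact hN)
  have hu : IsUnit ((pullback fX' g).presheaf.germ W' x ⟨hxV, hxW⟩ r) :=
    ((pullback fX' g).mem_basicOpen r x ⟨hxV, hxW⟩).1 hxr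
  have h5 := congrArg ((pullback fX' g).presheaf.germ _ x hxr) ha
  rw [map_mul, (pullback fX' g).presheaf.germ_res_apply (homOfLE ((pullback fX' g).basicOpen_le r)) x hxr,
    (pullback fX' g).presheaf.germ_res_apply (homOfLE ((pullback fX' g).basicOpen_le r)) x hxr] at h5
  have h6 := congrArg ((pullback fX' g).presheaf.germ W' x ⟨hxV, hxW⟩) hra
  rw [map_mul, map_pow, map_zero, (hu.pow N).mul_right_eq_zero] at h6
  erw [h6] at h5
  rw [map_pow] at h5
  exact (hu.pow n).mul_left_eq_zero.1 h5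

include hq hπ hι' hpo in
theorem isIso_app (hX : ∀ (T : Scheme.{u}) (g : T ⟶ S) (U : T.Opens), IsIso ((pullback.snd fX g).app U))
    (U : T.Opens) : IsIso ((pullback.snd fX' g).app U) := by
  refine (ConcreteCategory.isIso_iff_bijective _).2 ?_
  haveI := hX T g U
  have hb := ConcreteCategory.bijective_of_isIso ((pullback.snd fX g).app U)
  have hinj := app_injective hq hπ hι' hpo g (pullback.snd fX' g ⁻¹ᵁ U)
  have hb' : Function.Bijective (((pullback.snd fX' g).app U ≫ (piT hπ g).app _ :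
      Γ(T, U) ⟶ Γ(pullback fX g, (piT hπ g ≫ pullback.snd fX' g) ⁻¹ᵁ U))) := by
    rw [← Scheme.Hom.comp_app]
    have e : piT hπ g ≫ pullback.snd fX' g = pullback.snd fX g := pullback.lift_snd _ _ _
    rw [Scheme.Hom.congr_app e]
    exact (ConcreteCategory.bijective_of_isIso ((pullback fX g).presheaf.map _)).comp hb
  exact ⟨fun a b h => hb'.1 (congrArg ((piT hπ g).app _) h), fun y => by
    obtain ⟨x, hx⟩ := hb'.2 ((piT hπ g).app _ y)
    exact ⟨x, hinj hx⟩⟩

end Groth.Agent.RGLib.PinchInj
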