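import Mathlib

/-!
# Sections over a pushout of ringed spaces
-/

set_option autoImplicit false
set_option linter.style.haveILetI false
set_option backward.isDefEq.respectTransparency false
set_option backward.isDefEq.respectTransparency.types false

open AlgebraicGeometry CategoryTheory CategoryTheory.Limits TopologicalSpace Opposite

namespace Groth.Agent.RGLib.PushoutSections

universe u

variable {A₀ A₁ A₂ P : PresheafedSpace.{_, _, u} CommRingCat.{u}} {a : A₀ ⟶ A₁} {b : A₀ ⟶ A₂} {p₁ : A₁ ⟶ P}
  {p₂ : A₂ ⟶ P}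

theorem congr_sec {A B : PresheafedSpace.{_, _, u} CommRingCat.{u}} {f g : A ⟶ B} (h : f = g) (U : Opens B.carrier)
    (W : Opens A.carrier) (hf : W ≤ (Opens.map f.base).obj U) (hg : W ≤ (Opens.map g.base).obj U)
    (y : B.presheaf.obj (op U)) :
    A.presheaf.map (homOfLE hf).op (f.c.app (op U) y) = A.presheaf.map (homOfLE hg).op (g.c.app (op U) y) := by
  subst h; rfl

theorem exists_unique_section (h : IsPushout a b p₁ p₂) (V : Opens P.carrier)
    (hV : (Opens.map a.base).obj ((Opens.map p₁.base).obj V) ≤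
      (Opens.map b.base).obj ((Opens.map p₂.base).obj V))
    (x : A₁.presheaf.obj (op ((Opens.map p₁.base).obj V)))
    (z : A₂.presheaf.obj (op ((Opens.map p₂.base).obj V)))
    (hxz : a.c.app _ x = A₀.presheaf.map (homOfLE hV).op (b.c.app _ z)) :
    ∃! y : P.presheaf.obj (op V), p₁.c.app _ y = x ∧ p₂.c.app _ y = z := by
  let F : WalkingSpan ⥤ PresheafedSpace.{_, _, u} CommRingCat.{u} := span a b
  let e : colimit F ≅ P := colimit.isoColimitCocone ⟨h.cocone, h.isColimit⟩
  have e1 : colimit.ι F WalkingSpan.left ≫ e.hom = p₁ := colimit.isoColimitCocone_ι_hom _ _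
  have e2 : colimit.ι F WalkingSpan.right ≫ e.hom = p₂ := colimit.isoColimitCocone_ι_hom _ _
  let W : Opens (colimit F).carrier := (Opens.map e.hom.base).obj V
  have hW1 : (Opens.map (colimit.ι F WalkingSpan.left).base).obj W = (Opens.map p₁.base).obj V :=
    congrArg (fun f : A₁ ⟶ P => (Opens.map f.base).obj V) e1
  have hW2 : (Opens.map (colimit.ι F WalkingSpan.right).base).obj W = (Opens.map p₂.base).obj V :=
    congrArg (fun f : A₂ ⟶ P => (Opens.map f.base).obj V) e2
  let D := PresheafedSpace.componentwiseDiagram F W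
  let Φ := PresheafedSpace.colimitPresheafObjIsoComponentwiseLimit F W
  have hΦ : ∀ (j : WalkingSpan) (y : (colimit F).presheaf.obj (op W)),
      limit.π D (op j) (Φ.hom y) = (colimit.ι F j).c.app (op W) y := fun j y =>
    ConcreteCategory.congr_hom (PresheafedSpace.colimitPresheafObjIsoComponentwiseLimit_hom_π F W j) y
  let E : P.presheaf.obj (op V) → (limit D :) := fun y => Φ.hom (e.hom.c.app (op V) y)
  haveI : IsIso e.hom.c := PresheafedSpace.c_isIso_of_iso e.hom
  have hbij : Function.Bijective E :=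
    (ConcreteCategory.bijective_of_isIso Φ.hom).comp (ConcreteCategory.bijective_of_isIso (e.hom.c.app (op V)))
  have h1 : ∀ y, limit.π D (op WalkingSpan.left) (E y) = A₁.presheaf.map (eqToHom hW1).op (p₁.c.app _ y) := fun y => by
    rw [hΦ]
    refine Eq.trans ?_ (congr_sec e1 V _ le_rfl hW1.le y)
    exact (ConcreteCategory.congr_hom (A₁.presheaf.map_id _) _).symm
  have h2 : ∀ y, limit.π D (op WalkingSpan.right) (E y) = A₂.presheaf.map (eqToHom hW2).op (p₂.c.app _ y) := fun y => by
    rw [hΦ]
    refine Eq.trans ?_ (congr_sec e2 V _ le_rfl hW2.le y)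
    exact (ConcreteCategory.congr_hom (A₂.presheaf.map_id _) _).symm
  let x' : D.obj (op WalkingSpan.left) := A₁.presheaf.map (eqToHom hW1).op x
  let z' : D.obj (op WalkingSpan.right) := A₂.presheaf.map (eqToHom hW2).op z
  have hcompat : D.map (WalkingSpan.Hom.fst).op x' = D.map (WalkingSpan.Hom.snd).op z' := by
    show A₀.presheaf.map _ (a.c.app _ (A₁.presheaf.map (eqToHom hW1).op x)) =
      A₀.presheaf.map _ (b.c.app _ (A₂.presheaf.map (eqToHom hW2).op z))
    rw [NatTrans.naturality_apply, NatTrans.naturality_apply, hxz]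
    show A₀.presheaf.map _ (A₀.presheaf.map _ (A₀.presheaf.map _ _)) = A₀.presheaf.map _ (A₀.presheaf.map _ _)
    simp only [← CategoryTheory.comp_apply, ← Functor.map_comp]
    rfl
  obtain ⟨L, hL⟩ : ∃ L : (limit D :), limit.π D (op WalkingSpan.left) L = x' ∧
      limit.π D (op WalkingSpan.right) L = z' := by
    let fam : ∀ j : WalkingSpanᵒᵖ, (D ⋙ forget CommRingCat.{u}).obj j := fun j =>
      match j with
      | ⟨none⟩ => D.map (WalkingSpan.Hom.fst).op x'
      | ⟨some WalkingPair.left⟩ => x'
      | ⟨some WalkingPair.right⟩ => z'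
    have hfam : fam ∈ (D ⋙ forget CommRingCat.{u}).sections := by
      rintro ⟨j⟩ ⟨k⟩ ⟨f⟩
      change WidePushoutShape.Hom k j at f
      cases f with
      | id => exact ConcreteCategory.congr_hom (D.map_id _) _
      | init l =>
        cases l with
        | left => rfl
        | right => exact hcompat.symm
    let hl := isLimitOfPreserves (forget CommRingCat.{u}) (limit.isLimit D)
    refine ⟨(Types.isLimitEquivSections hl).symm ⟨fam, hfam⟩, ?_, ?_⟩
    · exact Types.isLimitEquivSections_symm_apply hl ⟨fam, hfam⟩ (op WalkingSpan.left)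
    · exact Types.isLimitEquivSections_symm_apply hl ⟨fam, hfam⟩ (op WalkingSpan.right)
  obtain ⟨y, hy⟩ := hbij.2 L
  have inj1 := (ConcreteCategory.bijective_of_isIso (A₁.presheaf.map (eqToHom hW1).op)).1
  have inj2 := (ConcreteCategory.bijective_of_isIso (A₂.presheaf.map (eqToHom hW2).op)).1
  refine ⟨y, ⟨inj1 ((h1 y).symm.trans (hy ▸ hL.1)), inj2 ((h2 y).symm.trans (hy ▸ hL.2))⟩, fun y' hy' => hbij.1 ?_⟩
  refine Concrete.limit_ext D _ _ fun j => ?_
  have hl : limit.π D (op WalkingSpan.left) (E y') = limit.π D (op WalkingSpan.left) (E y) := by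
    rw [h1, hy'.1, hy, hL.1]
  obtain ⟨j⟩ := j
  rcases j with _ | (_ | _)
  · rw [← limit.w D (WalkingSpan.Hom.fst).op]
    exact congrArg (D.map (WalkingSpan.Hom.fst).op) hl
  · exact hl
  · show limit.π D (op WalkingSpan.right) (E y') = limit.π D (op WalkingSpan.right) (E y)
    rw [h2, hy'.2, hy, hL.2]

end Groth.Agent.RGLib.PushoutSections
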