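import Mathlib
import Groth.Agent.RingPO.BaseChange
import Groth.Agent.RingPO.Open
import Groth.Agent.RingPO.Sep
import Groth.Agent.RGLib.PushoutSections
import Groth.Agent.RGLib.PinchFlat

/-!
# Pushouts of schemes along closed immersions with affine legs are pushouts of ringed spaces
-/

set_option autoImplicit false
set_option linter.style.haveILetI false
set_option backward.isDefEq.respectTransparency false
set_option backward.isDefEq.respectTransparency.types false

open AlgebraicGeometry CategoryTheory CategoryTheory.Limits TopologicalSpace Opposite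

namespace Groth.Agent.RGLib.PinchRinged

open RingPO

universe u

theorem app_res {A B : Scheme.{u}} (f : A ⟶ B) {U U' : B.Opens} (h : U' ≤ U) (y : Γ(B, U)) :
    f.app U' (B.presheaf.map (homOfLE h).op y) =
      A.presheaf.map (homOfLE (f.preimage_mono h)).op (f.app U y) :=
  ConcreteCategory.congr_hom (f.naturality (homOfLE h).op) y

variable {X Y Z P : Scheme.{u}} {i : Z ⟶ X} {j : Z ⟶ Y} {a : X ⟶ P} {b : Y ⟶ P} [IsClosedImmersion i]
  [IsAffineHom a] [IsAffineHom b]

section Points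

variable (h : IsPushout i j a b) {U : P.Opens} (hU : IsAffineOpen U)

omit [IsClosedImmersion i] [IsAffineHom b] in
theorem map_fromSpec_fst (s : Spec Γ(X, a ⁻¹ᵁ U)) :
    a ((hU.preimage a).fromSpec s) = hU.fromSpec (PrimeSpectrum.comap (a.appLE U (a ⁻¹ᵁ U) le_rfl).hom s) :=
  congr($(hU.SpecMap_appLE_fromSpec a (hU.preimage a) le_rfl) s).symm

omit [IsClosedImmersion i] [IsAffineHom a] in
theorem map_fromSpec_snd (s : Spec Γ(Y, b ⁻¹ᵁ U)) :
    b ((hU.preimage b).fromSpec s) = hU.fromSpec (PrimeSpectrum.comap (b.appLE U (b ⁻¹ᵁ U) le_rfl).hom s) :=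
  congr($(hU.SpecMap_appLE_fromSpec b (hU.preimage b) le_rfl) s).symm

end Points

theorem eq_or_of_map_eq (h : IsPushout i j a b) {x x' : X} (e : a x = a x') :
    x = x' ∨ ∃ z z', i z = x ∧ i z' = x' ∧ j z = j z' := by
  have hY := chart_of_affineHom h.w
  obtain ⟨U, hU, hxU, -⟩ := exists_isAffineOpen_mem_and_subset (x := a x) (U := (⊤ : P.Opens)) trivial
  have hF := isFibreProd_of_affineOpen h hY hU
  set c := chartOver h hU
  obtain ⟨s, rfl⟩ : x ∈ Set.range (hU.preimage a).fromSpec := (hU.preimage a).range_fromSpec.ge hxU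
  obtain ⟨s', rfl⟩ : x' ∈ Set.range (hU.preimage a).fromSpec :=
    (hU.preimage a).range_fromSpec.ge (show a x' ∈ U by rw [← e]; exact hxU)
  rw [map_fromSpec_fst hU, map_fromSpec_fst hU] at e
  rcases hF.fib_or (hU.fromSpec.isOpenEmbedding.injective e) with h' | ⟨t, t', ht, ht', htq⟩
  · exact Or.inl (congrArg _ h')
  · refine Or.inr ⟨(c.hU.preimage i).fromSpec t, (c.hU.preimage i).fromSpec t', ?_, ?_, ?_⟩
    · rw [← Chart.fromSpec_comap_p c t, ht]; rfl
    · rw [← Chart.fromSpec_comap_p c t', ht']; rfl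
    · rw [← Chart.fromSpec_comap_q c t, ← Chart.fromSpec_comap_q c t', htq]

theorem exists_of_map_eq (h : IsPushout i j a b) {x : X} {y : Y} (e : a x = b y) :
    ∃ z, i z = x ∧ j z = y := by
  have hY := chart_of_affineHom h.w
  obtain ⟨U, hU, hxU, -⟩ := exists_isAffineOpen_mem_and_subset (x := a x) (U := (⊤ : P.Opens)) trivial
  have hF := isFibreProd_of_affineOpen h hY hU
  set c := chartOver h hU
  obtain ⟨s, rfl⟩ : x ∈ Set.range (hU.preimage a).fromSpec := (hU.preimage a).range_fromSpec.ge hxU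
  obtain ⟨s', rfl⟩ : y ∈ Set.range (hU.preimage b).fromSpec :=
    (hU.preimage b).range_fromSpec.ge (show b y ∈ U by rw [← e]; exact hxU)
  rw [map_fromSpec_fst hU, map_fromSpec_snd hU] at e
  obtain ⟨t, ht, ht'⟩ := hF.exists_of_comap_eq (hU.fromSpec.isOpenEmbedding.injective e)
  refine ⟨(c.hU.preimage i).fromSpec t, ?_, ?_⟩
  · rw [← Chart.fromSpec_comap_p c t, ht]; rfl
  · rw [← Chart.fromSpec_comap_q c t, ht']; rfl

theorem isOpen_of_preimages (h : IsPushout i j a b) {S : Set P} (ha : IsOpen (a ⁻¹' S))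
    (hb : IsOpen (b ⁻¹' S)) : IsOpen S := by
  refine isOpen_iff_forall_mem_open.2 fun x hx => ?_
  have hY := chart_of_affineHom h.w
  obtain ⟨U, hU, hxU, -⟩ := exists_isAffineOpen_mem_and_subset (x := x) (U := (⊤ : P.Opens)) trivial
  have hF := isFibreProd_of_affineOpen h hY hU
  set c := chartOver h hU
  obtain ⟨s₀, rfl⟩ : x ∈ Set.range hU.fromSpec := hU.range_fromSpec.ge hxU
  obtain ⟨e, hPe, heA, heB⟩ := hF.exists_basic (U' := (hU.preimage a).fromSpec ⁻¹' (a ⁻¹' S))
    (V' := (hU.preimage b).fromSpec ⁻¹' (b ⁻¹' S)) (P := s₀)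
    (ha.preimage (hU.preimage a).fromSpec.continuous) (hb.preimage (hU.preimage b).fromSpec.continuous)
    (fun t => by
      show a (c.hU.fromSpec _) ∈ S ↔ b (c.hV.fromSpec _) ∈ S
      rw [Chart.fromSpec_comap_p c t, Chart.fromSpec_comap_q c t, ← Scheme.Hom.comp_apply, h.w]
      rfl)
    (fun s hs => by
      show a ((hU.preimage a).fromSpec s) ∈ S
      rw [map_fromSpec_fst hU, hs]; exact hx)
    (fun s hs => by
      show b ((hU.preimage b).fromSpec s) ∈ S
      rw [map_fromSpec_snd hU, hs]; exact hx)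
  refine ⟨hU.fromSpec '' (PrimeSpectrum.basicOpen e : Set (PrimeSpectrum Γ(P, U))), ?_,
    hU.fromSpec.isOpenEmbedding.isOpenMap _ (PrimeSpectrum.basicOpen e).isOpen, ?_⟩
  swap
  · exact ⟨s₀, hPe, rfl⟩
  rintro _ ⟨w, hw, rfl⟩
  rcases hF.exists_preimage w with ⟨s, rfl⟩ | ⟨s, rfl⟩
  · have := heB hw
    rwa [Set.mem_preimage, Set.mem_preimage, map_fromSpec_snd hU] at this
  · have := heA hw
    rwa [Set.mem_preimage, Set.mem_preimage, map_fromSpec_fst hU] at this

/-- The underlying square of spaces is a pushout. -/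
theorem isPushout_base (h : IsPushout i j a b) : IsPushout i.base j.base a.base b.base := by
  have hY := chart_of_affineHom h.w
  have hb : Function.Injective b := (isClosedImmersion_inr h hY).base_closed.injective
  have hjs : ∀ x : P, x ∈ Set.range a ∪ Set.range b := exists_preimage_point h hY
  have hex : ∀ s : PushoutCocone i.base j.base, ∃ k : (P : TopCat) ⟶ s.pt, a.base ≫ k = s.inl ∧ b.base ≫ k = s.inr := by
    intro s
    have hs : ∀ z, s.inl (i z) = s.inr (j z) := fun z => ConcreteCategory.congr_hom s.condition z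
    have hwd : ∀ p : P, ∃ t, (∀ x, a x = p → s.inl x = t) ∧ (∀ y, b y = p → s.inr y = t) := by
      intro p
      rcases hjs p with ⟨x, rfl⟩ | ⟨y, rfl⟩
      · refine ⟨s.inl x, fun x' hx' => ?_, fun y hy => ?_⟩
        · rcases eq_or_of_map_eq h hx' with rfl | ⟨z, z', hz, hz', hzz⟩
          · rfl
          · rw [← hz, ← hz', hs, hs, hzz]
        · obtain ⟨z, hz, hz'⟩ := exists_of_map_eq h hy.symm
          rw [← hz, ← hz', hs]
      · refine ⟨s.inr y, fun x hx => ?_, fun y' hy => by rw [hb hy]⟩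
        obtain ⟨z, hz, hz'⟩ := exists_of_map_eq h hx
        rw [← hz, ← hz', hs]
    choose d hd1 hd2 using hwd
    refine ⟨TopCat.ofHom ⟨d, ⟨fun W hW => isOpen_of_preimages h ?_ ?_⟩⟩, ?_, ?_⟩
    · rw [← Set.preimage_comp, show d ∘ (a : X → P) = s.inl from funext fun x => (hd1 (a x) x rfl).symm]
      exact hW.preimage s.inl.hom.continuous
    · rw [← Set.preimage_comp, show d ∘ (b : Y → P) = s.inr from funext fun y => (hd2 (b y) y rfl).symm]
      exact hW.preimage s.inr.hom.continuous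
    · ext x; exact (hd1 (a x) x rfl).symm
    · ext y; exact (hd2 (b y) y rfl).symm
  choose d hd1 hd2 using hex
  refine ⟨⟨by rw [← Scheme.Hom.comp_base, ← Scheme.Hom.comp_base, h.w]⟩,
    ⟨PushoutCocone.IsColimit.mk _ d hd1 hd2 fun s m hm1 hm2 => ?_⟩⟩
  ext p
  rcases hjs p with ⟨x, rfl⟩ | ⟨y, rfl⟩
  · exact (ConcreteCategory.congr_hom hm1 x).trans (ConcreteCategory.congr_hom (hd1 s) x).symm
  · exact (ConcreteCategory.congr_hom hm2 y).trans (ConcreteCategory.congr_hom (hd2 s) y).symm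

theorem existsUnique_affine (h : IsPushout i j a b) {U : P.Opens} (hU : IsAffineOpen U)
    (hle : i ⁻¹ᵁ a ⁻¹ᵁ U ≤ j ⁻¹ᵁ b ⁻¹ᵁ U) (x : Γ(X, a ⁻¹ᵁ U)) (z : Γ(Y, b ⁻¹ᵁ U))
    (hxz : i.app _ x = j.appLE _ _ hle z) : ∃! y : Γ(P, U), a.app U y = x ∧ b.app U y = z := by
  have hF := isFibreProd_of_affineOpen h (chart_of_affineHom h.w) hU
  simp only [Scheme.Hom.app_eq_appLE] at hxz ⊢
  obtain ⟨y, hy₁, hy₂⟩ := hF.exists_of_eq z x hxz
  exact ⟨y, ⟨hy₁, hy₂⟩, fun y' hy' => hF.ext _ _ (hy'.1.trans hy₁.symm) (hy'.2.trans hy₂.symm)⟩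

theorem eq_of_app_eq (h : IsPushout i j a b) (V : P.Opens) (y y' : Γ(P, V))
    (ha : a.app V y = a.app V y') (hb : b.app V y = b.app V y') : y = y' := by
  refine P.sheaf.eq_of_locally_eq' (fun U : {U : P.affineOpens // U.1 ≤ V} => U.1.1) V
    (fun U => homOfLE U.2) ?_ y y' fun ⟨⟨U, hU⟩, hUV⟩ => ?_
  · intro p hp
    obtain ⟨U, hU, hpU, hUV⟩ := exists_isAffineOpen_mem_and_subset (x := p) (U := V) hp
    exact Opens.mem_iSup.2 ⟨⟨⟨U, hU⟩, hUV⟩, hpU⟩
  · have hF := isFibreProd_of_affineOpen h (chart_of_affineHom h.w) hU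
    refine hF.ext _ _ ?_ ?_
    · rw [← Scheme.Hom.app_eq_appLE]
      exact (app_res a hUV y).trans ((congrArg _ ha).trans (app_res a hUV y').symm)
    · rw [← Scheme.Hom.app_eq_appLE]
      exact (app_res b hUV y).trans ((congrArg _ hb).trans (app_res b hUV y').symm)

theorem existsUnique_section (h : IsPushout i j a b) (V : P.Opens)
    (hle : i ⁻¹ᵁ a ⁻¹ᵁ V ≤ j ⁻¹ᵁ b ⁻¹ᵁ V) (x : Γ(X, a ⁻¹ᵁ V)) (z : Γ(Y, b ⁻¹ᵁ V))
    (hxz : i.app _ x = j.appLE _ _ hle z) : ∃! y : Γ(P, V), a.app V y = x ∧ b.app V y = z := by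
  let κ := {U : P.affineOpens // U.1 ≤ V}
  have hle' : ∀ W : P.Opens, i ⁻¹ᵁ a ⁻¹ᵁ W ≤ j ⁻¹ᵁ b ⁻¹ᵁ W := fun W => by
    rw [← Scheme.Hom.comp_preimage, ← Scheme.Hom.comp_preimage, h.w]
  have hU : ∀ U : κ, ∃! y : Γ(P, U.1.1),
      a.app U.1.1 y = X.presheaf.map (homOfLE (a.preimage_mono U.2)).op x ∧
      b.app U.1.1 y = Y.presheaf.map (homOfLE (b.preimage_mono U.2)).op z := fun U => by
    refine existsUnique_affine h U.1.2 (hle' _) _ _ ?_
    rw [app_res i, hxz, ← CommRingCat.comp_apply, ← CommRingCat.comp_apply, Scheme.Hom.appLE_map,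
      Scheme.Hom.map_appLE]
  choose s hs hs' using fun U => hU U
  obtain ⟨y, hy, -⟩ := P.sheaf.existsUnique_gluing' (fun U : κ => U.1.1) V (fun U => homOfLE U.2) (by
    intro p hp
    obtain ⟨U, hU, hpU, hUV⟩ := exists_isAffineOpen_mem_and_subset (x := p) (U := V) hp
    exact Opens.mem_iSup.2 ⟨⟨⟨U, hU⟩, hUV⟩, hpU⟩) s (fun U U' => by
    show P.presheaf.map (homOfLE (inf_le_left : U.1.1 ⊓ U'.1.1 ≤ U.1.1)).op (s U) =
      P.presheaf.map (homOfLE (inf_le_right : U.1.1 ⊓ U'.1.1 ≤ U'.1.1)).op (s U')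
    refine eq_of_app_eq h _ _ _ ?_ ?_
    · rw [app_res, app_res, (hs U).1, (hs U').1, ← CommRingCat.comp_apply, ← CommRingCat.comp_apply,
        ← Functor.map_comp, ← Functor.map_comp]
      rfl
    · rw [app_res, app_res, (hs U).2, (hs U').2, ← CommRingCat.comp_apply, ← CommRingCat.comp_apply,
        ← Functor.map_comp, ← Functor.map_comp]
      rfl)
  have hya : a.app V y = x := by
    refine X.sheaf.eq_of_locally_eq' (fun U : κ => a ⁻¹ᵁ U.1.1) (a ⁻¹ᵁ V)
      (fun U => homOfLE (a.preimage_mono U.2)) ?_ _ _ fun U => ?_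
    · intro p hp
      obtain ⟨U, hU, hpU, hUV⟩ := exists_isAffineOpen_mem_and_subset (x := a p) (U := V) hp
      exact Opens.mem_iSup.2 ⟨⟨⟨U, hU⟩, hUV⟩, hpU⟩
    · refine ((app_res a U.2 y).symm.trans ?_).trans (hs U).1
      exact congrArg _ (hy U)
  have hyb : b.app V y = z := by
    refine Y.sheaf.eq_of_locally_eq' (fun U : κ => b ⁻¹ᵁ U.1.1) (b ⁻¹ᵁ V)
      (fun U => homOfLE (b.preimage_mono U.2)) ?_ _ _ fun U => ?_
    · intro p hp
      obtain ⟨U, hU, hpU, hUV⟩ := exists_isAffineOpen_mem_and_subset (x := b p) (U := V) hp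
      exact Opens.mem_iSup.2 ⟨⟨⟨U, hU⟩, hUV⟩, hpU⟩
    · refine ((app_res b U.2 y).symm.trans ?_).trans (hs U).2
      exact congrArg _ (hy U)
  exact ⟨y, ⟨hya, hyb⟩, fun y' hy' => eq_of_app_eq h V _ _ (hy'.1.trans hya.symm) (hy'.2.trans hyb.symm)⟩

set_option maxHeartbeats 1600000 in
/-- A pushout of schemes along a closed immersion with affine legs is a pushout of ringed spaces. -/
theorem isPushout_toSheafedSpace (h : IsPushout i j a b) :
    IsPushout ((Scheme.forgetToLocallyRingedSpace ⋙ LocallyRingedSpace.forgetToSheafedSpace).map i)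
      ((Scheme.forgetToLocallyRingedSpace ⋙ LocallyRingedSpace.forgetToSheafedSpace).map j)
      ((Scheme.forgetToLocallyRingedSpace ⋙ LocallyRingedSpace.forgetToSheafedSpace).map a)
      ((Scheme.forgetToLocallyRingedSpace ⋙ LocallyRingedSpace.forgetToSheafedSpace).map b) := by
  let F : Scheme.{u} ⥤ SheafedSpace CommRingCat.{u} :=
    Scheme.forgetToLocallyRingedSpace ⋙ LocallyRingedSpace.forgetToSheafedSpace
  have w : F.map i ≫ F.map a = F.map j ≫ F.map b := by rw [← F.map_comp, ← F.map_comp, h.w]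
  have hQ := IsPushout.of_hasPushout (F.map i) (F.map j)
  let φ : pushout (F.map i) (F.map j) ⟶ F.obj P := pushout.desc (F.map a) (F.map b) w
  have e₁ : pushout.inl (F.map i) (F.map j) ≫ φ = F.map a := pushout.inl_desc _ _ _
  have e₂ : pushout.inr (F.map i) (F.map j) ≫ φ = F.map b := pushout.inr_desc _ _ _
  suffices IsIso φ from IsPushout.of_iso hQ (Iso.refl _) (Iso.refl _) (Iso.refl _) (asIso φ)
    (by simp [F]) (by simp [F]) (e₁.trans (Category.id_comp _).symm) (e₂.trans (Category.id_comp _).symm)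
  have hT := isPushout_base h
  have hQT := hQ.map (SheafedSpace.forget CommRingCat.{u})
  haveI : IsIso φ.hom.base := by
    have : φ.hom.base = (hQT.isoIsPushout _ _ hT).hom := hQT.hom_ext
      ((congrArg (SheafedSpace.forget CommRingCat.{u}).map e₁).trans (hQT.inl_isoIsPushout_hom _ _ hT).symm)
      ((congrArg (SheafedSpace.forget CommRingCat.{u}).map e₂).trans (hQT.inr_isoIsPushout_hom _ _ hT).symm)
    rw [this]
    infer_instance
  have hQP := hQ.map (SheafedSpace.forgetToPresheafedSpace (C := CommRingCat.{u}))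
  have hbij : ∀ V : P.Opens, Function.Bijective (φ.hom.c.app (op V)) := by
    intro V
    let W := (Opens.map φ.hom.base).obj V
    let inl := (pushout.inl (F.map i) (F.map j)).hom
    let inr := (pushout.inr (F.map i) (F.map j)).hom
    have f₁ : inl ≫ φ.hom = a.toPshHom := congrArg InducedCategory.Hom.hom e₁
    have f₂ : inr ≫ φ.hom = b.toPshHom := congrArg InducedCategory.Hom.hom e₂
    have hWa : (Opens.map inl.base).obj W = a ⁻¹ᵁ V :=
      congrArg (fun f : (F.obj X).toPresheafedSpace ⟶ (F.obj P).toPresheafedSpace => (Opens.map f.base).obj V) f₁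
    have hWb : (Opens.map inr.base).obj W = b ⁻¹ᵁ V :=
      congrArg (fun f : (F.obj Y).toPresheafedSpace ⟶ (F.obj P).toPresheafedSpace => (Opens.map f.base).obj V) f₂
    have ka : ∀ y, X.presheaf.map (homOfLE hWa.ge).op (inl.c.app (op W) (φ.hom.c.app (op V) y)) = a.app V y :=
      fun y => (PushoutSections.congr_sec f₁ V (a ⁻¹ᵁ V) hWa.ge le_rfl y).trans
        (ConcreteCategory.congr_hom (X.presheaf.map_id _) _)
    have kb : ∀ y, Y.presheaf.map (homOfLE hWb.ge).op (inr.c.app (op W) (φ.hom.c.app (op V) y)) = b.app V y :=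
      fun y => (PushoutSections.congr_sec f₂ V (b ⁻¹ᵁ V) hWb.ge le_rfl y).trans
        (ConcreteCategory.congr_hom (Y.presheaf.map_id _) _)
    refine ⟨fun y y' e => eq_of_app_eq h V y y' (by rw [← ka, ← ka, e]) (by rw [← kb, ← kb, e]), fun q => ?_⟩
    have hle : i ⁻¹ᵁ a ⁻¹ᵁ V ≤ j ⁻¹ᵁ b ⁻¹ᵁ V := by
      rw [← Scheme.Hom.comp_preimage, ← Scheme.Hom.comp_preimage, h.w]
    let x : Γ(X, a ⁻¹ᵁ V) := X.presheaf.map (homOfLE hWa.ge).op (inl.c.app (op W) q)
    let z : Γ(Y, b ⁻¹ᵁ V) := Y.presheaf.map (homOfLE hWb.ge).op (inr.c.app (op W) q)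
    have hW₁ : i ⁻¹ᵁ a ⁻¹ᵁ V ≤ (Opens.map (i.toPshHom ≫ inl).base).obj W := i.preimage_mono hWa.ge
    have hW₂ : i ⁻¹ᵁ a ⁻¹ᵁ V ≤ (Opens.map (j.toPshHom ≫ inr).base).obj W := hle.trans (j.preimage_mono hWb.ge)
    have hxz : i.app _ x = j.appLE _ _ hle z := by
      have key := PushoutSections.congr_sec hQP.w W (i ⁻¹ᵁ a ⁻¹ᵁ V) hW₁ hW₂ q
      refine ((app_res i hWa.ge _).trans key).trans ?_
      rw [Scheme.Hom.appLE, CommRingCat.comp_apply, app_res j]
      exact ConcreteCategory.congr_hom (Z.presheaf.map_comp _ _) _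
    obtain ⟨y, ⟨hy₁, hy₂⟩, -⟩ := existsUnique_section h V hle x z hxz
    refine ⟨y, ?_⟩
    have i₁ := (ConcreteCategory.bijective_of_isIso (X.presheaf.map (eqToHom hWa.symm).op)).1
    have i₂ := (ConcreteCategory.bijective_of_isIso (Y.presheaf.map (eqToHom hWb.symm).op)).1
    have hle₀ : (Opens.map i.base).obj ((Opens.map inl.base).obj W) ≤
        (Opens.map j.base).obj ((Opens.map inr.base).obj W) :=
      le_of_eq (congrArg (fun f => (Opens.map f.base).obj W) hQP.w)
    refine (PushoutSections.exists_unique_section hQP W hle₀ (inl.c.app (op W) q) (inr.c.app (op W) q) ?_).unique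
      ⟨i₁ ((ka y).trans hy₁), i₂ ((kb y).trans hy₂)⟩ ⟨rfl, rfl⟩
    exact ((ConcreteCategory.congr_hom (Z.presheaf.map_id _) _).symm.trans
      (PushoutSections.congr_sec hQP.w W _ le_rfl hle₀ q))
  haveI : ∀ V, IsIso (φ.hom.c.app V) := fun V => (ConcreteCategory.isIso_iff_bijective _).2 (hbij V.unop)
  haveI : IsIso φ.hom.c := NatIso.isIso_of_isIso_app _
  haveI : IsIso φ.hom := PresheafedSpace.isIso_of_components _
  haveI : IsIso (SheafedSpace.forgetToPresheafedSpace.map φ) := ‹IsIso φ.hom›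
  exact isIso_of_reflects_iso φ SheafedSpace.forgetToPresheafedSpace

omit [IsClosedImmersion i] [IsAffineHom a] [IsAffineHom b] in
/-- A pushout of ringed spaces along a closed immersion with affine legs is a pushout of schemes. -/
theorem isPushout_scheme [IsClosedImmersion i] [IsAffineHom a] [IsAffineHom b]
    (hpo : IsPushout ((Scheme.forgetToLocallyRingedSpace ⋙ LocallyRingedSpace.forgetToSheafedSpace).map i)
      ((Scheme.forgetToLocallyRingedSpace ⋙ LocallyRingedSpace.forgetToSheafedSpace).map j)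
      ((Scheme.forgetToLocallyRingedSpace ⋙ LocallyRingedSpace.forgetToSheafedSpace).map a)
      ((Scheme.forgetToLocallyRingedSpace ⋙ LocallyRingedSpace.forgetToSheafedSpace).map b)) :
    IsPushout i j a b := by
  have hw := PinchFlat.comm_of_isPushout hpo
  have key : ∀ x : P, ∃ M : Model i j a b, x ∈ Set.range M.φ := by
    intro x
    obtain ⟨U, hU, hxU, -⟩ := exists_isAffineOpen_mem_and_subset (x := x) (U := (⊤ : P.Opens)) trivial
    have hle := PinchFlat.preimage_le hw U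
    have hX := hU.preimage a
    have hF : IsFibreProd (i.appLE (a ⁻¹ᵁ U) (i ⁻¹ᵁ a ⁻¹ᵁ U) le_rfl).hom
        (j.appLE (b ⁻¹ᵁ U) (i ⁻¹ᵁ a ⁻¹ᵁ U) hle).hom (a.appLE U (a ⁻¹ᵁ U) le_rfl).hom
        (b.appLE U (b ⁻¹ᵁ U) le_rfl).hom := by
      refine ⟨?_, fun y => ?_, fun y y' ha hb => ?_, fun z w e => ?_⟩
      · rw [← Scheme.Hom.app_eq_appLE]; exact i.app_surjective _ hX
      · rw [← CommRingCat.comp_apply, ← CommRingCat.comp_apply, Scheme.Hom.appLE_comp_appLE,
          Scheme.Hom.appLE_comp_appLE]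
        simp only [hw]
      · rw [← Scheme.Hom.app_eq_appLE] at ha hb
        have e : i.app _ (a.app U y) = j.appLE _ _ hle (b.app U y) := by
          rw [← CommRingCat.comp_apply, ← CommRingCat.comp_apply, Scheme.Hom.app_eq_appLE,
            Scheme.Hom.app_eq_appLE, Scheme.Hom.app_eq_appLE, Scheme.Hom.appLE_comp_appLE,
            Scheme.Hom.appLE_comp_appLE]
          simp only [hw]
        exact (PinchFlat.exists_unique_section hpo U _ _ e).unique ⟨rfl, rfl⟩ ⟨ha.symm, hb.symm⟩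
      · rw [← Scheme.Hom.app_eq_appLE] at e
        obtain ⟨y, ⟨hy₁, hy₂⟩, -⟩ := PinchFlat.exists_unique_section hpo U w z e
        refine ⟨y, ?_, ?_⟩
        · rw [← Scheme.Hom.app_eq_appLE]; exact hy₁
        · rw [← Scheme.Hom.app_eq_appLE]; exact hy₂
    exact ⟨⟨_, _, _, _, _, _, _, _, hF, hU.fromSpec, hX.fromSpec, (hU.preimage b).fromSpec, (hX.preimage i).fromSpec,
      (hX.SpecMap_appLE_fromSpec i (hX.preimage i) le_rfl).symm,
      ((hU.preimage b).SpecMap_appLE_fromSpec j (hX.preimage i) hle).symm,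
      isPullback_fromSpec a hU, isPullback_fromSpec b hU⟩, hU.range_fromSpec.ge hxU⟩
  choose M hM using key
  exact isPushout_of_models hw M (fun x => ⟨x, hM x⟩)

end Groth.Agent.RGLib.PinchRinged
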