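import Groth.Agent.S4414
import Groth.Agent.S4420
import Groth.Agent.S12416
import Groth.Agent.S2331
import Groth.Agent.SymX.ProjectiveStable
import Groth.Agent.SymX.ImageProj
import Groth.Agent.AmpleX.BaseChange
import Groth.Agent.ChowX.Prod
import Groth.Agent.AmpleX.QuasiAffine

/-!
# Locally projective and locally quasi-projective morphisms
-/

set_option autoImplicit false
set_option linter.style.haveILetI false
set_option backward.isDefEq.respectTransparency false
set_option backward.isDefEq.respectTransparency.types false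

universe u

open CategoryTheory CategoryTheory.Limits AlgebraicGeometry TopologicalSpace

namespace Groth.Agent.RGLib.ProjLocal

open Groth.Agent

variable {X Y S S' X' : Scheme.{u}}

/-- Restrictions of a base change are base changes of restrictions. -/
theorem exists_isPullback_restrict {p : X' ⟶ X} {q : X' ⟶ S'} {f : X ⟶ S} {g : S' ⟶ S} (h : IsPullback p q f g)
    (U : S.Opens) (V : S'.Opens) (e : V ≤ g ⁻¹ᵁ U) :
    ∃ a, IsPullback a (q ∣_ V) (f ∣_ U) (g.resLE U V e) := by
  have hU := (isPullback_morphismRestrict f U).flip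
  have hV := (isPullback_morphismRestrict q V).flip.paste_horiz h
  have hw : ((q ⁻¹ᵁ V).ι ≫ p) ≫ f = (q ∣_ V ≫ g.resLE U V e) ≫ U.ι := by
    rw [Category.assoc (q ∣_ V), Scheme.Hom.resLE_comp_ι]
    exact hV.w
  refine ⟨hU.lift ((q ⁻¹ᵁ V).ι ≫ p) (q ∣_ V ≫ g.resLE U V e) hw, IsPullback.of_right ?_ (hU.lift_snd _ _ hw) hU⟩
  rw [hU.lift_fst, Scheme.Hom.resLE_comp_ι]
  exact hV

theorem isProjective_restrict {f : X ⟶ S} {U : S.Opens} (hf : RelProj.IsProjective (f ∣_ U)) {V : S.Opens}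
    (hVU : V ≤ U) : RelProj.IsProjective (f ∣_ V) := by
  obtain ⟨a, ha⟩ := exists_isPullback_restrict (IsPullback.id_horiz f) U V hVU
  exact SymX.isProjective_of_isPullback ha hf

theorem isQuasiProjective_of_isPullback {p : X' ⟶ X} {q : X' ⟶ S'} {f : X ⟶ S} {g : S' ⟶ S}
    (h : IsPullback p q f g) (hf : RelProj.IsQuasiProjective f) : RelProj.IsQuasiProjective q := by
  obtain ⟨hlft, hqc, L, hL⟩ := hf
  refine ⟨MorphismProperty.of_isPullback (P := @LocallyOfFiniteType) h hlft,
    MorphismProperty.of_isPullback (P := @QuasiCompact) h hqc,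
    (Scheme.Modules.pullback h.isoPullback.hom).obj ((Scheme.Modules.pullback (pullback.fst f g)).obj L), ?_⟩
  have := AmpleX.isRelAmple_pullback_embedding (pullback.snd f g) h.isoPullback.hom
    h.isoPullback.hom.isEmbedding (AmpleX.isRelAmple_baseChange f g hL)
  rwa [h.isoPullback_hom_snd] at this

theorem exists_isAmple_of_isAffine (Z : Scheme.{u}) [IsAffine Z] : ∃ M : Z.Modules, CohB1.IsAmple M :=
  ⟨_, AmpleX.isAmple_of_isQuasiAffine InvX.isInvertible_structureModule⟩

theorem isQuasiProjective_of_isHQuasiProjective {f : X ⟶ S} (h : RelProj.IsHQuasiProjective f) :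
    RelProj.IsQuasiProjective f := by
  obtain ⟨n, i, hi, hqc, rfl⟩ := h
  haveI := hi
  haveI := hqc
  have hP : RelProj.IsProjective (CohB1.ProjSpaceOver.toBase n S) :=
    ProjX.isProjective_of_isHProjective ⟨n, 𝟙 _, inferInstance, Category.id_comp _⟩
  haveI := ProjX.isProper_of_isProjective hP
  obtain ⟨L, hL⟩ := ProjX.exists_isRelAmple_of_isProjective hP
  exact ⟨inferInstance, inferInstance, _, AmpleX.isRelAmple_pullback_embedding _ i i.isEmbedding hL⟩

theorem isLocallyProjective_baseChange (f : X ⟶ S) (hf : RelProj.IsLocallyProjective f) (g : S' ⟶ S) :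
    RelProj.IsLocallyProjective (pullback.snd f g) := by
  intro s
  obtain ⟨U, hU, hp⟩ := hf (g s)
  obtain ⟨a, ha⟩ := exists_isPullback_restrict (IsPullback.of_hasPullback f g) U (g ⁻¹ᵁ U) le_rfl
  exact ⟨g ⁻¹ᵁ U, hU, SymX.isProjective_of_isPullback ha hp⟩

theorem isLocallyProjective_iff (f : X ⟶ S) :
    RelProj.IsLocallyProjective f ↔ ∀ s : S, ∃ U : S.Opens, s ∈ U ∧ RelProj.IsHProjective (f ∣_ U) := by
  refine ⟨fun h s => ?_, fun h s => ?_⟩
  · obtain ⟨U, hU, hp⟩ := h s
    obtain ⟨V, hV, hsV, hVU⟩ := exists_isAffineOpen_mem_and_subset hU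
    haveI : IsAffine V.toScheme := hV
    exact ⟨V, hsV, (S4420.result (exists_isAmple_of_isAffine V.toScheme) _).1 (isProjective_restrict hp hVU)⟩
  · obtain ⟨U, hU, hp⟩ := h s
    exact ⟨U, hU, ProjX.isProjective_of_isHProjective hp⟩

theorem locally_quasiProjective_iff (f : X ⟶ S) :
    (∀ s : S, ∃ U : S.Opens, s ∈ U ∧ RelProj.IsQuasiProjective (f ∣_ U)) ↔
      (∀ s : S, ∃ U : S.Opens, s ∈ U ∧ RelProj.IsHQuasiProjective (f ∣_ U)) := by
  refine ⟨fun h s => ?_, fun h s => ?_⟩
  · obtain ⟨U, hU, hp⟩ := h s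
    obtain ⟨V, hV, hsV, hVU⟩ := exists_isAffineOpen_mem_and_subset hU
    haveI : IsAffine V.toScheme := hV
    obtain ⟨a, ha⟩ := exists_isPullback_restrict (IsPullback.id_horiz f) U V hVU
    obtain ⟨-, hqc, r, i, hi, hif⟩ :=
      (S4414.result (exists_isAmple_of_isAffine V.toScheme) _).1 (isQuasiProjective_of_isPullback ha hp)
    haveI : QuasiCompact (i ≫ CohB1.ProjSpaceOver.toBase r V.toScheme) := hif ▸ hqc
    haveI : IsProper (CohB1.ProjSpace.toSpec r (ULift.{u} ℤ)) := PnCoh.Chow.isProper_toSpec r _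
    haveI : IsProper (CohB1.ProjSpaceOver.toBase r V.toScheme) := MorphismProperty.pullback_snd _ _ inferInstance
    exact ⟨V, hsV, r, i, hi, QuasiCompact.of_comp i (CohB1.ProjSpaceOver.toBase r V.toScheme), hif⟩
  · obtain ⟨U, hU, hp⟩ := h s
    exact ⟨U, hU, isQuasiProjective_of_isHQuasiProjective hp⟩

theorem isHProjective_iff (f : X ⟶ S) :
    RelProj.IsHProjective f ↔ RelProj.IsHQuasiProjective f ∧ IsProper f := by
  refine ⟨fun ⟨n, i, hi, hif⟩ => ⟨⟨n, i, inferInstance, inferInstance, hif⟩,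
    ChowX.isProper_of_isHProjective ⟨n, i, hi, hif⟩⟩, fun ⟨⟨n, i, hi, hqc, hif⟩, hp⟩ => ?_⟩
  haveI : IsProper (CohB1.ProjSpace.toSpec n (ULift.{u} ℤ)) := PnCoh.Chow.isProper_toSpec n _
  haveI : IsProper (CohB1.ProjSpaceOver.toBase n S) := MorphismProperty.pullback_snd _ _ inferInstance
  haveI : IsProper (i ≫ CohB1.ProjSpaceOver.toBase n S) := hif ▸ hp
  haveI : IsProper i := IsProper.of_comp i (CohB1.ProjSpaceOver.toBase n S)
  haveI := hi
  exact ⟨n, i, IsClosedImmersion.of_isPreimmersion i i.isClosedMap.isClosed_range, hif⟩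

theorem isProjective_comp [CompactSpace S] [QuasiSeparatedSpace S] (f : X ⟶ Y) (g : Y ⟶ S)
    (hf : RelProj.IsProjective f) (hg : RelProj.IsProjective g) : RelProj.IsProjective (f ≫ g) := by
  haveI := ProjX.isProper_of_isProjective hf
  haveI := ProjX.isProper_of_isProjective hg
  obtain ⟨L, hL⟩ := ProjX.exists_isRelAmple_of_isProjective hf
  obtain ⟨K, hK⟩ := ProjX.exists_isRelAmple_of_isProjective hg
  obtain ⟨n₀, -, hn⟩ := S2331.result f g L K hL hK
  exact S12416.result (f ≫ g) ⟨inferInstance, inferInstance, _, hn n₀ le_rfl⟩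

theorem exists_openImmersion_projective [CompactSpace S] [QuasiSeparatedSpace S] (f : X ⟶ S)
    (hf : RelProj.IsQuasiProjective f) :
    ∃ (X' : Scheme.{u}) (j : X ⟶ X') (g : X' ⟶ S), IsOpenImmersion j ∧ RelProj.IsProjective g ∧ j ≫ g = f := by
  obtain ⟨hlft, hqc, L, hL⟩ := hf
  have hLi := AmpleX.isInvertible_of_isRelAmple hL
  obtain ⟨n₀, -, h⟩ := SymX.eventually_isRelVeryAmple_pow hLi hL
  obtain ⟨E, A, i, hE, hft, hi, hip, -⟩ := SymX.exists_ft_immersion' (fun V hV => QCoh.extStep_qcqs hV.isCompact) f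
    (InvX.isInvertible_tensorPow hLi n₀) (h n₀ le_rfl)
  haveI : IsSeparated A.p := Proj16.isSeparated A.isRelProj
  haveI : QuasiCompact (i ≫ A.p) := hip.symm ▸ inferInstance
  haveI : QuasiCompact i := QuasiCompact.of_comp i A.p
  obtain ⟨𝒮, P, p, chart, O1, lam, j, hgen, hft1, hP, -, hj, -, hjp, -⟩ := SymX.exists_dense_openImmersion A hE hft i
  exact ⟨P, j, p, hj, ⟨𝒮, P, p, chart, Iso.refl _, hgen, hft1, hP, Category.id_comp _⟩, hjp.trans hip⟩

end Groth.Agent.RGLib.ProjLocal
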