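import Mathlib.AlgebraicGeometry.AffineSpace
import Mathlib.AlgebraicGeometry.Morphisms.Etale
import Mathlib.AlgebraicGeometry.Morphisms.WeaklyEtale
import Mathlib.RingTheory.Etale.Basic
import Groth.Prelude.Def_SGA1t
import Groth.Agent.RGLib.Kummer

/-!
# Local rings along a relative normal crossings divisor
-/

set_option autoImplicit false
set_option backward.isDefEq.respectTransparency.types false
universe u

open CategoryTheory CategoryTheory.Limits AlgebraicGeometry MvPolynomial

namespace Groth.Agent.RGLib.SNCChart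

/-- Near a point, a relative normal crossings divisor is a coordinate divisor: the local ring is
formally etale over a polynomial ring over an affine open of the base. -/
theorem exists_chart {X S : Scheme.{u}} (f : X ⟶ S) {r : ℕ} (φ : Fin r → Γ(X, ⊤))
    (hD : SGA1t.IsRelSNC f φ) (x : X) (hx : Nonempty (SGA1t.vanishingAt φ x)) :
    ∃ (C : CommRingCat.{u}) (γ : Spec C ⟶ S) (_ : IsOpenImmersion γ) (d : ℕ)
      (e : SGA1t.vanishingAt φ x → Fin d) (ψ : MvPolynomial (ULift.{u} (Fin d)) C →+* X.presheaf.stalk x),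
      Function.Injective e ∧ ψ.FormallyEtale ∧
      Spec.map (CommRingCat.ofHom (ψ.comp MvPolynomial.C)) ≫ γ = X.fromSpecStalk x ≫ f ∧
      ∀ i, ψ (MvPolynomial.X (ULift.up (e i))) = (X.presheaf.germ ⊤ x trivial).hom (φ i.1) := by
  obtain ⟨W, hxW, d, v, e, he, het, hv⟩ := hD x hx
  obtain ⟨U, hU, hxU, -⟩ := exists_isAffineOpen_mem_and_subset (X := S) (x := f x) (U := ⊤) trivial
  obtain ⟨V, hV, hxV, hVle⟩ := exists_isAffineOpen_mem_and_subset (X := X) (x := x) (U := W ⊓ f ⁻¹ᵁ U) ⟨hxW, hxU⟩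
  have hVW : V ≤ W := fun z hz => (hVle hz).1
  have hVU : V ≤ f ⁻¹ᵁ U := fun z hz => (hVle hz).2
  let h : Spec Γ(X, V) ⟶ W := hV.isoSpec.inv ≫ X.homOfLE hVW
  haveI : IsOpenImmersion h := inferInstance
  have hh : h ≫ W.ι = hV.fromSpec := by
    show (hV.isoSpec.inv ≫ X.homOfLE hVW) ≫ W.ι = _
    rw [Category.assoc, Scheme.homOfLE_ι]
    rfl
  let ψ₀ : MvPolynomial (ULift.{u} (Fin d)) Γ(S, U) →+* Γ(X, V) :=
    eval₂Hom (f.appLE U V hVU).hom fun j => (Scheme.ΓSpecIso Γ(X, V)).hom (h.appTop (v j))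
  haveI := het
  haveI het' : Etale (h ≫ AffineSpace.homOfVector (W.ι ≫ f) v) := inferInstance
  have hfac : Spec.map (CommRingCat.ofHom ψ₀) ≫ (AffineSpace.SpecIso (ULift.{u} (Fin d)) Γ(S, U)).inv ≫
      AffineSpace.map (ULift.{u} (Fin d)) hU.fromSpec = h ≫ AffineSpace.homOfVector (W.ι ≫ f) v := by
    apply AffineSpace.hom_ext
    · rw [Category.assoc, Category.assoc, AffineSpace.map_over, AffineSpace.SpecIso_inv_over_assoc,
        Category.assoc, AffineSpace.homOfVector_over, ← Category.assoc h, hh]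
      rw [← IsAffineOpen.SpecMap_appLE_fromSpec f hU hV hVU, ← Category.assoc, ← Spec.map_comp]
      congr 2
      exact CommRingCat.hom_ext (RingHom.ext fun c => eval₂Hom_C _ _ c)
    · intro j
      rw [Scheme.Hom.comp_appTop, CommRingCat.comp_apply, Scheme.Hom.comp_appTop, CommRingCat.comp_apply,
        AffineSpace.map_appTop_coord, AffineSpace.SpecIso_inv_appTop_coord, Scheme.Hom.comp_appTop,
        CommRingCat.comp_apply, AffineSpace.homOfVector_appTop_coord]
      rw [← CommRingCat.comp_apply, ← Scheme.ΓSpecIso_inv_naturality, CommRingCat.comp_apply]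
      show (Scheme.ΓSpecIso Γ(X, V)).inv (ψ₀ (MvPolynomial.X j)) = _
      rw [show ψ₀ (MvPolynomial.X j) = _ from eval₂Hom_X' _ _ _]
      exact (Scheme.ΓSpecIso Γ(X, V)).hom_inv_id_apply _
  haveI : IsOpenImmersion (AffineSpace.map (ULift.{u} (Fin d)) hU.fromSpec) :=
    MorphismProperty.of_isPullback (P := @IsOpenImmersion) (AffineSpace.isPullback_map hU.fromSpec).flip inferInstance
  have het₀ : ψ₀.Etale := by
    have h1 : Etale (Spec.map (CommRingCat.ofHom ψ₀)) := by
      refine MorphismProperty.of_postcomp (W := @Etale) (W' := @IsOpenImmersion) (Spec.map (CommRingCat.ofHom ψ₀))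
        ((AffineSpace.SpecIso (ULift.{u} (Fin d)) Γ(S, U)).inv ≫ AffineSpace.map (ULift.{u} (Fin d)) hU.fromSpec)
        inferInstance ?_
      rw [hfac]
      infer_instance
    rw [HasRingHomProperty.Spec_iff (P := @Etale)] at h1
    exact h1
  let g : Γ(X, V) ⟶ X.presheaf.stalk x := X.presheaf.germ V x hxV
  have hg : Spec.map g ≫ hV.fromSpec = X.fromSpecStalk x := hV.fromSpecStalk_eq_fromSpecStalk hxV
  have hgfe : g.hom.FormallyEtale := by
    letI := TopCat.Presheaf.algebra_section_stalk X.presheaf (⟨x, hxV⟩ : V)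
    haveI := hV.isLocalization_stalk ⟨x, hxV⟩
    exact RingHom.formallyEtale_algebraMap.2
      (Algebra.FormallyEtale.of_isLocalization (hV.primeIdealOf ⟨x, hxV⟩).asIdeal.primeCompl)
  refine ⟨Γ(S, U), hU.fromSpec, inferInstance, d, e, g.hom.comp ψ₀, he, ?_, ?_, fun i => ?_⟩
  · letI := ψ₀.toAlgebra
    letI := g.hom.toAlgebra
    letI := (g.hom.comp ψ₀).toAlgebra
    haveI : IsScalarTower (MvPolynomial (ULift.{u} (Fin d)) Γ(S, U)) Γ(X, V) (X.presheaf.stalk x) :=
      .of_algebraMap_eq fun _ => rfl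
    haveI : Algebra.Etale (MvPolynomial (ULift.{u} (Fin d)) Γ(S, U)) Γ(X, V) := het₀
    haveI : Algebra.FormallyEtale Γ(X, V) (X.presheaf.stalk x) := hgfe
    exact Algebra.FormallyEtale.comp (MvPolynomial (ULift.{u} (Fin d)) Γ(S, U)) Γ(X, V) (X.presheaf.stalk x)
  · have h1 : CommRingCat.ofHom ((g.hom.comp ψ₀).comp MvPolynomial.C) = f.appLE U V hVU ≫ g :=
      CommRingCat.hom_ext (RingHom.ext fun c => congrArg g.hom (eval₂Hom_C _ _ c))
    rw [h1, Spec.map_comp, Category.assoc, IsAffineOpen.SpecMap_appLE_fromSpec f hU hV hVU, reassoc_of% hg]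
  · show g (ψ₀ (MvPolynomial.X (ULift.up (e i)))) = _
    rw [show ψ₀ (MvPolynomial.X (ULift.up (e i))) = _ from eval₂Hom_X' _ _ _, hv i]
    have h2 : W.topIso.inv (X.presheaf.map (homOfLE le_top).op (φ i.1)) = W.ι.appTop (φ i.1) := by
      rw [Scheme.Opens.ι_appTop, Scheme.Opens.topIso_inv, ← CommRingCat.comp_apply]
      refine ConcreteCategory.congr_hom ?_ (φ i.1)
      exact (X.presheaf.map_comp _ _).symm
    rw [h2]
    have h3 := congrArg (fun k : Spec (X.presheaf.stalk x) ⟶ X => k.appTop (φ i.1))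
      ((congrArg (Spec.map g ≫ ·) hh).trans hg)
    simp only [Scheme.Hom.comp_appTop, CommRingCat.comp_apply, Scheme.fromSpecStalk_appTop] at h3
    rw [← CommRingCat.comp_apply (Scheme.ΓSpecIso Γ(X, V)).hom g, ← Scheme.ΓSpecIso_naturality, CommRingCat.comp_apply, h3]
    refine (congrArg (Scheme.ΓSpecIso (X.presheaf.stalk x)).hom
      (ConcreteCategory.congr_hom ((Spec (X.presheaf.stalk x)).presheaf.map_id _) _)).trans ?_
    exact (Scheme.ΓSpecIso (X.presheaf.stalk x)).inv_hom_id_apply _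

open Groth.Agent.RGLib in
/-- The Kummer algebra of coordinates is formally smooth. -/
theorem formallySmooth_kummer {C A : Type u} [CommRing C] [CommRing A] [Algebra C A] {σ : Type u}
    [Algebra (MvPolynomial σ C) A] [IsScalarTower C (MvPolynomial σ C) A]
    [Algebra.FormallyEtale (MvPolynomial σ C) A] {ι : Type} (e : ι → σ) (he : Function.Injective e)
    (a : ι → A) (ha : ∀ i, algebraMap (MvPolynomial σ C) A (X (e i)) = a i) (n : ι → ℕ) :
    Algebra.FormallySmooth C (Kummer.K A a n) := by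
  classical
  rw [Algebra.FormallySmooth.iff_comp_surjective]
  intro B _ _ I hI g
  let g₀ : A →ₐ[C] B ⧸ I := g.comp (IsScalarTower.toAlgHom C A (Kummer.K A a n))
  -- the values at the new coordinates
  let z : σ → B ⧸ I := fun j => if h : ∃ i, e i = j then g (Kummer.T a n h.choose)
    else g₀ (algebraMap (MvPolynomial σ C) A (X j))
  choose b hb using fun j => Ideal.Quotient.mk_surjective (z j)
  let w : σ → B := fun j => if h : ∃ i, e i = j then b j ^ n h.choose else b j
  let θ : MvPolynomial σ C →ₐ[C] B := aeval w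
  letI : Algebra (MvPolynomial σ C) B := θ.toRingHom.toAlgebra
  haveI : IsScalarTower C (MvPolynomial σ C) B := .of_algebraMap_eq fun c => (θ.commutes c).symm
  have hch : ∀ i (h : ∃ i', e i' = e i), h.choose = i := fun i h => he h.choose_spec
  have hθ : (Ideal.Quotient.mkₐ C I).comp θ = g₀.comp (IsScalarTower.toAlgHom C (MvPolynomial σ C) A) := by
    refine MvPolynomial.algHom_ext fun j => ?_
    show Ideal.Quotient.mk I (θ (X j)) = g₀ (algebraMap _ A (X j))
    rw [aeval_X]
    by_cases h : ∃ i, e i = j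
    · obtain ⟨i, rfl⟩ := h
      have h' : ∃ i', e i' = e i := ⟨i, rfl⟩
      simp only [w, dif_pos h', hch i h', map_pow, hb, z, ha]
      rw [← map_pow, Kummer.T_pow]
      rfl
    · simp only [w, dif_neg h, hb, z]
  let g₁ : A →ₐ[MvPolynomial σ C] B ⧸ I := ⟨g₀.toRingHom, fun p => (DFunLike.congr_fun hθ p).symm⟩
  obtain ⟨h₁, hh₁⟩ := (Algebra.FormallyEtale.comp_bijective (R := MvPolynomial σ C) (A := A) I hI).2 g₁
  let h₁' : A →ₐ[C] B := h₁.restrictScalars C
  letI : Algebra A B := h₁.toRingHom.toAlgebra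
  haveI : IsScalarTower C A B := .of_algebraMap_eq fun c => (h₁'.commutes c).symm
  obtain ⟨G, hG⟩ := (Kummer.existsUnique_hom a n (B := B) (fun i => b (e i)) fun i => by
    show _ = h₁ (a i)
    rw [← ha, h₁.commutes]
    show _ = θ (X (e i))
    rw [aeval_X]
    have h' : ∃ i', e i' = e i := ⟨i, rfl⟩
    simp only [w, dif_pos h', hch i h']).exists
  refine ⟨G.restrictScalars C, AlgHom.coe_ringHom_injective (Ideal.Quotient.ringHom_ext (MvPolynomial.ringHom_ext
    (fun c => ?_) fun i => ?_))⟩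
  · show Ideal.Quotient.mk I (G (algebraMap A (Kummer.K A a n) c)) = g (algebraMap A (Kummer.K A a n) c)
    rw [G.commutes]
    exact DFunLike.congr_fun hh₁ c
  · show Ideal.Quotient.mk I (G (Kummer.T a n i)) = g (Kummer.T a n i)
    rw [hG, hb]
    have h' : ∃ i', e i' = e i := ⟨i, rfl⟩
    simp only [z, dif_pos h', hch i h']

end Groth.Agent.RGLib.SNCChart
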