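import Mathlib.AlgebraicGeometry.AffineSpace
import Mathlib.AlgebraicGeometry.Morphisms.Etale
import Mathlib.AlgebraicGeometry.Morphisms.Smooth
import Mathlib.RingTheory.RingHom.StandardSmooth

/-!
# Étale charts carrying a section to the zero section
-/

set_option autoImplicit false
set_option backward.isDefEq.respectTransparency.types false
set_option backward.isDefEq.respectTransparency false
set_option maxHeartbeats 1000000

universe u

open CategoryTheory CategoryTheory.Limits AlgebraicGeometry MvPolynomial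

namespace Groth.Agent.RGLib.SectionChart

/-- An étale chart on affine opens around a point where the morphism is smooth. -/
theorem exists_affine_chart {X Y : Scheme.{u}} (f : X ⟶ Y) [LocallyOfFinitePresentation f] {x : X}
    (hx : x ∈ f.smoothLocus) :
    ∃ (U : Y.Opens) (V : X.Opens) (e : V ≤ f ⁻¹ᵁ U) (m : ℕ) (v : ULift.{u} (Fin m) → Γ(V, ⊤)),
      x ∈ V ∧ Etale (AffineSpace.homOfVector (f.resLE U V e) v) := by
  let O := f.smoothLocus
  haveI : Smooth (O.ι ≫ f) := by
    rw [← Scheme.Hom.smoothLocus_eq_top_iff, ← Scheme.Hom.preimage_smoothLocus_eq]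
    exact Scheme.Opens.ι_preimage_self _
  obtain ⟨U, hU, V', hV', hxV', e', hs⟩ := Smooth.exists_isStandardSmooth (O.ι ≫ f) (⟨x, hx⟩ : O.toScheme)
  have hV : IsAffineOpen (O.ι ''ᵁ V') := hV'.image_of_isOpenImmersion O.ι
  have e : O.ι ''ᵁ V' ≤ f ⁻¹ᵁ U := by
    rintro _ ⟨z, hz, rfl⟩
    exact e' hz
  have hs' : (f.appLE U (O.ι ''ᵁ V') e).hom.IsStandardSmooth := by
    have h1 : (O.ι ≫ f).appLE U V' e' = f.appLE U (O.ι ''ᵁ V') e := by
      simp [Scheme.Hom.appLE, Scheme.Opens.ι_app, ← Functor.map_comp]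
      rfl
    rw [← h1]
    exact hs
  obtain ⟨n, ψ, hψC, hψ⟩ := hs'.exists_etale_mvPolynomial
  let V := O.ι ''ᵁ V'
  let σ := ULift.{u} (Fin n)
  let ψ' : MvPolynomial σ Γ(Y, U) →+* Γ(X, V) :=
    ψ.comp (MvPolynomial.renameEquiv Γ(Y, U) Equiv.ulift).toRingEquiv.toRingHom
  have hψ' : ψ'.Etale := RingHom.Etale.respectsIso.2 ψ (MvPolynomial.renameEquiv Γ(Y, U) Equiv.ulift).toRingEquiv hψ
  have hC : ψ'.comp MvPolynomial.C = (f.appLE U V e).hom := by
    rw [← hψC]
    exact RingHom.ext fun r => congrArg ψ (MvPolynomial.rename_C _ r)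
  refine ⟨U, V, e, n, fun j => V.topIso.inv (ψ' (MvPolynomial.X j)), ⟨⟨x, hx⟩, hxV', rfl⟩, ?_⟩
  have key : AffineSpace.homOfVector (f.resLE U V e) (fun j => V.topIso.inv (ψ' (MvPolynomial.X j))) =
      hV.isoSpec.hom ≫ Spec.map (CommRingCat.ofHom ψ') ≫
        (AffineSpace.SpecIso σ Γ(Y, U)).inv ≫ AffineSpace.map σ hU.isoSpec.inv := by
    apply AffineSpace.hom_ext
    · rw [AffineSpace.homOfVector_over, Category.assoc, Category.assoc, Category.assoc, AffineSpace.map_over,
        AffineSpace.SpecIso_inv_over_assoc, ← Spec.map_comp_assoc]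
      have h1 : CommRingCat.ofHom MvPolynomial.C ≫ CommRingCat.ofHom ψ' = f.appLE U V e :=
        CommRingCat.hom_ext hC
      rw [h1, ← cancel_mono U.ι, Scheme.Hom.resLE_comp_ι, Category.assoc, Category.assoc,
        IsAffineOpen.isoSpec_inv_ι, IsAffineOpen.SpecMap_appLE_fromSpec f hU hV e,
        IsAffineOpen.isoSpec_hom_fromSpec_assoc]
    · intro j
      rw [AffineSpace.homOfVector_appTop_coord, Scheme.Hom.comp_appTop, CommRingCat.comp_apply,
        Scheme.Hom.comp_appTop, CommRingCat.comp_apply, Scheme.Hom.comp_appTop, CommRingCat.comp_apply,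
        AffineSpace.map_appTop_coord, AffineSpace.SpecIso_inv_appTop_coord]
      erw [show (Spec.map (CommRingCat.ofHom ψ')).appTop ((Scheme.ΓSpecIso _).inv (MvPolynomial.X j)) =
        (Scheme.ΓSpecIso Γ(X, V)).inv (ψ' (MvPolynomial.X j)) from
        (ConcreteCategory.congr_hom (Scheme.ΓSpecIso_inv_naturality (CommRingCat.ofHom ψ')) (MvPolynomial.X j)).symm]
      rw [IsAffineOpen.isoSpec_hom_appTop, CommRingCat.comp_apply]
      exact congrArg V.topIso.inv ((Scheme.ΓSpecIso Γ(X, V)).inv_hom_id_apply _).symm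
  rw [key]
  haveI : Etale (Spec.map (CommRingCat.ofHom ψ')) := by
    rw [HasRingHomProperty.Spec_iff (P := @Etale)]
    exact hψ'
  haveI : IsOpenImmersion (AffineSpace.map σ hU.isoSpec.inv) :=
    MorphismProperty.of_isPullback (P := @IsOpenImmersion) (AffineSpace.isPullback_map _).flip inferInstance
  infer_instance

set_option backward.isDefEq.respectTransparency.types false in
/-- Affine space is smooth over the base. -/
theorem smooth_over (σ : Type u) [Finite σ] (S : Scheme.{u}) : Smooth (𝔸(σ; S) ↘ S) :=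
  MorphismProperty.pullback_fst _ _ <| by
  have := isIso_of_isTerminal specULiftZIsTerminal.{u} terminalIsTerminal (terminal.from _)
  rw [← terminal.comp_from (Spec.map (CommRingCat.ofHom C)),
    MorphismProperty.cancel_right_of_respectsIso (P := @Smooth),
    HasRingHomProperty.Spec_iff (P := @Smooth), RingHom.Smooth]
  convert! (⟨inferInstance, inferInstance⟩ : Algebra.Smooth (ULift ℤ) (MvPolynomial σ (ULift ℤ)))
  exact Algebra.algebra_ext _ _ fun _ ↦ rfl

/-- Translation of affine space by global functions of the base. -/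
noncomputable def translate {σ : Type u} {S : Scheme.{u}} (c : σ → Γ(S, ⊤)) : 𝔸(σ; S) ⟶ 𝔸(σ; S) :=
  AffineSpace.homOfVector (𝔸(σ; S) ↘ S) fun j => AffineSpace.coord S j + (𝔸(σ; S) ↘ S).appTop (c j)

theorem translate_comp {σ : Type u} {S : Scheme.{u}} {Z : Scheme.{u}} (p : Z ⟶ S) (w : σ → Γ(Z, ⊤))
    (c : σ → Γ(S, ⊤)) :
    AffineSpace.homOfVector p w ≫ translate c = AffineSpace.homOfVector p fun j => w j + p.appTop (c j) := by
  apply AffineSpace.hom_ext
  · rw [Category.assoc, translate, AffineSpace.homOfVector_over, AffineSpace.homOfVector_over,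
      AffineSpace.homOfVector_over]
  · intro j
    rw [Scheme.Hom.comp_appTop, CommRingCat.comp_apply, translate, AffineSpace.homOfVector_appTop_coord,
      AffineSpace.homOfVector_appTop_coord, map_add, AffineSpace.homOfVector_appTop_coord,
      ← CommRingCat.comp_apply, ← Scheme.Hom.comp_appTop, AffineSpace.homOfVector_over]

theorem isIso_translate {σ : Type u} {S : Scheme.{u}} (c : σ → Γ(S, ⊤)) : IsIso (translate c) := by
  have key : ∀ a b : σ → Γ(S, ⊤), (∀ j, a j + b j = 0) → translate a ≫ translate b = 𝟙 _ := by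
    intro a b hab
    show AffineSpace.homOfVector _ _ ≫ translate b = _
    rw [translate_comp]
    apply AffineSpace.hom_ext
    · rw [AffineSpace.homOfVector_over, Category.id_comp]
    · intro j
      rw [AffineSpace.homOfVector_appTop_coord, add_assoc, ← map_add, hab, map_zero, add_zero]
      simp
  exact ⟨translate (fun j => -c j), key _ _ fun j => add_neg_cancel _, key _ _ fun j => neg_add_cancel _⟩

/-- A morphism is smooth at a point of a section iff it has an étale chart vanishing on the section there. -/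
theorem mem_smoothLocus_iff {X Y : Scheme.{u}} (f : X ⟶ Y) [LocallyOfFinitePresentation f] (i : Y ⟶ X)
    (hi : i ≫ f = 𝟙 Y) (y : Y) :
    i.base y ∈ f.smoothLocus ↔
      ∃ (U : Y.Opens) (V : X.Opens) (_ : y ∈ U) (hUV : U ≤ i ⁻¹ᵁ V) (hVU : V ≤ f ⁻¹ᵁ U) (m : ℕ)
        (v : ULift.{u} (Fin m) → Γ(V, ⊤)),
        Etale (AffineSpace.homOfVector (f.resLE U V hVU) v) ∧ ∀ j, (i.resLE V U hUV).appTop (v j) = 0 := by
  constructor
  · intro hy
    obtain ⟨U₀, V₀, e₀, m, v₀, hiy, het⟩ := exists_affine_chart f hy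
    have hfi : ∀ z, f (i z) = z := fun z => by
      rw [← Scheme.Hom.comp_apply, hi]
      rfl
    let U := U₀ ⊓ i ⁻¹ᵁ V₀
    let V := V₀ ⊓ f ⁻¹ᵁ U
    have hyU : y ∈ U := ⟨by have := e₀ hiy; rwa [Scheme.Hom.mem_preimage, show f (i.base y) = y from hfi y] at this, hiy⟩
    have hUV : U ≤ i ⁻¹ᵁ V := fun z hz => ⟨hz.2, by show f (i z) ∈ U; rw [hfi]; exact hz⟩
    have hVU : V ≤ f ⁻¹ᵁ U := inf_le_right
    let hV₀ : V ≤ V₀ := inf_le_left
    let hU₀ : U ≤ U₀ := inf_le_left
    let p := f.resLE U V hVU
    let w : ULift.{u} (Fin m) → Γ(V, ⊤) := fun j => (X.homOfLE hV₀).appTop (v₀ j)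
    let c : ULift.{u} (Fin m) → Γ(U, ⊤) := fun j => (i.resLE V U hUV).appTop (w j)
    have hip : i.resLE V U hUV ≫ p = 𝟙 _ := by
      rw [← cancel_mono U.ι, Category.assoc, Scheme.Hom.resLE_comp_ι, Scheme.Hom.resLE_comp_ι_assoc, hi,
        Category.comp_id, Category.id_comp]
    refine ⟨U, V, hyU, hUV, hVU, m, fun j => w j + p.appTop (-c j), ?_, fun j => ?_⟩
    · rw [← translate_comp]
      haveI := isIso_translate (fun j => -c j)
      haveI : Etale (AffineSpace.homOfVector p w) := by
        haveI : IsOpenImmersion (AffineSpace.map (ULift.{u} (Fin m)) (Y.homOfLE hU₀)) :=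
          MorphismProperty.of_isPullback (P := @IsOpenImmersion) (AffineSpace.isPullback_map _).flip inferInstance
        refine MorphismProperty.of_postcomp (W := @Etale) (W' := @IsOpenImmersion) _
          (AffineSpace.map (ULift.{u} (Fin m)) (Y.homOfLE hU₀)) inferInstance ?_
        have : AffineSpace.homOfVector p w ≫ AffineSpace.map (ULift.{u} (Fin m)) (Y.homOfLE hU₀) =
            X.homOfLE hV₀ ≫ AffineSpace.homOfVector (f.resLE U₀ V₀ e₀) v₀ := by
          apply AffineSpace.hom_ext
          · rw [Category.assoc, Category.assoc, AffineSpace.map_over, AffineSpace.homOfVector_over_assoc,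
              AffineSpace.homOfVector_over, Scheme.Hom.resLE_map, Scheme.Hom.map_resLE]
          · intro j
            rw [Scheme.Hom.comp_appTop, CommRingCat.comp_apply, Scheme.Hom.comp_appTop, CommRingCat.comp_apply,
              AffineSpace.map_appTop_coord, AffineSpace.homOfVector_appTop_coord,
              AffineSpace.homOfVector_appTop_coord]
        rw [this]
        haveI := het
        infer_instance
      infer_instance
    · rw [map_add]
      show c j + (i.resLE V U hUV).appTop (p.appTop (-c j)) = 0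
      rw [← CommRingCat.comp_apply (p.appTop) (i.resLE V U hUV).appTop, ← Scheme.Hom.comp_appTop, hip]
      simp
  · rintro ⟨U, V, hyU, hUV, hVU, m, v, het, -⟩
    haveI := het
    haveI := smooth_over (ULift.{u} (Fin m)) U.toScheme
    haveI : Smooth (f.resLE U V hVU) := by
      rw [← AffineSpace.homOfVector_over (f.resLE U V hVU) v]
      infer_instance
    haveI : Smooth (V.ι ≫ f) := by
      rw [← Scheme.Hom.resLE_comp_ι f hVU]
      infer_instance
    have h2 : (⟨i.base y, hUV hyU⟩ : V.toScheme) ∈ V.ι ⁻¹ᵁ f.smoothLocus := by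
      rw [Scheme.Hom.preimage_smoothLocus_eq, Scheme.Hom.smoothLocus_eq_top]
      trivial
    exact h2

end Groth.Agent.RGLib.SectionChart
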