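import Groth.Agent.QCoh.FlatBC
import Groth.Agent.AModX.Res
import Mathlib.RingTheory.Flat.Basic
import Mathlib.RingTheory.TensorProduct.Pi
import Mathlib.LinearAlgebra.TensorProduct.Pi
import Mathlib.LinearAlgebra.TensorProduct.Tower

/-!
# Global sections after a flat affine base change are spanned by the pulled back sections
-/

set_option autoImplicit false
set_option backward.isDefEq.respectTransparency false
set_option backward.isDefEq.respectTransparency.types false

universe u

open CategoryTheory CategoryTheory.Limits AlgebraicGeometry TopologicalSpace Opposite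
open scoped TensorProduct

namespace Groth.Agent.RGLib.SectionSpan

open Groth.Agent

variable {A B : Type u} [CommRing A] [CommRing B] [Algebra A B] {X X' : Scheme.{u}}
  {pA : X ⟶ Spec (CommRingCat.of A)} {pB : X' ⟶ Spec (CommRingCat.of B)} {φ : X' ⟶ X}

theorem mem_span_pull [Module.Flat A B] [CompactSpace X] [X.IsSeparated]
    (h : IsPullback φ pB pA (Spec.map (CommRingCat.ofHom (algebraMap A B))))
    {M : X.Modules} (hM : Coh.IsQCoh M) (s : Γ((Scheme.Modules.pullback φ).obj M, φ ⁻¹ᵁ ⊤)) :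
    s ∈ Submodule.span Γ(X', φ ⁻¹ᵁ ⊤) (Set.range
      (QCoh.pullSec φ M (le_refl (φ ⁻¹ᵁ ⊤))))  := by
  classical
  let N := (Scheme.Modules.pullback φ).obj M
  let η : M ⟶ (Scheme.Modules.pushforward φ).obj N := (Scheme.Modules.pullbackPushforwardAdjunction φ).unit.app M
  let ρ := Coh.toGlobal pA
  let ρ' := Coh.toGlobal pB
  have hρ := QCoh.toGlobal_comm pA pB φ h.w
  have hbc : QCoh.IsAffineBC φ ρ ρ' (M := M) (M' := N) hρ η := QCoh.isAffineBC_of_isPullback h hM
  -- module structures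
  letI : ∀ V : X.Opens, Module A Γ(M, V) := QCoh.secModule ρ M
  letI : ∀ V : X'.Opens, Module B Γ(N, V) := QCoh.secModule ρ' N
  letI : ∀ V : X'.Opens, Module A Γ(N, V) := QCoh.secModule (ρ'.comp (algebraMap A B)) N
  haveI : ∀ V : X'.Opens, IsScalarTower A B Γ(N, V) := fun V => .of_algebraMap_smul fun _ _ => rfl
  let l : ∀ V : X.Opens, Γ(M, V) →ₗ[A] Γ(N, φ ⁻¹ᵁ V) := fun V =>
    QCoh.secLin (M := M) (M' := N) ρ ρ' φ η hρ V (φ ⁻¹ᵁ V) le_rfl
  let Θ : ∀ V : X.Opens, B ⊗[A] Γ(M, V) →ₗ[B] Γ(N, φ ⁻¹ᵁ V) := fun V => (l V).liftBaseChange B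
  have hΘ : ∀ V, IsAffineOpen V → Function.Bijective (Θ V) := fun V hV => by
    have e : (hbc V hV).equiv.toLinearMap = Θ V := by
      apply TensorProduct.AlgebraTensorModule.ext
      intro b m
      rw [LinearEquiv.coe_coe, IsBaseChange.equiv_tmul]
      show _ = (l V).liftBaseChange B (b ⊗ₜ m)
      rw [LinearMap.liftBaseChange_tmul]
    rw [← e]
    exact (hbc V hV).equiv.bijective
  let r : ∀ {V W : X.Opens}, W ≤ V → (Γ(M, V) →ₗ[A] Γ(M, W)) := fun {V W} hle =>
    { toFun := AModX.res M hle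
      map_add' := map_add _
      map_smul' := fun a m => (AModX.res_smul hle _ m).trans
        (congrArg (· • AModX.res M hle m) (AModX.resR_resR le_top hle (ρ a))) }
  have hres : ∀ {V W : X'.Opens} (hle : W ≤ V) (b : B) (z : Γ(N, V)),
      AModX.res N hle (b • z) = b • AModX.res N hle z := fun hle b z =>
    (AModX.res_smul hle _ z).trans (congrArg (· • AModX.res N hle z) (AModX.resR_resR le_top hle (ρ' b)))
  have hl : ∀ {V W : X.Opens} (hle : W ≤ V) (m : Γ(M, V)),
      AModX.res N (φ.preimage_mono hle) (l V m) = l W (r hle m) := by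
    intro V W hle m
    show AModX.res N _ (AModX.res N le_rfl (η.app V m)) = AModX.res N le_rfl (η.app W (AModX.res M hle m))
    rw [AModX.res_self, AModX.res_self]
    exact (AModX.app_res η hle m).symm
  have hnat : ∀ {V W : X.Opens} (hle : W ≤ V) (z : B ⊗[A] Γ(M, V)),
      AModX.res N (φ.preimage_mono hle) (Θ V z) = Θ W ((r hle).lTensor B z) := by
    intro V W hle z
    induction z with
    | zero => simp only [map_zero]
    | tmul b m =>
      rw [LinearMap.lTensor_tmul]
      show AModX.res N _ ((l V).liftBaseChange B (b ⊗ₜ m)) = (l W).liftBaseChange B (b ⊗ₜ r hle m)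
      rw [LinearMap.liftBaseChange_tmul, LinearMap.liftBaseChange_tmul, hres, hl]
    | add z₁ z₂ h₁ h₂ => simp only [map_add, h₁, h₂]
  -- a finite affine cover
  choose U hU hxU _ using fun x : X => exists_isAffineOpen_mem_and_subset (x := x) (U := ⊤) trivial
  obtain ⟨S, hS⟩ := isCompact_univ.elim_finite_subcover (fun x => (U x : Set X)) (fun x => (U x).2)
    (fun x _ => Set.mem_iUnion.2 ⟨x, hxU x⟩)
  let W : S → X.Opens := fun i => U i.1
  let d₀ : Γ(M, ⊤) →ₗ[A] ∀ i : S, Γ(M, W i) := LinearMap.pi fun i => r le_top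
  let d₁ : (∀ i : S, Γ(M, W i)) →ₗ[A] ∀ p : S × S, Γ(M, W p.1 ⊓ W p.2) :=
    LinearMap.pi fun p => r inf_le_left ∘ₗ LinearMap.proj p.1 - r inf_le_right ∘ₗ LinearMap.proj p.2
  have hcov : ∀ p : X, ∃ i : S, p ∈ W i := fun p => by
    obtain ⟨x, hx, hpx⟩ := Set.mem_iUnion₂.1 (hS (Set.mem_univ p))
    exact ⟨⟨x, hx⟩, hpx⟩
  have hex : Function.Exact d₀ d₁ := by
    intro f
    constructor
    · intro hf
      obtain ⟨t, ht, -⟩ := AModX.existsUnique_glue (M := M) (V := ⊤) W (fun _ => le_top)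
        (fun p _ => hcov p) f (fun i j => sub_eq_zero.1 (congrFun hf (i, j)))
      exact ⟨t, funext ht⟩
    · rintro ⟨t, rfl⟩
      funext p
      show AModX.res M _ (AModX.res M _ t) - AModX.res M _ (AModX.res M _ t) = 0
      rw [AModX.res_res, AModX.res_res, sub_self]
  have hproj : ∀ {ι : Type u} [Fintype ι] (P : ι → Type u) [∀ i, AddCommGroup (P i)] [∀ i, Module A (P i)]
      (i : ι) (z : B ⊗[A] (∀ i, P i)),
      TensorProduct.piRight A B B P z i = (LinearMap.proj i : (∀ i, P i) →ₗ[A] P i).lTensor B z := by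
    intro ι _ P _ _ i z
    induction z with
    | zero => simp
    | tmul b m => simp
    | add z₁ z₂ h₁ h₂ => simp only [map_add, Pi.add_apply, h₁, h₂]
  choose e he using fun i : S => (hΘ (W i) (hU i.1)).2
    (AModX.res N (φ.preimage_mono (le_top : W i ≤ ⊤)) s)
  let E := (TensorProduct.piRight A B B fun i : S => Γ(M, W i)).symm e
  have hE : ∀ i, (LinearMap.proj i : (∀ i : S, Γ(M, W i)) →ₗ[A] Γ(M, W i)).lTensor B E = e i := by
    intro i
    rw [← hproj (fun i : S => Γ(M, W i)) i E]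
    exact congrFun ((TensorProduct.piRight A B B fun i : S => Γ(M, W i)).apply_symm_apply e) i
  have hker : d₁.lTensor B E = 0 := by
    apply (TensorProduct.piRight A B B fun p : S × S => Γ(M, W p.1 ⊓ W p.2)).injective
    funext p
    refine (hproj (fun p : S × S => Γ(M, W p.1 ⊓ W p.2)) p _).trans ?_
    rw [map_zero, Pi.zero_apply, ← LinearMap.lTensor_comp_apply, LinearMap.proj_pi,
      LinearMap.lTensor_sub, LinearMap.sub_apply, LinearMap.lTensor_comp_apply,
      LinearMap.lTensor_comp_apply, hE, hE]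
    apply (hΘ _ ((hU p.1.1).inf (hU p.2.1))).1
    rw [map_sub, map_zero, ← hnat, ← hnat, he, he, AModX.res_res, AModX.res_res, sub_self]
  obtain ⟨z, hz⟩ := (Module.Flat.lTensor_exact B hex E).1 hker
  have hs : Θ ⊤ z = s := by
    refine AModX.eq_of_locally _ _ fun p _ => ?_
    obtain ⟨i, hi⟩ := hcov (φ p)
    refine ⟨φ ⁻¹ᵁ W i, φ.preimage_mono le_top, hi, ?_⟩
    have h1 : (r (le_top : W i ≤ ⊤)).lTensor B z = e i := by
      rw [← hE i, ← hz, ← LinearMap.lTensor_comp_apply]
      rfl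
    rw [hnat le_top, h1, he]
  rw [← hs]
  clear hs hz
  induction z with
  | zero => rw [map_zero]; exact zero_mem _
  | tmul b m =>
    show (l ⊤).liftBaseChange B (b ⊗ₜ m) ∈ _
    rw [LinearMap.liftBaseChange_tmul]
    refine Submodule.smul_mem _ (X'.presheaf.map (homOfLE (le_top : φ ⁻¹ᵁ ⊤ ≤ ⊤)).op (ρ' b)) ?_
    exact Submodule.subset_span ⟨m, rfl⟩
  | add z₁ z₂ h₁ h₂ => rw [map_add]; exact add_mem h₁ h₂

end Groth.Agent.RGLib.SectionSpan
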