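import Groth.Agent.RGLib.Complete

/-! The complete Noetherian model of a point of an affine space over a local ring. -/

universe u

noncomputable section

open TensorProduct IsLocalRing MvPolynomial

namespace Groth.Agent.RGLib

/-- A complete Noetherian local ring mapping to a flat local extension with the same residue field. -/
theorem exists_completion_model (A A₀₀ : Type u) [CommRing A] [IsLocalRing A] [CommRing A₀₀] [IsLocalRing A₀₀]
    [IsNoetherianRing A₀₀] [Algebra A₀₀ A] [IsLocalHom (algebraMap A₀₀ A)] :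
    ∃ (A₀ A' : Type u) (_ : CommRing A₀) (_ : IsLocalRing A₀) (_ : IsNoetherianRing A₀)
      (_ : IsAdicComplete (maximalIdeal A₀) A₀) (_ : CommRing A') (_ : IsLocalRing A')
      (_ : Algebra A A') (_ : Module.Flat A A') (_ : Algebra A₀ A') (_ : IsLocalHom (algebraMap A₀ A'))
      (ψ : A₀₀ →+* A₀) (ε : A' →+* ResidueField A),
      (∀ x, algebraMap A₀ A' (ψ x) = algebraMap A A' (algebraMap A₀₀ A x)) ∧
      (∀ x, ε (algebraMap A A' x) = residue A x) ∧ RingHom.ker ε = maximalIdeal A' := by
  let m := maximalIdeal A₀₀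
  let A₀ := AdicCompletion m A₀₀
  haveI : IsNoetherianRing A₀ := LC.Canon.isNoetherianRing_completion (R := A₀₀)
  haveI : IsAdicComplete (maximalIdeal A₀) A₀ := CILib.isAdicComplete_adicCompletion A₀₀
  haveI : IsLocalHom (algebraMap A₀₀ A₀) := AdicCompletion.algebraMap_isLocalHom_of_fg (IsNoetherian.noetherian _)
  haveI : Module.FaithfullyFlat A₀₀ A₀ := Module.FaithfullyFlat.of_flat_of_isLocalHom
  let φD : A₀ →ₐ[A₀₀] ResidueField A :=
    (Ideal.Quotient.liftₐ m (Algebra.ofId A₀₀ (ResidueField A)) fun x hx => by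
      rw [Algebra.ofId_apply, IsScalarTower.algebraMap_apply A₀₀ A (ResidueField A)]
      exact Ideal.Quotient.eq_zero_iff_mem.2 (map_nonunit (algebraMap A₀₀ A) x hx)).comp
      (AdicCompletion.evalOneₐ m)
  let T := A ⊗[A₀₀] A₀
  let εT : T →ₐ[A₀₀] ResidueField A :=
    Algebra.TensorProduct.lift (IsScalarTower.toAlgHom A₀₀ A (ResidueField A)) φD fun _ _ => Commute.all _ _
  have hεA : ∀ a : A, εT (a ⊗ₜ 1) = residue A a := fun a => by
    rw [Algebra.TensorProduct.lift_tmul, map_one, mul_one]
    rfl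
  let P : Ideal T := RingHom.ker εT
  haveI : P.IsPrime := RingHom.ker_isPrime _
  let A' := Localization.AtPrime P
  have hunit : ∀ s : P.primeCompl, IsUnit (εT.toRingHom s) := fun s =>
    isUnit_iff_ne_zero.2 fun h => s.2 h
  let ε : A' →+* ResidueField A := IsLocalization.lift hunit
  have hker : RingHom.ker ε = maximalIdeal A' := by
    refine IsLocalRing.eq_maximalIdeal (RingHom.ker_isMaximal_of_surjective ε fun y => ?_)
    obtain ⟨a, rfl⟩ := residue_surjective y
    exact ⟨algebraMap T A' (a ⊗ₜ 1), by rw [IsLocalization.lift_eq]; exact hεA a⟩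
  letI algA₀ : Algebra A₀ A' :=
    ((algebraMap T A').comp (Algebra.TensorProduct.includeRight : A₀ →ₐ[A₀₀] T).toRingHom).toAlgebra
  haveI : Module.Flat A A' := Module.Flat.trans A T A'
  have hloc : IsLocalHom (algebraMap A₀ A') := by
    refine ⟨fun x hx => ?_⟩
    by_contra h
    have hxm : x ∈ maximalIdeal A₀ := h
    rw [AdicCompletion.maximalIdeal_eq_map (R := A₀₀)] at hxm
    have hle : m.map (algebraMap A₀₀ A₀) ≤ RingHom.ker φD := by
      rw [Ideal.map_le_iff_le_comap]
      intro y hy
      show φD (algebraMap A₀₀ A₀ y) = 0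
      rw [AlgHom.commutes, IsScalarTower.algebraMap_apply A₀₀ A (ResidueField A)]
      exact Ideal.Quotient.eq_zero_iff_mem.2 (map_nonunit (algebraMap A₀₀ A) y hy)
    have h0 : ε (algebraMap A₀ A' x) = 0 := by
      show ε (algebraMap T A' (1 ⊗ₜ x)) = 0
      rw [IsLocalization.lift_eq]
      show εT (1 ⊗ₜ x) = 0
      rw [Algebra.TensorProduct.lift_tmul, map_one, one_mul]
      exact hle hxm
    exact (hx.map ε).ne_zero h0
  refine ⟨A₀, A', inferInstance, inferInstance, inferInstance, inferInstance, inferInstance, inferInstance,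
    inferInstance, inferInstance, algA₀, hloc, algebraMap A₀₀ A₀, ε, fun x => ?_, fun x => ?_, hker⟩
  · show algebraMap T A' (1 ⊗ₜ algebraMap A₀₀ A₀ x) = algebraMap A A' (algebraMap A₀₀ A x)
    rw [IsScalarTower.algebraMap_apply A T A']
    exact congrArg _ (Algebra.TensorProduct.tmul_one_eq_one_tmul x).symm
  · rw [IsScalarTower.algebraMap_apply A T A', IsLocalization.lift_eq]
    exact hεA x

end Groth.Agent.RGLib

end
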