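import Groth.Agent.RGLib.EtaleCoord
import Groth.Prelude.Def_CInt

/-!
# The ideal of a smooth subscheme of a smooth scheme is regular
-/

set_option autoImplicit false
set_option maxHeartbeats 1600000
set_option backward.isDefEq.respectTransparency false
set_option backward.isDefEq.respectTransparency.types false
universe u

open TensorProduct IsLocalRing RingTheory.Sequence

noncomputable section

namespace Groth.Agent.RGLib.SmoothRegIdeal

/-- Distinct variables form a weakly regular sequence. -/
theorem isWeaklyRegular_X_comp {σ : Type} (k : Type u) [CommRing k] {n : ℕ} (e : Fin n → σ)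
    (he : Function.Injective e) :
    IsWeaklyRegular (MvPolynomial σ k) (List.ofFn fun i => (MvPolynomial.X (e i) : MvPolynomial σ k)) := by
  classical
  refine ⟨fun i hi => IsSMulRegular.of_right_eq_zero_of_smul fun f hf => ?_⟩
  obtain ⟨f, rfl⟩ := Submodule.Quotient.mk_surjective _ f
  rw [← Submodule.Quotient.mk_smul, Submodule.Quotient.mk_eq_zero] at hf
  rw [Submodule.Quotient.mk_eq_zero]
  have hin : i < n := by simpa using hi
  have hJ : (Ideal.ofList ((List.ofFn fun j => (MvPolynomial.X (e j) : MvPolynomial σ k)).take i) •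
      (⊤ : Submodule (MvPolynomial σ k) (MvPolynomial σ k))) =
      Ideal.span (MvPolynomial.X '' (e '' {j : Fin n | (j : ℕ) < i})) := by
    rw [smul_eq_mul, Ideal.mul_top, Set.image_image]
    refine congrArg Ideal.span (Set.ext fun p => ?_)
    simp only [Set.mem_setOf_eq, Set.mem_image, List.mem_take_iff_getElem, List.getElem_ofFn]
    constructor
    · rintro ⟨j, hj, rfl⟩; exact ⟨⟨j, by simp at hj; omega⟩, by simp at hj ⊢; omega, rfl⟩
    · rintro ⟨j, hj, rfl⟩; exact ⟨j, by simp; omega, rfl⟩
  rw [hJ, MvPolynomial.mem_ideal_span_X_image] at hf ⊢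
  intro d hd
  have hd' : Finsupp.single (e ⟨i, hin⟩) 1 + d ∈
      ((List.ofFn fun j => (MvPolynomial.X (e j) : MvPolynomial σ k))[i] • f).support := by
    rw [MvPolynomial.mem_support_iff, smul_eq_mul, List.getElem_ofFn, MvPolynomial.coeff_X_mul]
    exact MvPolynomial.mem_support_iff.1 hd
  obtain ⟨_, ⟨j, hj, rfl⟩, hne⟩ := hf _ hd'
  refine ⟨e j, ⟨j, hj, rfl⟩, ?_⟩
  have hji : e ⟨i, hin⟩ ≠ e j := fun h => by rw [← he h] at hj; exact lt_irrefl i hj
  rwa [Finsupp.add_apply, Finsupp.single_eq_of_ne' hji, zero_add] at hne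

variable {A B : Type u} [CommRing A] [CommRing B] [Algebra A B] [Algebra.FinitePresentation A B]

/-- If `B` and `B ⧸ J` are smooth over `A` at a prime, `J` is generated there by a regular sequence. -/
theorem isRegularIdeal_of_isSmoothAt [IsNoetherianRing B] (J : Ideal B) (q : Ideal B) [q.IsPrime] (hJq : J ≤ q)
    [Algebra.IsSmoothAt A q] (Q : Ideal (B ⧸ J)) [Q.IsPrime] (hQ : Q.comap (Ideal.Quotient.mk J) = q)
    [Algebra.IsSmoothAt A Q] :
    CInt.IsRegularIdeal (J.map (algebraMap B (Localization.AtPrime q))) := by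
  classical
  let Bq := Localization.AtPrime q
  let k := q.ResidueField
  haveI : Algebra.FormallySmooth A Bq := ‹Algebra.IsSmoothAt A q›
  haveI : Algebra.EssFiniteType A Bq := Algebra.EssFiniteType.comp A B Bq
  haveI : Module.Free Bq Ω[Bq⁄A] := Module.free_of_flat_of_isLocalRing
  obtain ⟨s, hsJ, hgen₀, hli⟩ := (Jacobian.isSmoothAt_iff_exists (R := A) J Q q hQ.symm).1 inferInstance
  let r := Fintype.card s
  let g : Fin r → B := fun i => ((Fintype.equivFin s).symm i : B)
  have hg : ∀ i, g i ∈ J := fun i => hsJ ((Fintype.equivFin s).symm i).2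
  have hrg : Set.range g = (s : Set B) := by
    show Set.range (Subtype.val ∘ (Fintype.equivFin s).symm) = _
    rw [Set.range_comp, Equiv.range_eq_univ, Set.image_univ]
    exact Subtype.range_coe
  have hgen : J.map (algebraMap B Bq) = Ideal.span (Set.range fun i => algebraMap B Bq (g i)) := by
    rw [hgen₀, Set.range_comp', hrg]
  have hk0 : ∀ b ∈ q, algebraMap B k b = 0 := fun b hb => Ideal.algebraMap_residueField_eq_zero.2 hb
  have hku : ∀ t ∉ q, algebraMap B k t ≠ 0 := fun t ht h => ht (Ideal.algebraMap_residueField_eq_zero.1 h)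
  have hmin : r = Module.finrank k (k ⊗[B] J) := by
    let w : Fin r → k ⊗[B] J := fun i => 1 ⊗ₜ (⟨g i, hg i⟩ : J)
    have hspan : ⊤ ≤ Submodule.span k (Set.range w) := by
      intro z _
      induction z using TensorProduct.induction_on with
      | zero => exact zero_mem _
      | add a b ha hb => exact add_mem (ha trivial) (hb trivial)
      | tmul c x =>
        have hx : algebraMap B Bq x.1 ∈ (Ideal.span (Set.range g)).map (algebraMap B Bq) := by
          rw [Ideal.map_span, ← Set.range_comp]
          exact hgen ▸ Ideal.mem_map_of_mem _ x.2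
        obtain ⟨t, ht, htx⟩ := (IsLocalization.algebraMap_mem_map_algebraMap_iff q.primeCompl Bq _ _).1 hx
        obtain ⟨cf, hcf⟩ := (Ideal.mem_span_range_iff_exists_fun).1 htx
        have htx' : (t • x : J) = ∑ i, cf i • (⟨g i, hg i⟩ : J) := by
          apply Subtype.ext
          simp only [Submodule.coe_smul, Submodule.coe_sum, smul_eq_mul, hcf]
        have h1 : algebraMap B k t • ((1 : k) ⊗ₜ[B] x) = ∑ i, algebraMap B k (cf i) • w i := by
          simp only [w, algebraMap_smul, ← TensorProduct.tmul_smul, ← TensorProduct.tmul_sum, htx']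
        have h2 : (1 : k) ⊗ₜ[B] x ∈ Submodule.span k (Set.range w) := by
          rw [← inv_smul_smul₀ (hku t ht) ((1 : k) ⊗ₜ[B] x), h1]
          exact Submodule.smul_mem _ _ (sum_mem fun i _ => Submodule.smul_mem _ _ (Submodule.subset_span ⟨i, rfl⟩))
        rw [show c ⊗ₜ[B] x = c • ((1 : k) ⊗ₜ[B] x) by rw [TensorProduct.smul_tmul', smul_eq_mul, mul_one]]
        exact Submodule.smul_mem _ _ h2
    let δ : J →ₗ[B] k ⊗[B] Ω[B⁄A] :=
      { toFun := fun x => 1 ⊗ₜ KaehlerDifferential.D A B (x : B)
        map_add' := fun x y => by rw [Submodule.coe_add, map_add, TensorProduct.tmul_add]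
        map_smul' := fun b x => by
          rw [Submodule.coe_smul, smul_eq_mul, Derivation.leibniz, TensorProduct.tmul_add, RingHom.id_apply,
            TensorProduct.tmul_smul, TensorProduct.tmul_smul, ← algebraMap_smul k (x : B) ((1 : k) ⊗ₜ[B] KaehlerDifferential.D A B b),
            hk0 _ (hJq x.2), zero_smul, add_zero] }
    have hw : LinearIndependent k w := by
      refine LinearIndependent.of_comp (δ.liftBaseChange k) ?_
      have e : (δ.liftBaseChange k) ∘ w = (fun g : ↥s => (1 : k) ⊗ₜ[B] KaehlerDifferential.D A B (g : B)) ∘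
          (Fintype.equivFin s).symm := funext fun i => by simp [w, δ, g]
      rw [e]
      exact hli.comp _ (Fintype.equivFin s).symm.injective
    rw [Module.finrank_eq_card_basis (Module.Basis.mk hw hspan), Fintype.card_fin]
  obtain ⟨f, hf, m, g', het, hJf⟩ := EtaleCoord.exists_coords (A := A) J (IsNoetherian.noetherian J) q hJq Q hQ r g hg hgen hmin
  let P := MvPolynomial (Fin r ⊕ Fin m) A
  let Bf := Localization.Away f
  have hle : Submonoid.powers f ≤ q.primeCompl := Submonoid.powers_le.2 hf
  have hle' : Submonoid.powers f ≤ q.primeCompl.comap (RingHom.id B) := hle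
  letI : Algebra Bf Bq := (IsLocalization.map Bq (RingHom.id B) hle'
    : Bf →+* Bq).toAlgebra
  haveI : IsScalarTower B Bf Bq := IsScalarTower.of_algebraMap_eq fun b =>
    (IsLocalization.map_eq (S := Bf) (Q := Bq) (g := RingHom.id B) hle' b).symm
  haveI := IsLocalization.isLocalization_of_submonoid_le Bf Bq (Submonoid.powers f) q.primeCompl hle
  haveI : Module.Flat Bf Bq := IsLocalization.flat Bq (q.primeCompl.map (algebraMap B Bf))
  let φ : P →ₐ[A] Bf := MvPolynomial.aeval (Sum.elim (fun i => algebraMap B Bf (g i)) g')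
  letI : Algebra P Bf := φ.toRingHom.toAlgebra
  letI : Algebra P Bq := ((algebraMap Bf Bq).comp (algebraMap P Bf)).toAlgebra
  haveI : IsScalarTower P Bf Bq := IsScalarTower.of_algebraMap_eq fun _ => rfl
  haveI : Algebra.Etale P Bf := het
  haveI : Module.Flat P Bq := Module.Flat.trans P Bf Bq
  let l := List.ofFn fun i : Fin r => (MvPolynomial.X (Sum.inl i) : P)
  have hwr : IsWeaklyRegular Bq (l.map (algebraMap P Bq)) :=
    IsWeaklyRegular.of_flat (S := Bq) (isWeaklyRegular_X_comp A Sum.inl Sum.inl_injective)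
  have hl : l.map (algebraMap P Bq) = List.ofFn fun i => algebraMap B Bq (g i) := by
    simp only [l, List.map_ofFn]
    congr 1
    funext i
    show algebraMap Bf Bq (φ (MvPolynomial.X (Sum.inl i))) = _
    simp only [φ]
    refine (congrArg (algebraMap Bf Bq) (MvPolynomial.aeval_X (R := A) _ (Sum.inl i))).trans ?_
    exact (IsScalarTower.algebraMap_apply B Bf Bq (g i)).symm
  have hofList : Ideal.ofList (List.ofFn fun i => algebraMap B Bq (g i)) = J.map (algebraMap B Bq) := by
    rw [hgen, Ideal.ofList]
    congr 1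
    ext z
    simp [List.mem_ofFn, Set.mem_range]
  refine ⟨_, ⟨hl ▸ hwr, ?_⟩, hofList⟩
  intro htop
  rw [smul_eq_mul, Ideal.mul_top, hofList] at htop
  have hmax : J.map (algebraMap B Bq) ≤ maximalIdeal Bq := by
    rw [← Localization.AtPrime.map_eq_maximalIdeal]
    exact Ideal.map_mono hJq
  exact (maximalIdeal.isMaximal Bq).ne_top (top_le_iff.1 (htop.le.trans hmax))

end Groth.Agent.RGLib.SmoothRegIdeal
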