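import Mathlib.AlgebraicGeometry.AffineSpace
import Mathlib.AlgebraicGeometry.Morphisms.ClosedImmersion

/-!
# Coordinate subspaces and closed subschemes cut out by coordinates
-/

set_option autoImplicit false
set_option backward.isDefEq.respectTransparency.types false

universe u

open CategoryTheory CategoryTheory.Limits AlgebraicGeometry

namespace Groth.Agent.RGLib.ZeroCoords

/-- A morphism to an affine scheme killing the equations of a closed subscheme factors through it. -/
theorem exists_lift {T U Z : Scheme.{u}} [IsAffine U] (i : Z ⟶ U) [IsClosedImmersion i] (b : T ⟶ U)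
    (hb : RingHom.ker i.appTop.hom ≤ RingHom.ker b.appTop.hom) : ∃ l : T ⟶ Z, l ≫ i = b := by
  obtain ⟨hZ, hsurj⟩ := IsClosedImmersion.isAffine_surjective_of_isAffine i
  haveI := hZ
  let φ : Γ(Z, ⊤) →+* Γ(T, ⊤) := i.appTop.hom.liftOfSurjective hsurj ⟨b.appTop.hom, hb⟩
  have hφ : φ.comp i.appTop.hom = b.appTop.hom := RingHom.liftOfRightInverse_comp _ _ _ _
  refine ⟨T.toSpecΓ ≫ Spec.map (CommRingCat.ofHom φ) ≫ Z.isoSpec.inv, ?_⟩
  rw [← cancel_mono U.toSpecΓ, Category.assoc, Category.assoc, Category.assoc, Scheme.toSpecΓ_naturality i,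
    ← Scheme.isoSpec_hom Z, Iso.inv_hom_id_assoc, ← Spec.map_comp, Scheme.toSpecΓ_naturality b]
  congr 2
  exact CommRingCat.hom_ext hφ

/-- If the ideal of `Z` in an affine `U` is generated by some of the coordinates, then `Z` is the
preimage of the corresponding coordinate subspace. -/
theorem isPullback_coordinate_subspace {S U Z : Scheme.{u}} [IsAffine U] (i : Z ⟶ U) [IsClosedImmersion i]
    (p : U ⟶ S) (m n : ℕ) (va : Fin m → Γ(U, ⊤)) (vb : Fin n → Γ(U, ⊤))
    (hker : RingHom.ker i.appTop.hom = Ideal.span (Set.range vb)) :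
    IsPullback (AffineSpace.homOfVector (i ≫ p) (fun j : ULift.{u} (Fin m) => i.appTop (va j.down))) i
      (AffineSpace.homOfVector (𝔸(ULift.{u} (Fin m); S) ↘ S)
        (fun j : ULift.{u} (Fin m ⊕ Fin n) =>
          Sum.elim (fun a => AffineSpace.coord S (ULift.up a)) (fun _ => 0) j.down))
      (AffineSpace.homOfVector p (fun j : ULift.{u} (Fin m ⊕ Fin n) => Sum.elim va vb j.down)) := by
  have hzero : ∀ k, i.appTop (vb k) = 0 := fun k => by
    have : vb k ∈ RingHom.ker i.appTop.hom := hker ▸ Ideal.subset_span ⟨k, rfl⟩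
    exact this
  let jv : ULift.{u} (Fin m ⊕ Fin n) → Γ(𝔸(ULift.{u} (Fin m); S), ⊤) := fun j =>
    Sum.elim (fun a => AffineSpace.coord S (ULift.up a)) (fun _ => 0) j.down
  let uv : ULift.{u} (Fin m ⊕ Fin n) → Γ(U, ⊤) := fun j => Sum.elim va vb j.down
  have key : ∀ (T : Scheme.{u}) (a : T ⟶ 𝔸(ULift.{u} (Fin m); S)) (b : T ⟶ U),
      a ≫ AffineSpace.homOfVector (𝔸(ULift.{u} (Fin m); S) ↘ S) jv = b ≫ AffineSpace.homOfVector p uv →
      a ≫ (𝔸(ULift.{u} (Fin m); S) ↘ S) = b ≫ p ∧ (∀ c, a.appTop (AffineSpace.coord S (ULift.up c)) = b.appTop (va c)) ∧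
        ∀ k, b.appTop (vb k) = 0 := fun T a b h => by
    refine ⟨?_, fun c => ?_, fun k => ?_⟩
    · have h1 := congrArg (fun q => q ≫ (𝔸(ULift.{u} (Fin m ⊕ Fin n); S) ↘ S)) h
      simpa only [Category.assoc, AffineSpace.homOfVector_over] using h1
    · have h1 := congrArg (fun q => q.appTop (AffineSpace.coord S (ULift.up (Sum.inl c)))) h
      simpa only [Scheme.Hom.comp_appTop, CommRingCat.comp_apply, AffineSpace.homOfVector_appTop_coord, jv, uv,
        Sum.elim_inl] using h1
    · have h1 := congrArg (fun q => q.appTop (AffineSpace.coord S (ULift.up (Sum.inr k)))) h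
      simp only [Scheme.Hom.comp_appTop, CommRingCat.comp_apply, AffineSpace.homOfVector_appTop_coord, jv, uv,
        Sum.elim_inr, map_zero] at h1
      exact h1.symm
  have hw : AffineSpace.homOfVector (i ≫ p) (fun j : ULift.{u} (Fin m) => i.appTop (va j.down)) ≫
      AffineSpace.homOfVector (𝔸(ULift.{u} (Fin m); S) ↘ S) jv = i ≫ AffineSpace.homOfVector p uv := by
    apply AffineSpace.hom_ext
    · simp only [Category.assoc, AffineSpace.homOfVector_over]
    · rintro ⟨c | k⟩
      · simp only [Scheme.Hom.comp_appTop, CommRingCat.comp_apply, AffineSpace.homOfVector_appTop_coord, jv, uv,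
          Sum.elim_inl]
      · simp only [Scheme.Hom.comp_appTop, CommRingCat.comp_apply, AffineSpace.homOfVector_appTop_coord, jv, uv,
          Sum.elim_inr, map_zero]
        exact (hzero k).symm
  have hl : ∀ s : PullbackCone (AffineSpace.homOfVector (𝔸(ULift.{u} (Fin m); S) ↘ S) jv)
      (AffineSpace.homOfVector p uv), ∃ l : s.pt ⟶ Z, l ≫ i = s.snd := fun s => by
    refine exists_lift i s.snd ?_
    rw [hker, Ideal.span_le]
    rintro _ ⟨k, rfl⟩
    exact (key s.pt s.fst s.snd s.condition).2.2 k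
  choose l hl using hl
  refine ⟨⟨hw⟩, ⟨PullbackCone.IsLimit.mk hw l (fun s => ?_) hl (fun s l' _ h2 => ?_)⟩⟩
  · obtain ⟨h1, h2, -⟩ := key s.pt s.fst s.snd s.condition
    apply AffineSpace.hom_ext
    · rw [Category.assoc, AffineSpace.homOfVector_over, ← Category.assoc, hl, h1]
    · intro j
      rw [Scheme.Hom.comp_appTop, CommRingCat.comp_apply, AffineSpace.homOfVector_appTop_coord,
        ← CommRingCat.comp_apply, ← Scheme.Hom.comp_appTop, hl]
      exact (h2 j.down).symm
  · rw [← cancel_mono i, h2, hl]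

end Groth.Agent.RGLib.ZeroCoords
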