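import Mathlib.AlgebraicGeometry.AffineSpace
import Mathlib.AlgebraicGeometry.Morphisms.Etale
import Mathlib.AlgebraicGeometry.IdealSheaf.Subscheme
import Mathlib.RingTheory.LocalRing.Module
import Groth.Agent.RGLib.EtaleCoord
import Groth.Agent.RGLib.ZeroCoords

/-!
# Étale coordinates adapted to a smooth closed subscheme
-/

set_option autoImplicit false
set_option backward.isDefEq.respectTransparency.types false
set_option backward.isDefEq.respectTransparency false
set_option maxHeartbeats 800000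
attribute [-instance] CategoryTheory.catToReflQuiver

universe u

open CategoryTheory CategoryTheory.Limits AlgebraicGeometry TensorProduct

namespace Groth.Agent.RGLib.SmoothSubChart

/-- Generators of an ideal at a prime, as many as the dimension of its fibre there. -/
theorem exists_gens {B : Type u} [CommRing B] (J : Ideal B) (hJ : J.FG) (q : Ideal B) [q.IsPrime] :
    ∃ g : Fin (Module.finrank q.ResidueField (q.ResidueField ⊗[B] J)) → B, (∀ k, g k ∈ J) ∧
      J.map (algebraMap B (Localization.AtPrime q)) =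
        Ideal.span (Set.range fun k => algebraMap B (Localization.AtPrime q) (g k)) := by
  haveI : Module.Finite B J := Module.Finite.iff_fg.2 hJ
  let K := q.ResidueField
  let s : Set (K ⊗[B] J) := Set.range fun x : J => (1 : K) ⊗ₜ x
  have htop : Submodule.span K s = ⊤ := by
    refine eq_top_iff.2 fun t _ => ?_
    induction t with
    | zero => exact zero_mem _
    | tmul c x =>
      rw [show c ⊗ₜ[B] x = c • ((1 : K) ⊗ₜ[B] x) by rw [TensorProduct.smul_tmul', smul_eq_mul, mul_one]]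
      exact Submodule.smul_mem _ c (Submodule.subset_span ⟨x, rfl⟩)
    | add a b ha hb => exact add_mem (ha trivial) (hb trivial)
  obtain ⟨v, hv, hspan, -⟩ := Submodule.exists_fun_fin_finrank_span_eq K s
  choose x hx using hv
  have hfr : Module.finrank K (Submodule.span K s) = Module.finrank K (K ⊗[B] J) := by
    rw [htop, finrank_top]
  let N : Submodule B J := Submodule.span B (Set.range x)
  haveI : Module.Finite B (J ⧸ N) := Module.Finite.of_surjective N.mkQ (Submodule.mkQ_surjective N)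
  have hsub : ¬ Nontrivial (K ⊗[B] (J ⧸ N)) := by
    rw [not_nontrivial_iff_subsingleton]
    refine subsingleton_of_forall_eq 0 fun t => ?_
    obtain ⟨t, rfl⟩ := LinearMap.lTensor_surjective K (Submodule.mkQ_surjective N) t
    have ht : t ∈ Submodule.span K (Set.range v) := by
      rw [hspan, htop]
      trivial
    obtain ⟨c, rfl⟩ := (Submodule.mem_span_range_iff_exists_fun K).1 ht
    rw [map_sum]
    refine Finset.sum_eq_zero fun k _ => ?_
    rw [show (LinearMap.lTensor K N.mkQ) (c k • v k) = c k • (LinearMap.lTensor K N.mkQ) (v k) from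
      (LinearMap.baseChange K N.mkQ).map_smul (c k) (v k), ← hx k, LinearMap.lTensor_tmul,
      Submodule.mkQ_apply, (Submodule.Quotient.mk_eq_zero N).2 (Submodule.subset_span ⟨k, rfl⟩),
      TensorProduct.tmul_zero, smul_zero]
  have hns : (⟨q, inferInstance⟩ : PrimeSpectrum B) ∉ Module.support B (J ⧸ N) := fun h =>
    hsub ((Module.mem_support_iff_nontrivial_residueField_tensorProduct _).1 h)
  refine ⟨fun k => (x (Fin.cast hfr.symm k) : B), fun k => (x _).2, ?_⟩
  refine le_antisymm ?_ (Ideal.span_le.2 ?_)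
  · refine Ideal.map_le_iff_le_comap.2 fun a ha => ?_
    rw [Module.notMem_support_iff'] at hns
    obtain ⟨c, hc, hca⟩ := hns (Submodule.Quotient.mk ⟨a, ha⟩)
    rw [← Submodule.Quotient.mk_smul, Submodule.Quotient.mk_eq_zero] at hca
    obtain ⟨w, hw⟩ := (Submodule.mem_span_range_iff_exists_fun B).1 hca
    have hw' : ∑ k, w k * (x k : B) = c * a := by
      simpa [Submodule.coe_sum] using congrArg Subtype.val hw
    refine Ideal.mem_comap.2 ?_
    have hu : IsUnit (algebraMap B (Localization.AtPrime q) c) :=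
      IsLocalization.map_units (Localization.AtPrime q) (⟨c, hc⟩ : q.primeCompl)
    rw [← Ideal.unit_mul_mem_iff_mem _ hu, ← map_mul, ← hw', map_sum]
    refine Ideal.sum_mem _ fun k _ => ?_
    rw [map_mul]
    exact Ideal.mul_mem_left _ _ (Ideal.subset_span ⟨Fin.cast hfr k, by simp⟩)
  · rintro _ ⟨k, rfl⟩
    exact Ideal.mem_map_of_mem _ (x _).2

/-- An etale map from a polynomial ring gives an etale morphism to affine space. -/
theorem etale_homOfVector {X S : Scheme.{u}} (f : X ⟶ S) {S0 : S.Opens} (hS0 : IsAffineOpen S0)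
    {U : X.Opens} (hU : IsAffineOpen U) (e : U ≤ f ⁻¹ᵁ S0) (σ : Type u) [Finite σ]
    (ψ : MvPolynomial σ Γ(S, S0) →+* Γ(X, U)) (hψ : ψ.Etale)
    (hC : ψ.comp MvPolynomial.C = (f.appLE S0 U e).hom) :
    Etale (AffineSpace.homOfVector (U.ι ≫ f) (fun j => U.topIso.inv (ψ (MvPolynomial.X j)))) := by
  have key : AffineSpace.homOfVector (f.resLE S0 U e) (fun j => U.topIso.inv (ψ (MvPolynomial.X j))) =
      hU.isoSpec.hom ≫ Spec.map (CommRingCat.ofHom ψ) ≫
        (AffineSpace.SpecIso σ Γ(S, S0)).inv ≫ AffineSpace.map σ hS0.isoSpec.inv := by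
    apply AffineSpace.hom_ext
    · rw [AffineSpace.homOfVector_over, Category.assoc, Category.assoc, Category.assoc, AffineSpace.map_over,
        AffineSpace.SpecIso_inv_over_assoc, ← Spec.map_comp_assoc]
      have h1 : CommRingCat.ofHom MvPolynomial.C ≫ CommRingCat.ofHom ψ = f.appLE S0 U e :=
        CommRingCat.hom_ext hC
      rw [h1, ← cancel_mono S0.ι, Scheme.Hom.resLE_comp_ι, Category.assoc, Category.assoc,
        IsAffineOpen.isoSpec_inv_ι, IsAffineOpen.SpecMap_appLE_fromSpec f hS0 hU e,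
        IsAffineOpen.isoSpec_hom_fromSpec_assoc]
    · intro j
      rw [AffineSpace.homOfVector_appTop_coord, Scheme.Hom.comp_appTop, CommRingCat.comp_apply,
        Scheme.Hom.comp_appTop, CommRingCat.comp_apply, Scheme.Hom.comp_appTop, CommRingCat.comp_apply,
        AffineSpace.map_appTop_coord, AffineSpace.SpecIso_inv_appTop_coord]
      erw [show (Spec.map (CommRingCat.ofHom ψ)).appTop ((Scheme.ΓSpecIso _).inv (MvPolynomial.X j)) =
        (Scheme.ΓSpecIso Γ(X, U)).inv (ψ (MvPolynomial.X j)) from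
        (ConcreteCategory.congr_hom (Scheme.ΓSpecIso_inv_naturality (CommRingCat.ofHom ψ)) (MvPolynomial.X j)).symm]
      rw [IsAffineOpen.isoSpec_hom_appTop, CommRingCat.comp_apply]
      exact congrArg U.topIso.inv ((Scheme.ΓSpecIso Γ(X, U)).inv_hom_id_apply _).symm
  haveI : Etale (Spec.map (CommRingCat.ofHom ψ)) := by
    rw [HasRingHomProperty.Spec_iff (P := @Etale)]
    exact hψ
  haveI : IsOpenImmersion (AffineSpace.map σ hS0.isoSpec.inv) :=
    MorphismProperty.of_isPullback (P := @IsOpenImmersion) (AffineSpace.isPullback_map _).flip inferInstance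
  haveI : IsOpenImmersion (AffineSpace.map σ S0.ι) :=
    MorphismProperty.of_isPullback (P := @IsOpenImmersion) (AffineSpace.isPullback_map _).flip inferInstance
  have hcomp : AffineSpace.homOfVector (U.ι ≫ f) (fun j => U.topIso.inv (ψ (MvPolynomial.X j))) =
      AffineSpace.homOfVector (f.resLE S0 U e) (fun j => U.topIso.inv (ψ (MvPolynomial.X j))) ≫
        AffineSpace.map σ S0.ι := by
    apply AffineSpace.hom_ext
    · rw [Category.assoc, AffineSpace.map_over, AffineSpace.homOfVector_over_assoc,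
        AffineSpace.homOfVector_over, Scheme.Hom.resLE_comp_ι]
    · intro j
      rw [Scheme.Hom.comp_appTop, CommRingCat.comp_apply, AffineSpace.map_appTop_coord,
        AffineSpace.homOfVector_appTop_coord, AffineSpace.homOfVector_appTop_coord]
  rw [hcomp, key]
  infer_instance

theorem isSmoothAt_of_smooth (A B : Type u) [CommRing A] [CommRing B] [Algebra A B] [Algebra.Smooth A B]
    (q : Ideal B) [q.IsPrime] : Algebra.IsSmoothAt A q :=
  haveI : Algebra.FormallySmooth B (Localization.AtPrime q) := Algebra.FormallySmooth.of_isLocalization q.primeCompl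
  Algebra.FormallySmooth.comp A B (Localization.AtPrime q)

theorem main {S X Y : Scheme.{u}} (pX : X ⟶ S) (pY : Y ⟶ S) [Smooth pX] [Smooth pY]
    (i : Y ⟶ X) [IsClosedImmersion i] (w : i ≫ pX = pY) (y : Y) :
    ∃ (U : X.Opens) (m n : ℕ) (π : (U : Scheme.{u}) ⟶ 𝔸(ULift.{u} (Fin m ⊕ Fin n); S))
      (ρ : (↑(i ⁻¹ᵁ U) : Scheme.{u}) ⟶ 𝔸(ULift.{u} (Fin m); S)),
      i y ∈ U ∧ Etale π ∧ π ≫ (𝔸(ULift.{u} (Fin m ⊕ Fin n); S) ↘ S) = U.ι ≫ pX ∧
      IsPullback ρ (i ∣_ U)
        (AffineSpace.homOfVector (𝔸(ULift.{u} (Fin m); S) ↘ S)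
          (fun j : ULift.{u} (Fin m ⊕ Fin n) => Sum.elim (fun a => AffineSpace.coord S (ULift.up a)) (fun _ => 0) j.down))
        π := by
  subst w
  obtain ⟨S0, hS0, hyS0, -⟩ := exists_isAffineOpen_mem_and_subset (x := pX (i y)) (U := (⊤ : S.Opens)) trivial
  obtain ⟨V, hV, hyV, e⟩ := exists_isAffineOpen_mem_and_subset (x := i y) (U := pX ⁻¹ᵁ S0) hyS0
  replace e : V ≤ pX ⁻¹ᵁ S0 := e
  have hW : IsAffineOpen (i ⁻¹ᵁ V) := hV.preimage i
  have e' : i ⁻¹ᵁ V ≤ (i ≫ pX) ⁻¹ᵁ S0 := fun z hz => e hz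
  have hsm : (pX.appLE S0 V e).hom.Smooth := HasRingHomProperty.appLE @Smooth pX inferInstance ⟨S0, hS0⟩ ⟨V, hV⟩ e
  have hsmY : ((i ≫ pX).appLE S0 (i ⁻¹ᵁ V) e').hom.Smooth :=
    HasRingHomProperty.appLE @Smooth (i ≫ pX) inferInstance ⟨S0, hS0⟩ ⟨i ⁻¹ᵁ V, hW⟩ e'
  have hfac : (i ≫ pX).appLE S0 (i ⁻¹ᵁ V) e' = pX.appLE S0 V e ≫ i.app V := by
    rw [Scheme.Hom.app_eq_appLE, Scheme.Hom.appLE_comp_appLE]
  rw [hfac] at hsmY
  algebraize [(pX.appLE S0 V e).hom]
  haveI : Algebra.FinitePresentation Γ(S, S0) Γ(X, V) := Algebra.Smooth.finitePresentation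
  letI algC : Algebra Γ(S, S0) Γ(Y, i ⁻¹ᵁ V) := ((i.app V).hom.comp (pX.appLE S0 V e).hom).toAlgebra
  haveI smC : Algebra.Smooth Γ(S, S0) Γ(Y, i ⁻¹ᵁ V) := hsmY
  let φ : Γ(X, V) →ₐ[Γ(S, S0)] Γ(Y, i ⁻¹ᵁ V) := { (i.app V).hom with commutes' := fun _ => rfl }
  have hφ : Function.Surjective φ := i.app_surjective V hV
  let J : Ideal Γ(X, V) := RingHom.ker φ
  have hJ : J.FG := Algebra.FinitePresentation.ker_fG_of_surjective φ hφ
  let eC : (Γ(X, V) ⧸ J) ≃ₐ[Γ(S, S0)] Γ(Y, i ⁻¹ᵁ V) := Ideal.quotientKerAlgEquivOfSurjective hφ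
  haveI : Algebra.Smooth Γ(S, S0) (Γ(X, V) ⧸ J) := Algebra.Smooth.of_equiv eC.symm
  let qY := (hW.primeIdealOf ⟨y, hyV⟩).asIdeal
  let q := (hV.primeIdealOf ⟨i y, hyV⟩).asIdeal
  have hq : qY.comap (i.app V).hom = q := by
    rw [Scheme.Hom.app_eq_appLE]
    exact congrArg PrimeSpectrum.asIdeal (IsAffineOpen.comap_primeIdealOf_appLE V hV (i ⁻¹ᵁ V) hW le_rfl hyV)
  let Q : Ideal (Γ(X, V) ⧸ J) := qY.comap eC.toRingEquiv.toRingHom
  have hQ : Q.comap (Ideal.Quotient.mk J) = q := by
    rw [Ideal.comap_comap, ← hq]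
    rfl
  have hJq : J ≤ q := fun a ha => by
    rw [← hq, Ideal.mem_comap, show (i.app V).hom a = 0 from ha]
    exact zero_mem _
  haveI := isSmoothAt_of_smooth Γ(S, S0) Γ(X, V) q
  haveI := isSmoothAt_of_smooth Γ(S, S0) (Γ(X, V) ⧸ J) Q
  obtain ⟨g, hg, hgen⟩ := exists_gens J hJ q
  obtain ⟨f, hfq, m, g', het, hgenf⟩ :=
    Groth.Agent.RGLib.EtaleCoord.exists_coords (A := Γ(S, S0)) J hJ q hJq Q hQ _ g hg hgen rfl
  let U := X.basicOpen f
  have hU : IsAffineOpen U := hV.basicOpen f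
  have hUV : U ≤ V := X.basicOpen_le f
  have hyU : i y ∈ U := by
    have h1 : hV.primeIdealOf ⟨i y, hyV⟩ ∈ PrimeSpectrum.basicOpen f := hfq
    rw [← hV.fromSpec_preimage_basicOpen] at h1
    rwa [Scheme.Hom.mem_preimage, hV.fromSpec_primeIdealOf] at h1
  have eU : U ≤ pX ⁻¹ᵁ S0 := hUV.trans e
  let res : Γ(X, V) ⟶ Γ(X, U) := X.presheaf.map (homOfLE hUV).op
  letI : Algebra Γ(X, V) Γ(X, U) := res.hom.toAlgebra
  haveI : IsLocalization.Away f Γ(X, U) := hV.isLocalization_basicOpen f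
  let eL : Localization.Away f ≃ₐ[Γ(X, V)] Γ(X, U) :=
    IsLocalization.algEquiv (Submonoid.powers f) _ _
  let r := Module.finrank q.ResidueField (q.ResidueField ⊗[Γ(X, V)] J)
  let σe : ULift.{u} (Fin m ⊕ Fin r) ≃ Fin r ⊕ Fin m := Equiv.ulift.trans (Equiv.sumComm _ _)
  let α : MvPolynomial (Fin r ⊕ Fin m) Γ(S, S0) →+* Localization.Away f :=
    (MvPolynomial.aeval (Sum.elim (fun k => algebraMap Γ(X, V) (Localization.Away f) (g k)) g')).toRingHom
  let ψ : MvPolynomial (ULift.{u} (Fin m ⊕ Fin r)) Γ(S, S0) →+* Γ(X, U) :=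
    eL.toRingEquiv.toRingHom.comp (α.comp (MvPolynomial.renameEquiv Γ(S, S0) σe).toRingEquiv.toRingHom)
  have hψ : ψ.Etale := RingHom.Etale.respectsIso.1 _ eL.toRingEquiv
    (RingHom.Etale.respectsIso.2 α (MvPolynomial.renameEquiv Γ(S, S0) σe).toRingEquiv het)
  have hC : ψ.comp MvPolynomial.C = (pX.appLE S0 U eU).hom := by
    ext a
    have h1 : α (MvPolynomial.C a) =
        algebraMap Γ(X, V) (Localization.Away f) ((pX.appLE S0 V e).hom a) := by
      show MvPolynomial.aeval _ (MvPolynomial.C a) = _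
      rw [MvPolynomial.aeval_C, IsScalarTower.algebraMap_apply Γ(S, S0) Γ(X, V) (Localization.Away f)]
      rfl
    show eL (α ((MvPolynomial.renameEquiv Γ(S, S0) σe) (MvPolynomial.C a))) = _
    rw [show (MvPolynomial.renameEquiv Γ(S, S0) σe) (MvPolynomial.C a) = MvPolynomial.C a from
      MvPolynomial.rename_C _ a, h1, AlgEquiv.commutes]
    exact ConcreteCategory.congr_hom (pX.appLE_map e (homOfLE hUV).op) a
  haveI hπ := etale_homOfVector pX hS0 hU eU _ ψ hψ hC
  let va : Fin m → Γ(U.toScheme, ⊤) := fun c => U.topIso.inv (eL (g' c))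
  let vb : Fin r → Γ(U.toScheme, ⊤) := fun k => U.topIso.inv (res (g k))
  have hvec : (fun j => U.topIso.inv (ψ (MvPolynomial.X j))) =
      (fun j : ULift.{u} (Fin m ⊕ Fin r) => Sum.elim va vb j.down) := by
    funext j
    have h1 : ψ (MvPolynomial.X j) =
        eL (Sum.elim (fun k => algebraMap Γ(X, V) (Localization.Away f) (g k)) g' (σe j)) := by
      show eL (α ((MvPolynomial.renameEquiv Γ(S, S0) σe) (MvPolynomial.X j))) = _
      rw [show (MvPolynomial.renameEquiv Γ(S, S0) σe) (MvPolynomial.X j) = MvPolynomial.X (σe j) from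
        MvPolynomial.rename_X _ j]
      exact congrArg eL (MvPolynomial.aeval_X _ _)
    rw [h1]
    rcases j with ⟨c | k⟩
    · rfl
    · show U.topIso.inv (eL (algebraMap Γ(X, V) (Localization.Away f) (g k))) = _
      rw [AlgEquiv.commutes]
      rfl
  rw [hvec] at hπ
  haveI : IsAffine U.toScheme := hU
  have hkerU : RingHom.ker (i.app U).hom = Ideal.span (Set.range fun k => res (g k)) := by
    have h1 := i.ker.map_ideal_basicOpen ⟨V, hV⟩ f
    rw [Scheme.Hom.ker_apply, Scheme.Hom.ker_apply] at h1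
    rw [show RingHom.ker (i.app U).hom = J.map res.hom from h1.symm]
    have h2 := congrArg (Ideal.map eL.toRingEquiv.toRingHom) hgenf
    rw [Ideal.map_map, Ideal.map_span, ← Set.range_comp] at h2
    have hcomp : eL.toRingEquiv.toRingHom.comp (algebraMap Γ(X, V) (Localization.Away f)) = res.hom :=
      RingHom.ext fun a => eL.commutes a
    rw [hcomp] at h2
    rw [h2]
    exact congrArg Ideal.span (congrArg Set.range (funext fun k => eL.commutes (g k)))
  have hker : RingHom.ker (i ∣_ U).appTop.hom = Ideal.span (Set.range vb) := by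
    have h1 : RingHom.ker (i ∣_ U).appTop.hom = (RingHom.ker (i.app U).hom).comap U.topIso.hom.hom := by
      ext z
      obtain ⟨z, rfl⟩ : ∃ z', U.topIso.inv z' = z := ⟨U.topIso.hom z, Iso.hom_inv_id_apply _ _⟩
      rw [RingHom.mem_ker, Ideal.mem_comap, RingHom.mem_ker]
      have hnat : U.topIso.inv ≫ (i ∣_ U).appTop = i.app U ≫ (i ⁻¹ᵁ U).topIso.inv := by
        rw [morphismRestrict_appTop]
        simp only [Scheme.Opens.topIso_inv, Scheme.Hom.app_eq_appLE, Scheme.Hom.map_appLE,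
          Scheme.Hom.appLE_map, Scheme.Hom.map_appLE_assoc]
        rfl
      have h2 : (i ∣_ U).appTop (U.topIso.inv z) = (i ⁻¹ᵁ U).topIso.inv (i.app U z) :=
        ConcreteCategory.congr_hom hnat z
      rw [h2, show U.topIso.hom.hom (U.topIso.inv z) = z from Iso.inv_hom_id_apply _ _]
      exact map_eq_zero_iff _ (ConcreteCategory.bijective_of_isIso (i ⁻¹ᵁ U).topIso.inv).1
    rw [h1, hkerU]
    have h3 : ∀ I : Ideal Γ(X, U), I.comap U.topIso.hom.hom = I.map U.topIso.inv.hom := fun I => by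
      refine le_antisymm (fun z hz => ?_) (Ideal.map_le_iff_le_comap.2 fun z hz => ?_)
      · have := Ideal.mem_map_of_mem U.topIso.inv.hom (Ideal.mem_comap.1 hz)
        rwa [show U.topIso.inv.hom (U.topIso.hom.hom z) = z from Iso.hom_inv_id_apply _ _] at this
      · rw [Ideal.mem_comap, Ideal.mem_comap,
          show U.topIso.hom.hom (U.topIso.inv.hom z) = z from Iso.inv_hom_id_apply _ _]
        exact hz
    rw [h3, Ideal.map_span, ← Set.range_comp]
    rfl
  exact ⟨U, m, r, _, _, hyU, hπ, AffineSpace.homOfVector_over _ _,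
    Groth.Agent.RGLib.ZeroCoords.isPullback_coordinate_subspace (i ∣_ U) (U.ι ≫ pX) m r va vb hker⟩

end Groth.Agent.RGLib.SmoothSubChart
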