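import Groth.Agent.RelSpecX.Spec
import Groth.Agent.MorLib.LimExists

/-!
# The relative spectrum of a filtered colimit of algebras
-/

set_option autoImplicit false
set_option linter.style.haveILetI false
set_option backward.isDefEq.respectTransparency false
set_option backward.isDefEq.respectTransparency.types false

set_option maxHeartbeats 1000000

universe u

open CategoryTheory CategoryTheory.Limits AlgebraicGeometry TopologicalSpace Opposite

namespace Groth.Agent.RGLib.SpecLim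

open Groth.Agent.RelSpecX RelSpec

variable {S : Scheme.{u}}

theorem specMap_id (A : QCAlg S) : QCAlg.specMap (𝟙 A) = 𝟙 A.spec :=
  spec_hom_ext fun y => by
    obtain ⟨_, ⟨U, hU, rfl⟩, hy, -⟩ := S.isBasis_affineOpens.exists_subset_of_mem_open (Set.mem_univ y) isOpen_univ
    refine ⟨U, hU, hy, ?_⟩
    rw [QCAlg.ι_specMap, Category.comp_id]
    exact (congrArg (fun q => Spec.map q ≫ A.ι U hU) (NatTrans.id_app A.presheaf (op U))).trans
      (by rw [Spec.map_id, Category.id_comp])

theorem specMap_comp {A B C : QCAlg S} (φ : A ⟶ B) (ψ : B ⟶ C) :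
    QCAlg.specMap (φ ≫ ψ) = QCAlg.specMap ψ ≫ QCAlg.specMap φ :=
  spec_hom_ext fun y => by
    obtain ⟨_, ⟨U, hU, rfl⟩, hy, -⟩ := S.isBasis_affineOpens.exists_subset_of_mem_open (Set.mem_univ y) isOpen_univ
    refine ⟨U, hU, hy, ?_⟩
    rw [QCAlg.ι_specMap, reassoc_of% (QCAlg.ι_specMap U hU ψ), QCAlg.ι_specMap, QCAlg.comp_hom,
      NatTrans.comp_app, Spec.map_comp, Category.assoc]

instance isAffineHom_specMap {A B : QCAlg S} (φ : A ⟶ B) : IsAffineHom (QCAlg.specMap φ) :=
  haveI : IsAffineHom (QCAlg.specMap φ ≫ A.π) := by rw [QCAlg.specMap_π]; infer_instance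
  IsAffineHom.of_comp (QCAlg.specMap φ) A.π

/-- The diagram of relative spectra. -/
noncomputable def specD {J : Type u} [SmallCategory J] (A : J ⥤ QCAlg S) : Jᵒᵖ ⥤ Scheme.{u} where
  obj j := (A.obj j.unop).spec
  map f := QCAlg.specMap (A.map f.unop)
  map_id j := by rw [unop_id, A.map_id, specMap_id]
  map_comp f f' := by rw [unop_comp, A.map_comp, specMap_comp]

/-- The homomorphism of algebras induced on direct images. -/
theorem algHom_specMap {A B : QCAlg S} (φ : A ⟶ B) :
    AffAlg.algHom A.π B.π (QCAlg.specMap φ) (QCAlg.specMap_π φ) ≫ B.gammaMap = A.gammaMap ≫ φ.hom := by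
  rw [← cancel_mono (inv B.gammaMap), Category.assoc, IsIso.hom_inv_id, Category.comp_id]
  refine hom_ext_affine B.π fun U hU => ?_
  haveI : IsIso (B.gammaMap.app (op U)) := by rw [B.gammaMap_app U hU]; exact isIso_gammaAff B U hU
  rw [NatTrans.comp_app, NatTrans.comp_app, NatIso.isIso_inv_app, IsIso.eq_comp_inv, A.gammaMap_app U hU]
  erw [B.gammaMap_app U hU]
  rw [algHom_app, QCAlg.gammaAff, QCAlg.gammaAff, Category.assoc,
    ← Scheme.ΓSpecIso_naturality]
  simp only [← Category.assoc]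
  congr 1
  have h2 : A.π ⁻¹ᵁ U ≤ A.π ⁻¹ᵁ U := le_rfl
  rw [Scheme.Hom.appLE_comp_appLE]
  simp only [Scheme.Hom.appTop, Scheme.Hom.appLE_comp_appLE, Scheme.Hom.app_eq_appLE]
  simp only [QCAlg.ι_specMap]
  rfl

theorem endo_fix {A B : QCAlg S} (φ : A ⟶ B) (k : B.spec ⟶ B.spec) (hk : k ≫ B.π = B.π)
    (e : k ≫ QCAlg.specMap φ = QCAlg.specMap φ) :
    φ.hom ≫ inv B.gammaMap ≫ AffAlg.algHom B.π B.π k hk ≫ B.gammaMap = φ.hom := by
  rw [← cancel_epi A.gammaMap, ← Category.assoc, ← algHom_specMap, Category.assoc, IsIso.hom_inv_id_assoc,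
    ← Category.assoc, ← algHom_comp]
  simp only [e]

variable {J : Type u} [SmallCategory J] [IsFiltered J] (A : J ⥤ QCAlg S) (c : Cocone A)

theorem existsUnique_lift (hc : IsColimit c) (T : Scheme.{u}) (v : ∀ j : J, T ⟶ (A.obj j).spec)
    (hv : ∀ (j j' : J) (φ : j ⟶ j'), v j' ≫ QCAlg.specMap (A.map φ) = v j) :
    ∃! w : T ⟶ c.pt.spec, ∀ j : J, w ≫ QCAlg.specMap (c.ι.app j) = v j := by
  classical
  haveI : ∀ {i j : Jᵒᵖ} (f : i ⟶ j), IsAffineHom ((specD A).map f) := fun f => isAffineHom_specMap _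
  haveI : HasLimit (specD A) := MorLib.LimExists.hasLimit (specD A)
  let L := limit.cone (specD A)
  haveI : ∀ i, IsAffineHom (L.π.app i) := isAffineHom_π_app _ _ (limit.isLimit (specD A))
  let j₀ : J := (IsFiltered.nonempty (C := J)).some
  let p : L.pt ⟶ S := L.π.app (op j₀) ≫ (A.obj j₀).π
  have hp : ∀ j, L.π.app (op j) ≫ (A.obj j).π = p := by
    intro j
    have key : ∀ {i k : J} (f : i ⟶ k), L.π.app (op k) ≫ (A.obj k).π = L.π.app (op i) ≫ (A.obj i).π := fun f => by
      rw [← L.w f.op, Category.assoc]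
      exact congrArg (L.π.app (op _) ≫ ·) (QCAlg.specMap_π (A.map f)).symm
    exact (key (IsFiltered.leftToMax j j₀)).symm.trans (key (IsFiltered.rightToMax j j₀))
  haveI : IsAffineHom p := inferInstanceAs (IsAffineHom (_ ≫ _))
  let B : QCAlg S := QCAlg.directImage p
  let ω : ∀ j, A.obj j ⟶ B := fun j =>
    ⟨inv (A.obj j).gammaMap ≫ AffAlg.algHom (A.obj j).π p (L.π.app (op j)) (hp j), by
      rw [← Category.assoc, show (A.obj j).str ≫ inv (A.obj j).gammaMap = (A.obj j).π.c from by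
        rw [IsIso.comp_inv_eq, QCAlg.π_c_gammaMap], AffAlg.algHom_comm]
      rfl⟩
  let cB : Cocone A :=
    { pt := B
      ι :=
        { app := ω
          naturality := fun i k f => by
            refine QCAlg.hom_ext ?_
            show (A.map f).hom ≫ inv (A.obj k).gammaMap ≫ _ = (inv (A.obj i).gammaMap ≫ _) ≫ 𝟙 B.presheaf
            have hw : L.π.app (op k) ≫ QCAlg.specMap (A.map f) = L.π.app (op i) := L.w f.op
            rw [Category.comp_id, IsIso.eq_inv_comp, ← Category.assoc, ← algHom_specMap, Category.assoc,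
              IsIso.hom_inv_id_assoc, ← algHom_comp]
            congr 1 } }
  let d : c.pt ⟶ B := hc.desc cB
  let ωd : AffAlg.algHoms c.pt.π p := ⟨c.pt.gammaMap ≫ d.hom, by
    rw [← Category.assoc, QCAlg.π_c_gammaMap]
    exact d.comm⟩
  let k : L.pt ⟶ c.pt.spec := ofAlgHom c.pt.π p ωd
  have hk : k ≫ c.pt.π = p := ofAlgHom_comp _ _ _
  have hkj : ∀ j, k ≫ QCAlg.specMap (c.ι.app j) = L.π.app (op j) := fun j => by
    have w1 : (k ≫ QCAlg.specMap (c.ι.app j)) ≫ (A.obj j).π = p := by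
      rw [Category.assoc, QCAlg.specMap_π, hk]
    refine algHom_injective (A.obj j).π p w1 (hp j) fun U => ?_
    rw [algHom_comp (A.obj j).π c.pt.π p (QCAlg.specMap (c.ι.app j)) (QCAlg.specMap_π _) k hk,
      algHom_ofAlgHom]
    have e := congrArg QCAlg.Hom.hom (hc.fac cB j)
    rw [show ωd.1 = c.pt.gammaMap ≫ d.hom from rfl, ← Category.assoc, algHom_specMap, Category.assoc]
    rw [QCAlg.comp_hom] at e
    rw [e]
    show ((A.obj j).gammaMap ≫ inv (A.obj j).gammaMap ≫ _).app _ = _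
    rw [IsIso.hom_inv_id_assoc]
  let cS : Cone (specD A) :=
    { pt := c.pt.spec
      π :=
        { app := fun i => QCAlg.specMap (c.ι.app i.unop)
          naturality := fun i l f => by
            show 𝟙 _ ≫ QCAlg.specMap (c.ι.app l.unop) = QCAlg.specMap (c.ι.app i.unop) ≫ QCAlg.specMap (A.map f.unop)
            rw [Category.id_comp, ← specMap_comp, c.w] } }
  let u : c.pt.spec ⟶ L.pt := limit.lift (specD A) cS
  have hu : ∀ j, u ≫ L.π.app (op j) = QCAlg.specMap (c.ι.app j) := fun j => limit.lift_π cS (op j)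
  have hπ : (u ≫ k) ≫ c.pt.π = c.pt.π := by
    rw [Category.assoc, hk, ← hp j₀, ← Category.assoc, hu, QCAlg.specMap_π]
    rfl
  have huk : u ≫ k = 𝟙 c.pt.spec := by
    let e : c.pt ⟶ c.pt := ⟨inv c.pt.gammaMap ≫ AffAlg.algHom c.pt.π c.pt.π (u ≫ k) hπ ≫ c.pt.gammaMap, by
      rw [← Category.assoc, show c.pt.str ≫ inv c.pt.gammaMap = c.pt.π.c from by
        rw [IsIso.comp_inv_eq, QCAlg.π_c_gammaMap], ← Category.assoc, AffAlg.algHom_comm, QCAlg.π_c_gammaMap]⟩
    have he : e = 𝟙 c.pt := by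
      refine hc.hom_ext fun j => QCAlg.hom_ext ?_
      rw [Category.comp_id]
      show (c.ι.app j).hom ≫ inv c.pt.gammaMap ≫ AffAlg.algHom c.pt.π c.pt.π (u ≫ k) hπ ≫ c.pt.gammaMap = _
      exact endo_fix (c.ι.app j) (u ≫ k) hπ (by rw [Category.assoc, hkj, hu])
    refine algHom_injective c.pt.π c.pt.π hπ (Category.id_comp _) fun U => ?_
    have e' : inv c.pt.gammaMap ≫ AffAlg.algHom c.pt.π c.pt.π (u ≫ k) hπ ≫ c.pt.gammaMap = 𝟙 _ :=
      congrArg QCAlg.Hom.hom he
    rw [IsIso.inv_comp_eq, Category.comp_id] at e'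
    rw [(cancel_mono c.pt.gammaMap).1 (e'.trans (Category.id_comp _).symm), algHom_id]
  let cT : Cone (specD A) :=
    { pt := T
      π :=
        { app := fun i => v i.unop
          naturality := fun i l f => by
            show 𝟙 _ ≫ v l.unop = v i.unop ≫ QCAlg.specMap (A.map f.unop)
            rw [Category.id_comp, hv] } }
  have hm : ∀ j, limit.lift (specD A) cT ≫ L.π.app (op j) = v j := fun j => limit.lift_π cT (op j)
  refine ⟨limit.lift (specD A) cT ≫ k, fun j => by rw [Category.assoc, hkj, hm], fun w hw => ?_⟩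
  have hwu : w ≫ u = limit.lift (specD A) cT := limit.hom_ext fun i => by
    show (w ≫ u) ≫ L.π.app i = limit.lift (specD A) cT ≫ L.π.app i
    rw [Category.assoc, hu i.unop, hm i.unop, hw]
  rw [← hwu, Category.assoc, huk, Category.comp_id]

end Groth.Agent.RGLib.SpecLim
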