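import Groth.Prelude.Def_Mor2
import Mathlib

/-!
# Finite algebras become quotients of unions of sections after a free cover
-/

set_option autoImplicit false
set_option linter.style.haveILetI false

universe u

open Polynomial TensorProduct CategoryTheory CategoryTheory.Limits AlgebraicGeometry

namespace Groth.Agent.RGLib.SplitCover

theorem splitting (n : ℕ) : ∀ (R : Type u) [CommRing R] (P : R[X]), P.Monic → P.natDegree = n →
    ∃ (R' : Type u) (_ : CommRing R') (_ : Algebra R R'), Module.Free R R' ∧ Module.Finite R R' ∧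
      Function.Injective (algebraMap R R') ∧
      ∃ s : Multiset R', P.map (algebraMap R R') = (s.map fun a => X - C a).prod := by
  induction n with
  | zero =>
    intro R _ P hP hd
    exact ⟨R, inferInstance, inferInstance, inferInstance, inferInstance, fun _ _ h => h, 0,
      by simpa using hP.natDegree_eq_zero.1 hd⟩
  | succ n ih =>
    intro R _ P hP hd
    rcases subsingleton_or_nontrivial R with hR | hR
    · exact ⟨R, inferInstance, inferInstance, inferInstance, inferInstance, fun _ _ h => h, 0,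
        Subsingleton.elim _ _⟩
    haveI := hP.free_adjoinRoot
    haveI := hP.finite_adjoinRoot
    obtain ⟨g, hg⟩ := dvd_iff_isRoot.2 (show (P.map (AdjoinRoot.of P)).IsRoot (AdjoinRoot.root P) from
      AdjoinRoot.isRoot_root P)
    have hPm : (P.map (AdjoinRoot.of P)).Monic := hP.map _
    have hgm : g.Monic := (monic_X_sub_C _).of_mul_monic_left (hg ▸ hPm)
    have hinj : Function.Injective (AdjoinRoot.of P) := (injective_iff_map_eq_zero _).2 fun r hr => by
      by_contra hr0
      exact hP.not_dvd_of_natDegree_lt (C_ne_zero.2 hr0) (by rw [natDegree_C, hd]; omega)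
        (AdjoinRoot.mk_eq_zero.1 (show AdjoinRoot.mk P (C r) = 0 from hr))
    haveI : Nontrivial (AdjoinRoot P) := hinj.nontrivial
    have hgd : g.natDegree = n := by
      have := congrArg natDegree hg
      rw [hP.natDegree_map, hd, (monic_X_sub_C _).natDegree_mul hgm, natDegree_X_sub_C] at this
      omega
    obtain ⟨R', _, _, hF, hFin, hI, s, hs⟩ := ih (AdjoinRoot P) g hgm hgd
    letI : Algebra R R' := ((algebraMap (AdjoinRoot P) R').comp (algebraMap R (AdjoinRoot P))).toAlgebra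
    haveI : IsScalarTower R (AdjoinRoot P) R' := IsScalarTower.of_algebraMap_eq' rfl
    refine ⟨R', inferInstance, inferInstance, Module.Free.trans (S := AdjoinRoot P), Module.Finite.trans (AdjoinRoot P) R',
      hI.comp hinj, algebraMap (AdjoinRoot P) R' (AdjoinRoot.root P) ::ₘ s, ?_⟩
    rw [Multiset.map_cons, Multiset.prod_cons, ← hs, IsScalarTower.algebraMap_eq R (AdjoinRoot P) R', ← Polynomial.map_map]
    show Polynomial.map _ (P.map (AdjoinRoot.of P)) = _
    rw [hg, Polynomial.map_mul, Polynomial.map_sub, map_X, map_C]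

theorem splitting_list (R : Type u) [CommRing R] (Ps : List R[X]) (hPs : ∀ P ∈ Ps, P.Monic) :
    ∃ (R' : Type u) (_ : CommRing R') (_ : Algebra R R'), Module.Free R R' ∧ Module.Finite R R' ∧
      Function.Injective (algebraMap R R') ∧
      ∀ P ∈ Ps, ∃ s : Multiset R', P.map (algebraMap R R') = (s.map fun a => X - C a).prod := by
  induction Ps with
  | nil => exact ⟨R, inferInstance, inferInstance, inferInstance, inferInstance, fun _ _ h => h, by simp⟩
  | cons P Ps ih =>
    obtain ⟨R₁, _, _, hF, hFin, hI, hs⟩ := ih fun Q hQ => hPs Q (List.mem_cons_of_mem _ hQ)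
    have hPm := (hPs P (List.mem_cons_self ..)).map (algebraMap R R₁)
    obtain ⟨R₂, _, _, hF₂, hFin₂, hI₂, s, hs₂⟩ := splitting _ R₁ _ hPm rfl
    letI : Algebra R R₂ := ((algebraMap R₁ R₂).comp (algebraMap R R₁)).toAlgebra
    haveI : IsScalarTower R R₁ R₂ := IsScalarTower.of_algebraMap_eq' rfl
    refine ⟨R₂, inferInstance, inferInstance, Module.Free.trans (S := R₁), Module.Finite.trans R₁ R₂, hI₂.comp hI,
      fun Q hQ => ?_⟩
    rcases List.mem_cons.1 hQ with rfl | hQ
    · exact ⟨s, by rw [IsScalarTower.algebraMap_eq R R₁ R₂, ← Polynomial.map_map, hs₂]⟩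
    · obtain ⟨t, ht⟩ := hs Q hQ
      refine ⟨t.map (algebraMap R₁ R₂), ?_⟩
      rw [IsScalarTower.algebraMap_eq R R₁ R₂, ← Polynomial.map_map, ht, Polynomial.map_multiset_prod, Multiset.map_map,
        Multiset.map_map]
      congr 1
      exact Multiset.map_congr rfl fun a _ => by simp

/-- A free finite algebra, union of sections, mapping onto an algebra generated by roots of split polynomials. -/
theorem exists_union_sections (R : Type u) [CommRing R] (B : Type u) [CommRing B] [Algebra R B] :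
    ∀ L : List B, (∀ b ∈ L, ∃ s : Multiset R, (aeval b) (s.map fun a => X - C a).prod = 0) →
    ∃ (A : Type u) (_ : CommRing A) (_ : Algebra R A), Module.Free R A ∧ Module.Finite R A ∧
      ∃ φ : A →ₐ[R] B, (∀ b ∈ L, b ∈ φ.range) ∧
      ∃ S : Multiset (A →ₐ[R] R), ∀ Q : Ideal A, Q.IsPrime → ∃ σ ∈ S, ∀ y, y - algebraMap R A (σ y) ∈ Q := by
  intro L
  induction L with
  | nil =>
    intro _
    exact ⟨R, inferInstance, inferInstance, inferInstance, inferInstance, Algebra.ofId R B, by simp, {AlgHom.id R R},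
      fun Q _ => ⟨AlgHom.id R R, Multiset.mem_singleton_self _, fun y => by simp⟩⟩
  | cons b L ih =>
    intro hL
    obtain ⟨A, _, _, hF, hFin, φ, hφ, S, hS⟩ := ih fun c hc => hL c (List.mem_cons_of_mem _ hc)
    obtain ⟨s, hs⟩ := hL b (List.mem_cons_self ..)
    let P : R[X] := (s.map fun a => X - C a).prod
    have hP : P.Monic := monic_multiset_prod_of_monic _ _ fun a _ => monic_X_sub_C a
    let P' : A[X] := P.map (algebraMap R A)
    have hP' : P'.Monic := hP.map _
    haveI := hP'.free_adjoinRoot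
    haveI := hP'.finite_adjoinRoot
    let ψ : AdjoinRoot P' →ₐ[R] B := AdjoinRoot.liftAlgHom P' φ b (by
      rw [eval₂_map, AlgHom.comp_algebraMap]; exact hs)
    have hlift : ∀ σ : A →ₐ[R] R, ∀ a ∈ s, P'.eval₂ (σ : A →+* R) a = 0 := fun σ a ha => by
      rw [eval₂_map, AlgHom.comp_algebraMap, Algebra.algebraMap_self, eval₂_id, eval_multiset_prod,
        Multiset.map_map]
      exact Multiset.prod_eq_zero (Multiset.mem_map.2 ⟨a, ha, by simp⟩)
    refine ⟨AdjoinRoot P', inferInstance, inferInstance, Module.Free.trans (S := A),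
      Module.Finite.trans A (AdjoinRoot P'), ψ, fun c hc => ?_,
      S.bind fun σ => s.attach.map fun a => AdjoinRoot.liftAlgHom P' σ a.1 (hlift σ a.1 a.2), fun Q hQ => ?_⟩
    · rcases List.mem_cons.1 hc with rfl | hc
      · exact ⟨AdjoinRoot.root P', AdjoinRoot.liftAlgHom_root ..⟩
      · obtain ⟨a, rfl⟩ := hφ c hc
        exact ⟨AdjoinRoot.of P' a, AdjoinRoot.liftAlgHom_of ..⟩
    obtain ⟨σ, hσ, hσQ⟩ := hS (Q.comap (algebraMap A (AdjoinRoot P'))) (hQ.comap _)
    have h0 : (s.map fun a => AdjoinRoot.root P' - algebraMap R (AdjoinRoot P') a).prod ∈ Q := by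
      have h1 : aeval (AdjoinRoot.root P') P = 0 := by
        rw [← aeval_map_algebraMap A]; exact AdjoinRoot.aeval_eq P' ▸ AdjoinRoot.mk_self
      simp only [P, map_multiset_prod, Multiset.map_map, Function.comp_def, map_sub, aeval_X, aeval_C] at h1
      rw [h1]; exact Q.zero_mem
    obtain ⟨r, hr, hrQ⟩ := (hQ.multiset_prod_mem_iff_exists_mem _).1 h0
    obtain ⟨a, ha, rfl⟩ := Multiset.mem_map.1 hr
    let τ := AdjoinRoot.liftAlgHom P' σ a (hlift σ a ha)
    refine ⟨τ, Multiset.mem_bind.2 ⟨σ, hσ, Multiset.mem_map.2 ⟨⟨a, ha⟩, Multiset.mem_attach _ _, rfl⟩⟩, fun y => ?_⟩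
    induction y using AdjoinRoot.induction_on with
    | ih f =>
      induction f using Polynomial.induction_on' with
      | add f g hf hg =>
        have := Q.add_mem hf hg
        simp only [map_add] at this ⊢
        convert this using 1
        ring
      | monomial k c =>
        have h1 : AdjoinRoot.of P' c - algebraMap R (AdjoinRoot P') (σ c) ∈ Q := by
          have := hσQ c
          rw [Ideal.mem_comap, map_sub, ← IsScalarTower.algebraMap_apply] at this
          exact this
        have h2 := Q.mul_sub_mul_mem h1 (?_ : (AdjoinRoot.root P') ^ k - algebraMap R (AdjoinRoot P') a ^ k ∈ Q)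
        · rw [← C_mul_X_pow_eq_monomial, map_mul, map_pow, AdjoinRoot.mk_C, AdjoinRoot.mk_X, map_mul, map_pow,
            show τ (AdjoinRoot.of P' c) = σ c from AdjoinRoot.liftAlgHom_of .., show τ (AdjoinRoot.root P') = a from
              AdjoinRoot.liftAlgHom_root .., map_mul, map_pow]
          exact h2
        · exact Ideal.mem_of_dvd _ (sub_dvd_pow_sub_pow _ _ k) hrQ

/-- Ring-theoretic form of the covering statement. -/
theorem exists_cover (R B : Type u) [CommRing R] [CommRing B] [Algebra R B] [Module.Finite R B] :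
    ∃ (R' : Type u) (_ : CommRing R') (_ : Algebra R R'), Module.Free R R' ∧ Module.Finite R R' ∧
      Function.Injective (algebraMap R R') ∧
      ∃ (A : Type u) (_ : CommRing A) (_ : Algebra R' A), Module.Free R' A ∧ Module.Finite R' A ∧
      ∃ φ : A →+* B ⊗[R] R', Function.Surjective φ ∧
        φ.comp (algebraMap R' A) = (Algebra.TensorProduct.includeRight (R := R) (A := B) (B := R')).toRingHom ∧
      ∃ S : List (A →+* R'), (∀ σ ∈ S, σ.comp (algebraMap R' A) = RingHom.id R') ∧
        ∀ Q : Ideal A, Q.IsPrime → ∃ σ ∈ S, RingHom.ker σ ≤ Q := by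
  classical
  obtain ⟨G, hG⟩ := Module.Finite.fg_top (R := R) (M := B)
  choose P hP hPb using fun b : B => Algebra.IsIntegral.isIntegral (R := R) b
  obtain ⟨R', _, _, hF, hFin, hI, hs⟩ := splitting_list R (G.toList.map P) (by
    intro Q hQ
    obtain ⟨b, -, rfl⟩ := List.mem_map.1 hQ
    exact hP b)
  letI : Algebra R' (B ⊗[R] R') := Algebra.TensorProduct.rightAlgebra
  obtain ⟨A, _, _, hAF, hAFin, φ, hφ, S, hS⟩ := exists_union_sections R' (B ⊗[R] R')
    (G.toList.map fun b => b ⊗ₜ[R] (1 : R')) (by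
      intro c hc
      obtain ⟨b, hb, rfl⟩ := List.mem_map.1 hc
      obtain ⟨s, hs⟩ := hs (P b) (List.mem_map.2 ⟨b, hb, rfl⟩)
      refine ⟨s, ?_⟩
      rw [← hs, aeval_map_algebraMap]
      show aeval ((Algebra.TensorProduct.includeLeft : B →ₐ[R] B ⊗[R] R') b) (P b) = 0
      rw [aeval_algHom_apply, show aeval b (P b) = 0 from hPb b, map_zero])
  refine ⟨R', inferInstance, inferInstance, hF, hFin, hI, A, inferInstance, inferInstance, hAF, hAFin, φ.toRingHom,
    fun z => ?_, RingHom.ext fun r => φ.commutes r, S.toList.map AlgHom.toRingHom, ?_, fun Q hQ => ?_⟩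
  · induction z using TensorProduct.induction_on with
    | zero => exact ⟨0, map_zero _⟩
    | add x y hx hy => obtain ⟨a, rfl⟩ := hx; obtain ⟨c, rfl⟩ := hy; exact ⟨a + c, map_add _ _ _⟩
    | tmul x r =>
      refine Submodule.span_induction (p := fun x _ => ∃ a, φ.toRingHom a = x ⊗ₜ[R] r) ?_ ?_ ?_ ?_
        (hG.ge (Submodule.mem_top (x := x)))
      · intro g hg
        obtain ⟨a, ha⟩ := hφ _ (List.mem_map.2 ⟨g, Finset.mem_toList.2 hg, rfl⟩)
        refine ⟨a * algebraMap R' A r, ?_⟩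
        have : φ (a * algebraMap R' A r) = g ⊗ₜ[R] r := by
          rw [map_mul, show φ a = _ from ha, φ.commutes]
          show (g ⊗ₜ[R] (1 : R')) * ((1 : B) ⊗ₜ[R] r) = _
          rw [Algebra.TensorProduct.tmul_mul_tmul, mul_one, one_mul]
        exact this
      · exact ⟨0, by simp⟩
      · rintro u v _ _ ⟨a, ha⟩ ⟨c, hc⟩; exact ⟨a + c, by rw [map_add, ha, hc, TensorProduct.add_tmul]⟩
      · rintro c u _ ⟨a, ha⟩
        refine ⟨algebraMap R' A (algebraMap R R' c) * a, ?_⟩
        rw [map_mul, ha]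
        show φ (algebraMap R' A _) * _ = _
        rw [φ.commutes]
        show ((1 : B) ⊗ₜ[R] algebraMap R R' c) * (u ⊗ₜ[R] r) = _
        rw [Algebra.TensorProduct.tmul_mul_tmul, one_mul, TensorProduct.smul_tmul, Algebra.smul_def]
  · intro σ hσ
    obtain ⟨τ, -, rfl⟩ := List.mem_map.1 hσ
    exact RingHom.ext fun r => τ.commutes r
  · obtain ⟨σ, hσ, hσQ⟩ := hS Q hQ
    refine ⟨σ.toRingHom, List.mem_map.2 ⟨σ, Multiset.mem_toList.2 hσ, rfl⟩, fun y hy => ?_⟩
    have := hσQ y
    rwa [show σ y = 0 from hy, map_zero, sub_zero] at this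

theorem isFinLocFree_specMap {R A : Type u} [CommRing R] [CommRing A] [Algebra R A] [Module.Free R A] [Module.Finite R A] :
    Mor2.IsFinLocFree (Spec.map (CommRingCat.ofHom (algebraMap R A))) := by
  haveI : Module.FinitePresentation R A := Module.finitePresentation_of_projective R A
  refine ⟨(IsFinite.SpecMap_iff _).2 (RingHom.finite_algebraMap.2 inferInstance),
    HasRingHomProperty.Spec_iff.2 (RingHom.flat_algebraMap_iff.2 inferInstance),
    HasRingHomProperty.Spec_iff.2 (RingHom.finitePresentation_algebraMap.2 inferInstance)⟩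

theorem isFinLocFree_comp_iso {X Y Z : Scheme.{u}} {f : X ⟶ Y} (hf : Mor2.IsFinLocFree f) (e : Y ⟶ Z) [IsIso e] :
    Mor2.IsFinLocFree (f ≫ e) := by
  obtain ⟨h1, h2, h3⟩ := hf
  exact ⟨inferInstance, inferInstance, inferInstance⟩

theorem isClosedImmersion_map_comp {W X S W' X' S' P Q : Scheme.{u}} (f₁ : W ⟶ S) (f₂ : X ⟶ S) (g₁ : W' ⟶ S')
    (g₂ : X' ⟶ S') (i₁ : W ⟶ W') (i₂ : X ⟶ X') (i₃ : S ⟶ S') (h₁ : f₁ ≫ i₃ = i₁ ≫ g₁) (h₂ : f₂ ≫ i₃ = i₂ ≫ g₂)
    [IsIso i₁] [IsIso i₂] [IsIso i₃] (k : pullback g₁ g₂ ≅ P) (l : P ⟶ Q) [IsClosedImmersion l] :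
    IsClosedImmersion (pullback.map f₁ f₂ g₁ g₂ i₁ i₂ i₃ h₁ h₂ ≫ k.hom ≫ l) := inferInstance

theorem surjective_specMap {R S : Type u} [CommRing R] [CommRing S] [Algebra R S] [Algebra.IsIntegral R S]
    (h : Function.Injective (algebraMap R S)) : Surjective (Spec.map (CommRingCat.ofHom (algebraMap R S))) :=
  ⟨fun p => by
    let P : PrimeSpectrum R := p
    obtain ⟨Q, -, hQ, hQp⟩ := Ideal.exists_ideal_over_prime_of_isIntegral (S := S) P.asIdeal ⊥
      (by rw [← RingHom.ker_eq_comap_bot, (RingHom.injective_iff_ker_eq_bot _).1 h]; exact bot_le)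
    exact ⟨⟨Q, hQ⟩, PrimeSpectrum.ext hQp⟩⟩

set_option maxHeartbeats 1000000 in
theorem exists_sections {X Y : Scheme.{u}} [IsAffine X] (f : Y ⟶ X) [IsFinite f] :
    ∃ (X' : Scheme.{u}) (b : X' ⟶ X) (Z' : Scheme.{u}) (c : Z' ⟶ X') (i : pullback f b ⟶ Z'),
      Mor2.IsFinLocFree b ∧ Surjective b ∧ Mor2.IsFinLocFree c ∧ IsClosedImmersion i ∧
      i ≫ c = pullback.snd f b ∧
      ∃ (m : ℕ) (Zj : Fin m → Scheme.{u}) (ιj : ∀ j, Zj j ⟶ Z'),
        (∀ j, IsClosedImmersion (ιj j)) ∧ (∀ j, IsIso (ιj j ≫ c)) ∧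
        (⋃ j, Set.range (ιj j).base) = Set.univ := by
  haveI : IsAffine Y := isAffine_of_isAffineHom f
  letI : Algebra Γ(X, ⊤) Γ(Y, ⊤) := f.appTop.hom.toAlgebra
  haveI : Module.Finite Γ(X, ⊤) Γ(Y, ⊤) := f.finite_app ⊤ (isAffineOpen_top X)
  obtain ⟨R', _, _, hF, hFin, hI, A, _, _, hAF, hAFin, φ, hφ, hφr, S, hS, hcov⟩ := exists_cover Γ(X, ⊤) Γ(Y, ⊤)
  let ρ := CommRingCat.ofHom (algebraMap Γ(X, ⊤) R')
  let b : Spec (CommRingCat.of R') ⟶ X := Spec.map ρ ≫ X.isoSpec.inv
  let e : pullback f b ⟶ pullback (Spec.map (CommRingCat.ofHom (algebraMap Γ(X, ⊤) Γ(Y, ⊤)))) (Spec.map ρ) :=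
    pullback.map f b _ _ Y.isoSpec.hom (𝟙 _) X.isoSpec.hom (Scheme.isoSpec_hom_naturality f).symm
      (by simp [b])
  let i : pullback f b ⟶ Spec (CommRingCat.of A) :=
    e ≫ (pullbackSpecIso Γ(X, ⊤) Γ(Y, ⊤) R').hom ≫ Spec.map (CommRingCat.ofHom φ)
  haveI : IsClosedImmersion (Spec.map (CommRingCat.ofHom φ)) := IsClosedImmersion.spec_of_surjective _ hφ
  refine ⟨_, b, _, Spec.map (CommRingCat.ofHom (algebraMap R' A)), i, isFinLocFree_comp_iso isFinLocFree_specMap _, ?_,
    isFinLocFree_specMap, ?_, ?_, S.length, fun _ => Spec (CommRingCat.of R'),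
    fun j => Spec.map (CommRingCat.ofHom (S.get j)), fun j => ?_, fun j => ?_, Set.eq_univ_of_forall fun z => ?_⟩
  · haveI : Surjective (Spec.map ρ) := surjective_specMap hI
    infer_instance
  · exact isClosedImmersion_map_comp _ _ _ _ _ _ _ _ _ _ _
  · have h : Spec.map (CommRingCat.ofHom φ) ≫ Spec.map (CommRingCat.ofHom (algebraMap R' A)) =
        Spec.map (CommRingCat.ofHom (Algebra.TensorProduct.includeRight
          (R := Γ(X, ⊤)) (A := Γ(Y, ⊤)) (B := R')).toRingHom) := by
      rw [← Spec.map_comp, ← CommRingCat.ofHom_comp, hφr]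
    simp only [i, Category.assoc, h]
    erw [← pullbackSpecIso_inv_snd Γ(X, ⊤) Γ(Y, ⊤) R', Iso.hom_inv_id_assoc]
    exact (pullback.lift_snd _ _ _).trans (Category.comp_id _)
  · exact IsClosedImmersion.spec_of_surjective _ fun r =>
      ⟨algebraMap R' A r, RingHom.congr_fun (hS _ (List.get_mem S j)) r⟩
  · rw [← Spec.map_comp, ← CommRingCat.ofHom_comp, hS _ (List.get_mem S j)]
    exact inferInstanceAs (IsIso (Spec.map (𝟙 (CommRingCat.of R'))))
  · obtain ⟨σ, hσ, hker⟩ := hcov z.asIdeal z.2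
    obtain ⟨j, rfl⟩ := List.get_of_mem hσ
    have hsurj : Function.Surjective (S.get j) := fun r => ⟨algebraMap R' A r, RingHom.congr_fun (hS _ hσ) r⟩
    refine Set.mem_iUnion.2 ⟨j, ?_⟩
    show z ∈ Set.range (PrimeSpectrum.comap (S.get j))
    rw [range_comap_of_surjective _ _ hsurj]
    exact hker

end Groth.Agent.RGLib.SplitCover
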