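import Groth.Agent.RGLib.Consequences
import Groth.Agent.AssFiber.Basic
import Groth.Agent.FlatModel.Open
import Mathlib.RingTheory.LocalProperties.FinitePresentation

/-!
# Spreading out finite presentation from a flat point

If the base ring has finitely many weakly associated primes, a finite module over a finitely presented
algebra is finitely presented and flat near every point at which it is flat.
-/

universe u

noncomputable section

open TensorProduct IsLocalRing

set_option linter.style.haveILetI false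

namespace Groth.Agent.RGLib

attribute [local instance] Algebra.TensorProduct.rightAlgebra

/-- An element of a flat module killed by a family which separates up to a submonoid acting injectively
vanishes. -/
theorem eq_zero_of_separated {A F : Type u} [CommRing A] [AddCommGroup F] [Module A F] [Module.Flat A F]
    {ι : Type u} [Fintype ι] (a : ι → A) (T : Submonoid A)
    (hsep : ∀ x : A, (∀ i, a i * x = 0) → ∃ c ∈ T, c * x = 0)
    (hT : ∀ c ∈ T, ∀ z : F, c • z = 0 → z = 0) (y : F) (hy : ∀ i, a i • y = 0) : y = 0 := by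
  classical
  let g : A →ₗ[A] (ι → A) := LinearMap.pi fun i => LinearMap.mulLeft A (a i)
  have h0 : g.lTensor F (y ⊗ₜ[A] (1 : A)) = 0 := by
    refine (TensorProduct.piScalarRight A A F ι).injective ?_
    rw [map_zero]
    funext i
    simpa [g] using hy i
  obtain ⟨z, hz⟩ := (Module.Flat.lTensor_exact F (LinearMap.exact_subtype_ker_map g) _).1 h0
  have hz' : ∃ c ∈ T, c • z = 0 := by
    clear hz
    induction z using TensorProduct.induction_on with
    | zero => exact ⟨1, one_mem _, smul_zero _⟩
    | tmul f k =>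
      obtain ⟨c, hc, hck⟩ := hsep k fun i => congr_fun k.2 i
      refine ⟨c, hc, ?_⟩
      rw [← tmul_smul, show c • k = 0 from Subtype.ext hck, tmul_zero]
    | add x z hx hz =>
      obtain ⟨c, hc, hcx⟩ := hx
      obtain ⟨d, hd, hdz⟩ := hz
      exact ⟨c * d, mul_mem hc hd, by
        rw [smul_add, mul_comm, mul_smul, hcx, smul_zero, mul_comm, mul_smul, hdz, smul_zero, zero_add]⟩
  obtain ⟨c, hc, hcz⟩ := hz'
  refine hT c hc y ((TensorProduct.rid A F).symm.injective ?_)
  rw [map_smul, map_zero]
  show c • (y ⊗ₜ[A] (1 : A)) = 0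
  rw [← hz, ← map_smul, hcz, map_zero]

/-- A ring separates along its weakly associated primes below a given prime. -/
theorem exists_mul_eq_zero_of_weakAss {A : Type u} [CommRing A] (p₀ : Ideal A) [p₀.IsPrime] (x : A)
    (h : ∀ p ∈ FlatCA.weakAss A A, p ≤ p₀ → ∃ a ∉ p, a * x = 0) : ∃ c ∈ p₀.primeCompl, c * x = 0 := by
  by_contra hne
  push Not at hne
  have hle : (Submodule.span A {x}).annihilator ≤ p₀ := fun c hc => by
    by_contra hcp
    exact hne c hcp ((Submodule.mem_annihilator_span_singleton x c).1 hc)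
  obtain ⟨p, hp, hpp⟩ := Ideal.exists_minimalPrimes_le hle
  obtain ⟨a, ha, hax⟩ := h p ⟨x, hp⟩ hpp
  exact ha (hp.1.2 ((Submodule.mem_annihilator_span_singleton x a).2 hax))

variable {A P : Type u} [CommRing A] [CommRing P] [Algebra A P]

/-- The primes of `P` over `p` associated to the fibre of a module. -/
def fibreAss (p : Ideal A) [p.IsPrime] (P : Type u) [CommRing P] [Algebra A P] (N : Type u) [AddCommGroup N]
    [Module P N] [Module A N] [IsScalarTower A P N] : Set (Ideal P) :=
  Ideal.comap (algebraMap P (p.Fiber P)) '' associatedPrimes (p.Fiber P) (FlatCA.fiberMod p P N)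

variable [Algebra.FiniteType A P] (N : Type u) [AddCommGroup N] [Module P N] [Module A N] [IsScalarTower A P N]
  [Module.Finite P N]

theorem fibreAss_finite (p : Ideal A) [p.IsPrime] : (fibreAss p P N).Finite := by
  haveI : IsNoetherianRing (p.Fiber P) := Algebra.FiniteType.isNoetherianRing p.ResidueField _
  haveI : Module.Finite (p.Fiber P) (FlatCA.fiberMod p P N) :=
    inferInstanceAs (Module.Finite (p.Fiber P) ((p.Fiber P) ⊗[P] N))
  exact (associatedPrimes.finite (p.Fiber P) (FlatCA.fiberMod p P N)).image _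

/-- An element vanishing near the associated points of the fibre vanishes at a flat point. -/
theorem exists_smul_eq_zero_of_fibreAss (Q : Ideal P) [Q.IsPrime]
    [Module.Flat A (LocalizedModule Q.primeCompl N)] (p : Ideal A) [p.IsPrime]
    (hpQ : Q.comap (algebraMap A P) = p) (x : N)
    (hx : ∀ q' ∈ fibreAss p P N, q' ≤ Q → ∃ c ∉ q', c • x = 0) :
    ∃ c ∉ Q, c • x = 0 := by
  classical
  -- an element killing `x` avoiding the relevant associated primes
  let W : Finset (Ideal P) := (fibreAss_finite N p).toFinset.filter fun q' => q' ≤ Q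
  obtain ⟨c, hcx, hcW⟩ : ∃ c, c • x = 0 ∧ ∀ q' ∈ W, c ∉ q' := by
    by_contra hne
    push Not at hne
    have hsub : ((Submodule.span P {x}).annihilator : Set P) ⊆ ⋃ q' ∈ (W : Set (Ideal P)), (q' : Set P) := fun c hc => by
      obtain ⟨q', hq', hc'⟩ := hne c ((Submodule.mem_annihilator_span_singleton x c).1 hc)
      exact Set.mem_biUnion hq' hc'
    obtain ⟨q', hq', hle⟩ := (Ideal.subset_union_prime (R := P) (s := W) (f := id) ⊤ ⊤ fun i hi _ _ => by
      obtain ⟨P', hP', rfl⟩ := (Set.Finite.mem_toFinset _).1 (Finset.mem_filter.1 hi).1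
      haveI : P'.IsPrime := IsAssociatedPrime.isPrime hP'
      exact Ideal.IsPrime.comap _).1 hsub
    obtain ⟨d, hd, hdx⟩ := hx q' ((Set.Finite.mem_toFinset _).1 (Finset.mem_filter.1 hq').1) (Finset.mem_filter.1 hq').2
    exact hd (hle ((Submodule.mem_annihilator_span_singleton x d).2 hdx))
  have hmemQ : ∀ r : A, algebraMap A P r ∈ Q ↔ r ∈ p := fun r => by
    rw [← hpQ]
    rfl
  let S := Localization.AtPrime Q
  let L := LocalizedModule Q.primeCompl N
  let Ap := Localization.AtPrime p
  letI : Algebra Ap S := (IsLocalization.lift (M := p.primeCompl) (g := algebraMap A S) fun s => by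
    rw [IsScalarTower.algebraMap_apply A P S]
    exact IsLocalization.map_units (M := Q.primeCompl) S ⟨_, fun h => s.2 ((hmemQ _).1 h)⟩).toAlgebra
  haveI : IsScalarTower A Ap S := IsScalarTower.of_algebraMap_eq fun r => (IsLocalization.lift_eq _ r).symm
  haveI : IsLocalHom (algebraMap Ap S) := by
    refine ⟨fun z hz => ?_⟩
    obtain ⟨⟨r, s⟩, rfl⟩ := IsLocalization.mk'_surjective p.primeCompl z
    rw [IsLocalization.AtPrime.isUnit_mk'_iff Ap p]
    intro hr
    have h1 := hz.mul ((IsLocalization.map_units Ap s).map (algebraMap Ap S))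
    rw [← map_mul, IsLocalization.mk'_spec, ← IsScalarTower.algebraMap_apply, IsScalarTower.algebraMap_apply A P S,
      IsLocalization.AtPrime.isUnit_to_map_iff S Q] at h1
    exact h1 ((hmemQ r).2 hr)
  haveI : Algebra.EssFiniteType Ap S := by
    haveI : Algebra.EssFiniteType P S := Algebra.EssFiniteType.of_isLocalization _ Q.primeCompl
    haveI : Algebra.EssFiniteType A S := Algebra.EssFiniteType.comp A P S
    exact Algebra.EssFiniteType.of_comp A Ap S
  letI : Module Ap L := Module.compHom L (algebraMap Ap S)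
  haveI : IsScalarTower Ap S L := IsScalarTower.of_algebraMap_smul fun _ _ => rfl
  haveI : IsScalarTower A Ap L := IsScalarTower.of_algebraMap_smul fun r z => by
    show algebraMap Ap S (algebraMap A Ap r) • z = r • z
    rw [← IsScalarTower.algebraMap_apply, IsScalarTower.algebraMap_apply A P S, algebraMap_smul, algebraMap_smul]
  haveI : Module.Flat Ap L := (Module.flat_iff_of_isLocalization (R := A) Ap p.primeCompl (M := L)).2 ‹_›
  let cS : S := algebraMap P S c
  haveI : SMulCommClass P Ap L := ⟨fun t r z => by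
    rw [← algebraMap_smul S t (r • z), ← algebraMap_smul S t z]
    show algebraMap P S t • algebraMap Ap S r • z = algebraMap Ap S r • algebraMap P S t • z
    rw [smul_comm]⟩
  -- `c` is regular on the closed fibre of `L`
  have hfib : ∀ z, (LinearMap.lsmul S L cS).restrictScalars Ap z ∈ maximalIdeal Ap • (⊤ : Submodule Ap L) →
      z ∈ maximalIdeal Ap • (⊤ : Submodule Ap L) := by
    intro z hz
    induction z using LocalizedModule.induction_on with
    | _ n s =>
    have hT : ∀ w : L, w ∈ maximalIdeal Ap • (⊤ : Submodule Ap L) →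
        ∃ t ∉ Q, ∃ n' ∈ AssFiber.pN p (S := P) N, t • w = LocalizedModule.mkLinearMap Q.primeCompl N n' := by
      intro w hw
      refine Submodule.smul_induction_on hw (fun r hr v _ => ?_) fun u v hu hv => ?_
      · induction v using LocalizedModule.induction_on with
        | _ m t =>
        obtain ⟨⟨r, s'⟩, rfl⟩ := IsLocalization.mk'_surjective p.primeCompl r
        have hr' : r ∈ p := (IsLocalization.AtPrime.mk'_mem_maximal_iff Ap p r s').1 hr
        have hs' : algebraMap A P s' ∉ Q := fun h => s'.2 ((hmemQ _).1 h)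
        refine ⟨algebraMap A P s' * t, fun h => ((‹Q.IsPrime›).mem_or_mem h).elim hs' t.2, algebraMap A P r • m,
          Submodule.smul_mem_smul (Ideal.mem_map_of_mem _ hr') trivial, ?_⟩
        rw [algebraMap_smul, mul_smul, algebraMap_smul, ← algebraMap_smul Ap (s' : A), smul_comm (t : P),
          smul_smul, mul_comm, IsLocalization.mk'_spec, algebraMap_smul, LinearMap.map_smul_of_tower]
        refine congrArg (r • ·) ?_
        rw [LocalizedModule.mkLinearMap_apply, LocalizedModule.smul'_mk]
        exact LocalizedModule.mk_cancel t m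
      · obtain ⟨t, ht, n₁, hn₁, e₁⟩ := hu
        obtain ⟨t', ht', n₂, hn₂, e₂⟩ := hv
        refine ⟨t * t', fun h => ((‹Q.IsPrime›).mem_or_mem h).elim ht ht', t' • n₁ + t • n₂,
          add_mem (Submodule.smul_mem _ _ hn₁) (Submodule.smul_mem _ _ hn₂), ?_⟩
        rw [smul_add, map_add, map_smul, map_smul, ← e₁, ← e₂, smul_smul, smul_smul, mul_comm t t']
    obtain ⟨t, ht, n', hn', hte⟩ := hT _ hz
    change t • (cS • LocalizedModule.mk n s) = _ at hte
    rw [show cS • LocalizedModule.mk n s = c • LocalizedModule.mk n s from algebraMap_smul S c _,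
      LocalizedModule.smul'_mk, LocalizedModule.smul'_mk, LocalizedModule.mkLinearMap_apply, LocalizedModule.mk_eq] at hte
    obtain ⟨v, hv⟩ := hte
    have h0 : ((v : P) * (t * c)) • FlatCA.toFiberMod p (S := P) N n = 0 := by
      rw [← map_smul]
      refine AssFiber.toFiberMod_eq_zero_of_mem p N ?_
      have : ((v : P) * (t * c)) • n = (v : P) • ((s : P) • n') := by
        simp only [Submonoid.smul_def, Submonoid.coe_one, one_smul] at hv
        rw [← hv, mul_smul, mul_smul]
      rw [this]
      exact Submodule.smul_mem _ _ (Submodule.smul_mem _ _ hn')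
    obtain ⟨d, hd, hd0⟩ : ∃ d ∉ Q, d • FlatCA.toFiberMod p (S := P) N n = 0 := by
      by_contra hne
      push Not at hne
      haveI : IsNoetherianRing (p.Fiber P) := Algebra.FiniteType.isNoetherianRing p.ResidueField _
      let w := FlatCA.toFiberMod p (S := P) N n
      let I := (⊥ : Submodule (p.Fiber P) (FlatCA.fiberMod p P N)).colon {w}
      have hI : ∀ d : P, algebraMap P (p.Fiber P) d ∈ I → d ∈ Q := fun d hd => by
        by_contra hdQ
        rw [Submodule.mem_colon_singleton, Submodule.mem_bot, AssFiber.algebraMap_smul_fiberMod] at hd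
        exact hne d hdQ hd
      have hdis : Disjoint (I : Set (p.Fiber P)) (Q.primeCompl.map (algebraMap P (p.Fiber P)) : Set (p.Fiber P)) := by
        rw [Set.disjoint_right]
        rintro _ ⟨d, hd, rfl⟩ hdI
        exact hd (hI d hdI)
      obtain ⟨P', hP', hIP', hdisP'⟩ := Ideal.exists_le_prime_disjoint I _ hdis
      obtain ⟨P'', hP'', hle⟩ := Ideal.exists_minimalPrimes_le hIP'
      have hass : P'' ∈ associatedPrimes (p.Fiber P) (FlatCA.fiberMod p P N) :=
        isAssociatedPrime_iff.2 ⟨hP''.1.1, Submodule.exists_eq_colon_of_mem_minimalPrimes (x := w) hP''⟩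
      have hq'Q : P''.comap (algebraMap P (p.Fiber P)) ≤ Q := fun d hd => by
        by_contra hdQ
        exact Set.disjoint_left.1 hdisP' (hle hd) ⟨d, hdQ, rfl⟩
      have hvtc : algebraMap P (p.Fiber P) ((v : P) * (t * c)) ∈ P'' := hP''.1.2 (by
        rw [Submodule.mem_colon_singleton, Submodule.mem_bot, AssFiber.algebraMap_smul_fiberMod]
        exact h0)
      haveI := hP''.1.1
      rcases (Ideal.IsPrime.comap (algebraMap P (p.Fiber P)) (K := P'')).mem_or_mem hvtc with h | h
      · exact v.2 (hq'Q h)
      · rcases (Ideal.IsPrime.comap (algebraMap P (p.Fiber P)) (K := P'')).mem_or_mem h with h | h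
        · exact ht (hq'Q h)
        · exact hcW _ (Finset.mem_filter.2 ⟨(Set.Finite.mem_toFinset _).2 ⟨P'', hass, rfl⟩, hq'Q⟩) h
    rw [← map_smul] at hd0
    obtain ⟨r, hr, hrn⟩ := AssFiber.exists_smul_mem_of_toFiberMod_eq_zero p (S := P) N hd0
    rw [smul_smul] at hrn
    have hrd : algebraMap A P r * d ∉ Q := fun h => ((‹Q.IsPrime›).mem_or_mem h).elim (fun h' => hr ((hmemQ r).1 h')) hd
    have hmem : ∀ m ∈ AssFiber.pN p (S := P) N, LocalizedModule.mkLinearMap Q.primeCompl N m ∈
        maximalIdeal Ap • (⊤ : Submodule Ap L) := fun m hm => by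
      have hm' := AssFiber.mem_smul_top_of_mem_pN p N hm
      refine Submodule.smul_induction_on hm' (fun r hr v _ => ?_) fun u v hu hv => by rw [map_add]; exact add_mem hu hv
      rw [LinearMap.map_smul_of_tower, ← algebraMap_smul Ap r]
      exact Submodule.smul_mem_smul ((IsLocalization.AtPrime.to_map_mem_maximal_iff Ap p r).2 hr) trivial
    have h1 := hmem _ hrn
    let u : S := IsLocalization.mk' S 1 (s * ⟨_, hrd⟩ : Q.primeCompl)
    have h2 : (LocalizedModule.mk n s : L) = u • LocalizedModule.mkLinearMap Q.primeCompl N ((algebraMap A P r * d) • n) := by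
      rw [LocalizedModule.mkLinearMap_apply]
      show _ = IsLocalization.mk' (Localization Q.primeCompl) (1 : P) (s * ⟨_, hrd⟩ : Q.primeCompl) • _
      rw [← Localization.mk_eq_mk', LocalizedModule.mk_smul_mk, LocalizedModule.mk_eq]
      exact ⟨1, by simp [Submonoid.smul_def, smul_smul, mul_comm, mul_assoc]⟩
    rw [h2]
    exact Submodule.smul_induction_on h1
      (fun r hr v _ => by rw [smul_comm]; exact Submodule.smul_mem_smul hr trivial)
      fun a b ha hb => by rw [smul_add]; exact add_mem ha hb
  have hinj := (main (A := Ap) (LinearMap.lsmul S L cS) (lTensor_residue_injective _ hfib)).1 Ap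
  have hx0 : LocalizedModule.mkLinearMap Q.primeCompl N x = 0 := by
    have h1 := hinj (a₁ := (1 : Ap) ⊗ₜ LocalizedModule.mkLinearMap Q.primeCompl N x) (a₂ := 0) (by
      rw [LinearMap.lTensor_tmul, map_zero]
      show (1 : Ap) ⊗ₜ[Ap] (cS • LocalizedModule.mkLinearMap Q.primeCompl N x) = 0
      rw [show cS • LocalizedModule.mkLinearMap Q.primeCompl N x = c • LocalizedModule.mkLinearMap Q.primeCompl N x from
        algebraMap_smul S c _, ← map_smul, hcx, map_zero, tmul_zero])
    simpa using congrArg (TensorProduct.lid Ap L) h1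
  obtain ⟨d, hd⟩ := (IsLocalizedModule.eq_zero_iff Q.primeCompl _).1 hx0
  exact ⟨d, d.2, hd⟩

/-- An element vanishing near the associated points of the fibres over the weakly associated primes
vanishes at a flat point. -/
theorem exists_smul_eq_zero_of_weakAss (hA : (FlatCA.weakAss A A).Finite) (Q : Ideal P) [Q.IsPrime]
    (hflat : ∀ (Q' : Ideal P) [Q'.IsPrime], Q' ≤ Q → Module.Flat A (LocalizedModule Q'.primeCompl N)) (x : N)
    (hx : ∀ (p : Ideal A) [p.IsPrime], p ∈ FlatCA.weakAss A A → ∀ q' ∈ fibreAss p P N, q' ≤ Q →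
      ∃ c ∉ q', c • x = 0) :
    ∃ c ∉ Q, c • x = 0 := by
  classical
  -- every weakly associated prime has a killer outside it
  have key : ∀ p ∈ FlatCA.weakAss A A, ∃ a ∉ p, ∃ t ∉ Q, (t * algebraMap A P a) • x = 0 := by
    by_contra hne
    push Not at hne
    obtain ⟨p₁, hp₁, hbad₁⟩ := hne
    let bad : Set (Ideal A) := {p | p ∈ FlatCA.weakAss A A ∧ ∀ a ∉ p, ∀ t ∉ Q, (t * algebraMap A P a) • x ≠ 0}
    obtain ⟨p, ⟨hpW, hbad⟩, hmin⟩ := Set.Finite.exists_minimal (s := bad) (hA.subset fun _ h => h.1) ⟨p₁, hp₁, hbad₁⟩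
    haveI hpp : p.IsPrime := by
      obtain ⟨m, hm⟩ := hpW
      exact hm.1.1
    let T : Submonoid P := Q.primeCompl ⊔ p.primeCompl.map (algebraMap A P)
    have hdis : Disjoint ((Submodule.span P {x}).annihilator : Set P) (T : Set P) := by
      rw [Set.disjoint_right]
      intro y hy hy0
      obtain ⟨t, ht, _, ⟨a, ha, rfl⟩, rfl⟩ := Submonoid.mem_sup.1 hy
      exact hbad a ha t ht ((Submodule.mem_annihilator_span_singleton x _).1 hy0)
    obtain ⟨Q', hQ', hannQ', hdisQ'⟩ := Ideal.exists_le_prime_disjoint _ T hdis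
    haveI := hQ'
    have hQQ : Q' ≤ Q := fun y hy => by
      by_contra hyQ
      exact Set.disjoint_left.1 hdisQ' hy (Submonoid.mem_sup_left hyQ)
    have hQp : Q'.comap (algebraMap A P) ≤ p := fun r hr => by
      by_contra hrp
      exact Set.disjoint_left.1 hdisQ' hr (Submonoid.mem_sup_right ⟨r, hrp, rfl⟩)
    haveI := hflat Q' hQQ
    suffices h : ∃ c ∉ Q', c • x = 0 by
      obtain ⟨c, hc, hcx⟩ := h
      exact hc (hannQ' ((Submodule.mem_annihilator_span_singleton x c).2 hcx))
    rcases eq_or_lt_of_le hQp with heq | hlt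
    · exact exists_smul_eq_zero_of_fibreAss (A := A) N Q' p heq x fun q' hq' hle => hx p hpW q' hq' (hle.trans hQQ)
    · haveI : (Q'.comap (algebraMap A P)).IsPrime := Ideal.IsPrime.comap _
      let p₀ := Q'.comap (algebraMap A P)
      have hgood : ∀ i : {i // i ∈ FlatCA.weakAss A A ∧ i ≤ p₀}, ∃ a ∉ i.1, ∃ t ∉ Q, (t * algebraMap A P a) • x = 0 := by
        intro i
        by_contra hne
        push Not at hne
        exact lt_irrefl _ ((hmin ⟨i.2.1, hne⟩ (i.2.2.trans hlt.le)).trans i.2.2 |>.trans_lt hlt)
      choose a ha t ht hat using hgood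
      haveI : Fintype {i // i ∈ FlatCA.weakAss A A ∧ i ≤ p₀} := (hA.subset fun _ h => h.1).fintype
      have h0 : LocalizedModule.mkLinearMap Q'.primeCompl N x = 0 := by
        refine eq_zero_of_separated (A := A) a p₀.primeCompl
          (fun y hy => exists_mul_eq_zero_of_weakAss p₀ y fun i hi hle => ⟨_, ha ⟨i, hi, hle⟩, hy _⟩) ?_ _ fun i => ?_
        · intro r hr z hz
          rw [← algebraMap_smul P r, ← algebraMap_smul (Localization.AtPrime Q') (algebraMap A P r)] at hz
          exact (IsLocalization.map_units (M := Q'.primeCompl) (Localization.AtPrime Q') ⟨_, hr⟩).smul_eq_zero.1 hz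
        · have hu := IsLocalization.map_units (M := Q'.primeCompl) (Localization.AtPrime Q') ⟨t i, fun h => ht i (hQQ h)⟩
          refine hu.smul_eq_zero.1 ?_
          rw [algebraMap_smul, ← algebraMap_smul P (a i), smul_smul, ← map_smul, hat, map_zero]
      obtain ⟨d, hd⟩ := (IsLocalizedModule.eq_zero_iff Q'.primeCompl _).1 h0
      exact ⟨d, d.2, hd⟩
  choose a ha t ht hat using fun i : {i // i ∈ FlatCA.weakAss A A} => key i i.2
  haveI : Fintype {i // i ∈ FlatCA.weakAss A A} := hA.fintype
  haveI := hflat Q le_rfl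
  have h0 : LocalizedModule.mkLinearMap Q.primeCompl N x = 0 := by
    refine eq_zero_of_separated (A := A) a (IsUnit.submonoid A) (fun y hy => ⟨1, one_mem _, ?_⟩)
      (fun c hc z hz => (hc : IsUnit c).smul_eq_zero.1 hz) _ fun i => ?_
    · rw [one_mul]
      by_contra hy0
      have hne : (Submodule.span A {y}).annihilator ≠ ⊤ := fun h => hy0 (by
        simpa using (Submodule.mem_annihilator_span_singleton y (1 : A)).1 (by rw [h]; trivial))
      obtain ⟨p, hp⟩ := Ideal.nonempty_minimalPrimes hne
      exact ha ⟨p, y, hp⟩ (hp.1.2 ((Submodule.mem_annihilator_span_singleton y _).2 (hy ⟨p, y, hp⟩)))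
    · have hu := IsLocalization.map_units (M := Q.primeCompl) (Localization.AtPrime Q) ⟨t i, ht i⟩
      refine hu.smul_eq_zero.1 ?_
      rw [algebraMap_smul, ← algebraMap_smul P (a i), smul_smul, ← map_smul, hat, map_zero]
  obtain ⟨d, hd⟩ := (IsLocalizedModule.eq_zero_iff Q.primeCompl _).1 h0
  exact ⟨d, d.2, hd⟩

end Groth.Agent.RGLib

end
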