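import Mathlib.AlgebraicGeometry.ValuativeCriterion
import Mathlib.AlgebraicGeometry.SpreadingOut
import Mathlib.AlgebraicGeometry.FunctionField
import Mathlib.AlgebraicGeometry.Morphisms.Proper

/-!
# Extending morphisms to proper schemes over points with valuation local rings
-/

set_option autoImplicit false

universe u

open CategoryTheory CategoryTheory.Limits AlgebraicGeometry TopologicalSpace

namespace Groth.Agent.RGLib.ValExt

set_option backward.isDefEq.respectTransparency false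
set_option backward.isDefEq.respectTransparency.types false

variable {X : Scheme.{u}}

theorem exists_integral_nhd_of_isNoetherian [IsLocallyNoetherian X] (x : X)
    [IsDomain (X.presheaf.stalk x)] : ∃ W : X.Opens, x ∈ W ∧ IsIntegral W.toScheme := by
  obtain ⟨V, hxV, hV, hinj⟩ := X.exists_germ_injective x
  haveI : IsDomain Γ(X, V) := hinj.isDomain
  haveI : Nonempty V.toScheme := ⟨⟨x, hxV⟩⟩
  exact ⟨V, hxV, isIntegral_of_isOpenImmersion hV.isoSpec.hom⟩

theorem exists_integral_nhd_of_isReduced [IsReduced X] (hfin : (irreducibleComponents ↥X).Finite)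
    (x : X) [IsDomain (X.presheaf.stalk x)] : ∃ W : X.Opens, x ∈ W ∧ IsIntegral W.toScheme := by
  classical
  let ξ : X := X.fromSpecStalk x (⊥ : PrimeSpectrum (X.presheaf.stalk x))
  have hξ : ∀ Z ∈ irreducibleComponents ↥X, x ∈ Z → Z = closure {ξ} := by
    intro Z hZ hx
    obtain ⟨η, hη⟩ := QuasiSober.sober hZ.1 (isClosed_of_mem_irreducibleComponents Z hZ)
    have hηx : η ⤳ x := hη.specializes hx
    have hmem : η ∈ Set.range (X.fromSpecStalk x) := by
      rw [Scheme.range_fromSpecStalk]; exact hηx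
    obtain ⟨p, rfl⟩ := hmem
    have hs : ξ ⤳ X.fromSpecStalk x p := by
      refine Specializes.map ?_ (X.fromSpecStalk x).continuous
      exact (PrimeSpectrum.le_iff_specializes _ p).mp bot_le
    have hsub : Z ⊆ closure {ξ} := by
      rw [← hη.def]
      exact closure_minimal (Set.singleton_subset_iff.mpr hs.mem_closure) isClosed_closure
    exact Set.Subset.antisymm hsub (hZ.2 isIrreducible_singleton.closure hsub)
  let C : Set (Set X) := {Z ∈ irreducibleComponents ↥X | x ∉ Z}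
  have hC : IsClosed (⋃₀ C) := by
    rw [Set.sUnion_eq_biUnion]
    exact (hfin.subset fun Z hZ => hZ.1).isClosed_biUnion
      fun Z hZ => isClosed_of_mem_irreducibleComponents Z hZ.1
  let W : X.Opens := ⟨(⋃₀ C)ᶜ, hC.isOpen_compl⟩
  have hxW : x ∈ W := by
    rintro ⟨Z, hZ, hx⟩
    exact hZ.2 hx
  have hW : (W : Set X) ⊆ closure {ξ} := by
    intro w hw
    have h1 := irreducibleComponent_mem_irreducibleComponents w
    by_cases hx : x ∈ irreducibleComponent w
    · rw [← hξ _ h1 hx]; exact mem_irreducibleComponent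
    · exact absurd ⟨_, ⟨h1, hx⟩, mem_irreducibleComponent⟩ hw
  haveI : IrreducibleSpace W.toScheme := by
    have hirr : IsPreirreducible (closure {ξ} : Set X) := isIrreducible_singleton.closure.2
    have hW' : IsIrreducible (W : Set X) := ⟨⟨x, hxW⟩, hirr.open_subset W.isOpen hW⟩
    exact Subtype.irreducibleSpace hW'
  exact ⟨W, hxW, isIntegral_of_irreducibleSpace_of_isReduced _⟩

/-- On an integral scheme a morphism to a proper scheme, defined on a nonempty open, extends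
near any point whose local ring is a valuation ring. -/
theorem exists_extension_of_isIntegral {W Y S : Scheme.{u}} [IsIntegral W] (p : W ⟶ S) (q : Y ⟶ S)
    [IsProper q] (x : W) (hdom : IsDomain (W.presheaf.stalk x))
    (hval : @ValuationRing (W.presheaf.stalk x) _ hdom) (U : W.Opens) [Nonempty U.toScheme]
    (f : U.toScheme ⟶ Y) (hf : f ≫ q = U.ι ≫ p) :
    ∃ (V : W.Opens) (g : V.toScheme ⟶ Y), x ∈ V ∧ g ≫ q = V.ι ≫ p ∧
      W.homOfLE (inf_le_left : U ⊓ V ≤ U) ≫ f = W.homOfLE (inf_le_right : U ⊓ V ≤ V) ≫ g := by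
  have hη : genericPoint W ∈ U :=
    ((genericPoint_spec W).mem_open_set_iff U.isOpen).mpr
      (by simpa using (show (U : Set W).Nonempty from let ⟨a⟩ := ‹Nonempty U.toScheme›; ⟨a.1, a.2⟩))
  let sp : W.presheaf.stalk x ⟶ W.functionField :=
    W.presheaf.stalkSpecializes ((genericPoint_spec W).specializes trivial)
  have hsp : sp = CommRingCat.ofHom (algebraMap (W.presheaf.stalk x) W.functionField) := rfl
  let S₀ : ValuativeCommSq q :=
    { R := W.presheaf.stalk x
      K := W.functionField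
      i₁ := U.fromSpecStalkOfMem (genericPoint W) hη ≫ f
      i₂ := W.fromSpecStalk x ≫ p
      commSq := ⟨by
        rw [← hsp, Category.assoc, hf, ← Category.assoc, Scheme.Opens.fromSpecStalkOfMem_ι,
          ← Category.assoc, Scheme.SpecMap_stalkSpecializes_fromSpecStalk]⟩ }
  obtain ⟨⟨⟨l, hl₁, hl₂⟩⟩⟩ := (IsProper.eq_valuativeCriterion ▸ (inferInstance : IsProper q) :
    _).1.1.1.existence S₀
  obtain ⟨V, hxV, g, hg, hgq⟩ := spread_out_of_isGermInjective' p q l hl₂
  refine ⟨V, g, hxV, hgq, ?_⟩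
  have hηV : genericPoint W ∈ V :=
    ((genericPoint_spec W).mem_open_set_iff V.isOpen).mpr (by simpa using ⟨x, hxV⟩)
  haveI : IsDominant ((U ⊓ V).fromSpecStalkOfMem (genericPoint W) ⟨hη, hηV⟩) := by
    refine ⟨?_⟩
    rw [denseRange_iff_closure_range, Set.eq_univ_iff_forall]
    intro z
    refine mem_closure_iff.mpr fun O hO hz => ?_
    have hz' : ∃ a : ↥(U ⊓ V : W.Opens), a ∈ O := ⟨z, hz⟩
    refine ⟨⟨genericPoint W, hη, hηV⟩, ?_, IsLocalRing.closedPoint _, ?_⟩
    · have := ((genericPoint_spec W).mem_open_set_iff ((U ⊓ V).isOpen.isOpenMap_subtype_val O hO)).mpr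
        (by obtain ⟨a, ha⟩ := hz'; exact ⟨a.1, trivial, a, ha, rfl⟩)
      obtain ⟨a, ha, hae⟩ := this
      rwa [show (⟨genericPoint W, hη, hηV⟩ : (U ⊓ V : W.Opens)) = a from Subtype.ext hae.symm]
    · apply (U ⊓ V).ι.isOpenEmbedding.injective
      rw [← Scheme.Hom.comp_apply, Scheme.Opens.fromSpecStalkOfMem_ι, Scheme.fromSpecStalk_closedPoint]
      rfl
  refine ext_of_isDominant_of_isSeparated q ?_ ((U ⊓ V).fromSpecStalkOfMem (genericPoint W) ⟨hη, hηV⟩) ?_
  · simp [hf, hgq]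
  · have e₁ : (U ⊓ V).fromSpecStalkOfMem (genericPoint W) ⟨hη, hηV⟩ ≫ W.homOfLE inf_le_left =
        U.fromSpecStalkOfMem (genericPoint W) hη := by
      rw [← cancel_mono U.ι]; simp
    have e₂ : (U ⊓ V).fromSpecStalkOfMem (genericPoint W) ⟨hη, hηV⟩ ≫ W.homOfLE inf_le_right =
        Spec.map sp ≫ V.fromSpecStalkOfMem x hxV := by
      rw [← cancel_mono V.ι]
      simp [sp, Scheme.SpecMap_stalkSpecializes_fromSpecStalk]
    rw [reassoc_of% e₁, reassoc_of% e₂, ← hg, hsp]
    exact hl₁.symm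

theorem exists_extension {Y S : Scheme.{u}} (p : X ⟶ S) (q : Y ⟶ S)
    [IsProper q] (x : X) (U : X.Opens) (f : U.toScheme ⟶ Y) (hf : f ≫ q = U.ι ≫ p)
    (hx : x ∈ closure (U : Set X))
    (hX : (IsReduced X ∧ (irreducibleComponents ↥X).Finite) ∨ IsNoetherian X)
    (hdom : IsDomain (X.presheaf.stalk x)) (hval : @ValuationRing (X.presheaf.stalk x) _ hdom) :
    ∃ (U' : X.Opens) (hUU' : U ≤ U'), x ∈ U' ∧
      ∃ f' : U'.toScheme ⟶ Y, f' ≫ q = U'.ι ≫ p ∧ X.homOfLE hUU' ≫ f' = f := by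
  obtain ⟨W, hxW, hWi⟩ : ∃ W : X.Opens, x ∈ W ∧ IsIntegral W.toScheme := by
    rcases hX with ⟨h1, h2⟩ | h
    · exact exists_integral_nhd_of_isReduced h2 x
    · exact exists_integral_nhd_of_isNoetherian x
  let e : (W.toScheme).presheaf.stalk ⟨x, hxW⟩ ≅ X.presheaf.stalk x := W.stalkIso ⟨x, hxW⟩
  haveI hd : IsDomain ((W.toScheme).presheaf.stalk ⟨x, hxW⟩) :=
    e.commRingCatIsoToRingEquiv.isDomain_iff.mpr hdom
  have hv : ValuationRing ((W.toScheme).presheaf.stalk ⟨x, hxW⟩) := by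
    haveI := hdom
    haveI := hval
    exact Function.Surjective.valuationRing e.inv.hom e.commRingCatIsoToRingEquiv.symm.surjective
  haveI : Nonempty (W.ι ⁻¹ᵁ U).toScheme := by
    obtain ⟨a, haW, haU⟩ := mem_closure_iff.mp hx W W.isOpen hxW
    exact ⟨⟨⟨a, haW⟩, haU⟩⟩
  obtain ⟨V, g, hxV, hgq, hcomp⟩ := exists_extension_of_isIntegral (W.ι ≫ p) q ⟨x, hxW⟩ hd hv
    (W.ι ⁻¹ᵁ U) ((W.ι ∣_ U) ≫ f) (by simp [hf])
  obtain ⟨O, hO₁, hO₂⟩ : ∃ O : Bool → X.Opens, O true = U ∧ O false = W.ι ''ᵁ V :=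
    ⟨fun b => bif b then U else W.ι ''ᵁ V, rfl, rfl⟩
  subst hO₁
  let iso : V.toScheme ≅ (O false).toScheme := W.ι.isoImage V ≪≫ X.isoOfEq hO₂.symm
  have hiso : iso.inv ≫ V.ι ≫ W.ι = (O false).ι := by simp [iso]
  let F : ∀ b, (O b).toScheme ⟶ Y := fun b => match b with
    | true => f
    | false => iso.inv ≫ g
  have key : ∀ {P : Scheme.{u}} (l : P ⟶ (O true).toScheme) (r : P ⟶ (O false).toScheme),
      l ≫ (O true).ι = r ≫ (O false).ι → l ≫ f = r ≫ iso.inv ≫ g := by
    intro P l r h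
    have hr : (r ≫ iso.inv ≫ V.ι) ≫ W.ι = l ≫ (O true).ι := by
      simp only [Category.assoc, hiso, h]
    have hsub : Set.range (r ≫ iso.inv ≫ V.ι) ⊆ Set.range ((W.ι ⁻¹ᵁ O true) ⊓ V).ι := by
      rintro _ ⟨a, rfl⟩
      rw [Scheme.Opens.range_ι]
      refine ⟨?_, ?_⟩
      · show W.ι ((r ≫ iso.inv ≫ V.ι) a) ∈ O true
        rw [← Scheme.Hom.comp_apply, hr, Scheme.Hom.comp_apply]
        exact (l a).2
      · simp only [Scheme.Hom.comp_apply]
        exact ((iso.inv) (r a)).2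
    let m := IsOpenImmersion.lift ((W.ι ⁻¹ᵁ O true) ⊓ V).ι (r ≫ iso.inv ≫ V.ι) hsub
    have hm : m ≫ ((W.ι ⁻¹ᵁ O true) ⊓ V).ι = r ≫ iso.inv ≫ V.ι := IsOpenImmersion.lift_fac _ _ _
    have e₁ : m ≫ W.toScheme.homOfLE inf_le_left ≫ (W.ι ∣_ O true) = l := by
      rw [← cancel_mono (O true).ι]
      simp only [Category.assoc, morphismRestrict_ι, Scheme.homOfLE_ι_assoc]
      rw [reassoc_of% hm, ← hr]
      simp only [Category.assoc]
    have e₂ : m ≫ W.toScheme.homOfLE inf_le_right = r ≫ iso.inv := by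
      rw [← cancel_mono V.ι]
      simp only [Category.assoc, Scheme.homOfLE_ι]
      exact hm
    rw [← e₁, ← reassoc_of% e₂, Category.assoc, Category.assoc, hcomp]
  let 𝒰 := Scheme.Opens.iSupOpenCover O
  have hF : ∀ a b, pullback.fst (𝒰.f a) (𝒰.f b) ≫ F a = pullback.snd _ _ ≫ F b := by
    intro a b
    have h : pullback.fst (𝒰.f a) (𝒰.f b) ≫ (O a).ι = pullback.snd _ _ ≫ (O b).ι := by
      have h := pullback.condition (f := 𝒰.f a) (g := 𝒰.f b) =≫ (⨆ i, O i).ι
      simpa [𝒰, Scheme.Opens.iSupOpenCover] using h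
    rcases a with _ | _ <;> rcases b with _ | _
    · rw [(cancel_mono _).mp h]
    · exact (key _ _ h.symm).symm
    · exact key _ _ h
    · rw [(cancel_mono _).mp h]
  refine ⟨⨆ i, O i, le_iSup O true, ?_, 𝒰.glueMorphisms F hF, ?_, ?_⟩
  · refine le_iSup O false ?_
    rw [hO₂]
    exact ⟨⟨x, hxW⟩, hxV, rfl⟩
  · refine 𝒰.hom_ext _ _ fun b => ?_
    rw [Scheme.Cover.ι_glueMorphisms_assoc]
    rcases b with _ | _
    · simp [F, 𝒰, Scheme.Opens.iSupOpenCover, hgq, ← reassoc_of% hiso]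
    · simp [F, 𝒰, Scheme.Opens.iSupOpenCover, hf]
  · exact 𝒰.ι_glueMorphisms F hF true

end Groth.Agent.RGLib.ValExt
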