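import Groth.Agent.RGLib.Covering

/-!
# Weakly associated primes of a tensor product with a flat module
-/

universe u

noncomputable section

open TensorProduct IsLocalRing

set_option linter.style.haveILetI false

namespace Groth.Agent.RGLib

attribute [local instance] Algebra.TensorProduct.rightAlgebra

/-- Weakly associated primes, elementwise. -/
theorem mem_weakAss_iff_killers {R M : Type u} [CommRing R] [AddCommGroup M] [Module R M] (p : Ideal R) [p.IsPrime] :
    p ∈ FlatCA.weakAss R M ↔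
      ∃ m : M, (∀ s ∉ p, s • m ≠ 0) ∧ ∀ a ∈ p, ∃ s ∉ p, ∃ k : ℕ, (s * a ^ k) • m = 0 := by
  constructor
  · rintro ⟨m, hm⟩
    refine ⟨m, fun s hs => WeakAss.smul_ne_zero_of_notMem hm.1.2 hs, fun a ha => ?_⟩
    obtain ⟨s, hs, k, hk⟩ := WeakAss.exists_mul_pow_mem hm ha
    exact ⟨s, hs, k, WeakAss.mem_annEl.1 hk⟩
  · rintro ⟨m, h1, h2⟩
    refine ⟨m, ⟨‹p.IsPrime›, fun c hc => ?_⟩, fun Q hQ hQp a ha => ?_⟩
    · by_contra hcp
      exact h1 c hcp ((Submodule.mem_annihilator_span_singleton m c).1 hc)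
    · obtain ⟨s, hs, k, hk⟩ := h2 a ha
      have hmem : s * a ^ k ∈ Q := hQ.2 ((Submodule.mem_annihilator_span_singleton m _).2 hk)
      exact hQ.1.mem_of_pow_mem k ((hQ.1.mem_or_mem hmem).resolve_left fun h => hs (hQp h))

/-- An element killed by powers outside can be moved to one killed by a finitely generated ideal. -/
theorem exists_killed_by_fg {R M : Type u} [CommRing R] [AddCommGroup M] [Module R M] (p : Ideal R) [p.IsPrime]
    (J : Ideal R) (hJ : J.FG) (hJp : J ≤ p) (m : M) (h1 : ∀ s ∉ p, s • m ≠ 0)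
    (h2 : ∀ a ∈ p, ∃ s ∉ p, ∃ k : ℕ, (s * a ^ k) • m = 0) :
    ∃ c : R, (∀ s ∉ p, s • (c • m) ≠ 0) ∧ ∀ a ∈ J, a • (c • m) = 0 := by
  classical
  obtain ⟨T, rfl⟩ := hJ
  induction T using Finset.induction with
  | empty => exact ⟨1, by simpa using h1, fun a ha => by simp [show a = 0 by simpa using ha]⟩
  | insert b T _ ih =>
    obtain ⟨c, hc1, hc2⟩ := ih ((Submodule.span_mono (by simp)).trans hJp)
    have hb : b ∈ p := hJp (Submodule.subset_span (Finset.mem_insert_self _ _))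
    obtain ⟨s₀, hs₀, k₀, hk₀⟩ := h2 b hb
    have hex : ∃ k : ℕ, ∃ s ∉ p, (s * b ^ k) • (c • m) = 0 :=
      ⟨k₀, s₀, hs₀, by rw [smul_comm, hk₀, smul_zero]⟩
    obtain ⟨s, hs, hk⟩ := Nat.find_spec hex
    obtain ⟨j, hj⟩ : ∃ j, Nat.find hex = j + 1 := Nat.exists_eq_succ_of_ne_zero fun h0 => by
      rw [h0, pow_zero, mul_one] at hk
      exact hc1 s hs hk
    rw [hj] at hk
    refine ⟨s * b ^ j * c, fun t ht h0 => ?_, fun a ha => ?_⟩
    · refine Nat.find_min hex (m := j) (by omega) ⟨t * s, fun h => (‹p.IsPrime›.mem_or_mem h).elim ht hs, ?_⟩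
      rw [← h0, smul_smul, smul_smul]
      ring_nf
    · rw [Finset.coe_insert, Submodule.mem_span_insert] at ha
      obtain ⟨r, a', ha', rfl⟩ := ha
      rw [add_smul, mul_smul (s * b ^ j) c, smul_comm a' (s * b ^ j), hc2 a' ha', smul_zero, add_zero, smul_eq_mul,
        smul_smul, show r * b * (s * b ^ j) = r * (s * b ^ (j + 1)) by ring, mul_smul, hk, smul_zero]

variable {R S : Type u} [CommRing R] [CommRing S] [Algebra R S] (p : Ideal R) [p.IsPrime]

/-- A member of an extended ideal of the fibre ring is, up to an element outside `p`, in the ideal plus `pS`. -/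
theorem exists_mul_mem_sup_of_mem_fiberIdeal (J : Ideal S) {s : S}
    (hs : algebraMap S (p.Fiber S) s ∈ FlatCA.fiberIdeal p J) :
    ∃ r ∉ p, algebraMap R S r * s ∈ J ⊔ p.map (algebraMap R S) := by
  have hinc : ∀ a b : S, (1 : p.ResidueField) ⊗ₜ[R] (a * b) = (1 : p.ResidueField) ⊗ₜ[R] a * (1 : p.ResidueField) ⊗ₜ[R] b :=
    fun a b => by rw [Algebra.TensorProduct.tmul_mul_tmul, one_mul]
  have key : ∀ b ∈ FlatCA.fiberIdeal p J, ∃ r ∉ p, ∃ j ∈ J,
      (1 : p.ResidueField) ⊗ₜ[R] algebraMap R S r * b = (1 : p.ResidueField) ⊗ₜ[R] j := by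
    intro b hb
    induction hb using Submodule.span_induction with
    | mem b hb =>
      obtain ⟨j, hj, rfl⟩ := hb
      refine ⟨1, fun h => ‹p.IsPrime›.ne_top ((Ideal.eq_top_iff_one _).2 h), j, hj, ?_⟩
      rw [map_one]
      exact (hinc 1 j).symm.trans (by rw [one_mul])
    | zero => exact ⟨1, fun h => ‹p.IsPrime›.ne_top ((Ideal.eq_top_iff_one _).2 h), 0, zero_mem _, by simp⟩
    | add a b _ _ ha hb =>
      obtain ⟨r, hr, i, hi, ei⟩ := ha
      obtain ⟨r', hr', j, hj, ej⟩ := hb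
      refine ⟨r * r', fun h => (‹p.IsPrime›.mem_or_mem h).elim hr hr', algebraMap R S r' * i + algebraMap R S r * j,
        add_mem (J.mul_mem_left _ hi) (J.mul_mem_left _ hj), ?_⟩
      rw [map_mul, hinc, tmul_add, hinc, hinc, ← ei, ← ej]
      ring
    | smul c b _ hb =>
      obtain ⟨r, hr, j, hj, ej⟩ := hb
      obtain ⟨r', hr', s', hs'⟩ := AssFiber.exists_smul_eq_includeRight p c
      refine ⟨r' * r, fun h => (‹p.IsPrime›.mem_or_mem h).elim hr' hr, s' * j, J.mul_mem_left _ hj, ?_⟩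
      rw [map_mul, hinc, hinc, ← hs', ← ej, smul_eq_mul]
      ring
  obtain ⟨r, hr, j, hj, e⟩ := key _ hs
  have h0 : FlatCA.toFiberMod p (S := S) S (algebraMap R S r * s - j) = 0 := by
    show (1 : p.Fiber S) ⊗ₜ[S] (algebraMap R S r * s - j) = 0
    rw [show algebraMap R S r * s - j = (algebraMap R S r * s - j) • (1 : S) by rw [smul_eq_mul, mul_one],
      tmul_smul, smul_tmul', Algebra.smul_def, mul_one,
      show algebraMap S (p.Fiber S) (algebraMap R S r * s - j) = 0 from ?_, zero_tmul]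
    show (1 : p.ResidueField) ⊗ₜ[R] (algebraMap R S r * s - j) = 0
    rw [tmul_sub, hinc, ← e]
    exact sub_self _
  obtain ⟨r', hr', hmem⟩ := AssFiber.exists_smul_mem_of_toFiberMod_eq_zero p (S := S) S h0
  rw [AssFiber.pN, Ideal.smul_eq_mul, Ideal.mul_top, smul_eq_mul] at hmem
  refine ⟨r' * r, fun h => (‹p.IsPrime›.mem_or_mem h).elim hr' hr, Submodule.mem_sup.2
    ⟨algebraMap R S r' * j, J.mul_mem_left _ hj, _, hmem, ?_⟩⟩
  rw [map_mul]
  ring

variable [Algebra.FiniteType R S] {N : Type u} [AddCommGroup N] [Module S N] [Module R N] [IsScalarTower R S N]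

/-- An element of the fibre killed by an element avoiding the relevant associated primes vanishes at `q`. -/
theorem exists_smul_fibre_eq_zero (q : Ideal S) [q.IsPrime] (w : FlatCA.fiberMod p S N) (t : S) (htw : t • w = 0)
    (ht : ∀ P ∈ associatedPrimes (p.Fiber S) (FlatCA.fiberMod p S N), P.comap (algebraMap S (p.Fiber S)) ≤ q →
      t ∉ P.comap (algebraMap S (p.Fiber S))) : ∃ d ∉ q, d • w = 0 := by
  by_contra hne
  push Not at hne
  haveI : IsNoetherianRing (p.Fiber S) := isNoetherianRing_fiber p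
  let I := (⊥ : Submodule (p.Fiber S) (FlatCA.fiberMod p S N)).colon {w}
  have hdis : Disjoint (I : Set (p.Fiber S)) (q.primeCompl.map (algebraMap S (p.Fiber S)) : Set (p.Fiber S)) := by
    rw [Set.disjoint_right]
    rintro _ ⟨d, hd, rfl⟩ hdI
    rw [SetLike.mem_coe, Submodule.mem_colon_singleton, Submodule.mem_bot, AssFiber.algebraMap_smul_fiberMod] at hdI
    exact hne d hd hdI
  obtain ⟨P', hP', hIP', hdisP'⟩ := Ideal.exists_le_prime_disjoint I _ hdis
  obtain ⟨P, hP, hle⟩ := Ideal.exists_minimalPrimes_le hIP'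
  have hass : P ∈ associatedPrimes (p.Fiber S) (FlatCA.fiberMod p S N) :=
    isAssociatedPrime_iff.2 ⟨hP.1.1, Submodule.exists_eq_colon_of_mem_minimalPrimes (x := w) hP⟩
  refine ht P hass (fun d hd => by_contra fun hdQ => Set.disjoint_left.1 hdisP' (hle hd) ⟨d, hdQ, rfl⟩) (hP.1.2 ?_)
  rw [Submodule.mem_colon_singleton, Submodule.mem_bot, AssFiber.algebraMap_smul_fiberMod]
  exact htw

omit [Algebra.FiniteType R S] in
/-- An element of `p N` lies in `J N` for a finitely generated `J ≤ p`. -/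
theorem exists_fg_mem_smul_top {n : N} (hn : n ∈ p • (⊤ : Submodule R N)) :
    ∃ J : Ideal R, J.FG ∧ J ≤ p ∧ n ∈ J • (⊤ : Submodule R N) := by
  induction hn using Submodule.smul_induction_on' with
  | smul r hr m _ =>
    exact ⟨Ideal.span {r}, Submodule.fg_span_singleton r, (Ideal.span_singleton_le_iff_mem _).2 hr,
      Submodule.smul_mem_smul (Ideal.mem_span_singleton_self r) trivial⟩
  | add a _ b _ ha hb =>
    obtain ⟨J, hJ, hJp, haJ⟩ := ha
    obtain ⟨J', hJ', hJp', hbJ⟩ := hb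
    exact ⟨J ⊔ J', Submodule.FG.sup hJ hJ', sup_le hJp hJp',
      add_mem (Submodule.smul_mono_left le_sup_left haJ) (Submodule.smul_mono_left le_sup_right hbJ)⟩

variable [Module.Finite S N] {M : Type u} [AddCommGroup M] [Module R M]

omit [Algebra.FiniteType R S] [Module.Finite S N] in
theorem tmul_eq_zero_of_mem_smul_top {J : Ideal R} {n : N} (hn : n ∈ J • (⊤ : Submodule R N)) {m : M}
    (hm : ∀ a ∈ J, a • m = 0) : n ⊗ₜ[R] m = 0 := by
  refine Submodule.smul_induction_on hn (fun r hr v _ => ?_) fun x y hx hy => by rw [add_tmul, hx, hy, add_zero]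
  rw [smul_tmul, hm r hr, tmul_zero]

/-- Weakly associated primes of `N ⊗ M` from the base and the fibre. -/
theorem mem_weakAss_tensor_of (q : Ideal S) [q.IsPrime] (hpq : ∀ r, r ∈ p ↔ algebraMap R S r ∈ q)
    [Module.Flat R (LocalizedModule q.primeCompl N)] (hp : p ∈ FlatCA.weakAss R M)
    (hass : FlatCA.fiberIdeal p q ∈ associatedPrimes (p.Fiber S) (FlatCA.fiberMod p S N)) :
    q ∈ FlatCA.weakAss S (N ⊗[R] M) := by
  classical
  haveI : IsNoetherianRing (p.Fiber S) := isNoetherianRing_fiber p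
  obtain ⟨J₀, hJ₀, hJ₀q, hmapJ⟩ : ∃ J : Ideal S, J.FG ∧ J ≤ q ∧ FlatCA.fiberIdeal p J = FlatCA.fiberIdeal p q := by
    let φ : S →+* p.Fiber S := (Algebra.TensorProduct.includeRight (R := R) (A := p.ResidueField) (B := S)).toRingHom
    have hne : {K : Ideal (p.Fiber S) | ∃ J : Ideal S, J.FG ∧ J ≤ q ∧ J.map φ = K}.Nonempty :=
      ⟨_, ⊥, Submodule.fg_bot, bot_le, rfl⟩
    obtain ⟨K, ⟨J, hJfg, hJ, rfl⟩, hmax⟩ := set_has_maximal_iff_noetherian.mpr inferInstance _ hne
    refine ⟨J, hJfg, hJ, le_antisymm (Ideal.map_mono hJ) (Ideal.map_le_iff_le_comap.2 fun b hb => ?_)⟩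
    by_contra hnb
    refine hmax _ ⟨J ⊔ Ideal.span {b}, Submodule.FG.sup hJfg (Submodule.fg_span_singleton b),
      sup_le hJ ((Ideal.span_singleton_le_iff_mem _).mpr hb), rfl⟩ ?_
    refine lt_of_le_of_ne (Ideal.map_mono le_sup_left) fun e => hnb ?_
    show φ b ∈ J.map φ
    rw [e]
    exact Ideal.mem_map_of_mem _ (Ideal.mem_sup_right (Ideal.mem_span_singleton_self b))
  -- a witness in the fibre coming from `N`
  obtain ⟨hPp, w₀, hw₀⟩ := isAssociatedPrime_iff.1 hass
  haveI := AssFiber.isLocalizedModule_quotToFiber p (S := S) N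
  obtain ⟨⟨n', σ⟩, hσ⟩ := IsLocalizedModule.surj (Algebra.algebraMapSubmonoid S p.primeCompl)
    (AssFiber.quotToFiber p (S := S) N) w₀
  obtain ⟨n, rfl⟩ := Submodule.Quotient.mk_surjective _ n'
  change (σ : S) • w₀ = FlatCA.toFiberMod p (S := S) N n at hσ
  have hσq : (σ : S) ∉ q := by
    obtain ⟨r, hr, hrσ⟩ := σ.2
    rw [← hrσ]
    exact fun h => hr ((hpq r).2 h)
  have hann : ∀ c : S, c • FlatCA.toFiberMod p (S := S) N n = 0 ↔ c ∈ q := by
    have h0 : ∀ c : S, c • w₀ = 0 ↔ algebraMap S (p.Fiber S) c ∈ FlatCA.fiberIdeal p q := fun c => by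
      rw [hw₀, Submodule.mem_colon_singleton, Submodule.mem_bot, AssFiber.algebraMap_smul_fiberMod]
    intro c
    rw [← hσ, smul_smul, h0]
    constructor
    · intro h
      obtain ⟨r, hr, hmem⟩ := exists_mul_mem_sup_of_mem_fiberIdeal p q h
      rw [sup_eq_left.2 (Ideal.map_le_iff_le_comap.2 fun a ha => (hpq a).1 ha)] at hmem
      rcases ‹q.IsPrime›.mem_or_mem hmem with h' | h'
      · exact absurd ((hpq r).2 h') hr
      · exact (‹q.IsPrime›.mem_or_mem h').resolve_right hσq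
    · exact fun h => Ideal.mem_map_of_mem _ (Ideal.mul_mem_right _ _ h)
  obtain ⟨G, hG⟩ := hJ₀
  have hGn : ∀ x : G, ∃ r ∉ p, ∃ J : Ideal R, J.FG ∧ J ≤ p ∧ algebraMap R S r • ((x : S) • n) ∈ J • (⊤ : Submodule R N) := by
    intro x
    have h0 : FlatCA.toFiberMod p (S := S) N ((x : S) • n) = 0 := by
      rw [map_smul, hann]
      exact hJ₀q (hG ▸ Submodule.subset_span x.2)
    obtain ⟨r, hr, hmem⟩ := AssFiber.exists_smul_mem_of_toFiberMod_eq_zero p (S := S) N h0
    obtain ⟨J, hJ, hJp, hJmem⟩ := exists_fg_mem_smul_top p (AssFiber.mem_smul_top_of_mem_pN p N hmem)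
    exact ⟨r, hr, J, hJ, hJp, hJmem⟩
  choose r hr J hJ hJp hJmem using hGn
  obtain ⟨m₀, hm1, hm2⟩ := (mem_weakAss_iff_killers p).1 hp
  obtain ⟨c, hc1, hc2⟩ := exists_killed_by_fg p (⨆ x, J x) (Submodule.fg_iSup _ hJ) (iSup_le hJp) m₀ hm1 hm2
  let m := c • m₀
  let y : N ⊗[R] M := n ⊗ₜ m
  -- `y` is nonzero at `q`
  have hy : ∀ t ∉ q, t • y ≠ 0 := by
    intro t ht hty
    let I := LinearMap.ker (LinearMap.toSpanSingleton R M m)
    let f : (R ⧸ I) →ₗ[R] M := I.liftQ (LinearMap.toSpanSingleton R M m) le_rfl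
    have hf : Function.Injective f := by
      rw [← LinearMap.ker_eq_bot]
      exact Submodule.ker_liftQ_eq_bot _ _ _ le_rfl
    let lN := LocalizedModule.mkLinearMap q.primeCompl N
    have h0 : lN n ⊗ₜ[R] m = 0 := by
      have h := (IsLocalizedModule.eq_zero_iff q.primeCompl
        (TensorProduct.AlgebraTensorModule.rTensor R M lN) (m := y)).2 ⟨⟨t, ht⟩, hty⟩
      exact h
    have h1 : lN n ⊗ₜ[R] (Ideal.Quotient.mk I 1) = 0 := by
      refine Module.Flat.lTensor_preserves_injective_linearMap (M := LocalizedModule q.primeCompl N) f hf ?_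
      rw [map_zero, LinearMap.lTensor_tmul]
      show lN n ⊗ₜ[R] ((1 : R) • m) = 0
      rwa [one_smul]
    obtain ⟨⟨t', ht'⟩, h2⟩ := (IsLocalizedModule.eq_zero_iff q.primeCompl
      (TensorProduct.AlgebraTensorModule.rTensor R (R ⧸ I) lN) (m := n ⊗ₜ[R] Ideal.Quotient.mk I 1)).1 h1
    have h3 : (Ideal.Quotient.mk I 1) ⊗ₜ[R] (t' • n) = 0 := by
      have := congrArg (TensorProduct.comm R N (R ⧸ I)) h2
      rwa [map_zero] at this
    have h4 := congrArg (TensorProduct.quotTensorEquivQuotSMul N I) h3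
    rw [map_zero, TensorProduct.quotTensorEquivQuotSMul_mk_tmul, one_smul, Submodule.Quotient.mk_eq_zero] at h4
    have hIp : I ≤ p := fun a ha => by_contra fun hap => hc1 a hap ha
    have h5 := AssFiber.toFiberMod_eq_zero_of_mem p N (AssFiber.smul_mem_pN p (S := S) N (Submodule.smul_mono_left hIp h4))
    rw [map_smul, hann] at h5
    exact ht' h5
  -- every element of `q` kills `y` up to powers and units at `q`
  let A₀ : Ideal S :=
    { carrier := {x | ∃ t ∉ q, (t * x) • y = 0}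
      zero_mem' := ⟨1, fun h => ‹q.IsPrime›.ne_top ((Ideal.eq_top_iff_one _).2 h), by rw [mul_zero, zero_smul]⟩
      add_mem' := by
        rintro a b ⟨t, ht, hta⟩ ⟨t', ht', htb⟩
        refine ⟨t * t', fun h => (‹q.IsPrime›.mem_or_mem h).elim ht ht', ?_⟩
        rw [show t * t' * (a + b) = t' * (t * a) + t * (t' * b) by ring, add_smul, mul_smul t', hta, smul_zero,
          mul_smul t, htb, smul_zero, add_zero]
      smul_mem' := by
        rintro a b ⟨t, ht, htb⟩
        exact ⟨t, ht, by rw [smul_eq_mul, show t * (a * b) = a * (t * b) by ring, mul_smul, htb, smul_zero]⟩ }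
  have hG₀ : J₀ ≤ A₀ := by
    rw [← hG, Submodule.span_le]
    intro x hx
    refine ⟨algebraMap R S (r ⟨x, hx⟩), fun h => hr _ ((hpq _).2 h), ?_⟩
    show ((algebraMap R S (r ⟨x, hx⟩) * x) • n) ⊗ₜ[R] m = 0
    rw [mul_smul]
    exact tmul_eq_zero_of_mem_smul_top (hJmem ⟨x, hx⟩) fun a ha => hc2 a (le_iSup J ⟨x, hx⟩ ha)
  have hpA : p.map (algebraMap R S) ≤ A₀.radical := by
    rw [Ideal.map_le_iff_le_comap]
    intro a ha
    obtain ⟨s, hs, k, hk⟩ := hm2 a ha
    refine ⟨k, algebraMap R S s, fun h => hs ((hpq s).2 h), ?_⟩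
    show ((algebraMap R S s * algebraMap R S a ^ k) • n) ⊗ₜ[R] m = 0
    rw [← map_pow, ← map_mul, algebraMap_smul, smul_tmul, smul_comm, hk, smul_zero, tmul_zero]
  have hq : q ≤ A₀.radical := by
    intro x hx
    obtain ⟨r', hr', hmem⟩ := exists_mul_mem_sup_of_mem_fiberIdeal p J₀ (s := x) (by
      rw [hmapJ]; exact Ideal.mem_map_of_mem _ hx)
    obtain ⟨k, t, ht, hk⟩ := (sup_le (hG₀.trans Ideal.le_radical) hpA) hmem
    refine ⟨k, t * algebraMap R S r' ^ k, fun h => (‹q.IsPrime›.mem_or_mem h).elim ht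
      fun h' => hr' ((hpq r').2 (‹q.IsPrime›.mem_of_pow_mem k h')), ?_⟩
    rw [mul_assoc, ← mul_pow]
    exact hk
  refine ⟨y, ⟨‹q.IsPrime›, fun c hc => ?_⟩, fun Q hQ hQq x hx => ?_⟩
  · by_contra hcq
    exact hy c hcq ((Submodule.mem_annihilator_span_singleton y c).1 hc)
  · obtain ⟨k, t, ht, hk⟩ := hq hx
    have hmem : t * x ^ k ∈ Q := hQ.2 ((Submodule.mem_annihilator_span_singleton y _).2 hk)
    exact hQ.1.mem_of_pow_mem k ((hQ.1.mem_or_mem hmem).resolve_left fun h => ht (hQq h))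

/-- A weakly associated prime of `N ⊗ M` is associated to the fibre. -/
theorem fiberIdeal_mem_associatedPrimes (q : Ideal S) [q.IsPrime] (hpq : ∀ r, r ∈ p ↔ algebraMap R S r ∈ q)
    [Module.Flat R (LocalizedModule q.primeCompl N)] (hq : q ∈ FlatCA.weakAss S (N ⊗[R] M)) :
    FlatCA.fiberIdeal p q ∈ associatedPrimes (p.Fiber S) (FlatCA.fiberMod p S N) := by
  classical
  haveI : IsNoetherianRing (p.Fiber S) := isNoetherianRing_fiber p
  haveI : Module.Finite (p.Fiber S) (FlatCA.fiberMod p S N) :=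
    inferInstanceAs (Module.Finite (p.Fiber S) ((p.Fiber S) ⊗[S] N))
  by_contra hna
  let W : Finset (Ideal S) := ((fibreAss_finite N p).toFinset).filter fun q' => q' ≤ q
  obtain ⟨c, hcq, hcW⟩ : ∃ c ∈ q, ∀ q' ∈ W, c ∉ q' := by
    by_contra hne
    push Not at hne
    obtain ⟨q', hq', hle⟩ := (Ideal.subset_union_prime (R := S) (s := W) (f := id) ⊤ ⊤ fun i hi _ _ => by
      obtain ⟨P', hP', rfl⟩ := (Set.Finite.mem_toFinset _).1 (Finset.mem_filter.1 hi).1
      haveI : P'.IsPrime := IsAssociatedPrime.isPrime hP'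
      exact Ideal.IsPrime.comap _).1 (fun c hc => by
        obtain ⟨q', hq', hc'⟩ := hne c hc
        exact Set.mem_biUnion hq' hc')
    obtain ⟨hq'W, hq'q⟩ := Finset.mem_filter.1 hq'
    obtain ⟨P, hP, rfl⟩ := (Set.Finite.mem_toFinset _).1 hq'W
    refine hna ?_
    rw [le_antisymm hle hq'q]
    show FlatCA.fiberIdeal p (P.comap (algebraMap S (p.Fiber S))) ∈ _
    rw [fiberIdeal_comap p P]
    exact hP
  let lN := LocalizedModule.mkLinearMap q.primeCompl N
  let u : N →ₗ[S] LocalizedModule q.primeCompl N := lN.comp (LinearMap.lsmul S N c)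
  have hu : ∀ n, u n ∈ AssFiber.pN p (S := S) (LocalizedModule q.primeCompl N) →
      ∃ d ∉ q, d • n ∈ AssFiber.pN p (S := S) N := by
    intro n hn
    have hT : ∀ x, x ∈ p • (⊤ : Submodule R (LocalizedModule q.primeCompl N)) →
        ∃ t ∉ q, ∃ m' ∈ AssFiber.pN p (S := S) N, t • x = lN m' := by
      intro x hx
      refine Submodule.smul_induction_on hx (fun r hr v _ => ?_) fun a b ha hb => ?_
      · induction v using LocalizedModule.induction_on with
        | _ m s =>
        refine ⟨s, s.2, algebraMap R S r • m, Submodule.smul_mem_smul (Ideal.mem_map_of_mem _ hr) trivial, ?_⟩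
        rw [algebraMap_smul, LinearMap.map_smul_of_tower, smul_comm]
        refine congrArg (r • ·) ?_
        show (s : S) • LocalizedModule.mk m s = LocalizedModule.mk m 1
        rw [LocalizedModule.smul'_mk]
        exact LocalizedModule.mk_cancel s m
      · obtain ⟨t, ht, n₁, hn₁, e₁⟩ := ha
        obtain ⟨t', ht', n₂, hn₂, e₂⟩ := hb
        refine ⟨t * t', fun h => (‹q.IsPrime›.mem_or_mem h).elim ht ht', t' • n₁ + t • n₂,
          add_mem (Submodule.smul_mem _ _ hn₁) (Submodule.smul_mem _ _ hn₂), ?_⟩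
        rw [smul_add, map_add, map_smul, map_smul, ← e₁, ← e₂, smul_smul, smul_smul, mul_comm t t']
    obtain ⟨t, ht, m', hm', hte⟩ := hT _ (AssFiber.mem_smul_top_of_mem_pN p _ hn)
    have hte' : lN (t • (c • n)) = lN m' := by rw [map_smul]; exact hte
    obtain ⟨⟨v, hv⟩, hve⟩ := IsLocalizedModule.exists_of_eq (S := q.primeCompl) hte'
    change v • (t • (c • n)) = v • m' at hve
    have h0 : (v * t * c) • FlatCA.toFiberMod p (S := S) N n = 0 := by
      rw [← map_smul, mul_smul, mul_smul, hve]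
      exact AssFiber.toFiberMod_eq_zero_of_mem p N (Submodule.smul_mem _ _ hm')
    obtain ⟨d, hd, hd0⟩ := exists_smul_fibre_eq_zero p q _ _ h0 fun P hP hPq h => by
      haveI : P.IsPrime := IsAssociatedPrime.isPrime hP
      rcases (Ideal.IsPrime.comap (algebraMap S (p.Fiber S)) (K := P)).mem_or_mem h with h | h
      · rcases (Ideal.IsPrime.comap (algebraMap S (p.Fiber S)) (K := P)).mem_or_mem h with h | h
        · exact hv (hPq h)
        · exact ht (hPq h)
      · exact hcW _ (Finset.mem_filter.2 ⟨(Set.Finite.mem_toFinset _).2 ⟨P, hP, rfl⟩, hPq⟩) h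
    rw [← map_smul] at hd0
    obtain ⟨r, hr, hrn⟩ := AssFiber.exists_smul_mem_of_toFiberMod_eq_zero p (S := S) N hd0
    rw [smul_smul] at hrn
    exact ⟨_, fun h => (‹q.IsPrime›.mem_or_mem h).elim (fun h' => hr ((hpq r).2 h')) hd, hrn⟩
  -- `c` acts injectively near `q`, contradicting weak association
  have hkill : ∀ z : N ⊗[R] M, (∃ t ∉ q, t • (c • z) = 0) → ∃ d ∉ q, d • z = 0 := by
    intro z ⟨t, ht, htz⟩
    refine exists_killer_of_fibre_reflects u q p hpq hu M z ?_
    have h1 : TensorProduct.AlgebraTensorModule.rTensor R M lN (c • z) = 0 :=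
      (IsLocalizedModule.eq_zero_iff q.primeCompl (TensorProduct.AlgebraTensorModule.rTensor R M lN) (m := c • z)).2
        ⟨⟨t, ht⟩, htz⟩
    rw [← h1]
    clear h1 htz
    induction z using TensorProduct.induction_on with
    | zero => simp only [smul_zero, map_zero]
    | add a b ha hb => simp only [smul_add, map_add, ha, hb]
    | tmul a b => rfl
  obtain ⟨y, hy⟩ := hq
  have hy1 : ∀ t ∉ q, t • y ≠ 0 := fun t ht => WeakAss.smul_ne_zero_of_notMem hy.1.2 ht
  obtain ⟨s, hs, k, hk⟩ := WeakAss.exists_mul_pow_mem hy hcq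
  rw [WeakAss.mem_annEl] at hk
  have hdesc : ∀ k, (∃ t ∉ q, (t * c ^ k) • y = 0) → False := by
    intro k
    induction k with
    | zero => rintro ⟨t, ht, h⟩; rw [pow_zero, mul_one] at h; exact hy1 t ht h
    | succ k ih =>
      rintro ⟨t, ht, h⟩
      obtain ⟨d, hd, hd0⟩ := hkill (c ^ k • y) ⟨t, ht, by
        rw [smul_smul, smul_smul, show t * c * c ^ k = t * c ^ (k + 1) by ring]; exact h⟩
      exact ih ⟨d, hd, by rw [mul_smul]; exact hd0⟩
  exact hdesc k ⟨s, hs, hk⟩

end Groth.Agent.RGLib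

end
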